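import Mathlib

set_option autoImplicit false

namespace Cfsg.Agent.Lib.Helper49

open Polynomial

section charpolyDvd

variable {F : Type*} [Field F]

/-- in a (possibly noncommutative) algebra, `a - b` left-divides `s(a) - s(b)` if `a`, `b` commute -/
theorem sub_dvd_aeval_sub_aeval {A : Type*} [Ring A] [Algebra F A] (a b : A) (hab : Commute a b)
    (s : F[X]) : ∃ q : A, aeval a s - aeval b s = (a - b) * q := by
  induction s using Polynomial.induction_on' with
  | add p q hp hq =>
    obtain ⟨u, hu⟩ := hp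
    obtain ⟨v, hv⟩ := hq
    refine ⟨u + v, ?_⟩
    rw [map_add, map_add, mul_add, ← hu, ← hv]; abel
  | monomial k c =>
    refine ⟨algebraMap F A c * ∑ i ∈ Finset.range k, a ^ i * b ^ (k - 1 - i), ?_⟩
    rw [aeval_monomial, aeval_monomial, ← mul_sub, ← hab.mul_geom_sum₂ k]
    rw [← mul_assoc, ← mul_assoc, Algebra.commutes c (a - b)]

theorem charpoly_dvd_pow_of_aeval_eq_zero {n : Type*} [Fintype n] [DecidableEq n]
    (A : Matrix n n F) (s : F[X]) (h : aeval A s = 0) : A.charpoly ∣ s ^ Fintype.card n := by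
  set a : Matrix n n F[X] := Matrix.scalar n (X : F[X]) with ha
  set b : Matrix n n F[X] := (C : F →+* F[X]).mapMatrix A with hb
  have hab : Commute a b := Matrix.scalar_commute _ (fun r => Commute.all _ _) _
  obtain ⟨q, hq⟩ := sub_dvd_aeval_sub_aeval (F := F) a b hab s
  have h1 : aeval b s = 0 := by
    have : b = (Algebra.ofId F F[X]).mapMatrix A := rfl
    rw [this, aeval_algHom_apply, h, map_zero]
  have h2 : aeval a s = Matrix.scalar n s := by
    have : a = (IsScalarTower.toAlgHom F F[X] (Matrix n n F[X])) X := rfl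
    rw [this, aeval_algHom_apply, aeval_X_left]
    rfl
  rw [h1, h2, sub_zero] at hq
  have h3 := congrArg Matrix.det hq
  rw [Matrix.det_mul, Matrix.scalar_apply, Matrix.det_diagonal, Finset.prod_const,
    Finset.card_univ] at h3
  exact ⟨q.det, h3⟩

end charpolyDvd


section linmap

variable {F : Type*} [Field F] {V : Type*} [AddCommGroup V] [Module F V]
variable {W : Type*} [AddCommGroup W] [Module F W]

theorem aeval_intertwine (φ : V →ₗ[F] V) (ψ : W →ₗ[F] W) (g : V →ₗ[F] W)
    (h : ∀ v, g (φ v) = ψ (g v)) (s : F[X]) (v : V) : g (aeval φ s v) = aeval ψ s (g v) := by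
  have hk : ∀ (k : ℕ) (v : V), g ((φ ^ k) v) = (ψ ^ k) (g v) := by
    intro k
    induction k with
    | zero => intro v; simp
    | succ k ih =>
      intro v
      rw [pow_succ, pow_succ, Module.End.mul_apply, Module.End.mul_apply, ih, h]
  induction s using Polynomial.induction_on' with
  | add p q hp hq => rw [map_add, map_add, LinearMap.add_apply, LinearMap.add_apply, map_add, hp, hq]
  | monomial k c =>
    rw [aeval_monomial, aeval_monomial, Module.End.mul_apply, Module.End.mul_apply,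
      Module.algebraMap_end_apply, Module.algebraMap_end_apply, map_smul, hk]

theorem charpoly_dvd_pow_finrank [FiniteDimensional F V] (φ : V →ₗ[F] V) (s : F[X])
    (h : aeval φ s = 0) : φ.charpoly ∣ s ^ Module.finrank F V := by
  classical
  let b := Module.finBasis F V
  rw [← LinearMap.charpoly_toMatrix φ b]
  have h1 : aeval (LinearMap.toMatrix b b φ) s = 0 := by
    have : LinearMap.toMatrix b b φ = LinearMap.toMatrixAlgEquiv b φ := rfl
    rw [this, aeval_algHom_apply, h, map_zero]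
  have := charpoly_dvd_pow_of_aeval_eq_zero (LinearMap.toMatrix b b φ) s h1
  rwa [Fintype.card_fin] at this

/-- kernel of a polynomial in `φ` is `φ`-invariant -/
theorem ker_aeval_invariant (φ : V →ₗ[F] V) (x : F[X]) :
    ∀ v ∈ LinearMap.ker (aeval φ x), φ v ∈ LinearMap.ker (aeval φ x) := by
  intro v hv
  rw [LinearMap.mem_ker] at hv ⊢
  have := aeval_intertwine φ φ φ (fun _ => rfl) x v
  rw [← this, hv, map_zero]

theorem aeval_restrict_apply (φ : V →ₗ[F] V) (p : Submodule F V) (hp : ∀ v ∈ p, φ v ∈ p)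
    (s : F[X]) (v : p) : ((aeval (φ.restrict hp) s v : p) : V) = aeval φ s (v : V) :=
  aeval_intertwine (φ.restrict hp) φ p.subtype (fun _ => rfl) s v

theorem aeval_restrict_ker (φ : V →ₗ[F] V) (x : F[X]) :
    aeval (φ.restrict (ker_aeval_invariant φ x)) x = 0 := by
  apply LinearMap.ext
  intro v
  apply Subtype.ext
  rw [aeval_restrict_apply]
  exact v.2

theorem charpoly_eq_mul_of_isCoprime [FiniteDimensional F V] (φ : V →ₗ[F] V) (x y : F[X])
    (hxy : IsCoprime x y) (h : aeval φ (x * y) = 0) :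
    φ.charpoly = (φ.restrict (ker_aeval_invariant φ x)).charpoly *
      (φ.restrict (ker_aeval_invariant φ y)).charpoly := by
  have hc : IsCompl (LinearMap.ker (aeval φ x)) (LinearMap.ker (aeval φ y)) := by
    refine ⟨disjoint_ker_aeval_of_isCoprime φ hxy, ?_⟩
    rw [codisjoint_iff, sup_ker_aeval_eq_ker_aeval_mul_of_coprime φ hxy, h, LinearMap.ker_zero]
  let e := Submodule.prodEquivOfIsCompl _ _ hc
  rw [← LinearMap.charpoly_prodMap, ← LinearEquiv.charpoly_conj e]
  congr 1
  apply LinearMap.ext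
  intro v
  obtain ⟨w, rfl⟩ := e.surjective v
  rw [LinearEquiv.conj_apply_apply, LinearEquiv.symm_apply_apply]
  simp only [e, Submodule.coe_prodEquivOfIsCompl', LinearMap.prodMap_apply, map_add,
    LinearMap.restrict_coe_apply]


theorem exists_equiv_of_irreducible [Finite F] [FiniteDimensional F V] [FiniteDimensional F W]
    (φ : V →ₗ[F] V) (ψ : W →ₗ[F] W) (p : F[X]) (hp : Irreducible p)
    (hφ : aeval φ p = 0) (hψ : aeval ψ p = 0) (hdim : Module.finrank F V = Module.finrank F W) :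
    ∃ e : V ≃ₗ[F] W, ∀ v, e (φ v) = ψ (e v) := by
  classical
  haveI : Fact (Irreducible p) := ⟨hp⟩
  haveI hmax : (Ideal.span {p} : Ideal F[X]).IsMaximal :=
    PrincipalIdealRing.isMaximal_of_irreducible hp
  letI : Field (F[X] ⧸ (Ideal.span {p} : Ideal F[X])) := Ideal.Quotient.field _
  have hM₁ : Module.IsTorsionBySet F[X] (Module.AEval' φ) (Ideal.span {p} : Ideal F[X]) := by
    rw [Module.isTorsionBySet_span_singleton_iff]
    intro m
    obtain ⟨v, rfl⟩ := (Module.AEval'.of φ).surjective m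
    rw [← Module.AEval.of_aeval_smul, hφ, zero_smul, map_zero]
  have hM₂ : Module.IsTorsionBySet F[X] (Module.AEval' ψ) (Ideal.span {p} : Ideal F[X]) := by
    rw [Module.isTorsionBySet_span_singleton_iff]
    intro m
    obtain ⟨v, rfl⟩ := (Module.AEval'.of ψ).surjective m
    rw [← Module.AEval.of_aeval_smul, hψ, zero_smul, map_zero]
  letI : Module (F[X] ⧸ (Ideal.span {p} : Ideal F[X])) (Module.AEval' φ) := hM₁.module
  letI : Module (F[X] ⧸ (Ideal.span {p} : Ideal F[X])) (Module.AEval' ψ) := hM₂.module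
  haveI : Finite V := Module.finite_of_finite F
  haveI : Finite W := Module.finite_of_finite F
  haveI : Finite (Module.AEval' φ) := Finite.of_equiv V (Module.AEval'.of φ).toEquiv
  haveI : Finite (Module.AEval' ψ) := Finite.of_equiv W (Module.AEval'.of ψ).toEquiv
  haveI : Module.Finite F (AdjoinRoot p) := (AdjoinRoot.powerBasis hp.ne_zero).finite
  haveI hKfin : Finite (F[X] ⧸ (Ideal.span {p} : Ideal F[X])) :=
    (Module.finite_of_finite F : Finite (AdjoinRoot p))
  have hcard : Nat.card (Module.AEval' φ) = Nat.card (Module.AEval' ψ) := by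
    rw [Nat.card_congr (Module.AEval'.of φ).toEquiv.symm, Nat.card_congr (Module.AEval'.of ψ).toEquiv.symm,
      Module.natCard_eq_pow_finrank (K := F) (V := V), Module.natCard_eq_pow_finrank (K := F) (V := W), hdim]
  have hfin : Module.finrank (F[X] ⧸ (Ideal.span {p} : Ideal F[X])) (Module.AEval' φ) =
      Module.finrank (F[X] ⧸ (Ideal.span {p} : Ideal F[X])) (Module.AEval' ψ) := by
    have h1 := Module.natCard_eq_pow_finrank (K := F[X] ⧸ (Ideal.span {p} : Ideal F[X])) (V := Module.AEval' φ)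
    have h2 := Module.natCard_eq_pow_finrank (K := F[X] ⧸ (Ideal.span {p} : Ideal F[X])) (V := Module.AEval' ψ)
    rw [hcard, h2] at h1
    have hK2 : 2 ≤ Nat.card (F[X] ⧸ (Ideal.span {p} : Ideal F[X])) := Finite.one_lt_card
    exact (Nat.pow_right_injective hK2 h1).symm
  let eK := LinearEquiv.ofFinrankEq _ _ hfin
  have hlin : ∀ (a : F[X]) (m : Module.AEval' φ), eK (a • m) = a • eK m := by
    intro a m
    have h1 : a • m = (Ideal.Quotient.mk (Ideal.span {p} : Ideal F[X]) a) • m := rfl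
    have h2 : a • eK m = (Ideal.Quotient.mk (Ideal.span {p} : Ideal F[X]) a) • eK m := rfl
    rw [h1, h2, map_smul]
  refine ⟨{ toFun := fun v => (Module.AEval'.of ψ).symm (eK (Module.AEval'.of φ v))
            invFun := fun w => (Module.AEval'.of φ).symm (eK.symm (Module.AEval'.of ψ w))
            map_add' := by intro x y; simp only [map_add]
            map_smul' := by
              intro c x
              simp only [RingHom.id_apply]
              rw [map_smul, ← algebraMap_smul F[X] c (Module.AEval'.of φ x), hlin, algebraMap_smul, map_smul]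
            left_inv := by intro v; simp
            right_inv := by intro w; simp }, ?_⟩
  intro v
  change (Module.AEval'.of ψ).symm (eK (Module.AEval'.of φ (φ v))) = ψ ((Module.AEval'.of ψ).symm (eK (Module.AEval'.of φ v)))
  rw [← Module.AEval'.X_smul_of, hlin, Module.AEval'.of_symm_X_smul]


theorem exists_equiv_glue (φ : V →ₗ[F] V) (ψ : W →ₗ[F] W) (V₁ V₂ : Submodule F V)
    (W₁ W₂ : Submodule F W) (hcV : IsCompl V₁ V₂) (hcW : IsCompl W₁ W₂)
    (hV₁ : ∀ v ∈ V₁, φ v ∈ V₁) (hV₂ : ∀ v ∈ V₂, φ v ∈ V₂)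
    (e₁ : V₁ ≃ₗ[F] W₁) (e₂ : V₂ ≃ₗ[F] W₂)
    (h₁ : ∀ v : V₁, ((e₁ ⟨φ v, hV₁ v v.2⟩ : W₁) : W) = ψ (e₁ v))
    (h₂ : ∀ v : V₂, ((e₂ ⟨φ v, hV₂ v v.2⟩ : W₂) : W) = ψ (e₂ v)) :
    ∃ e : V ≃ₗ[F] W, ∀ v, e (φ v) = ψ (e v) := by
  refine ⟨(Submodule.prodEquivOfIsCompl V₁ V₂ hcV).symm ≪≫ₗ (e₁.prodCongr e₂) ≪≫ₗ
    (Submodule.prodEquivOfIsCompl W₁ W₂ hcW), ?_⟩
  intro v
  obtain ⟨⟨v₁, v₂⟩, rfl⟩ := (Submodule.prodEquivOfIsCompl V₁ V₂ hcV).surjective v
  have hφ : φ (Submodule.prodEquivOfIsCompl V₁ V₂ hcV (v₁, v₂)) =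
      Submodule.prodEquivOfIsCompl V₁ V₂ hcV (⟨φ v₁, hV₁ v₁ v₁.2⟩, ⟨φ v₂, hV₂ v₂ v₂.2⟩) := by
    rw [Submodule.coe_prodEquivOfIsCompl', Submodule.coe_prodEquivOfIsCompl', map_add]
  rw [hφ, LinearEquiv.trans_apply, LinearEquiv.trans_apply, LinearEquiv.symm_apply_apply,
    LinearEquiv.trans_apply, LinearEquiv.trans_apply, LinearEquiv.symm_apply_apply,
    LinearEquiv.prodCongr_apply, LinearEquiv.prodCongr_apply, Submodule.coe_prodEquivOfIsCompl',
    Submodule.coe_prodEquivOfIsCompl', map_add, h₁, h₂]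

end linmap


section main

universe u v

variable {F : Type*} [Field F] [Finite F]

/-- the inductive predicate -/
def ConjProp (s : F[X]) : Prop :=
  Squarefree s → ∀ (V : Type u) (W : Type v) [AddCommGroup V] [Module F V] [AddCommGroup W] [Module F W]
    [FiniteDimensional F V] [FiniteDimensional F W] (φ : V →ₗ[F] V) (ψ : W →ₗ[F] W),
    aeval φ s = 0 → aeval ψ s = 0 → φ.charpoly = ψ.charpoly → ∃ e : V ≃ₗ[F] W, ∀ v, e (φ v) = ψ (e v)

theorem subsingleton_of_aeval_unit {V : Type*} [AddCommGroup V] [Module F V] (φ : V →ₗ[F] V)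
    (s : F[X]) (hs : IsUnit s) (h : aeval φ s = 0) : Subsingleton V := by
  obtain ⟨t, ht⟩ := hs.exists_right_inv
  have h1 : aeval φ (s * t) = 0 := by rw [map_mul, h, zero_mul]
  rw [ht, map_one] at h1
  refine ⟨fun a b => ?_⟩
  have ha : a = (1 : Module.End F V) a := rfl
  have hb : b = (1 : Module.End F V) b := rfl
  rw [ha, hb, h1]; rfl

theorem conjProp_unit (s : F[X]) (hs : IsUnit s) : ConjProp.{u, v} s := by
  intro _ V W _ _ _ _ _ _ φ ψ hφ hψ _
  haveI := subsingleton_of_aeval_unit φ s hs hφ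
  haveI := subsingleton_of_aeval_unit ψ s hs hψ
  exact ⟨LinearEquiv.ofSubsingleton V W, fun v => Subsingleton.elim _ _⟩

theorem conjProp_irreducible (p : F[X]) (hp : Irreducible p) : ConjProp.{u, v} p := by
  intro _ V W _ _ _ _ _ _ φ ψ hφ hψ hc
  apply exists_equiv_of_irreducible φ ψ p hp hφ hψ
  rw [← LinearMap.charpoly_natDegree φ, ← LinearMap.charpoly_natDegree ψ, hc]

theorem conjProp_mul (x y : F[X]) (hxy : IsCoprime x y) (hx : ConjProp.{u, v} x)
    (hy : ConjProp.{u, v} y) : ConjProp.{u, v} (x * y) := by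
  intro hsq V W _ _ _ _ _ _ φ ψ hφ hψ hc
  have hsx : Squarefree x := hsq.of_mul_left
  have hsy : Squarefree y := hsq.of_mul_right
  have hcV : IsCompl (LinearMap.ker (aeval φ x)) (LinearMap.ker (aeval φ y)) := by
    refine ⟨disjoint_ker_aeval_of_isCoprime φ hxy, ?_⟩
    rw [codisjoint_iff, sup_ker_aeval_eq_ker_aeval_mul_of_coprime φ hxy, hφ, LinearMap.ker_zero]
  have hcW : IsCompl (LinearMap.ker (aeval ψ x)) (LinearMap.ker (aeval ψ y)) := by
    refine ⟨disjoint_ker_aeval_of_isCoprime ψ hxy, ?_⟩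
    rw [codisjoint_iff, sup_ker_aeval_eq_ker_aeval_mul_of_coprime ψ hxy, hψ, LinearMap.ker_zero]
  set φ₁ := φ.restrict (ker_aeval_invariant φ x) with hφ₁
  set φ₂ := φ.restrict (ker_aeval_invariant φ y) with hφ₂
  set ψ₁ := ψ.restrict (ker_aeval_invariant ψ x) with hψ₁
  set ψ₂ := ψ.restrict (ker_aeval_invariant ψ y) with hψ₂
  have e1 : φ.charpoly = φ₁.charpoly * φ₂.charpoly := charpoly_eq_mul_of_isCoprime φ x y hxy hφ
  have e2 : ψ.charpoly = ψ₁.charpoly * ψ₂.charpoly := charpoly_eq_mul_of_isCoprime ψ x y hxy hψ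
  have d1 := charpoly_dvd_pow_finrank φ₁ x (aeval_restrict_ker φ x)
  have d2 := charpoly_dvd_pow_finrank φ₂ y (aeval_restrict_ker φ y)
  have d1' := charpoly_dvd_pow_finrank ψ₁ x (aeval_restrict_ker ψ x)
  have d2' := charpoly_dvd_pow_finrank ψ₂ y (aeval_restrict_ker ψ y)
  have hmul : φ₁.charpoly * φ₂.charpoly = ψ₁.charpoly * ψ₂.charpoly := by rw [← e1, ← e2, hc]
  have hco1 : IsCoprime φ₁.charpoly ψ₂.charpoly :=
    (IsCoprime.pow (hxy)).of_isCoprime_of_dvd_left d1 |>.of_isCoprime_of_dvd_right d2'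
  have hco2 : IsCoprime ψ₁.charpoly φ₂.charpoly :=
    (IsCoprime.pow (hxy)).of_isCoprime_of_dvd_left d1' |>.of_isCoprime_of_dvd_right d2
  have hdvd1 : φ₁.charpoly ∣ ψ₁.charpoly :=
    hco1.dvd_of_dvd_mul_right (hmul ▸ dvd_mul_right _ _)
  have hdvd2 : ψ₁.charpoly ∣ φ₁.charpoly :=
    hco2.dvd_of_dvd_mul_right (hmul ▸ dvd_mul_right _ _)
  have heq1 : φ₁.charpoly = ψ₁.charpoly :=
    eq_of_monic_of_associated (LinearMap.charpoly_monic _) (LinearMap.charpoly_monic _)
      (associated_of_dvd_dvd hdvd1 hdvd2)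
  have heq2 : φ₂.charpoly = ψ₂.charpoly := by
    rw [heq1] at hmul
    exact mul_left_cancel₀ (LinearMap.charpoly_monic _).ne_zero hmul
  obtain ⟨E₁, hE₁⟩ := hx hsx _ _ φ₁ ψ₁ (aeval_restrict_ker φ x) (aeval_restrict_ker ψ x) heq1
  obtain ⟨E₂, hE₂⟩ := hy hsy _ _ φ₂ ψ₂ (aeval_restrict_ker φ y) (aeval_restrict_ker ψ y) heq2
  refine exists_equiv_glue φ ψ _ _ _ _ hcV hcW (ker_aeval_invariant φ x) (ker_aeval_invariant φ y)
    E₁ E₂ ?_ ?_
  · intro v
    have := congrArg Subtype.val (hE₁ v)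
    exact this
  · intro v
    have := congrArg Subtype.val (hE₂ v)
    exact this

theorem conjProp_all (s : F[X]) : ConjProp.{u, v} s := by
  induction s using UniqueFactorizationMonoid.induction_on_coprime with
  | h0 => intro h; exact absurd h not_squarefree_zero
  | h1 hx => exact conjProp_unit _ hx
  | hpr i hp =>
    rename_i p
    rcases Nat.lt_or_ge i 2 with hi | hi
    · interval_cases i
      · rw [pow_zero]; exact conjProp_unit _ isUnit_one
      · rw [pow_one]; exact conjProp_irreducible _ hp.irreducible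
    · intro hsq
      exfalso
      have : p * p ∣ p ^ i := by
        rw [← pow_two]; exact pow_dvd_pow _ hi
      exact hp.not_unit (hsq _ this)
  | hcp hxy hx hy => exact conjProp_mul _ _ (isRelPrime_iff_isCoprime.mp hxy) hx hy

/-- Two endomorphisms killed by a common squarefree polynomial and having the same
characteristic polynomial are conjugate. -/
theorem exists_equiv_of_charpoly_eq {V : Type u} {W : Type v} [AddCommGroup V] [Module F V]
    [AddCommGroup W] [Module F W] [FiniteDimensional F V] [FiniteDimensional F W]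
    (φ : V →ₗ[F] V) (ψ : W →ₗ[F] W) (s : F[X]) (hs : Squarefree s)
    (hφ : aeval φ s = 0) (hψ : aeval ψ s = 0) (hc : φ.charpoly = ψ.charpoly) :
    ∃ e : V ≃ₗ[F] W, ∀ v, e (φ v) = ψ (e v) :=
  conjProp_all s hs V W φ ψ hφ hψ hc


/-- matrix version: semisimple matrices with the same characteristic polynomial are conjugate
under `GL`. -/
theorem exists_GL_conj_of_charpoly_eq {n : Type*} [Fintype n] [DecidableEq n]
    (A B : Matrix n n F) (s : F[X]) (hs : Squarefree s)
    (hA : aeval A s = 0) (hB : aeval B s = 0) (hc : A.charpoly = B.charpoly) :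
    ∃ P : GL n F, (P : Matrix n n F) * A = B * (P : Matrix n n F) := by
  have hA' : aeval (Matrix.toLin' A) s = 0 := by
    have : Matrix.toLin' A = Matrix.toLinAlgEquiv' A := rfl
    rw [this, aeval_algHom_apply, hA, map_zero]
  have hB' : aeval (Matrix.toLin' B) s = 0 := by
    have : Matrix.toLin' B = Matrix.toLinAlgEquiv' B := rfl
    rw [this, aeval_algHom_apply, hB, map_zero]
  obtain ⟨e, he⟩ := exists_equiv_of_charpoly_eq (Matrix.toLin' A) (Matrix.toLin' B) s hs hA' hB'
    (by rw [Matrix.charpoly_toLin', Matrix.charpoly_toLin', hc])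
  have h1 : LinearMap.toMatrix' (e : (n → F) →ₗ[F] (n → F)) *
      LinearMap.toMatrix' (e.symm : (n → F) →ₗ[F] (n → F)) = 1 := by
    rw [← LinearMap.toMatrix'_comp, ← LinearMap.toMatrix'_id]
    congr 1
    apply LinearMap.ext
    intro v
    simp
  have h2 : LinearMap.toMatrix' (e.symm : (n → F) →ₗ[F] (n → F)) *
      LinearMap.toMatrix' (e : (n → F) →ₗ[F] (n → F)) = 1 := by
    rw [← LinearMap.toMatrix'_comp, ← LinearMap.toMatrix'_id]
    congr 1
    apply LinearMap.ext
    intro v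
    simp
  refine ⟨⟨_, _, h1, h2⟩, ?_⟩
  change LinearMap.toMatrix' (e : (n → F) →ₗ[F] (n → F)) * A =
    B * LinearMap.toMatrix' (e : (n → F) →ₗ[F] (n → F))
  conv_lhs => rw [← LinearMap.toMatrix'_toLin' A]
  conv_rhs => rw [← LinearMap.toMatrix'_toLin' B]
  rw [← LinearMap.toMatrix'_comp, ← LinearMap.toMatrix'_comp]
  congr 1
  apply LinearMap.ext
  intro v
  exact he v

end main

end Cfsg.Agent.Lib.Helper49
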