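import Mathlib

set_option autoImplicit false

namespace Cfsg.Agent.Lib.Helper49

open Matrix Module

section PA

variable {F : Type*} [Field F]

/-- the matrix `U` preserves some nondegenerate alternating form -/
def PresAlt {I : Type*} [Fintype I] [DecidableEq I] (U : Matrix I I F) : Prop :=
  ∃ B : LinearMap.BilinForm F (I → F), B.IsAlt ∧ B.Nondegenerate ∧
    ∀ x y, B (U *ᵥ x) (U *ᵥ y) = B x y

variable {I I' : Type*} [Fintype I] [DecidableEq I] [Fintype I'] [DecidableEq I']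

theorem PresAlt.transport {U : Matrix I I F} {U' : Matrix I' I' F}
    (φ : (I → F) ≃ₗ[F] (I' → F)) (h : ∀ x, φ (U *ᵥ x) = U' *ᵥ φ x) (hU : PresAlt U) :
    PresAlt U' := by
  obtain ⟨B, hA, hN, hinv⟩ := hU
  refine ⟨B.comp (φ.symm : (I' → F) →ₗ[F] (I → F)) (φ.symm : (I' → F) →ₗ[F] (I → F)), ?_, ?_, ?_⟩
  · intro x
    exact hA _
  · apply LinearMap.BilinForm.Nondegenerate.ofSeparatingLeft
    intro x hx
    have h1 : φ.symm x = 0 := by
      apply hN.1
      intro y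
      have := hx (φ y)
      simpa using this
    simpa using h1
  · intro x y
    have hs : ∀ z, φ.symm (U' *ᵥ z) = U *ᵥ φ.symm z := by
      intro z
      apply φ.injective
      rw [h, φ.apply_symm_apply, φ.apply_symm_apply]
    show B (φ.symm (U' *ᵥ x)) (φ.symm (U' *ᵥ y)) = B (φ.symm x) (φ.symm y)
    rw [hs, hs, hinv]

theorem PresAlt.reindex {U : Matrix I I F} (σ : I ≃ I') (hU : PresAlt U) :
    PresAlt (Matrix.reindex σ σ U) := by
  apply PresAlt.transport (LinearEquiv.funCongrLeft F F σ.symm) _ hU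
  intro x
  rw [Matrix.reindex_apply, Matrix.submatrix_mulVec_equiv]
  funext i
  simp [LinearEquiv.funCongrLeft_apply, LinearMap.funLeft_apply, Function.comp_def]

theorem PresAlt.conj {U U' : Matrix I I F} (G Ginv : Matrix I I F) (h1 : G * Ginv = 1)
    (h2 : Ginv * G = 1) (h : G * U = U' * G) (hU : PresAlt U) : PresAlt U' := by
  apply PresAlt.transport (Matrix.toLin'OfInv h2 h1) _ hU
  intro x
  show Matrix.toLin' G (U *ᵥ x) = U' *ᵥ Matrix.toLin' G x
  rw [Matrix.toLin'_apply, Matrix.toLin'_apply,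
    Matrix.mulVec_mulVec, Matrix.mulVec_mulVec, h]

theorem PresAlt.of_matrix {U : Matrix I I F} (M : Matrix I I F) (hM : ∀ x, x ⬝ᵥ M *ᵥ x = 0)
    (hdet : M.det ≠ 0) (hU : Uᵀ * M * U = M) : PresAlt U := by
  refine ⟨Matrix.toBilin' M, ?_, LinearMap.BilinForm.nondegenerate_toBilin'_of_det_ne_zero' M hdet, ?_⟩
  · intro x
    rw [Matrix.toBilin'_apply']
    exact hM x
  · intro x y
    rw [Matrix.toBilin'_apply', Matrix.toBilin'_apply']
    conv_rhs => rw [← hU]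
    rw [← Matrix.mulVec_mulVec, ← Matrix.mulVec_mulVec, Matrix.dotProduct_mulVec x Uᵀ,
      Matrix.vecMul_transpose]

theorem PresAlt.sum {I₁ I₂ : Type*} [Fintype I₁] [DecidableEq I₁] [Fintype I₂] [DecidableEq I₂]
    {U₁ : Matrix I₁ I₁ F} {U₂ : Matrix I₂ I₂ F} (h1 : PresAlt U₁) (h2 : PresAlt U₂) :
    PresAlt (Matrix.fromBlocks U₁ 0 0 U₂) := by
  obtain ⟨B₁, hA₁, hN₁, hinv₁⟩ := h1
  obtain ⟨B₂, hA₂, hN₂, hinv₂⟩ := h2
  let l : (I₁ ⊕ I₂ → F) →ₗ[F] (I₁ → F) := LinearMap.funLeft F F Sum.inl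
  let r : (I₁ ⊕ I₂ → F) →ₗ[F] (I₂ → F) := LinearMap.funLeft F F Sum.inr
  have hl : ∀ x, l x = x ∘ Sum.inl := fun x => rfl
  have hr : ∀ x, r x = x ∘ Sum.inr := fun x => rfl
  have hB : ∀ x y, (B₁.comp l l + B₂.comp r r) x y = B₁ (l x) (l y) + B₂ (r x) (r y) :=
    fun x y => rfl
  refine ⟨B₁.comp l l + B₂.comp r r, ?_, ?_, ?_⟩
  · intro x
    rw [hB, hA₁, hA₂, add_zero]
  · apply LinearMap.BilinForm.Nondegenerate.ofSeparatingLeft
    intro x hx
    have e1 : l x = 0 := by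
      apply hN₁.1
      intro y
      have := hx (Sum.elim y 0)
      rw [hB] at this
      have e : r (Sum.elim y (0 : I₂ → F)) = 0 := by
        funext i; rfl
      have e' : l (Sum.elim y (0 : I₂ → F)) = y := by
        funext i; rfl
      rw [e, e', map_zero, add_zero] at this
      exact this
    have e2 : r x = 0 := by
      apply hN₂.1
      intro y
      have := hx (Sum.elim 0 y)
      rw [hB] at this
      have e : l (Sum.elim (0 : I₁ → F) y) = 0 := by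
        funext i; rfl
      have e' : r (Sum.elim (0 : I₁ → F) y) = y := by
        funext i; rfl
      rw [e, e', map_zero, zero_add] at this
      exact this
    funext i
    cases i with
    | inl i => exact congrFun e1 i
    | inr i => exact congrFun e2 i
  · intro x y
    have hlU : ∀ z, l (Matrix.fromBlocks U₁ 0 0 U₂ *ᵥ z) = U₁ *ᵥ l z := by
      intro z
      rw [Matrix.fromBlocks_mulVec, hl, hl]
      funext i
      simp
    have hrU : ∀ z, r (Matrix.fromBlocks U₁ 0 0 U₂ *ᵥ z) = U₂ *ᵥ r z := by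
      intro z
      rw [Matrix.fromBlocks_mulVec, hr, hr]
      funext i
      simp
    rw [hB, hB, hlU, hlU, hrU, hrU, hinv₁, hinv₂]

theorem hypMat_alt {I₁ I₂ : Type*} [Fintype I₁] [DecidableEq I₁] [Fintype I₂] [DecidableEq I₂]
    (H : Matrix I₁ I₂ F) (x : I₁ ⊕ I₂ → F) :
    x ⬝ᵥ (Matrix.fromBlocks 0 H (-Hᵀ) 0) *ᵥ x = 0 := by
  rw [Matrix.fromBlocks_mulVec, Matrix.zero_mulVec, Matrix.zero_mulVec, zero_add, add_zero,
    dotProduct, Fintype.sum_sum_type]
  simp only [Sum.elim_inl, Sum.elim_inr]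
  have e1 : ∑ i, x (Sum.inl i) * (H *ᵥ (x ∘ Sum.inr)) i =
      (x ∘ Sum.inl) ⬝ᵥ H *ᵥ (x ∘ Sum.inr) := rfl
  have e2 : ∑ i, x (Sum.inr i) * ((-Hᵀ) *ᵥ (x ∘ Sum.inl)) i =
      (x ∘ Sum.inr) ⬝ᵥ (-Hᵀ) *ᵥ (x ∘ Sum.inl) := rfl
  rw [e1, e2, Matrix.neg_mulVec, dotProduct_neg, Matrix.mulVec_transpose,
    Matrix.dotProduct_mulVec, dotProduct_comm (x ∘ Sum.inr)]
  ring

theorem hypMat_det {I₁ I₂ : Type*} [Fintype I₁] [DecidableEq I₁] [Fintype I₂] [DecidableEq I₂]
    (H : Matrix I₁ I₂ F) (H' : Matrix I₂ I₁ F)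
    (h1 : H * H' = 1) (h2 : H' * H = 1) : (Matrix.fromBlocks 0 H (-Hᵀ) 0).det ≠ 0 := by
  have hinv : Matrix.fromBlocks 0 H (-Hᵀ) 0 * Matrix.fromBlocks 0 (-H'ᵀ) H' 0 = 1 := by
    rw [Matrix.fromBlocks_multiply]
    simp only [Matrix.zero_mul, Matrix.mul_zero, zero_add, add_zero, Matrix.neg_mul,
      Matrix.mul_neg, neg_neg, neg_zero]
    rw [h1, ← Matrix.transpose_mul, h2, Matrix.transpose_one, Matrix.fromBlocks_one]
  exact Matrix.det_ne_zero_of_right_inverse hinv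

theorem PresAlt.hyp {I₁ I₂ : Type*} [Fintype I₁] [DecidableEq I₁] [Fintype I₂] [DecidableEq I₂]
    {U₁ : Matrix I₁ I₁ F} {U₂ : Matrix I₂ I₂ F} (H : Matrix I₁ I₂ F) (H' : Matrix I₂ I₁ F)
    (h1 : H * H' = 1) (h2 : H' * H = 1) (hU : U₁ᵀ * H * U₂ = H) :
    PresAlt (Matrix.fromBlocks U₁ 0 0 U₂) := by
  apply PresAlt.of_matrix (Matrix.fromBlocks 0 H (-Hᵀ) 0) (hypMat_alt H) (hypMat_det H H' h1 h2)
  rw [Matrix.fromBlocks_transpose, Matrix.fromBlocks_multiply, Matrix.fromBlocks_multiply]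
  simp only [Matrix.transpose_zero, Matrix.zero_mul, Matrix.mul_zero, zero_add, add_zero,
    Matrix.mul_neg, Matrix.neg_mul, neg_zero]
  have e : U₂ᵀ * Hᵀ * U₁ = Hᵀ := by
    conv_rhs => rw [← hU]
    simp only [Matrix.transpose_mul, Matrix.transpose_transpose, Matrix.mul_assoc]
  rw [hU, e]

theorem presAlt_of_isEmpty [IsEmpty I] (U : Matrix I I F) : PresAlt U := by
  refine ⟨0, ?_, ?_, ?_⟩
  · intro x
    rfl
  · apply LinearMap.BilinForm.Nondegenerate.ofSeparatingLeft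
    intro x _
    exact Subsingleton.elim _ _
  · intro x y
    rfl

end PA

end Cfsg.Agent.Lib.Helper49
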