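import Mathlib
import Cfsg.Agent.S0755

set_option autoImplicit false

namespace Cfsg.Agent.Lib.Helper49

open Module

section HT

variable {F K V : Type*} [Field F] [Field K] [Algebra F K] [Finite K] [AddCommGroup V]
  [Module F V] [Module K V] [IsScalarTower F K V]

/-- the representation map `a ↦ (c ↦ l (a * c))` -/
noncomputable def repMap (l : K →ₗ[F] F) : K →ₗ[F] (K →ₗ[F] F) :=
  (LinearMap.mul F K).compr₂ l

theorem repMap_apply (l : K →ₗ[F] F) (a c : K) : repMap l a c = l (a * c) := rfl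

theorem repMap_injective (l : K →ₗ[F] F) (hl : l ≠ 0) : Function.Injective (repMap l) := by
  rw [← LinearMap.ker_eq_bot, LinearMap.ker_eq_bot']
  intro a ha
  by_contra hne
  apply hl
  apply LinearMap.ext
  intro c
  have := congrArg (fun φ => φ (a⁻¹ * c)) ha
  simp only [repMap_apply, LinearMap.zero_apply] at this
  rw [← mul_assoc, mul_inv_cancel₀ hne, one_mul] at this
  exact this

/-- every functional is `c ↦ l (a * c)` for a unique `a` -/
noncomputable def repEquiv (l : K →ₗ[F] F) (hl : l ≠ 0) : K ≃ₗ[F] (K →ₗ[F] F) :=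
  haveI : Module.Finite F K := Module.Finite.of_finite
  LinearMap.linearEquivOfInjective (repMap l) (repMap_injective l hl)
    (Subspace.dual_finrank_eq (K := F) (V := K)).symm

theorem repEquiv_apply (l : K →ₗ[F] F) (hl : l ≠ 0) (a c : K) :
    repEquiv l hl a c = l (a * c) := rfl

theorem eq_of_forall_mul (l : K →ₗ[F] F) (hl : l ≠ 0) (a a' : K)
    (h : ∀ c, l (a * c) = l (a' * c)) : a = a' := by
  apply repMap_injective l hl
  apply LinearMap.ext
  intro c
  exact h c

variable (σ : K →+* K)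

/-- compatibility of an `F`-bilinear form with the `K`-structure and the involution -/
def SigmaCompat (ω : LinearMap.BilinForm F V) : Prop :=
  ∀ (c : K) (u v : V), ω (c • u) v = ω u (σ c • v)

/-- the functional `c ↦ ω u (c • v)` -/
noncomputable def pairFun (ω : LinearMap.BilinForm F V) (u v : V) : K →ₗ[F] F :=
  (ω u).comp ((LinearMap.toSpanSingleton K V v).restrictScalars F)

theorem pairFun_apply (ω : LinearMap.BilinForm F V) (u v : V) (c : K) :
    pairFun ω u v c = ω u (c • v) := rfl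

/-- the `K`-valued form attached to `ω` -/
noncomputable def hermVal (l : K →ₗ[F] F) (hl : l ≠ 0) (ω : LinearMap.BilinForm F V) (u v : V) : K :=
  (repEquiv l hl).symm (pairFun ω u v)

theorem hermVal_spec (l : K →ₗ[F] F) (hl : l ≠ 0) (ω : LinearMap.BilinForm F V) (u v : V) (c : K) :
    l (hermVal l hl ω u v * c) = ω u (c • v) := by
  rw [← repEquiv_apply l hl, hermVal, LinearEquiv.apply_symm_apply, pairFun_apply]

theorem hermVal_eq (l : K →ₗ[F] F) (hl : l ≠ 0) (ω : LinearMap.BilinForm F V) (u v : V) (a : K)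
    (h : ∀ c, l (a * c) = ω u (c • v)) : hermVal l hl ω u v = a := by
  apply eq_of_forall_mul l hl
  intro c
  rw [hermVal_spec, h]

/-- the sesquilinear form attached to a compatible form -/
noncomputable def hermForm' (l : K →ₗ[F] F) (hl : l ≠ 0) (ω : LinearMap.BilinForm F V)
    (hω : SigmaCompat σ ω) : V →ₛₗ[σ] V →ₗ[K] K :=
  LinearMap.mk₂'ₛₗ σ (RingHom.id K) (fun u v => hermVal l hl ω u v)
    (by
      intro u u' v
      apply hermVal_eq
      intro c
      rw [add_mul, map_add, hermVal_spec, hermVal_spec, map_add, LinearMap.add_apply])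
    (by
      intro a u v
      apply hermVal_eq
      intro c
      rw [smul_eq_mul, mul_assoc, mul_left_comm, hermVal_spec, hω, mul_smul])
    (by
      intro u v v'
      apply hermVal_eq
      intro c
      rw [add_mul, map_add, hermVal_spec, hermVal_spec, smul_add, map_add])
    (by
      intro a u v
      apply hermVal_eq
      intro c
      rw [RingHom.id_apply, smul_eq_mul, mul_comm a, mul_assoc, hermVal_spec, mul_smul, smul_comm])

theorem hermForm'_apply (l : K →ₗ[F] F) (hl : l ≠ 0) (ω : LinearMap.BilinForm F V)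
    (hω : SigmaCompat σ ω) (u v : V) : hermForm' σ l hl ω hω u v = hermVal l hl ω u v := rfl

theorem hermForm'_spec (l : K →ₗ[F] F) (hl : l ≠ 0) (ω : LinearMap.BilinForm F V)
    (hω : SigmaCompat σ ω) (u v : V) : l (hermForm' σ l hl ω hω u v) = ω u v := by
  have := hermVal_spec l hl ω u v 1
  rw [mul_one, one_smul] at this
  exact this

theorem hermForm'_isSymm (hσ2 : ∀ a, σ (σ a) = a) (l : K →ₗ[F] F) (hl : l ≠ 0)
    (hlσ : ∀ c, l (σ c) = - l c) (ω : LinearMap.BilinForm F V) (hA : ω.IsAlt)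
    (hω : SigmaCompat σ ω) : (hermForm' σ l hl ω hω).IsSymm := by
  constructor
  intro u v
  rw [hermForm'_apply, hermForm'_apply]
  symm
  apply hermVal_eq
  intro c
  have e1 : σ (hermVal l hl ω u v) * c = σ (hermVal l hl ω u v * σ c) := by
    rw [map_mul, hσ2]
  rw [e1, hlσ, hermVal_spec, ← hω, ← hA.neg_eq, neg_neg]

theorem hermForm'_nondegenerate (l : K →ₗ[F] F) (hl : l ≠ 0) (ω : LinearMap.BilinForm F V)
    (hN : ω.Nondegenerate) (hω : SigmaCompat σ ω) : (hermForm' σ l hl ω hω).Nondegenerate := by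
  constructor
  · intro u hu
    apply hN.1
    intro v
    rw [← hermForm'_spec σ l hl ω hω, hu, map_zero]
  · intro v hv
    apply hN.2
    intro u
    rw [← hermForm'_spec σ l hl ω hω, hv, map_zero]

end HT

section HT2

variable {F K V : Type*} [Field F] [Field K] [Algebra F K] [Finite K] [AddCommGroup V]
  [Module F V] [Module K V] [IsScalarTower F K V] [FiniteDimensional K V]

/-- a nonzero skew functional -/
theorem exists_skew_functional (σ : K →ₐ[F] K) (hσ : ∃ c, σ c ≠ c) (hσ2 : ∀ a, σ (σ a) = a) :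
    ∃ l : K →ₗ[F] F, l ≠ 0 ∧ ∀ c, l (σ c) = - l c := by
  obtain ⟨c₀, hc₀⟩ := hσ
  have hd : c₀ - σ c₀ ≠ 0 := by
    intro h
    exact hc₀ (sub_eq_zero.mp h).symm
  obtain ⟨μ, hμ⟩ : ∃ μ : Module.Dual F K, μ (c₀ - σ c₀) ≠ 0 := by
    by_contra hcon
    push Not at hcon
    exact hd ((Module.forall_dual_apply_eq_zero_iff F _).mp hcon)
  refine ⟨μ - μ.comp σ.toLinearMap, ?_, ?_⟩
  · intro h0
    apply hμ
    have := congrArg (fun φ => φ c₀) h0
    simp only [LinearMap.sub_apply, LinearMap.comp_apply, AlgHom.toLinearMap_apply,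
      LinearMap.zero_apply] at this
    rw [map_sub]
    exact this
  · intro c
    simp only [LinearMap.sub_apply, LinearMap.comp_apply, AlgHom.toLinearMap_apply, hσ2]
    ring

/-- two compatible nondegenerate alternating forms are equivalent under a `K`-linear map -/
theorem exists_isometry_of_sigmaCompat (σ : K →ₐ[F] K) (hσ : ∃ c, σ c ≠ c)
    (hσ2 : ∀ a, σ (σ a) = a) (ω₁ ω₂ : LinearMap.BilinForm F V)
    (hA₁ : ω₁.IsAlt) (hN₁ : ω₁.Nondegenerate) (hC₁ : SigmaCompat (σ : K →+* K) ω₁)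
    (hA₂ : ω₂.IsAlt) (hN₂ : ω₂.Nondegenerate) (hC₂ : SigmaCompat (σ : K →+* K) ω₂) :
    ∃ b : V ≃ₗ[K] V, ∀ x y, ω₂ (b x) (b y) = ω₁ x y := by
  obtain ⟨l, hl, hlσ⟩ := exists_skew_functional σ hσ hσ2
  have hσne : (σ : K →+* K) ≠ RingHom.id K := by
    intro h
    obtain ⟨c, hc⟩ := hσ
    apply hc
    have := congrArg (fun φ : K →+* K => φ c) h
    exact this
  have hσ2' : ∀ a : K, (σ : K →+* K) ((σ : K →+* K) a) = a := hσ2
  have hlσ' : ∀ c : K, l ((σ : K →+* K) c) = - l c := hlσ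
  set h₁ := hermForm' (σ : K →+* K) l hl ω₁ hC₁ with hh₁
  set h₂ := hermForm' (σ : K →+* K) l hl ω₂ hC₂ with hh₂
  have hS₁ := hermForm'_isSymm (σ : K →+* K) hσ2' l hl hlσ' ω₁ hA₁ hC₁
  have hS₂ := hermForm'_isSymm (σ : K →+* K) hσ2' l hl hlσ' ω₂ hA₂ hC₂
  have hD₁ := hermForm'_nondegenerate (σ : K →+* K) l hl ω₁ hN₁ hC₁
  have hD₂ := hermForm'_nondegenerate (σ : K →+* K) l hl ω₂ hN₂ hC₂
  obtain ⟨e₁, he₁⟩ := Cfsg.Agent.S0755.result (σ : K →+* K) hσne hσ2' h₁ hS₁ hD₁
  obtain ⟨e₂, he₂⟩ := Cfsg.Agent.S0755.result (σ : K →+* K) hσne hσ2' h₂ hS₂ hD₂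
  let b : V ≃ₗ[K] V := e₁.equiv e₂ (Equiv.refl _)
  refine ⟨b, ?_⟩
  let h₂' : V →ₛₗ[(σ : K →+* K)] V →ₗ[K] K :=
    LinearMap.mk₂'ₛₗ (σ : K →+* K) (RingHom.id K) (fun u v => h₂ (b u) (b v))
      (by intro u u' v; rw [map_add, map_add, LinearMap.add_apply])
      (by intro a u v; rw [map_smul, LinearMap.map_smulₛₗ, LinearMap.smul_apply])
      (by intro u v v'; rw [map_add, map_add])
      (by intro a u v; rw [map_smul, map_smul, RingHom.id_apply])
  have heq : h₂' = h₁ := by
    apply LinearMap.ext_basis e₁ e₁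
    intro i j
    show h₂ (b (e₁ i)) (b (e₁ j)) = h₁ (e₁ i) (e₁ j)
    rw [Module.Basis.equiv_apply, Module.Basis.equiv_apply, he₁, he₂]
    rfl
  intro x y
  rw [← hermForm'_spec (σ : K →+* K) l hl ω₂ hC₂, ← hermForm'_spec (σ : K →+* K) l hl ω₁ hC₁]
  congr 1
  exact congrFun (congrArg DFunLike.coe (congrFun (congrArg DFunLike.coe heq) x)) y

end HT2

end Cfsg.Agent.Lib.Helper49
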