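import Mathlib
import Cfsg.Agent.Lib.Helper49.HermTransfer
import Cfsg.Agent.Lib.Helper20.SympEmbed
import Cfsg.Agent.Lib.Helper43.AltForm

set_option autoImplicit false

namespace Cfsg.Agent.Lib.Helper49

open Polynomial Module

section Lift

variable {F : Type*} [Field F] {B : Type*} [Ring B] [Algebra F B]

/-- lift of `X ↦ x` to `AdjoinRoot f`, for a possibly noncommutative target -/
noncomputable def liftA (f : F[X]) (x : B) (h : aeval x f = 0) : AdjoinRoot f →ₐ[F] B :=
  Ideal.Quotient.liftₐ (Ideal.span {f}) (aeval x) (by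
    intro a ha
    obtain ⟨y, rfl⟩ := Ideal.mem_span_singleton.1 ha
    rw [map_mul, h, zero_mul])

theorem liftA_mk (f : F[X]) (x : B) (h : aeval x f = 0) (g : F[X]) :
    liftA f x h (AdjoinRoot.mk f g) = aeval x g := rfl

theorem liftA_root (f : F[X]) (x : B) (h : aeval x f = 0) :
    liftA f x h (AdjoinRoot.root f) = x := by
  rw [AdjoinRoot.root, liftA_mk, aeval_X]

end Lift

section Iso

variable {F : Type*} [Field F] {V : Type*} [AddCommGroup V] [Module F V]

/-- invariance of a form under an operator -/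
def FormInv (ω : LinearMap.BilinForm F V) (A : V →ₗ[F] V) : Prop :=
  ∀ u v, ω (A u) (A v) = ω u v

theorem FormInv.adj {ω : LinearMap.BilinForm F V} {A B : V →ₗ[F] V} (h : FormInv ω A)
    (hAB : ∀ v, A (B v) = v) (u v : V) : ω (A u) v = ω u (B v) := by
  conv_lhs => rw [← hAB v]
  exact h u (B v)

theorem FormInv.adj_aeval {ω : LinearMap.BilinForm F V} {A B : V →ₗ[F] V} (h : FormInv ω A)
    (hAB : ∀ v, A (B v) = v) (p : F[X]) (u v : V) :
    ω (aeval A p u) v = ω u (aeval B p v) := by
  have hpow : ∀ (n : ℕ) (u v : V), ω ((A ^ n) u) v = ω u ((B ^ n) v) := by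
    intro n
    induction n with
    | zero => intro u v; simp
    | succ n ih =>
      intro u v
      rw [pow_succ', Module.End.mul_apply, h.adj hAB, ih, pow_succ', Module.End.mul_apply]
      congr 1
      have : Commute B (B ^ n) := (Commute.refl B).pow_right n
      exact congrArg (fun φ : Module.End F V => φ v) this.eq.symm
  induction p using Polynomial.induction_on' with
  | add p q hp hq =>
    rw [map_add, map_add, LinearMap.add_apply, LinearMap.add_apply, map_add, LinearMap.add_apply,
      map_add, hp, hq]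
  | monomial n c =>
    rw [aeval_monomial, aeval_monomial, Module.End.mul_apply, Module.End.mul_apply,
      Module.algebraMap_end_apply, Module.algebraMap_end_apply, map_smul, LinearMap.smul_apply,
      map_smul, hpow]

/-- any two nondegenerate alternating forms on a finite dimensional space are equivalent -/
theorem exists_isometry_of_alt [FiniteDimensional F V] (ω₁ ω₂ : LinearMap.BilinForm F V)
    (hA₁ : ω₁.IsAlt) (hN₁ : ω₁.Nondegenerate) (hA₂ : ω₂.IsAlt) (hN₂ : ω₂.Nondegenerate) :
    ∃ b : V ≃ₗ[F] V, ∀ x y, ω₁ (b x) (b y) = ω₂ x y := by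
  obtain ⟨m, hm⟩ := Cfsg.Agent.Lib.Helper43.even_finrank_of_isAlt_nondegenerate ω₁ hA₁ hN₁
  have hm' : finrank F V = 2 * m := by omega
  obtain ⟨e₁, he₁⟩ := Cfsg.Agent.Lib.Helper20.exists_symplectic_basis ω₁ hA₁ hN₁ m hm'
  obtain ⟨e₂, he₂⟩ := Cfsg.Agent.Lib.Helper20.exists_symplectic_basis ω₂ hA₂ hN₂ m hm'
  let b : V ≃ₗ[F] V := e₂.equiv e₁ (Equiv.refl _)
  refine ⟨b, ?_⟩
  have heq : ω₁.comp (b : V →ₗ[F] V) (b : V →ₗ[F] V) = ω₂ := by
    apply LinearMap.ext_basis e₂ e₂
    intro i j
    rw [LinearMap.BilinForm.comp_apply]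
    show ω₁ (b (e₂ i)) (b (e₂ j)) = ω₂ (e₂ i) (e₂ j)
    rw [Module.Basis.equiv_apply, Module.Basis.equiv_apply, Equiv.refl_apply, Equiv.refl_apply,
      ← LinearMap.BilinForm.toMatrix_apply, ← LinearMap.BilinForm.toMatrix_apply e₂, he₁, he₂]
  intro x y
  rw [← heq]
  rfl

/-- an involutive operator killed by an irreducible polynomial is a scalar -/
theorem exists_scalar_of_sq_eq_one (A : V →ₗ[F] V) (hAA : ∀ v, A (A v) = v) (f : F[X])
    (hf : Irreducible f) (hfA : aeval A f = 0) : ∃ a : F, ∀ v, A v = a • v := by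
  have hsq : aeval A ((X - C 1) * (X + C 1) : F[X]) = 0 := by
    apply LinearMap.ext
    intro v
    simp only [map_mul, map_sub, map_add, aeval_X, aeval_C, Module.End.mul_apply,
      LinearMap.sub_apply, LinearMap.add_apply, Module.algebraMap_end_apply, one_smul,
      LinearMap.zero_apply, map_add, map_sub, hAA]
    abel
  by_cases h1 : f ∣ (X - C 1 : F[X])
  · obtain ⟨u, hu⟩ := h1
    refine ⟨1, fun v => ?_⟩
    have : aeval A (X - C 1 : F[X]) = 0 := by rw [hu, map_mul, hfA, zero_mul]
    have h2 := congrArg (fun φ : Module.End F V => φ v) this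
    simp only [map_sub, aeval_X, aeval_C, LinearMap.sub_apply, Module.algebraMap_end_apply,
      LinearMap.zero_apply] at h2
    rw [one_smul] at h2 ⊢
    exact sub_eq_zero.mp h2
  by_cases h2 : f ∣ (X + C 1 : F[X])
  · obtain ⟨u, hu⟩ := h2
    refine ⟨-1, fun v => ?_⟩
    have : aeval A (X + C 1 : F[X]) = 0 := by rw [hu, map_mul, hfA, zero_mul]
    have h3 := congrArg (fun φ : Module.End F V => φ v) this
    simp only [map_add, aeval_X, aeval_C, LinearMap.add_apply, Module.algebraMap_end_apply,
      LinearMap.zero_apply] at h3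
    rw [one_smul] at h3
    rw [neg_smul, one_smul]
    exact eq_neg_of_add_eq_zero_left h3
  · have c1 : IsCoprime f (X - C 1 : F[X]) := (hf.coprime_iff_not_dvd).mpr h1
    have c2 : IsCoprime f (X + C 1 : F[X]) := (hf.coprime_iff_not_dvd).mpr h2
    obtain ⟨x, y, hxy⟩ := c1.mul_right c2
    have h0 : aeval A (1 : F[X]) = 0 := by
      rw [← hxy, map_add, map_mul, map_mul, hfA, hsq, mul_zero, mul_zero, add_zero]
    refine ⟨1, fun v => ?_⟩
    have h3 := congrArg (fun φ : Module.End F V => φ v) h0
    simp only [map_one, Module.End.one_apply, LinearMap.zero_apply] at h3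
    have hv : ∀ w : V, w = 0 := by
      intro w
      have h4 := congrArg (fun φ : Module.End F V => φ w) h0
      simpa using h4
    rw [hv (A v), hv v, smul_zero]

/-- the isotypic self-dual case -/
theorem exists_isometry_isotypic [Finite F] [FiniteDimensional F V] (A B : V →ₗ[F] V)
    (hAB : ∀ v, A (B v) = v) (hBA : ∀ v, B (A v) = v) (f : F[X]) (hf : Irreducible f)
    (hfA : aeval A f = 0) (hfB : aeval B f = 0) (ω₁ ω₂ : LinearMap.BilinForm F V)
    (hA₁ : ω₁.IsAlt) (hN₁ : ω₁.Nondegenerate) (hI₁ : FormInv ω₁ A)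
    (hA₂ : ω₂.IsAlt) (hN₂ : ω₂.Nondegenerate) (hI₂ : FormInv ω₂ A) :
    ∃ b : V →ₗ[F] V, (∀ v, b (A v) = A (b v)) ∧ ∀ x y, ω₁ (b x) (b y) = ω₂ x y := by
  by_cases hAeqB : A = B
  · -- scalar case
    have hAA : ∀ v, A (A v) = v := by
      intro v
      have := hBA v
      rw [← hAeqB] at this
      exact this
    obtain ⟨a, ha⟩ := exists_scalar_of_sq_eq_one A hAA f hf hfA
    obtain ⟨b, hb⟩ := exists_isometry_of_alt ω₁ ω₂ hA₁ hN₁ hA₂ hN₂
    refine ⟨b, ?_, hb⟩
    intro v
    rw [ha, ha]
    exact map_smul b a v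
  · -- hermitian case
    haveI : Fact (Irreducible f) := ⟨hf⟩
    have hVnt : Nontrivial V := by
      by_contra hcon
      rw [not_nontrivial_iff_subsingleton] at hcon
      apply hAeqB
      apply LinearMap.ext
      intro v
      exact Subsingleton.elim _ _
    let ρ : AdjoinRoot f →ₐ[F] Module.End F V := liftA f A hfA
    have hρroot : ρ (AdjoinRoot.root f) = A := liftA_root f A hfA
    have hρinj : Function.Injective ρ := (ρ : AdjoinRoot f →+* Module.End F V).injective
    have hroot0 : AdjoinRoot.root f ≠ 0 := by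
      intro h0
      have : A = 0 := by rw [← hρroot, h0, map_zero]
      obtain ⟨v, hv⟩ := exists_ne (0 : V)
      apply hv
      rw [← hAB v, this, LinearMap.zero_apply]
    have hρinv : ρ (AdjoinRoot.root f)⁻¹ = B := by
      have h1 : A * ρ (AdjoinRoot.root f)⁻¹ = 1 := by
        rw [← hρroot, ← map_mul, mul_inv_cancel₀ hroot0, map_one]
      have h2 : B * A = 1 := by
        apply LinearMap.ext
        intro v
        exact hBA v
      calc ρ (AdjoinRoot.root f)⁻¹ = (B * A) * ρ (AdjoinRoot.root f)⁻¹ := by rw [h2, one_mul]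
        _ = B := by rw [mul_assoc, h1, mul_one]
    have hrootinv : aeval (AdjoinRoot.root f)⁻¹ f = 0 := by
      apply hρinj
      rw [← aeval_algHom_apply, hρinv, hfB, map_zero]
    let σ : AdjoinRoot f →ₐ[F] AdjoinRoot f := liftA f (AdjoinRoot.root f)⁻¹ hrootinv
    have hσroot : σ (AdjoinRoot.root f) = (AdjoinRoot.root f)⁻¹ := liftA_root f _ hrootinv
    have hσ2 : ∀ a, σ (σ a) = a := by
      have : σ.comp σ = AlgHom.id F (AdjoinRoot f) := by
        apply AdjoinRoot.algHom_ext
        rw [AlgHom.comp_apply, hσroot, map_inv₀, hσroot, inv_inv]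
        rfl
      intro a
      exact congrArg (fun φ : AdjoinRoot f →ₐ[F] AdjoinRoot f => φ a) this
    have hσne : ∃ c, σ c ≠ c := by
      refine ⟨AdjoinRoot.root f, ?_⟩
      rw [hσroot]
      intro h
      apply hAeqB
      rw [← hρroot, ← hρinv, h]
    have hρσ : ∀ c, ρ (σ c) = aeval B (Classical.choose (AdjoinRoot.mk_surjective (g := f) c)) := by
      intro c
      have hc := Classical.choose_spec (AdjoinRoot.mk_surjective (g := f) c)
      conv_lhs => rw [← hc]
      rw [show σ (AdjoinRoot.mk f _) = aeval (AdjoinRoot.root f)⁻¹ _ from liftA_mk f _ hrootinv _,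
        ← aeval_algHom_apply, hρinv]
    have hρc : ∀ c, ρ c = aeval A (Classical.choose (AdjoinRoot.mk_surjective (g := f) c)) := by
      intro c
      have hc := Classical.choose_spec (AdjoinRoot.mk_surjective (g := f) c)
      conv_lhs => rw [← hc]
      rfl
    letI : Module (AdjoinRoot f) V := Module.compHom V (ρ : AdjoinRoot f →+* Module.End F V)
    have hsmul : ∀ (c : AdjoinRoot f) (v : V), c • v = ρ c v := fun c v => rfl
    haveI : IsScalarTower F (AdjoinRoot f) V := by
      refine ⟨fun a c v => ?_⟩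
      rw [hsmul, hsmul, map_smul]
      rfl
    haveI : Finite V := Module.finite_of_finite F
    haveI : Module.Finite F (AdjoinRoot f) := (AdjoinRoot.powerBasis hf.ne_zero).finite
    haveI : Finite (AdjoinRoot f) := Module.finite_of_finite F
    haveI : FiniteDimensional (AdjoinRoot f) V := Module.Finite.of_finite
    have hcompat : ∀ ω : LinearMap.BilinForm F V, FormInv ω A →
        SigmaCompat (σ : AdjoinRoot f →+* AdjoinRoot f) ω := by
      intro ω hI c u v
      show ω (c • u) v = ω u (σ c • v)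
      rw [hsmul, hsmul, hρσ, hρc]
      exact hI.adj_aeval hAB _ u v
    obtain ⟨b, hb⟩ := exists_isometry_of_sigmaCompat σ hσne hσ2 ω₂ ω₁ hA₂ hN₂ (hcompat ω₂ hI₂)
      hA₁ hN₁ (hcompat ω₁ hI₁)
    refine ⟨(b : V →ₗ[AdjoinRoot f] V).restrictScalars F, ?_, ?_⟩
    · intro v
      show b (A v) = A (b v)
      have e1 : A v = AdjoinRoot.root f • v := by rw [hsmul, hρroot]
      have e2 : A (b v) = AdjoinRoot.root f • b v := by rw [hsmul, hρroot]
      rw [e1, e2, map_smul]
    · intro x y
      exact hb x y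

end Iso

end Cfsg.Agent.Lib.Helper49
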