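import Mathlib
import Cfsg.Agent.Lib.Helper49.SpSemiIso

set_option autoImplicit false

namespace Cfsg.Agent.Lib.Helper49

open Polynomial Module

section Pair

variable {F : Type*} [Field F] {V : Type*} [AddCommGroup V] [Module F V]

theorem projection_comm {P P' : Submodule F V} (hc : IsCompl P P') (A : V →ₗ[F] V)
    (hP : ∀ v ∈ P, A v ∈ P) (hP' : ∀ v ∈ P', A v ∈ P') (x : V) :
    P.projection P' hc (A x) = A (P.projection P' hc x) := by
  have hx := Submodule.projection_add_projection_eq_self hc x
  conv_lhs => rw [← hx]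
  rw [map_add, map_add,
    Submodule.projection_apply_of_mem_left hc (hP _ (Submodule.projection_apply_mem hc x)),
    Submodule.projection_apply_of_mem_right hc (hP' _ (Submodule.projection_apply_mem hc.symm x)),
    add_zero]

/-- the case of two complementary totally isotropic invariant subspaces -/
theorem exists_isometry_pair [FiniteDimensional F V] (A B : V →ₗ[F] V)
    (hAB : ∀ v, A (B v) = v) (P P' : Submodule F V) (hc : IsCompl P P')
    (hP : ∀ v ∈ P, A v ∈ P) (hP' : ∀ v ∈ P', A v ∈ P')
    (ω₁ ω₂ : LinearMap.BilinForm F V)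
    (hA₁ : ω₁.IsAlt) (hN₁ : ω₁.Nondegenerate) (hI₁ : FormInv ω₁ A)
    (hA₂ : ω₂.IsAlt) (hI₂ : FormInv ω₂ A)
    (h1P : ∀ u ∈ P, ∀ v ∈ P, ω₁ u v = 0) (h1P' : ∀ u ∈ P', ∀ v ∈ P', ω₁ u v = 0)
    (h2P : ∀ u ∈ P, ∀ v ∈ P, ω₂ u v = 0) (h2P' : ∀ u ∈ P', ∀ v ∈ P', ω₂ u v = 0) :
    ∃ b : V →ₗ[F] V, (∀ v, b (A v) = A (b v)) ∧ ∀ x y, ω₁ (b x) (b y) = ω₂ x y := by
  -- the operator `T` with `ω₁ (T y) x = ω₂ y x`
  let T : V →ₗ[F] V := ((ω₁.toDual hN₁).symm : Module.Dual F V →ₗ[F] V) ∘ₗ ω₂
  have hT : ∀ y x, ω₁ (T y) x = ω₂ y x := by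
    intro y x
    exact LinearMap.BilinForm.apply_toDual_symm_apply (B := ω₁) (hB := hN₁) (ω₂ y) x
  have hT' : ∀ x y, ω₁ x (T y) = ω₂ x y := by
    intro x y
    rw [← hA₁.neg_eq, hT, hA₂.neg_eq]
  have hTA : ∀ y, T (A y) = A (T y) := by
    intro y
    have : T (A y) - A (T y) = 0 := by
      apply hN₁.1
      intro x
      rw [map_sub, LinearMap.sub_apply, hT, ← hAB x, hI₂ y (B x), hI₁ (T y) (B x), hT, sub_self]
    exact sub_eq_zero.mp this
  -- `P'` is its own orthogonal
  have hperp : ∀ x, (∀ q ∈ P', ω₁ x q = 0) → x ∈ P' := by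
    intro x hx
    have hdec := Submodule.projection_add_projection_eq_self hc x
    set p := P.projection P' hc x with hp
    set p' := P'.projection P hc.symm x with hp'
    have hpP : p ∈ P := Submodule.projection_apply_mem hc x
    have hp'P : p' ∈ P' := Submodule.projection_apply_mem hc.symm x
    have hp0 : p = 0 := by
      apply hN₁.1
      intro z
      have hz := Submodule.projection_add_projection_eq_self hc z
      rw [← hz, map_add, h1P p hpP _ (Submodule.projection_apply_mem hc z), zero_add]
      have := hx _ (Submodule.projection_apply_mem hc.symm z)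
      rw [← hdec, map_add, LinearMap.add_apply,
        h1P' p' hp'P _ (Submodule.projection_apply_mem hc.symm z), add_zero] at this
      exact this
    rw [← hdec, hp0, zero_add]
    exact hp'P
  have hTP' : ∀ y ∈ P', T y ∈ P' := by
    intro y hy
    apply hperp
    intro q hq
    rw [hT]
    exact h2P' y hy q hq
  let b : V →ₗ[F] V := P.projection P' hc + T ∘ₗ P'.projection P hc.symm
  have hb : ∀ x, b x = P.projection P' hc x + T (P'.projection P hc.symm x) := fun x => rfl
  refine ⟨b, ?_, ?_⟩
  · intro v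
    rw [hb, hb, projection_comm hc A hP hP', projection_comm hc.symm A hP' hP, hTA, map_add]
  · intro x y
    have hx := Submodule.projection_add_projection_eq_self hc x
    have hy := Submodule.projection_add_projection_eq_self hc y
    set p := P.projection P' hc x with hp
    set p' := P'.projection P hc.symm x with hp'
    set q := P.projection P' hc y with hq
    set q' := P'.projection P hc.symm y with hq'
    have hpP : p ∈ P := Submodule.projection_apply_mem hc x
    have hp'P : p' ∈ P' := Submodule.projection_apply_mem hc.symm x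
    have hqP : q ∈ P := Submodule.projection_apply_mem hc y
    have hq'P : q' ∈ P' := Submodule.projection_apply_mem hc.symm y
    rw [hb, hb]
    conv_rhs => rw [← hx, ← hy]
    simp only [map_add, LinearMap.add_apply]
    rw [h1P p hpP q hqP, hT' p q', hT p' q, hT' (T p') q', h2P' _ (hTP' p' hp'P) q' hq'P,
      h2P p hpP q hqP, h2P' p' hp'P q' hq'P]

end Pair

end Cfsg.Agent.Lib.Helper49
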