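import Mathlib
import Cfsg.Agent.Lib.Helper49.SpSemiPair
import Cfsg.Agent.Lib.Helper49.SemisimpleConj

set_option autoImplicit false

namespace Cfsg.Agent.Lib.Helper49

open Polynomial Module

section Decomp

variable {F : Type*} [Field F] {V : Type*} [AddCommGroup V] [Module F V]

/-- for a semisimple operator, kernel and range of a polynomial in it are complementary -/
theorem isCompl_ker_range_aeval [FiniteDimensional F V] (A : V →ₗ[F] V) (s : F[X])
    (hs : Squarefree s) (hsA : aeval A s = 0) (t : F[X]) :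
    IsCompl (LinearMap.ker (aeval A t)) (LinearMap.range (aeval A t)) := by
  have hss : Module.End.IsSemisimple (aeval A t : Module.End F V) :=
    (Module.End.isSemisimple_of_squarefree_aeval_eq_zero hs hsA).aeval t
  set T : Module.End F V := aeval A t with hT
  have hinv : LinearMap.ker T ∈ Module.End.invtSubmodule T := by
    rw [Module.End.mem_invtSubmodule]
    intro v hv
    rw [Submodule.mem_comap, LinearMap.mem_ker] at *
    rw [hv, map_zero]
  obtain ⟨q, hq, hc⟩ := Module.End.isSemisimple_iff.mp hss _ hinv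
  rw [Module.End.mem_invtSubmodule] at hq
  have hrq : LinearMap.range T ≤ q := by
    rintro _ ⟨v, rfl⟩
    have hv := Submodule.projection_add_projection_eq_self hc v
    have h1 : T (Submodule.projection _ _ hc v) = 0 :=
      LinearMap.mem_ker.mp (Submodule.projection_apply_mem hc v)
    rw [← hv, map_add, h1, zero_add]
    exact hq (Submodule.projection_apply_mem hc.symm v)
  have hdisj : Disjoint (LinearMap.ker T) (LinearMap.range T) :=
    hc.disjoint.mono_right hrq
  refine ⟨hdisj, codisjoint_iff.mpr ?_⟩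
  apply Submodule.eq_top_of_disjoint _ _ _ hdisj
  rw [add_comm, LinearMap.finrank_range_add_finrank_ker]

end Decomp

section Restrict

variable {F : Type*} [Field F] {V : Type*} [AddCommGroup V] [Module F V]

theorem restrict_pow_eq_one (A : V →ₗ[F] V) (k : ℕ) (hk : A ^ k = 1) (W : Submodule F V)
    (hW : ∀ v ∈ W, A v ∈ W) : (A.restrict hW) ^ k = 1 := by
  rw [Module.End.pow_restrict k hW]
  apply LinearMap.ext
  intro v
  apply Subtype.ext
  rw [LinearMap.coe_restrict_apply, hk]
  rfl

theorem restrict_nondegenerate [FiniteDimensional F V] (ω : LinearMap.BilinForm F V)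
    (hN : ω.Nondegenerate) (U R : Submodule F V) (hc : IsCompl U R)
    (horth : ∀ u ∈ U, ∀ r ∈ R, ω u r = 0) : (ω.restrict U).Nondegenerate := by
  apply LinearMap.BilinForm.Nondegenerate.ofSeparatingLeft
  intro u hu
  apply Subtype.ext
  apply hN.1
  intro z
  have hz := Submodule.projection_add_projection_eq_self hc z
  rw [← hz, map_add, horth u u.2 _ (Submodule.projection_apply_mem hc.symm z), add_zero]
  exact hu ⟨_, Submodule.projection_apply_mem hc z⟩

/-- gluing isometries along an orthogonal decomposition -/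
theorem exists_isometry_glue (A : V →ₗ[F] V) (U R : Submodule F V) (hc : IsCompl U R)
    (hU : ∀ v ∈ U, A v ∈ U) (hR : ∀ v ∈ R, A v ∈ R)
    (ω₁ ω₂ : LinearMap.BilinForm F V) (hA₁ : ω₁.IsAlt) (hA₂ : ω₂.IsAlt)
    (horth₁ : ∀ u ∈ U, ∀ r ∈ R, ω₁ u r = 0) (horth₂ : ∀ u ∈ U, ∀ r ∈ R, ω₂ u r = 0)
    (bU : U →ₗ[F] U) (hbU : ∀ v, bU (A.restrict hU v) = A.restrict hU (bU v))
    (hbU' : ∀ x y : U, ω₁ (bU x) (bU y) = ω₂ x y)
    (bR : R →ₗ[F] R) (hbR : ∀ v, bR (A.restrict hR v) = A.restrict hR (bR v))
    (hbR' : ∀ x y : R, ω₁ (bR x) (bR y) = ω₂ x y) :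
    ∃ b : V →ₗ[F] V, (∀ v, b (A v) = A (b v)) ∧ ∀ x y, ω₁ (b x) (b y) = ω₂ x y := by
  let b : V →ₗ[F] V := U.subtype ∘ₗ bU ∘ₗ U.projectionOnto R hc +
    R.subtype ∘ₗ bR ∘ₗ R.projectionOnto U hc.symm
  have hb : ∀ x, b x = (bU (U.projectionOnto R hc x) : V) + (bR (R.projectionOnto U hc.symm x) : V) :=
    fun x => rfl
  have hπU : ∀ x, U.projectionOnto R hc (A x) = A.restrict hU (U.projectionOnto R hc x) := by
    intro x
    apply Subtype.ext
    exact projection_comm hc A hU hR x
  have hπR : ∀ x, R.projectionOnto U hc.symm (A x) = A.restrict hR (R.projectionOnto U hc.symm x) := by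
    intro x
    apply Subtype.ext
    exact projection_comm hc.symm A hR hU x
  have horth₁' : ∀ r ∈ R, ∀ u ∈ U, ω₁ r u = 0 := by
    intro r hr u hu
    rw [← hA₁.neg_eq, horth₁ u hu r hr, neg_zero]
  have horth₂' : ∀ r ∈ R, ∀ u ∈ U, ω₂ r u = 0 := by
    intro r hr u hu
    rw [← hA₂.neg_eq, horth₂ u hu r hr, neg_zero]
  refine ⟨b, ?_, ?_⟩
  · intro v
    rw [hb, hb, hπU, hπR, hbU, hbR, map_add]
    rfl
  · intro x y
    rw [hb, hb]
    have hx := Submodule.projection_add_projection_eq_self hc x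
    have hy := Submodule.projection_add_projection_eq_self hc y
    conv_rhs => rw [← hx, ← hy]
    simp only [map_add, LinearMap.add_apply]
    rw [horth₁ _ (bU _).2 _ (bR _).2, horth₁' _ (bR _).2 _ (bU _).2,
      horth₂ _ (Submodule.projection_apply_mem hc x) _ (Submodule.projection_apply_mem hc.symm y),
      horth₂' _ (Submodule.projection_apply_mem hc.symm x) _ (Submodule.projection_apply_mem hc y),
      hbU', hbR']
    rfl

end Restrict

section Primary

variable {F : Type*} [Field F] {V : Type*} [AddCommGroup V] [Module F V]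

theorem FormInv.inv {ω : LinearMap.BilinForm F V} {A B : V →ₗ[F] V} (h : FormInv ω A)
    (hAB : ∀ v, A (B v) = v) : FormInv ω B := by
  intro u v
  rw [← h (B u) (B v), hAB, hAB]

theorem aeval_mul_apply (A : V →ₗ[F] V) (p q : F[X]) (v : V) :
    aeval A (p * q) v = aeval A p (aeval A q v) := by
  rw [map_mul, Module.End.mul_apply]

/-- the primary case -/
theorem exists_isometry_primary [Finite F] [FiniteDimensional F V] (A B : V →ₗ[F] V)
    (hAB : ∀ v, A (B v) = v) (hBA : ∀ v, B (A v) = v) (s : F[X]) (hs : Squarefree s)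
    (hsA : aeval A s = 0) (f g : F[X]) (hf : Irreducible f) (hgA : aeval A g = aeval B f)
    (hgB : aeval B g = aeval A f) (hfg : aeval A (f * g) = 0)
    (ω₁ ω₂ : LinearMap.BilinForm F V)
    (hA₁ : ω₁.IsAlt) (hN₁ : ω₁.Nondegenerate) (hI₁ : FormInv ω₁ A)
    (hA₂ : ω₂.IsAlt) (hN₂ : ω₂.Nondegenerate) (hI₂ : FormInv ω₂ A) :
    ∃ b : V →ₗ[F] V, (∀ v, b (A v) = A (b v)) ∧ ∀ x y, ω₁ (b x) (b y) = ω₂ x y := by
  by_cases hdvd : f ∣ g
  · obtain ⟨r, hr⟩ := hdvd
    -- auxiliary Bezout data
    have hbez : ∃ x y s' : F[X], x * f + y * s' = 1 ∧ aeval A (s' * f) = 0 := by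
      by_cases hfs : f ∣ s
      · obtain ⟨s', hs'⟩ := hfs
        rw [hs'] at hs
        have hrel : IsRelPrime f s' := (squarefree_mul_iff.mp hs).1
        obtain ⟨x, y, hxy⟩ := hrel.isCoprime
        refine ⟨x, y, s', hxy, ?_⟩
        rw [mul_comm, ← hs', hsA]
      · obtain ⟨x, y, hxy⟩ := (hf.coprime_iff_not_dvd).mpr hfs
        refine ⟨x, y, s, hxy, ?_⟩
        rw [map_mul, hsA, zero_mul]
    obtain ⟨x, y, s', hxy, hs'f⟩ := hbez
    have hfA : aeval A f = 0 := by
      apply LinearMap.ext
      intro v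
      rw [LinearMap.zero_apply]
      set w := aeval A f v with hw
      have h1 : aeval B f w = 0 := by
        rw [← hgA, hw, ← aeval_mul_apply, mul_comm, hfg, LinearMap.zero_apply]
      have h2 : aeval A f w = 0 := by
        rw [← hgB, hr, mul_comm, aeval_mul_apply, h1, map_zero]
      have h3 : aeval A (f * f) v = 0 := by
        rw [aeval_mul_apply, ← hw, h2]
      have h4 : w = aeval A (x * f + y * s') w := by
        rw [hxy, map_one, Module.End.one_apply]
      rw [h4, map_add, LinearMap.add_apply, hw, ← aeval_mul_apply, ← aeval_mul_apply, mul_assoc,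
        aeval_mul_apply, h3, map_zero, mul_assoc, aeval_mul_apply, hs'f, LinearMap.zero_apply,
        map_zero, add_zero]
    have hfB : aeval B f = 0 := by
      rw [← hgA, hr, map_mul, hfA, zero_mul]
    exact exists_isometry_isotypic A B hAB hBA f hf hfA hfB ω₁ ω₂ hA₁ hN₁ hI₁ hA₂ hN₂ hI₂
  · have hcop : IsCoprime f g := (hf.coprime_iff_not_dvd).mpr hdvd
    have hc : IsCompl (LinearMap.ker (aeval A f)) (LinearMap.ker (aeval A g)) := by
      refine ⟨disjoint_ker_aeval_of_isCoprime A hcop, ?_⟩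
      rw [codisjoint_iff, sup_ker_aeval_eq_ker_aeval_mul_of_coprime A hcop, hfg, LinearMap.ker_zero]
    obtain ⟨x, y, hxy⟩ := hcop
    have hti : ∀ ω : LinearMap.BilinForm F V, FormInv ω A →
        (∀ u ∈ LinearMap.ker (aeval A f), ∀ v ∈ LinearMap.ker (aeval A f), ω u v = 0) ∧
        (∀ u ∈ LinearMap.ker (aeval A g), ∀ v ∈ LinearMap.ker (aeval A g), ω u v = 0) := by
      intro ω hI
      constructor
      · intro u hu v hv
        rw [LinearMap.mem_ker] at hu hv
        have h4 : v = aeval A (x * f + y * g) v := by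
          rw [hxy, map_one, Module.End.one_apply]
        rw [map_add, LinearMap.add_apply, aeval_mul_apply, hv, map_zero, zero_add, mul_comm,
          aeval_mul_apply, hgA] at h4
        rw [h4, ← hI.adj_aeval hAB, hu, map_zero, LinearMap.zero_apply]
      · intro u hu v hv
        rw [LinearMap.mem_ker] at hu hv
        have h4 : v = aeval A (x * f + y * g) v := by
          rw [hxy, map_one, Module.End.one_apply]
        rw [map_add, LinearMap.add_apply, aeval_mul_apply A y, hv, map_zero, add_zero, mul_comm,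
          aeval_mul_apply] at h4
        rw [h4, ← (hI.inv hAB).adj_aeval hBA, ← hgA, hu, map_zero, LinearMap.zero_apply]
    exact exists_isometry_pair A B hAB _ _ hc (ker_aeval_invariant A f) (ker_aeval_invariant A g)
      ω₁ ω₂ hA₁ hN₁ hI₁ hA₂ hI₂ (hti ω₁ hI₁).1 (hti ω₁ hI₁).2 (hti ω₂ hI₂).1 (hti ω₂ hI₂).2

end Primary

section Main

universe u v

variable {F : Type v} [Field F] [Finite F]

theorem pow_pred_pow_pred {M : Type*} [Monoid M] (a : M) (k : ℕ) (hk0 : k ≠ 0) (hak : a ^ k = 1) :
    (a ^ (k - 1)) ^ (k - 1) = a := by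
  obtain ⟨j, rfl⟩ : ∃ j, k = j + 1 := ⟨k - 1, by omega⟩
  rw [Nat.add_sub_cancel, ← pow_mul]
  rcases Nat.eq_zero_or_pos j with h0 | hpos
  · subst h0
    rw [pow_one] at hak
    rw [hak, one_pow]
  · obtain ⟨i, rfl⟩ : ∃ i, j = i + 1 := ⟨j - 1, by omega⟩
    have : (i + 1) * (i + 1) = (i + 1 + 1) * i + 1 := by ring
    rw [this, pow_succ, pow_mul, hak, one_pow, one_mul]

theorem exists_isometry_semisimple_aux (k : ℕ) (hk : (k : F) ≠ 0) :
    ∀ (n : ℕ) (V : Type u) [AddCommGroup V] [Module F V] [FiniteDimensional F V],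
      finrank F V = n → ∀ (A : V →ₗ[F] V), A ^ k = 1 →
      ∀ (ω₁ ω₂ : LinearMap.BilinForm F V), ω₁.IsAlt → ω₁.Nondegenerate → FormInv ω₁ A →
        ω₂.IsAlt → ω₂.Nondegenerate → FormInv ω₂ A →
        ∃ b : V →ₗ[F] V, (∀ v, b (A v) = A (b v)) ∧ ∀ x y, ω₁ (b x) (b y) = ω₂ x y := by
  intro n
  induction n using Nat.strong_induction_on with
  | _ n ih =>
    intro V _ _ _ hn A hAk ω₁ ω₂ hA₁ hN₁ hI₁ hA₂ hN₂ hI₂
    by_cases hsub : Subsingleton V
    · refine ⟨0, fun v => Subsingleton.elim _ _, fun x y => ?_⟩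
      rw [Subsingleton.elim x 0]
      simp
    rw [not_subsingleton_iff_nontrivial] at hsub
    have hk0 : k ≠ 0 := by
      rintro rfl
      simp at hk
    set B : V →ₗ[F] V := A ^ (k - 1) with hB
    have hAB' : A * B = 1 := by
      rw [hB, ← pow_succ', Nat.sub_add_cancel (Nat.pos_of_ne_zero hk0), hAk]
    have hBA' : B * A = 1 := by
      rw [hB, ← pow_succ, Nat.sub_add_cancel (Nat.pos_of_ne_zero hk0), hAk]
    have hAB : ∀ v, A (B v) = v := fun v => congrArg (fun φ : Module.End F V => φ v) hAB'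
    have hBA : ∀ v, B (A v) = v := fun v => congrArg (fun φ : Module.End F V => φ v) hBA'
    have hBpow : B ^ (k - 1) = A := pow_pred_pow_pred A k hk0 hAk
    set s : F[X] := X ^ k - C 1 with hs_def
    have hs : Squarefree s := (separable_X_pow_sub_C (1 : F) hk one_ne_zero).squarefree
    have hsA : aeval A s = 0 := by
      rw [hs_def, map_sub, map_pow, aeval_X, aeval_C, hAk, map_one, sub_self]
    -- an irreducible factor of the minimal polynomial
    have hint : IsIntegral F A := LinearMap.isIntegral A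
    have hμ0 : minpoly F A ≠ 0 := minpoly.ne_zero hint
    have hμu : ¬ IsUnit (minpoly F A) := minpoly.not_isUnit F A
    obtain ⟨f, hf, hfμ⟩ := WfDvdMonoid.exists_irreducible_factor hμu hμ0
    have hker : LinearMap.ker (aeval A f) ≠ ⊥ := by
      intro hbot
      obtain ⟨μ', hμ'⟩ := hfμ
      have h1 : aeval A μ' = 0 := by
        apply LinearMap.ext
        intro v
        have h2 : aeval A f (aeval A μ' v) = 0 := by
          rw [← aeval_mul_apply, ← hμ', minpoly.aeval]
          rfl
        have h3 := LinearMap.mem_ker.mpr h2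
        rw [hbot] at h3
        exact (Submodule.mem_bot F).mp h3
      have h2 := minpoly.dvd F A h1
      have hμ'0 : μ' ≠ 0 := by
        rintro rfl
        rw [mul_zero] at hμ'
        exact hμ0 hμ'
      have h3 := Polynomial.natDegree_le_of_dvd h2 hμ'0
      rw [hμ', natDegree_mul hf.ne_zero hμ'0] at h3
      have h4 := hf.natDegree_pos
      omega
    set g : F[X] := f.comp (X ^ (k - 1)) with hg
    have hgA : aeval A g = aeval B f := by
      rw [hg, aeval_comp, map_pow, aeval_X]
    have hgB : aeval B g = aeval A f := by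
      rw [hg, aeval_comp, map_pow, aeval_X, hBpow]
    by_cases hT : aeval A (f * g) = 0
    · exact exists_isometry_primary A B hAB hBA s hs hsA f g hf hgA hgB hT ω₁ ω₂ hA₁ hN₁ hI₁
        hA₂ hN₂ hI₂
    · set T : V →ₗ[F] V := aeval A (f * g) with hTdef
      have hc : IsCompl (LinearMap.ker T) (LinearMap.range T) :=
        isCompl_ker_range_aeval A s hs hsA (f * g)
      have hU : ∀ v ∈ LinearMap.ker T, A v ∈ LinearMap.ker T := ker_aeval_invariant A (f * g)
      have hTA : ∀ w, A (T w) = T (A w) := by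
        intro w
        exact (aeval_intertwine A A A (fun _ => rfl) (f * g) w)
      have hR : ∀ v ∈ LinearMap.range T, A v ∈ LinearMap.range T := by
        rintro _ ⟨w, rfl⟩
        exact ⟨A w, (hTA w).symm⟩
      have horth : ∀ ω : LinearMap.BilinForm F V, FormInv ω A →
          ∀ u ∈ LinearMap.ker T, ∀ r ∈ LinearMap.range T, ω u r = 0 := by
        intro ω hI u hu r hr
        obtain ⟨w, rfl⟩ := hr
        rw [LinearMap.mem_ker] at hu
        rw [hTdef, aeval_mul_apply, hgA, ← (hI.inv hAB).adj_aeval hBA, ← hI.adj_aeval hAB, ← hgA,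
          ← aeval_mul_apply, ← hTdef, hu, map_zero, LinearMap.zero_apply]
      have horth' : ∀ ω : LinearMap.BilinForm F V, ω.IsAlt → FormInv ω A →
          ∀ r ∈ LinearMap.range T, ∀ u ∈ LinearMap.ker T, ω r u = 0 := by
        intro ω hA hI r hr u hu
        rw [← hA.neg_eq, horth ω hI u hu r hr, neg_zero]
      have hUlt : finrank F (LinearMap.ker T) < n := by
        rw [← hn]
        apply Submodule.finrank_lt
        intro htop
        exact hT (LinearMap.ker_eq_top.mp htop)
      have hRlt : finrank F (LinearMap.range T) < n := by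
        rw [← hn]
        apply Submodule.finrank_lt
        intro htop
        apply hker
        have hbot : LinearMap.ker T = ⊥ := by
          have := hc.disjoint
          rw [htop, disjoint_top] at this
          exact this
        rw [eq_bot_iff, ← hbot]
        intro v hv
        rw [LinearMap.mem_ker] at hv ⊢
        rw [hTdef, mul_comm, aeval_mul_apply, hv, map_zero]
      have hinvU : ∀ ω : LinearMap.BilinForm F V, FormInv ω A →
          FormInv (ω.restrict (LinearMap.ker T)) (A.restrict hU) := by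
        intro ω hI u v
        exact hI u v
      have hinvR : ∀ ω : LinearMap.BilinForm F V, FormInv ω A →
          FormInv (ω.restrict (LinearMap.range T)) (A.restrict hR) := by
        intro ω hI u v
        exact hI u v
      obtain ⟨bU, hbU, hbU'⟩ := ih _ hUlt (LinearMap.ker T) rfl (A.restrict hU)
        (restrict_pow_eq_one A k hAk _ hU) (ω₁.restrict _) (ω₂.restrict _)
        (fun x => hA₁ x) (restrict_nondegenerate ω₁ hN₁ _ _ hc (horth ω₁ hI₁)) (hinvU ω₁ hI₁)
        (fun x => hA₂ x) (restrict_nondegenerate ω₂ hN₂ _ _ hc (horth ω₂ hI₂)) (hinvU ω₂ hI₂)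
      obtain ⟨bR, hbR, hbR'⟩ := ih _ hRlt (LinearMap.range T) rfl (A.restrict hR)
        (restrict_pow_eq_one A k hAk _ hR) (ω₁.restrict _) (ω₂.restrict _)
        (fun x => hA₁ x) (restrict_nondegenerate ω₁ hN₁ _ _ hc.symm (horth' ω₁ hA₁ hI₁))
        (hinvR ω₁ hI₁)
        (fun x => hA₂ x) (restrict_nondegenerate ω₂ hN₂ _ _ hc.symm (horth' ω₂ hA₂ hI₂))
        (hinvR ω₂ hI₂)
      exact exists_isometry_glue A _ _ hc hU hR ω₁ ω₂ hA₁ hA₂ (horth ω₁ hI₁) (horth ω₂ hI₂)
        bU hbU hbU' bR hbR hbR'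

/-- **Semisimple isometries**: for an operator `A` of order prime to the characteristic on a
finite-dimensional space over a finite field, any two nondegenerate alternating `A`-invariant
forms are equivalent under an operator commuting with `A`. -/
theorem exists_isometry_semisimple {V : Type u} [AddCommGroup V] [Module F V]
    [FiniteDimensional F V] (k : ℕ) (hk : (k : F) ≠ 0) (A : V →ₗ[F] V) (hAk : A ^ k = 1)
    (ω₁ ω₂ : LinearMap.BilinForm F V) (hA₁ : ω₁.IsAlt) (hN₁ : ω₁.Nondegenerate)
    (hI₁ : FormInv ω₁ A) (hA₂ : ω₂.IsAlt) (hN₂ : ω₂.Nondegenerate) (hI₂ : FormInv ω₂ A) :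
    ∃ b : V →ₗ[F] V, (∀ v, b (A v) = A (b v)) ∧ ∀ x y, ω₁ (b x) (b y) = ω₂ x y :=
  exists_isometry_semisimple_aux k hk _ V rfl A hAk ω₁ ω₂ hA₁ hN₁ hI₁ hA₂ hN₂ hI₂

end Main

end Cfsg.Agent.Lib.Helper49
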