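import Mathlib
import Cfsg.Agent.Lib.Helper49.SpSemiMain
import Cfsg.Agent.Lib.Helper49.PresAlt

set_option autoImplicit false

namespace Cfsg.Agent.Lib.Helper49

open Matrix Module

section SpConj

variable {F : Type*} [Field F] [Finite F] {m : ℕ}

local notation "II" => (Fin m ⊕ Fin m)

theorem J_alt (x : II → F) : x ⬝ᵥ (Matrix.J (Fin m) F) *ᵥ x = 0 := by
  have hJ : Matrix.J (Fin m) F =
      Matrix.fromBlocks 0 (-1 : Matrix (Fin m) (Fin m) F) (-(-1 : Matrix (Fin m) (Fin m) F)ᵀ) 0 := by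
    unfold Matrix.J
    rw [Matrix.transpose_neg, Matrix.transpose_one, neg_neg]
  rw [hJ]
  exact hypMat_alt _ x

theorem J_det_ne_zero : (Matrix.J (Fin m) F).det ≠ 0 := by
  have hJ : Matrix.J (Fin m) F =
      Matrix.fromBlocks 0 (-1 : Matrix (Fin m) (Fin m) F) (-(-1 : Matrix (Fin m) (Fin m) F)ᵀ) 0 := by
    unfold Matrix.J
    rw [Matrix.transpose_neg, Matrix.transpose_one, neg_neg]
  rw [hJ]
  apply hypMat_det (-1) (-1) <;> simp

/-- matrices `M` with `ω(Mu, Mv) = uᵀ N v` -/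
theorem transpose_mul_mul_eq_of_forall (M N N' : Matrix II II F)
    (h : ∀ u v : II → F, (M *ᵥ u) ⬝ᵥ N *ᵥ (M *ᵥ v) = u ⬝ᵥ N' *ᵥ v) : Mᵀ * N * M = N' := by
  apply Matrix.toBilin'.injective
  apply LinearMap.ext
  intro u
  apply LinearMap.ext
  intro v
  rw [Matrix.toBilin'_apply', Matrix.toBilin'_apply', ← h u v, ← Matrix.mulVec_mulVec,
    ← Matrix.mulVec_mulVec, Matrix.dotProduct_mulVec u Mᵀ, Matrix.vecMul_transpose]

/-- the core conjugacy statement: a semisimple symplectic matrix `A` and a symplectic matrix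
`B` conjugate under an invertible matrix are conjugate in the symplectic group -/
theorem sp_conj_of_matrix_conj (A B : Matrix.symplecticGroup (Fin m) F) (k : ℕ)
    (hk : (k : F) ≠ 0) (hAk : A ^ k = 1) (x : Matrix II II F) (hx : IsUnit x.det)
    (hxAB : x * (A : Matrix II II F) = (B : Matrix II II F) * x) : IsConj A B := by
  classical
  set J := Matrix.J (Fin m) F with hJ
  set Am : Matrix II II F := (A : Matrix II II F) with hAm
  set Bm : Matrix II II F := (B : Matrix II II F) with hBm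
  have hAsp : Amᵀ * J * Am = J := SymplecticGroup.mem_iff'.mp A.2
  have hBsp : Bmᵀ * J * Bm = J := SymplecticGroup.mem_iff'.mp B.2
  let ω₁ : LinearMap.BilinForm F (II → F) := Matrix.toBilin' J
  let ω₂ : LinearMap.BilinForm F (II → F) := Matrix.toBilin' (xᵀ * J * x)
  have hω₁ : ∀ u v, ω₁ u v = u ⬝ᵥ J *ᵥ v := fun u v => Matrix.toBilin'_apply' J u v
  have hω₂ : ∀ u v, ω₂ u v = u ⬝ᵥ (xᵀ * J * x) *ᵥ v := fun u v => Matrix.toBilin'_apply' _ u v
  have hω₂' : ∀ u v, ω₂ u v = ω₁ (x *ᵥ u) (x *ᵥ v) := by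
    intro u v
    rw [hω₂, hω₁, ← Matrix.mulVec_mulVec, ← Matrix.mulVec_mulVec, Matrix.dotProduct_mulVec u xᵀ,
      Matrix.vecMul_transpose]
  have hA₁ : ω₁.IsAlt := by
    intro u
    rw [hω₁]
    exact J_alt u
  have hA₂ : ω₂.IsAlt := by
    intro u
    rw [hω₂']
    exact hA₁ _
  have hN₁ : ω₁.Nondegenerate :=
    LinearMap.BilinForm.nondegenerate_toBilin'_of_det_ne_zero' J J_det_ne_zero
  have hN₂ : ω₂.Nondegenerate := by
    apply LinearMap.BilinForm.nondegenerate_toBilin'_of_det_ne_zero'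
    rw [Matrix.det_mul, Matrix.det_mul, Matrix.det_transpose]
    exact mul_ne_zero (mul_ne_zero hx.ne_zero J_det_ne_zero) hx.ne_zero
  have hinvJ : ∀ (M : Matrix II II F), Mᵀ * J * M = J → ∀ u v, ω₁ (M *ᵥ u) (M *ᵥ v) = ω₁ u v := by
    intro M hM u v
    rw [hω₁, hω₁]
    conv_rhs => rw [← hM]
    rw [← Matrix.mulVec_mulVec, ← Matrix.mulVec_mulVec, Matrix.dotProduct_mulVec u Mᵀ,
      Matrix.vecMul_transpose]
  have hI₁ : FormInv ω₁ (Matrix.toLin' Am) := by
    intro u v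
    rw [Matrix.toLin'_apply, Matrix.toLin'_apply]
    exact hinvJ Am hAsp u v
  have hI₂ : FormInv ω₂ (Matrix.toLin' Am) := by
    intro u v
    rw [Matrix.toLin'_apply, Matrix.toLin'_apply, hω₂', hω₂', Matrix.mulVec_mulVec,
      Matrix.mulVec_mulVec, hxAB, ← Matrix.mulVec_mulVec, ← Matrix.mulVec_mulVec]
    exact hinvJ Bm hBsp _ _
  have hAk' : (Matrix.toLin' Am) ^ k = 1 := by
    rw [← Matrix.toLin'_pow]
    have : Am ^ k = 1 := by
      have := congrArg (fun g : Matrix.symplecticGroup (Fin m) F => (g : Matrix II II F)) hAk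
      simp only [SubmonoidClass.coe_pow, OneMemClass.coe_one] at this
      exact this
    rw [this, Matrix.toLin'_one]
    rfl
  obtain ⟨b, hbA, hbω⟩ := exists_isometry_semisimple k hk (Matrix.toLin' Am) hAk' ω₁ ω₂
    hA₁ hN₁ hI₁ hA₂ hN₂ hI₂
  set b' : Matrix II II F := LinearMap.toMatrix' b with hb'
  have hbmul : ∀ u, b u = b' *ᵥ u := by
    intro u
    rw [hb', ← Matrix.toLin'_apply, Matrix.toLin'_toMatrix']
  have hcomm : b' * Am = Am * b' := by
    apply Matrix.toLin'.injective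
    apply LinearMap.ext
    intro u
    rw [Matrix.toLin'_apply, Matrix.toLin'_apply, ← Matrix.mulVec_mulVec, ← Matrix.mulVec_mulVec,
      ← hbmul, ← hbmul, ← Matrix.toLin'_apply, hbA, Matrix.toLin'_apply]
  have hform : b'ᵀ * J * b' = xᵀ * J * x := by
    apply transpose_mul_mul_eq_of_forall
    intro u v
    rw [← hbmul, ← hbmul, ← hω₁, ← hω₂]
    exact hbω u v
  have hdetb : IsUnit b'.det := by
    rw [isUnit_iff_ne_zero]
    intro h0
    have := congrArg Matrix.det hform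
    rw [Matrix.det_mul, Matrix.det_mul, Matrix.det_mul, Matrix.det_mul, Matrix.det_transpose,
      Matrix.det_transpose, h0, zero_mul, zero_mul] at this
    exact (mul_ne_zero (mul_ne_zero hx.ne_zero J_det_ne_zero) hx.ne_zero) this.symm
  have hbi1 : b'⁻¹ * b' = 1 := Matrix.nonsing_inv_mul _ hdetb
  have hbi2 : b' * b'⁻¹ = 1 := Matrix.mul_nonsing_inv _ hdetb
  have hcomm' : b'⁻¹ * Am = Am * b'⁻¹ := by
    calc b'⁻¹ * Am = b'⁻¹ * (Am * b') * b'⁻¹ := by
          rw [mul_assoc, mul_assoc, hbi2, mul_one]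
      _ = Am * b'⁻¹ := by
          rw [← hcomm, ← mul_assoc, hbi1, one_mul]
  set Y : Matrix II II F := x * b'⁻¹ with hY
  have hYsp : Yᵀ * J * Y = J := by
    rw [hY, Matrix.transpose_mul]
    calc (b'⁻¹)ᵀ * xᵀ * J * (x * b'⁻¹) = (b'⁻¹)ᵀ * (xᵀ * J * x) * b'⁻¹ := by
          simp only [mul_assoc]
      _ = (b'⁻¹)ᵀ * (b'ᵀ * J * b') * b'⁻¹ := by rw [hform]
      _ = ((b'⁻¹)ᵀ * b'ᵀ) * J * (b' * b'⁻¹) := by simp only [mul_assoc]
      _ = J := by
          rw [← Matrix.transpose_mul, hbi2, Matrix.transpose_one, one_mul, mul_one]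
  have hYAB : Y * Am = Bm * Y := by
    rw [hY, mul_assoc, hcomm', ← mul_assoc, hxAB, mul_assoc]
  have hYmem : Y ∈ Matrix.symplecticGroup (Fin m) F := SymplecticGroup.mem_iff'.mpr hYsp
  rw [isConj_iff]
  refine ⟨⟨Y, hYmem⟩, ?_⟩
  rw [mul_inv_eq_iff_eq_mul]
  apply Subtype.ext
  exact hYAB

end SpConj

end Cfsg.Agent.Lib.Helper49
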