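import Mathlib
import Cfsg.Prelude.Def_LieExceptional
import Cfsg.Prelude.Def_Classical

/-!
# K-StSU pack (S2546): shared definitions

A (B,N)-pair on `SU_n(q)` in its ANTIDIAGONAL model: `SUJ n F q` = matrices of determinant `1`
preserving `hJ u v = ∑ i, u i * (v (rev i))^q` (`rev i = n-1-i`).  Order of the basis: the natural
one on `Fin n`; `e_i` and `e_{rev i}` are paired, `e_i` (`i < n/2`) are isotropic.
`B` = upper triangular, `Bm` = lower triangular, `T = B ⊓ Bm`, `S` = the `n/2` simple reflections,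
`N = ⟨S⟩ T`.  Root groups are given as SETS (`RootSet`): the elements agreeing with the identity
matrix outside a prescribed set of positions.
-/

set_option autoImplicit false
set_option linter.unusedSectionVars false
set_option linter.unusedVariables false

namespace Cfsg.Agent.Lib.Helper49.StSU

open Matrix

variable (n : ℕ) (F : Type*) [Field F] (q : ℕ)

/-- the antidiagonal hermitian form `∑ i, u i * (v (rev i))^q` -/
def hJ (u v : Fin n → F) : F := ∑ i, u i * (v (Fin.rev i)) ^ q

/-- `SU_n(q)` for the antidiagonal form -/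
def SUJ : Subgroup (Matrix.SpecialLinearGroup (Fin n) F) :=
  Cfsg.preserving (Cfsg.slToMat n F) (hJ n F q)

/-- the group as a type -/
abbrev GJ : Type _ := ↥(SUJ n F q)

variable {n F q}

/-- the matrix of an element -/
def mat (g : GJ n F q) : Matrix (Fin n) (Fin n) F :=
  ((g : Matrix.SpecialLinearGroup (Fin n) F) : Matrix (Fin n) (Fin n) F)

theorem mat_injective : Function.Injective (mat : GJ n F q → Matrix (Fin n) (Fin n) F) := by
  intro g h e
  exact Subtype.ext (Subtype.ext e)

@[simp] theorem mat_one : mat (1 : GJ n F q) = 1 := rfl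

@[simp] theorem mat_mul (g h : GJ n F q) : mat (g * h) = mat g * mat h := rfl

theorem det_mat (g : GJ n F q) : (mat g).det = 1 := g.1.2

theorem mat_inv_mul (g : GJ n F q) : mat g⁻¹ * mat g = 1 := by
  rw [← mat_mul, inv_mul_cancel, mat_one]

theorem mat_mul_inv (g : GJ n F q) : mat g * mat g⁻¹ = 1 := by
  rw [← mat_mul, mul_inv_cancel, mat_one]

theorem mat_inv (g : GJ n F q) : mat g⁻¹ = (mat g)⁻¹ :=
  (Matrix.inv_eq_left_inv (mat_inv_mul g)).symm

theorem hJ_mat (g : GJ n F q) (u v : Fin n → F) :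
    hJ n F q (mat g *ᵥ u) (mat g *ᵥ v) = hJ n F q u v := g.2 u v

theorem mem_SUJ_iff (A : Matrix.SpecialLinearGroup (Fin n) F) :
    A ∈ SUJ n F q ↔ ∀ u v, hJ n F q ((A : Matrix (Fin n) (Fin n) F) *ᵥ u)
      ((A : Matrix (Fin n) (Fin n) F) *ᵥ v) = hJ n F q u v := Iff.rfl

theorem blockTriangular_inv {α : Type*} [LinearOrder α] (b : Fin n → α) (g : GJ n F q)
    (h : (mat g).BlockTriangular b) : (mat g⁻¹).BlockTriangular b := by
  rw [mat_inv]
  have : Invertible (mat g) :=
    Matrix.invertibleOfIsUnitDet _ (by rw [det_mat]; exact isUnit_one)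
  exact Matrix.blockTriangular_inv_of_blockTriangular h

variable (n F q)

/-- the subgroup of elements whose matrix is block triangular for `b` -/
def triSub {α : Type*} [LinearOrder α] (b : Fin n → α) : Subgroup (GJ n F q) where
  carrier := {g | (mat g).BlockTriangular b}
  mul_mem' := fun {g h} hg hh => Matrix.BlockTriangular.mul hg hh
  one_mem' := Matrix.blockTriangular_one
  inv_mem' := fun {g} hg => blockTriangular_inv b g hg

/-- `B`: upper triangular -/
def Bsub : Subgroup (GJ n F q) := triSub n F q (fun a : Fin n => a)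

/-- `B⁻`: lower triangular -/
def Bminus : Subgroup (GJ n F q) := triSub n F q (fun a : Fin n => OrderDual.toDual a)

/-- `T = B ⊓ B⁻`: diagonal -/
def Tsub : Subgroup (GJ n F q) := Bsub n F q ⊓ Bminus n F q

variable {n F q}

theorem mem_Bsub_iff (g : GJ n F q) : g ∈ Bsub n F q ↔ ∀ a b : Fin n, b < a → mat g a b = 0 :=
  ⟨fun h a b hab => h hab, fun h a b hab => h a b hab⟩

theorem mem_Bminus_iff (g : GJ n F q) : g ∈ Bminus n F q ↔ ∀ a b : Fin n, a < b → mat g a b = 0 :=
  ⟨fun h a b hab => h (show OrderDual.toDual b < OrderDual.toDual a from hab),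
    fun h a b hab => h a b hab⟩

theorem mem_Tsub_iff (g : GJ n F q) : g ∈ Tsub n F q ↔ ∀ a b : Fin n, a ≠ b → mat g a b = 0 := by
  constructor
  · rintro ⟨h1, h2⟩ a b hab
    rcases lt_or_gt_of_ne hab with h | h
    · exact (mem_Bminus_iff g).1 h2 a b h
    · exact (mem_Bsub_iff g).1 h1 a b h
  · intro h
    exact ⟨(mem_Bsub_iff g).2 fun a b hab => h a b (ne_of_gt hab),
      (mem_Bminus_iff g).2 fun a b hab => h a b (ne_of_lt hab)⟩

variable (n F q)

/-- the element of the group with matrix `M` (and `1` if there is none) -/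
noncomputable def mk (M : Matrix (Fin n) (Fin n) F) : GJ n F q := by
  classical
  exact if h : ∃ g : GJ n F q, mat g = M then Classical.choose h else 1

variable {n F q}

theorem mat_mk_of_exists (M : Matrix (Fin n) (Fin n) F) (h : ∃ g : GJ n F q, mat g = M) :
    mat (mk n F q M) = M := by
  classical
  unfold mk
  rw [dif_pos h]
  exact Classical.choose_spec h

theorem mat_mk (M : Matrix (Fin n) (Fin n) F) (hdet : M.det = 1)
    (hM : ∀ u v, hJ n F q (M *ᵥ u) (M *ᵥ v) = hJ n F q u v) : mat (mk n F q M) = M :=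
  mat_mk_of_exists M ⟨⟨⟨M, hdet⟩, hM⟩, rfl⟩

variable (n F q)

/-! ### the simple reflections (as matrices; `k = n / 2`) -/

/-- the permutation of `ℕ` exchanging `i ↔ i+1` and `n-1-i ↔ n-2-i` -/
def tau (i : ℕ) (v : ℕ) : ℕ :=
  if v = i then i + 1 else if v = i + 1 then i else
    if v = n - 1 - i then n - 2 - i else if v = n - 2 - i then n - 1 - i else v

/-- short reflection `e_i ↔ e_{i+1}`, `e_{rev i} ↔ e_{rev (i+1)}` (used for `i + 1 < n / 2`) -/
def sShortMat (i : ℕ) : Matrix (Fin n) (Fin n) F :=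
  fun x y => if x.val = tau n i y.val then 1 else 0

/-- last reflection for `n = 2k`: `e_k ↦ a e_{k-1}`, `e_{k-1} ↦ -a⁻¹ e_k` (`a^q = -a`, `a ≠ 0`) -/
def sEvenMat (a : F) : Matrix (Fin n) (Fin n) F :=
  fun x y =>
    if x.val = n / 2 - 1 ∧ y.val = n / 2 then a
    else if x.val = n / 2 ∧ y.val = n / 2 - 1 then -a⁻¹
    else if x = y ∧ x.val ≠ n / 2 - 1 ∧ x.val ≠ n / 2 then 1 else 0

/-- last reflection for `n = 2k+1`: `e_{k-1} ↔ e_{k+1}`, `e_k ↦ -e_k` -/
def sOddMat : Matrix (Fin n) (Fin n) F :=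
  fun x y =>
    if (x.val = n / 2 - 1 ∧ y.val = n / 2 + 1) ∨ (x.val = n / 2 + 1 ∧ y.val = n / 2 - 1) then 1
    else if x.val = n / 2 ∧ y.val = n / 2 then -1
    else if x = y ∧ x.val ≠ n / 2 - 1 ∧ x.val ≠ n / 2 ∧ x.val ≠ n / 2 + 1 then 1 else 0

/-- a nonzero element with `a^q = -a` (exists when `|F| = q^2`; `1` otherwise) -/
noncomputable def aPar : F := by
  classical
  exact if h : ∃ a : F, a ≠ 0 ∧ a ^ q = -a then Classical.choose h else 1

/-- the matrix of the last reflection -/
noncomputable def sLastMat : Matrix (Fin n) (Fin n) F :=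
  if n % 2 = 0 then sEvenMat n F (aPar F q) else sOddMat n F

/-- the short reflections -/
noncomputable def sShort (i : ℕ) : GJ n F q := mk n F q (sShortMat n F i)

/-- the last reflection -/
noncomputable def sLast : GJ n F q := mk n F q (sLastMat n F q)

/-- the simple reflections: `sShort i` for `i + 1 < n / 2`, and `sLast` (for `2 ≤ n`) -/
def Sset : Set (GJ n F q) :=
  {s | (∃ i : ℕ, i + 1 < n / 2 ∧ s = sShort n F q i) ∨ (2 ≤ n ∧ s = sLast n F q)}

/-- `N = ⟨S⟩ T` -/
def Nsub : Subgroup (GJ n F q) := Subgroup.closure (Sset n F q) ⊔ Tsub n F q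

/-! ### root sets -/

/-- the elements agreeing with the identity matrix outside the positions allowed by `A` -/
def RootSet (A : Fin n → Fin n → Prop) : Set (GJ n F q) :=
  {g | ∀ x y, ¬ A x y → mat g x y = (1 : Matrix (Fin n) (Fin n) F) x y}

/-- positive short root group: positions `(i, i+1)` and `(n-2-i, n-1-i)` -/
def XS (i : ℕ) : Set (GJ n F q) :=
  RootSet n F q (fun x y => (x.val = i ∧ y.val = i + 1) ∨ (x.val = n - 2 - i ∧ y.val = n - 1 - i))

/-- negative short root group: positions `(i+1, i)` and `(n-1-i, n-2-i)` -/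
def YS (i : ℕ) : Set (GJ n F q) :=
  RootSet n F q (fun x y => (x.val = i + 1 ∧ y.val = i) ∨ (x.val = n - 1 - i ∧ y.val = n - 2 - i))

/-- positive last root group: positions `(x, y)` with `n/2 - 1 ≤ x < y ≤ n - n/2` -/
def XL : Set (GJ n F q) :=
  RootSet n F q (fun x y => n / 2 - 1 ≤ x.val ∧ x.val < y.val ∧ y.val ≤ n - n / 2)

/-- negative last root group: positions `(x, y)` with `n/2 - 1 ≤ y < x ≤ n - n/2` -/
def YL : Set (GJ n F q) :=
  RootSet n F q (fun x y => n / 2 - 1 ≤ y.val ∧ y.val < x.val ∧ x.val ≤ n - n / 2)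

/-- `g` is monomial with permutation `σ` (`g e_b ∈ F^× e_{σ b}`), and `σ` commutes with `rev` -/
def MonWith (g : GJ n F q) (σ : Equiv.Perm (Fin n)) : Prop :=
  (∀ a b, mat g a b ≠ 0 ↔ a = σ b) ∧ ∀ a, σ (Fin.rev a) = Fin.rev (σ a)

/-- the first `j` columns are upper triangular: `g` stabilises `⟨e_0⟩ ⊂ ⟨e_0,e_1⟩ ⊂ … ` up to
step `j` -/
def FlagStab (j : ℕ) : Set (GJ n F q) :=
  {g | ∀ a b : Fin n, a.val < j → a < b → mat g b a = 0}

/-- the finite-field facts used by the leaves (proved by LEAF E from `|F| = q^2`) -/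
structure Ok : Prop where
  /-- `x ↦ x^q` is additive -/
  frob_add : ∀ x y : F, (x + y) ^ q = x ^ q + y ^ q
  /-- `x ↦ x^q` is an involution -/
  frob_frob : ∀ x : F, (x ^ q) ^ q = x
  /-- the trace `u ↦ u + u^q` is onto the fixed field -/
  tr_surj : ∀ c : F, c ^ q = c → ∃ u : F, u + u ^ q = c
  a_ne : aPar F q ≠ 0
  a_pow : aPar F q ^ q = -aPar F q
  /-- the short reflections have the expected matrices -/
  short : ∀ i : ℕ, i + 1 < n / 2 → mat (sShort n F q i) = sShortMat n F i
  /-- the last reflection has the expected matrix -/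
  last : 2 ≤ n → mat (sLast n F q) = sLastMat n F q

end Cfsg.Agent.Lib.Helper49.StSU
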