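import Mathlib
import Cfsg.Agent.Lib.Helper49.StSUDefs

/-!
# K-RSU3 pack (S2283): shared definitions

`SU_3(q)` in the ANTIDIAGONAL model `GJ 3 F q` of `Helper49.StSUDefs`
(form `hJ u v = u 0 * (v 2)^q + u 1 * (v 1)^q + u 2 * (v 0)^q`, bar = `x ↦ x^q`, `|F| = q^2`).

* `xM q a b` : upper unitriangular root element (in the group iff `Val q a b`)
* `yM q a b` : lower unitriangular root element (in the group iff `Val q a b`)
* `hM q m`   : diagonal torus element `diag(m, m^q/m, 1/m^q)`
* `nM b`     : the monomial element with `yM q 0 b = xM q 0 (1/b) * nM b * xM q 0 (1/b)`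
* `bet μ`, `bz μ` : the parameters of the generating pair
  `u = xM q 1 (bet μ)`, `v = u * hM q μ * yM q 0 (bz μ)`, where `orderOf μ = q + 1`.
-/

set_option autoImplicit false
set_option linter.unusedSectionVars false
set_option linter.unusedVariables false

namespace Cfsg.Agent.Lib.Helper49.RSU3

open Matrix

variable {F : Type*} [Field F] (q : ℕ)

/-- upper unitriangular root element -/
def xM (a b : F) : Matrix (Fin 3) (Fin 3) F := !![1, a, b; 0, 1, -(a ^ q); 0, 0, 1]

/-- lower unitriangular root element -/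
def yM (a b : F) : Matrix (Fin 3) (Fin 3) F := !![1, 0, 0; a, 1, 0; b, -(a ^ q), 1]

/-- torus element -/
def hM (m : F) : Matrix (Fin 3) (Fin 3) F := !![m, 0, 0; 0, m ^ q / m, 0; 0, 0, 1 / m ^ q]

/-- monomial element -/
def nM (b : F) : Matrix (Fin 3) (Fin 3) F := !![0, 0, -(1 / b); 0, 1, 0; b, 0, 0]

/-- the condition for `xM q a b`, `yM q a b` to be unitary -/
def Val (a b : F) : Prop := b + b ^ q + a * a ^ q = 0

/-- parameter of `u` -/
noncomputable def bet (μ : F) : F := (2 * μ + 1) / ((μ - 1) * (μ + 1) ^ 3)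

/-- parameter of `z` -/
noncomputable def bz (μ : F) : F := -((μ - μ⁻¹) ^ 3)

end Cfsg.Agent.Lib.Helper49.RSU3
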