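import Mathlib
import Cfsg.Agent.Lib.Helper49.SemisimpleConj

set_option autoImplicit false

namespace Cfsg.Agent.Lib.Helper49

open Polynomial

section kdim

variable {F : Type*} [Field F] {V : Type*} [AddCommGroup V] [Module F V]
variable {W : Type*} [AddCommGroup W] [Module F W]

/-- dimension of the kernel of `P(φ)` -/
noncomputable def kdim (φ : V →ₗ[F] V) (P : F[X]) : ℕ :=
  Module.finrank F (LinearMap.ker (aeval φ P))

theorem kdim_of_aeval_eq_zero (φ : V →ₗ[F] V) (P : F[X]) (h : aeval φ P = 0) :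
    kdim φ P = Module.finrank F V := by
  unfold kdim
  rw [h, LinearMap.ker_zero, finrank_top]

theorem ker_aeval_le_of_dvd (φ : V →ₗ[F] V) {P x : F[X]} (h : P ∣ x) :
    LinearMap.ker (aeval φ P) ≤ LinearMap.ker (aeval φ x) := by
  obtain ⟨c, rfl⟩ := h
  intro v hv
  rw [LinearMap.mem_ker] at hv ⊢
  rw [mul_comm, map_mul, Module.End.mul_apply, hv, map_zero]

/-- conjugation invariance of `kdim` -/
theorem kdim_conj (φ : V →ₗ[F] V) (ψ : W →ₗ[F] W) (e : V ≃ₗ[F] W) (h : ∀ v, e (φ v) = ψ (e v))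
    (P : F[X]) : kdim φ P = kdim ψ P := by
  unfold kdim
  have hcomap : LinearMap.ker (aeval φ P) =
      Submodule.comap (e : V →ₗ[F] W) (LinearMap.ker (aeval ψ P)) := by
    ext v
    rw [Submodule.mem_comap, LinearMap.mem_ker, LinearMap.mem_ker, LinearEquiv.coe_coe]
    have := aeval_intertwine φ ψ (e : V →ₗ[F] W) h P v
    rw [LinearEquiv.coe_coe] at this
    rw [← this, LinearEquiv.map_eq_zero_iff]
  rw [hcomap]
  exact (LinearEquiv.finrank_eq (e.submoduleMap
    (Submodule.comap (e : V →ₗ[F] W) (LinearMap.ker (aeval ψ P))))).trans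
    (by rw [Submodule.map_comap_eq_of_surjective e.surjective])

theorem kdim_restrict (φ : V →ₗ[F] V) {P x : F[X]} (hPx : P ∣ x) :
    kdim (φ.restrict (ker_aeval_invariant φ x)) P = kdim φ P := by
  unfold kdim
  have hle := ker_aeval_le_of_dvd φ hPx
  have hcomap : LinearMap.ker (aeval (φ.restrict (ker_aeval_invariant φ x)) P) =
      Submodule.comap (LinearMap.ker (aeval φ x)).subtype (LinearMap.ker (aeval φ P)) := by
    ext v
    rw [Submodule.mem_comap, LinearMap.mem_ker, LinearMap.mem_ker, Submodule.subtype_apply,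
      ← aeval_restrict_apply φ _ (ker_aeval_invariant φ x) P v]
    exact ⟨fun h => by rw [h]; rfl, fun h => Subtype.ext h⟩
  rw [hcomap]
  exact (Submodule.comapSubtypeEquivOfLe hle).finrank_eq

theorem finrank_eq_kdim_add_kdim [FiniteDimensional F V] (φ : V →ₗ[F] V) (x y : F[X])
    (hxy : IsCoprime x y) (h : aeval φ (x * y) = 0) :
    Module.finrank F V = kdim φ x + kdim φ y := by
  have hc : IsCompl (LinearMap.ker (aeval φ x)) (LinearMap.ker (aeval φ y)) := by
    refine ⟨disjoint_ker_aeval_of_isCoprime φ hxy, ?_⟩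
    rw [codisjoint_iff, sup_ker_aeval_eq_ker_aeval_mul_of_coprime φ hxy, h, LinearMap.ker_zero]
  exact (Submodule.finrank_add_eq_of_isCompl hc).symm

theorem kdim_mul [FiniteDimensional F V] (φ : V →ₗ[F] V) (x y : F[X]) (hxy : IsCoprime x y) :
    kdim φ (x * y) = kdim φ x + kdim φ y := by
  unfold kdim
  rw [← sup_ker_aeval_eq_ker_aeval_mul_of_coprime φ hxy]
  have := Submodule.finrank_sup_add_finrank_inf_eq (LinearMap.ker (aeval φ x)) (LinearMap.ker (aeval φ y))
  rw [(disjoint_ker_aeval_of_isCoprime φ hxy).eq_bot, finrank_bot, add_zero] at this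
  exact this

end kdim


section mainK

universe u v

variable {F : Type*} [Field F] [Finite F]

/-- the inductive predicate, kernel-dimension version -/
def ConjPropK (s : F[X]) : Prop :=
  Squarefree s → ∀ (V : Type u) (W : Type v) [AddCommGroup V] [Module F V] [AddCommGroup W] [Module F W]
    [FiniteDimensional F V] [FiniteDimensional F W] (φ : V →ₗ[F] V) (ψ : W →ₗ[F] W),
    aeval φ s = 0 → aeval ψ s = 0 → (∀ P : F[X], Irreducible P → P ∣ s → kdim φ P = kdim ψ P) →
    ∃ e : V ≃ₗ[F] W, ∀ v, e (φ v) = ψ (e v)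

theorem conjPropK_unit (s : F[X]) (hs : IsUnit s) : ConjPropK.{u, v} s := by
  intro _ V W _ _ _ _ _ _ φ ψ hφ hψ _
  haveI := subsingleton_of_aeval_unit φ s hs hφ
  haveI := subsingleton_of_aeval_unit ψ s hs hψ
  exact ⟨LinearEquiv.ofSubsingleton V W, fun v => Subsingleton.elim _ _⟩

theorem conjPropK_irreducible (p : F[X]) (hp : Irreducible p) : ConjPropK.{u, v} p := by
  intro _ V W _ _ _ _ _ _ φ ψ hφ hψ hc
  apply exists_equiv_of_irreducible φ ψ p hp hφ hψ
  rw [← kdim_of_aeval_eq_zero φ p hφ, ← kdim_of_aeval_eq_zero ψ p hψ]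
  exact hc p hp dvd_rfl

theorem conjPropK_mul (x y : F[X]) (hxy : IsCoprime x y) (hx : ConjPropK.{u, v} x)
    (hy : ConjPropK.{u, v} y) : ConjPropK.{u, v} (x * y) := by
  intro hsq V W _ _ _ _ _ _ φ ψ hφ hψ hc
  have hsx : Squarefree x := hsq.of_mul_left
  have hsy : Squarefree y := hsq.of_mul_right
  have hcV : IsCompl (LinearMap.ker (aeval φ x)) (LinearMap.ker (aeval φ y)) := by
    refine ⟨disjoint_ker_aeval_of_isCoprime φ hxy, ?_⟩
    rw [codisjoint_iff, sup_ker_aeval_eq_ker_aeval_mul_of_coprime φ hxy, hφ, LinearMap.ker_zero]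
  have hcW : IsCompl (LinearMap.ker (aeval ψ x)) (LinearMap.ker (aeval ψ y)) := by
    refine ⟨disjoint_ker_aeval_of_isCoprime ψ hxy, ?_⟩
    rw [codisjoint_iff, sup_ker_aeval_eq_ker_aeval_mul_of_coprime ψ hxy, hψ, LinearMap.ker_zero]
  obtain ⟨E₁, hE₁⟩ := hx hsx _ _ (φ.restrict (ker_aeval_invariant φ x))
    (ψ.restrict (ker_aeval_invariant ψ x)) (aeval_restrict_ker φ x) (aeval_restrict_ker ψ x)
    (fun P hP hPx => by
      rw [kdim_restrict φ hPx, kdim_restrict ψ hPx]
      exact hc P hP (hPx.mul_right y))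
  obtain ⟨E₂, hE₂⟩ := hy hsy _ _ (φ.restrict (ker_aeval_invariant φ y))
    (ψ.restrict (ker_aeval_invariant ψ y)) (aeval_restrict_ker φ y) (aeval_restrict_ker ψ y)
    (fun P hP hPy => by
      rw [kdim_restrict φ hPy, kdim_restrict ψ hPy]
      exact hc P hP (hPy.mul_left x))
  refine exists_equiv_glue φ ψ _ _ _ _ hcV hcW (ker_aeval_invariant φ x) (ker_aeval_invariant φ y)
    E₁ E₂ ?_ ?_
  · intro v
    exact congrArg Subtype.val (hE₁ v)
  · intro v
    exact congrArg Subtype.val (hE₂ v)

theorem conjPropK_all (s : F[X]) : ConjPropK.{u, v} s := by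
  induction s using UniqueFactorizationMonoid.induction_on_coprime with
  | h0 => intro h; exact absurd h not_squarefree_zero
  | h1 hx => exact conjPropK_unit _ hx
  | hpr i hp =>
    rename_i p
    rcases Nat.lt_or_ge i 2 with hi | hi
    · interval_cases i
      · rw [pow_zero]; exact conjPropK_unit _ isUnit_one
      · rw [pow_one]; exact conjPropK_irreducible _ hp.irreducible
    · intro hsq
      exfalso
      have : p * p ∣ p ^ i := by
        rw [← pow_two]; exact pow_dvd_pow _ hi
      exact hp.not_unit (hsq _ this)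
  | hcp hxy hx hy => exact conjPropK_mul _ _ (isRelPrime_iff_isCoprime.mp hxy) hx hy

/-- Two endomorphisms killed by a common squarefree polynomial `s` whose kernels `ker P(φ)`,
`ker P(ψ)` have equal dimensions for every irreducible factor `P` of `s` are conjugate. -/
theorem exists_equiv_of_kdim_eq {V : Type u} {W : Type v} [AddCommGroup V] [Module F V]
    [AddCommGroup W] [Module F W] [FiniteDimensional F V] [FiniteDimensional F W]
    (φ : V →ₗ[F] V) (ψ : W →ₗ[F] W) (s : F[X]) (hs : Squarefree s)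
    (hφ : aeval φ s = 0) (hψ : aeval ψ s = 0)
    (hc : ∀ P : F[X], Irreducible P → P ∣ s → kdim φ P = kdim ψ P) :
    ∃ e : V ≃ₗ[F] W, ∀ v, e (φ v) = ψ (e v) :=
  conjPropK_all s hs V W φ ψ hφ hψ hc


theorem natDegree_dvd_finrank_of_irreducible {V : Type*} [AddCommGroup V] [Module F V]
    [FiniteDimensional F V] (φ : V →ₗ[F] V) (p : F[X]) (hp : Irreducible p)
    (hφ : aeval φ p = 0) : p.natDegree ∣ Module.finrank F V := by
  classical
  haveI : Fact (Irreducible p) := ⟨hp⟩
  haveI hmax : (Ideal.span {p} : Ideal F[X]).IsMaximal :=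
    PrincipalIdealRing.isMaximal_of_irreducible hp
  letI : Field (F[X] ⧸ (Ideal.span {p} : Ideal F[X])) := Ideal.Quotient.field _
  have hM₁ : Module.IsTorsionBySet F[X] (Module.AEval' φ) (Ideal.span {p} : Ideal F[X]) := by
    rw [Module.isTorsionBySet_span_singleton_iff]
    intro m
    obtain ⟨v, rfl⟩ := (Module.AEval'.of φ).surjective m
    rw [← Module.AEval.of_aeval_smul, hφ, zero_smul, map_zero]
  letI : Module (F[X] ⧸ (Ideal.span {p} : Ideal F[X])) (Module.AEval' φ) := hM₁.module
  haveI : Finite V := Module.finite_of_finite F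
  haveI : Finite (Module.AEval' φ) := Finite.of_equiv V (Module.AEval'.of φ).toEquiv
  haveI : Module.Finite F (AdjoinRoot p) := (AdjoinRoot.powerBasis hp.ne_zero).finite
  haveI hKfin : Finite (F[X] ⧸ (Ideal.span {p} : Ideal F[X])) :=
    (Module.finite_of_finite F : Finite (AdjoinRoot p))
  have h1 := Module.natCard_eq_pow_finrank (K := F[X] ⧸ (Ideal.span {p} : Ideal F[X]))
    (V := Module.AEval' φ)
  have h2 : Nat.card (F[X] ⧸ (Ideal.span {p} : Ideal F[X])) = Nat.card F ^ p.natDegree := by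
    have := Module.natCard_eq_pow_finrank (K := F) (V := AdjoinRoot p)
    rw [(AdjoinRoot.powerBasis hp.ne_zero).finrank, AdjoinRoot.powerBasis_dim] at this
    exact this
  rw [Nat.card_congr (Module.AEval'.of φ).toEquiv.symm,
    Module.natCard_eq_pow_finrank (K := F) (V := V), h2, ← pow_mul] at h1
  have hF2 : 2 ≤ Nat.card F := Finite.one_lt_card
  have := Nat.pow_right_injective hF2 h1
  exact ⟨_, this⟩

theorem natDegree_dvd_kdim {V : Type*} [AddCommGroup V] [Module F V]
    [FiniteDimensional F V] (φ : V →ₗ[F] V) (p : F[X]) (hp : Irreducible p) :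
    p.natDegree ∣ kdim φ p :=
  natDegree_dvd_finrank_of_irreducible (φ.restrict (ker_aeval_invariant φ p)) p hp
    (aeval_restrict_ker φ p)

end mainK

end Cfsg.Agent.Lib.Helper49
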