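import Mathlib
import Cfsg.Agent.Lib.Helper49.SemisimpleKer

set_option autoImplicit false

namespace Cfsg.Agent.Lib.Helper49

open Polynomial

section model

variable {F : Type*} [Field F] {ι : Type*} [Fintype ι] (Q : ι → F[X])

/-- the model operator on `Π j, AdjoinRoot (Q j)`: multiplication by the root in each factor -/
noncomputable def modelOp : ((j : ι) → AdjoinRoot (Q j)) →ₗ[F] ((j : ι) → AdjoinRoot (Q j)) :=
  LinearMap.pi (fun j => (LinearMap.mulLeft F (AdjoinRoot.root (Q j))).comp (LinearMap.proj j))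

theorem modelOp_apply (x : (j : ι) → AdjoinRoot (Q j)) (j : ι) :
    modelOp Q x j = AdjoinRoot.root (Q j) * x j := rfl

theorem aeval_mulLeft {K : Type*} [CommRing K] [Algebra F K] (a : K) (s : F[X]) (y : K) :
    aeval (LinearMap.mulLeft F a) s y = aeval a s * y := by
  have h : LinearMap.mulLeft F a = Algebra.lmul F K a := rfl
  rw [h, aeval_algHom_apply]
  rfl

theorem aeval_modelOp_apply (s : F[X]) (x : (j : ι) → AdjoinRoot (Q j)) (j : ι) :
    aeval (modelOp Q) s x j = AdjoinRoot.mk (Q j) s * x j := by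
  have := aeval_intertwine (modelOp Q) (LinearMap.mulLeft F (AdjoinRoot.root (Q j)))
    (LinearMap.proj j) (fun v => rfl) s x
  rw [LinearMap.proj_apply, LinearMap.proj_apply] at this
  rw [this, aeval_mulLeft, AdjoinRoot.aeval_eq]

theorem aeval_modelOp_eq_zero (s : F[X]) (hs : ∀ j, Q j ∣ s) : aeval (modelOp Q) s = 0 := by
  apply LinearMap.ext
  intro x
  funext j
  rw [aeval_modelOp_apply, AdjoinRoot.mk_eq_zero.mpr (hs j), zero_mul]
  rfl


theorem natCard_adjoinRoot [Finite F] (P : F[X]) (hP : Irreducible P) :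
    Nat.card (AdjoinRoot P) = Nat.card F ^ P.natDegree := by
  haveI : Module.Finite F (AdjoinRoot P) := (AdjoinRoot.powerBasis hP.ne_zero).finite
  have := Module.natCard_eq_pow_finrank (K := F) (V := AdjoinRoot P)
  rw [(AdjoinRoot.powerBasis hP.ne_zero).finrank, AdjoinRoot.powerBasis_dim] at this
  exact this

theorem finiteDimensional_model (hQ : ∀ j, Irreducible (Q j)) :
    FiniteDimensional F ((j : ι) → AdjoinRoot (Q j)) := by
  haveI : ∀ j, Module.Finite F (AdjoinRoot (Q j)) :=
    fun j => (AdjoinRoot.powerBasis (hQ j).ne_zero).finite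
  infer_instance

theorem finrank_model [Finite F] (hQ : ∀ j, Irreducible (Q j)) :
    Module.finrank F ((j : ι) → AdjoinRoot (Q j)) = ∑ j, (Q j).natDegree := by
  haveI := finiteDimensional_model Q hQ
  have h1 := Module.natCard_eq_pow_finrank (K := F) (V := (j : ι) → AdjoinRoot (Q j))
  rw [Nat.card_pi] at h1
  have h2 : ∏ j, Nat.card (AdjoinRoot (Q j)) = Nat.card F ^ ∑ j, (Q j).natDegree := by
    rw [← Finset.prod_pow_eq_pow_sum]
    exact Finset.prod_congr rfl (fun j _ => natCard_adjoinRoot (Q j) (hQ j))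
  rw [h2] at h1
  have hF2 : 2 ≤ Nat.card F := Finite.one_lt_card
  exact (Nat.pow_right_injective hF2 h1).symm

theorem kdim_modelOp [Finite F] (hQ : ∀ j, Irreducible (Q j)) (P : F[X])
    [DecidablePred fun j => Q j ∣ P] :
    kdim (modelOp Q) P = ∑ j, if Q j ∣ P then (Q j).natDegree else 0 := by
  haveI := finiteDimensional_model Q hQ
  haveI : ∀ j, Fact (Irreducible (Q j)) := fun j => ⟨hQ j⟩
  unfold kdim
  have h1 := Module.natCard_eq_pow_finrank (K := F) (V := LinearMap.ker (aeval (modelOp Q) P))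
  have hmem : ∀ x : (j : ι) → AdjoinRoot (Q j), x ∈ LinearMap.ker (aeval (modelOp Q) P) ↔
      ∀ j, ¬ (Q j ∣ P) → x j = 0 := by
    intro x
    rw [LinearMap.mem_ker]
    constructor
    · intro h j hj
      have := congrFun h j
      rw [aeval_modelOp_apply] at this
      rcases mul_eq_zero.mp this with h0 | h0
      · exact absurd (AdjoinRoot.mk_eq_zero.mp h0) hj
      · exact h0
    · intro h
      funext j
      rw [aeval_modelOp_apply]
      by_cases hj : Q j ∣ P
      · rw [AdjoinRoot.mk_eq_zero.mpr hj, zero_mul]; rfl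
      · rw [h j hj, mul_zero]; rfl
  have e1 : ↥(LinearMap.ker (aeval (modelOp Q) P)) ≃
      ((j : ι) → {y : AdjoinRoot (Q j) // ¬ (Q j ∣ P) → y = 0}) :=
    (Equiv.subtypeEquivRight hmem).trans
      (Equiv.subtypePiEquivPi (β := fun j => AdjoinRoot (Q j)) (p := fun j y => ¬ (Q j ∣ P) → y = 0))
  rw [Nat.card_congr e1, Nat.card_pi] at h1
  have h2 : ∏ j, Nat.card {y : AdjoinRoot (Q j) // ¬ (Q j ∣ P) → y = 0} =
      Nat.card F ^ ∑ j, if Q j ∣ P then (Q j).natDegree else 0 := by
    rw [← Finset.prod_pow_eq_pow_sum]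
    apply Finset.prod_congr rfl
    intro j _
    by_cases hj : Q j ∣ P
    · rw [if_pos hj, ← natCard_adjoinRoot (Q j) (hQ j)]
      exact Nat.card_congr (Equiv.subtypeUnivEquiv (fun y hy => absurd hj hy))
    · rw [if_neg hj, pow_zero]
      haveI : Unique {y : AdjoinRoot (Q j) // ¬ (Q j ∣ P) → y = 0} :=
        { default := ⟨0, fun _ => rfl⟩
          uniq := fun y => Subtype.ext (y.2 hj) }
      exact Nat.card_unique
  rw [h2] at h1
  have hF2 : 2 ≤ Nat.card F := Finite.one_lt_card
  exact (Nat.pow_right_injective hF2 h1).symm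


/-- transport of an operator on an `n`-dimensional space to a matrix -/
theorem exists_matrix_of_operator {M : Type*} [AddCommGroup M] [Module F M] [FiniteDimensional F M]
    (T : M →ₗ[F] M) (n : ℕ) (hn : Module.finrank F M = n) :
    ∃ g : Matrix (Fin n) (Fin n) F, (∀ s : F[X], aeval T s = 0 → aeval g s = 0) ∧
      ∀ P : F[X], kdim (Matrix.toLin' g) P = kdim T P := by
  have hfr : Module.finrank F M = Module.finrank F (Fin n → F) := by
    rw [hn, Module.finrank_fin_fun]
  let e : M ≃ₗ[F] (Fin n → F) := LinearEquiv.ofFinrankEq _ _ hfr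
  let ψ : (Fin n → F) →ₗ[F] (Fin n → F) := e.conj T
  have he : ∀ v, e (T v) = ψ (e v) := by
    intro v
    change e (T v) = e (T (e.symm (e v)))
    rw [LinearEquiv.symm_apply_apply]
  refine ⟨LinearMap.toMatrix' ψ, ?_, ?_⟩
  · intro s hs
    have h1 : aeval ψ s = 0 := by
      apply LinearMap.ext
      intro w
      have := aeval_intertwine T ψ (e : M →ₗ[F] (Fin n → F)) he s (e.symm w)
      rw [LinearEquiv.coe_coe, LinearEquiv.apply_symm_apply, hs, LinearMap.zero_apply, map_zero] at this
      rw [← this]; rfl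
    have h2 : LinearMap.toMatrix' ψ = LinearMap.toMatrixAlgEquiv' ψ := rfl
    rw [h2, aeval_algHom_apply, h1, map_zero]
  · intro P
    rw [Matrix.toLin'_toMatrix']
    exact (kdim_conj T ψ e he P).symm

end model

end Cfsg.Agent.Lib.Helper49
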