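import Mathlib

set_option autoImplicit false

namespace Cfsg.Agent.Lib.Helper49

/-- functions with bounded sum correspond to functions on `Option α` with fixed sum -/
def sumLeEquiv (α : Type*) [Fintype α] (N : ℕ) :
    {a : α → ℕ // ∑ x, a x ≤ N} ≃ {b : Option α → ℕ // ∑ o, b o = N} where
  toFun a := ⟨fun o => Option.elim o (N - ∑ x, a.1 x) a.1, by
    rw [Fintype.sum_option]
    simp only [Option.elim_none, Option.elim_some]
    have := a.2
    omega⟩
  invFun b := ⟨fun x => b.1 (some x), by
    have := b.2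
    rw [Fintype.sum_option] at this
    show ∑ x, b.1 (some x) ≤ N
    omega⟩
  left_inv a := by
    apply Subtype.ext
    funext x
    rfl
  right_inv b := by
    apply Subtype.ext
    funext o
    cases o with
    | none =>
      have := b.2
      rw [Fintype.sum_option] at this
      simp only [Option.elim_none]
      omega
    | some x => rfl

theorem finite_sumLe (α : Type*) [Fintype α] (N : ℕ) : Finite {a : α → ℕ // ∑ x, a x ≤ N} := by
  classical
  exact Finite.of_equiv _ ((Sym.equivNatSumOfFintype (Option α) N).trans (sumLeEquiv α N).symm)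

theorem card_sumLe (α : Type*) [Fintype α] (N : ℕ) :
    Nat.card {a : α → ℕ // ∑ x, a x ≤ N} = Nat.choose (N + Fintype.card α) (Fintype.card α) := by
  classical
  rw [Nat.card_congr ((sumLeEquiv α N).trans (Sym.equivNatSumOfFintype (Option α) N).symm),
    Nat.card_eq_fintype_card, Sym.card_sym_eq_choose, Fintype.card_option]
  have : Fintype.card α + 1 + N - 1 = N + Fintype.card α := by omega
  rw [this, Nat.choose_symm_add]

theorem card_sumLe_ne_zero (α : Type*) [Fintype α] (N : ℕ) :
    Nat.card {a : α → ℕ // ∑ x, a x ≤ N ∧ a ≠ 0} =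
      Nat.choose (N + Fintype.card α) (Fintype.card α) - 1 := by
  classical
  haveI := finite_sumLe α N
  let z : {a : α → ℕ // ∑ x, a x ≤ N} := ⟨0, by simp⟩
  have e : {a : α → ℕ // ∑ x, a x ≤ N ∧ a ≠ 0} ≃ {b : {a : α → ℕ // ∑ x, a x ≤ N} // b ≠ z} :=
    { toFun := fun a => ⟨⟨a.1, a.2.1⟩, fun h => a.2.2 (congrArg Subtype.val h)⟩
      invFun := fun b => ⟨b.1.1, b.1.2, fun h => b.2 (Subtype.ext h)⟩
      left_inv := fun a => rfl
      right_inv := fun b => rfl }
  have h1 := Nat.card_congr (Equiv.optionSubtypeNe z)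
  rw [Finite.card_option, card_sumLe] at h1
  rw [Nat.card_congr e, ← h1]
  rfl

end Cfsg.Agent.Lib.Helper49
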