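import Mathlib
import Cfsg.Agent.Lib.Helper49.SemisimpleModel
import Cfsg.Agent.Lib.Helper49.StarsBars

set_option autoImplicit false

namespace Cfsg.Agent.Lib.Helper49

open Polynomial

section abstract

variable {F : Type*} [Field F]

theorem irreducible_X_sub_one : Irreducible (X - 1 : F[X]) := by
  have := irreducible_X_sub_C (1 : F)
  rwa [C_1] at this

theorem kdim_assoc {V : Type*} [AddCommGroup V] [Module F V] (φ : V →ₗ[F] V) {P P' : F[X]}
    (h : Associated P' P) : kdim φ P' = kdim φ P := by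
  unfold kdim
  rw [le_antisymm (ker_aeval_le_of_dvd φ h.dvd) (ker_aeval_le_of_dvd φ h.symm.dvd)]

theorem kdim_one {V : Type*} [AddCommGroup V] [Module F V] (φ : V →ₗ[F] V) : kdim φ 1 = 0 := by
  unfold kdim
  rw [map_one]
  have : LinearMap.ker (1 : Module.End F V) = ⊥ := LinearMap.ker_id
  rw [this, finrank_bot]

theorem kdim_prod {V : Type*} [AddCommGroup V] [Module F V] [FiniteDimensional F V]
    (φ : V →ₗ[F] V) (S : Finset F[X])
    (hS : ∀ P ∈ S, ∀ P' ∈ S, P ≠ P' → IsCoprime P P') :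
    kdim φ (∏ P ∈ S, P) = ∑ P ∈ S, kdim φ P := by
  classical
  induction S using Finset.induction_on with
  | empty => rw [Finset.prod_empty, Finset.sum_empty, kdim_one]
  | insert P₀ S' hP₀ ih =>
    rw [Finset.prod_insert hP₀, Finset.sum_insert hP₀, kdim_mul, ih]
    · intro P hP P' hP' hne
      exact hS P (Finset.mem_insert_of_mem hP) P' (Finset.mem_insert_of_mem hP') hne
    · apply IsCoprime.prod_right
      intro P' hP'
      apply hS P₀ (Finset.mem_insert_self _ _) P' (Finset.mem_insert_of_mem hP')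
      rintro rfl
      exact hP₀ hP'


/-- factorisation data for `X ^ r - 1` -/
structure FactorData (F : Type*) [Field F] (r i : ℕ) (PP : Finset F[X]) : Prop where
  hi : 1 ≤ i
  irr : ∀ P ∈ PP, Irreducible P
  deg : ∀ P ∈ PP, P.natDegree = i
  cop : ∀ P ∈ PP, ∀ P' ∈ PP, P ≠ P' → IsCoprime P P'
  cop1 : ∀ P ∈ PP, IsCoprime (X - 1 : F[X]) P
  prod : (X - 1 : F[X]) * ∏ P ∈ PP, P = X ^ r - 1
  sqf : Squarefree (X ^ r - 1 : F[X])

namespace FactorData

variable {r i : ℕ} {PP : Finset F[X]} (D : FactorData F r i PP)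
variable {V : Type*} [AddCommGroup V] [Module F V] [FiniteDimensional F V]
variable {W : Type*} [AddCommGroup W] [Module F W] [FiniteDimensional F W]

include D

theorem irreducible_dvd {P' : F[X]} (hP' : Irreducible P') (hdvd : P' ∣ (X ^ r - 1 : F[X])) :
    Associated P' (X - 1 : F[X]) ∨ ∃ P ∈ PP, Associated P' P := by
  rw [← D.prod] at hdvd
  rcases hP'.prime.dvd_or_dvd hdvd with h | h
  · left
    exact hP'.associated_of_dvd irreducible_X_sub_one h
  · right
    obtain ⟨P, hP, hPP⟩ := (Prime.dvd_finset_prod_iff hP'.prime _).mp h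
    exact ⟨P, hP, hP'.associated_of_dvd (D.irr P hP) hPP⟩

theorem finrank_eq (φ : V →ₗ[F] V) (hφ : aeval φ (X ^ r - 1 : F[X]) = 0) :
    Module.finrank F V = kdim φ (X - 1) + ∑ P ∈ PP, kdim φ P := by
  rw [← kdim_prod φ PP D.cop]
  apply finrank_eq_kdim_add_kdim
  · exact IsCoprime.prod_right D.cop1
  · rw [D.prod, hφ]

theorem dvd_kdim [Finite F] (φ : V →ₗ[F] V) {P : F[X]} (hP : P ∈ PP) : i ∣ kdim φ P := by
  rw [← D.deg P hP]
  exact natDegree_dvd_kdim φ P (D.irr P hP)

theorem exists_equiv [Finite F] (φ : V →ₗ[F] V) (ψ : W →ₗ[F] W)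
    (hφ : aeval φ (X ^ r - 1 : F[X]) = 0) (hψ : aeval ψ (X ^ r - 1 : F[X]) = 0)
    (hdim : Module.finrank F V = Module.finrank F W)
    (hk : ∀ P ∈ PP, kdim φ P = kdim ψ P) : ∃ e : V ≃ₗ[F] W, ∀ v, e (φ v) = ψ (e v) := by
  apply exists_equiv_of_kdim_eq φ ψ _ D.sqf hφ hψ
  intro P' hP' hdvd
  have h1 := D.finrank_eq φ hφ
  have h2 := D.finrank_eq ψ hψ
  have hsum : ∑ P ∈ PP, kdim φ P = ∑ P ∈ PP, kdim ψ P := Finset.sum_congr rfl hk
  rcases D.irreducible_dvd hP' hdvd with h | ⟨P, hP, h⟩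
  · rw [kdim_assoc φ h, kdim_assoc ψ h]
    omega
  · rw [kdim_assoc φ h, kdim_assoc ψ h]
    exact hk P hP

/-- an operator of order dividing `r` is the identity iff all its `kdim`s at `PP` vanish -/
theorem eq_one_iff (φ : V →ₗ[F] V) (hφ : aeval φ (X ^ r - 1 : F[X]) = 0) :
    φ = 1 ↔ ∀ P ∈ PP, kdim φ P = 0 := by
  have h1 := D.finrank_eq φ hφ
  constructor
  · rintro rfl
    have h2 : kdim (1 : V →ₗ[F] V) (X - 1) = Module.finrank F V := by
      apply kdim_of_aeval_eq_zero
      simp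
    rw [h2] at h1
    have h3 : ∑ P ∈ PP, kdim (1 : V →ₗ[F] V) P = 0 := by omega
    exact fun P hP => (Finset.sum_eq_zero_iff.mp h3) P hP
  · intro h
    rw [Finset.sum_eq_zero h, add_zero] at h1
    have h2 : LinearMap.ker (aeval φ (X - 1 : F[X])) = ⊤ :=
      Submodule.eq_top_of_finrank_eq h1.symm
    apply LinearMap.ext
    intro v
    have hv : v ∈ LinearMap.ker (aeval φ (X - 1 : F[X])) := by rw [h2]; trivial
    rw [LinearMap.mem_ker] at hv
    simp only [map_sub, aeval_X, map_one, LinearMap.sub_apply, Module.End.one_apply] at hv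
    rw [Module.End.one_apply]
    exact sub_eq_zero.mp hv

end FactorData


/-- the linear automorphism attached to an invertible matrix -/
noncomputable def glEquiv {n : ℕ} (c : GL (Fin n) F) : (Fin n → F) ≃ₗ[F] (Fin n → F) :=
  LinearEquiv.ofLinear (Matrix.toLin' (c : Matrix (Fin n) (Fin n) F))
    (Matrix.toLin' ((c⁻¹ : GL (Fin n) F) : Matrix (Fin n) (Fin n) F))
    (by rw [← Matrix.toLin'_mul, ← Units.val_mul, mul_inv_cancel, Units.val_one, Matrix.toLin'_one])
    (by rw [← Matrix.toLin'_mul, ← Units.val_mul, inv_mul_cancel, Units.val_one, Matrix.toLin'_one])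

theorem glEquiv_apply {n : ℕ} (c : GL (Fin n) F) (v : Fin n → F) :
    glEquiv c v = (c : Matrix (Fin n) (Fin n) F).mulVec v := rfl

theorem kdim_eq_of_isConj {n : ℕ} (g g' : GL (Fin n) F) (h : IsConj g g') (P : F[X]) :
    kdim (Matrix.toLin' (g : Matrix (Fin n) (Fin n) F)) P =
      kdim (Matrix.toLin' (g' : Matrix (Fin n) (Fin n) F)) P := by
  obtain ⟨c, hc⟩ := isConj_iff.mp h
  rw [mul_inv_eq_iff_eq_mul] at hc
  have hc' : (c : Matrix (Fin n) (Fin n) F) * (g : Matrix (Fin n) (Fin n) F) =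
      (g' : Matrix (Fin n) (Fin n) F) * (c : Matrix (Fin n) (Fin n) F) :=
    congrArg (fun x : GL (Fin n) F => (x : Matrix (Fin n) (Fin n) F)) hc
  apply kdim_conj _ _ (glEquiv c)
  intro v
  rw [glEquiv_apply, glEquiv_apply, Matrix.toLin'_apply, Matrix.toLin'_apply, Matrix.mulVec_mulVec,
    Matrix.mulVec_mulVec, hc']

theorem isConj_of_equiv {n : ℕ} (g g' : GL (Fin n) F) (e : (Fin n → F) ≃ₗ[F] (Fin n → F))
    (he : ∀ v, e (Matrix.toLin' (g : Matrix (Fin n) (Fin n) F) v) =
      Matrix.toLin' (g' : Matrix (Fin n) (Fin n) F) (e v)) : IsConj g g' := by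
  have h1 : LinearMap.toMatrix' (e : (Fin n → F) →ₗ[F] (Fin n → F)) *
      LinearMap.toMatrix' (e.symm : (Fin n → F) →ₗ[F] (Fin n → F)) = 1 := by
    rw [← LinearMap.toMatrix'_comp, ← LinearMap.toMatrix'_id]
    congr 1
    apply LinearMap.ext
    intro v
    simp
  have h2 : LinearMap.toMatrix' (e.symm : (Fin n → F) →ₗ[F] (Fin n → F)) *
      LinearMap.toMatrix' (e : (Fin n → F) →ₗ[F] (Fin n → F)) = 1 := by
    rw [← LinearMap.toMatrix'_comp, ← LinearMap.toMatrix'_id]
    congr 1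
    apply LinearMap.ext
    intro v
    simp
  let c : GL (Fin n) F := ⟨_, _, h1, h2⟩
  rw [isConj_iff]
  refine ⟨c, ?_⟩
  rw [mul_inv_eq_iff_eq_mul]
  apply Units.ext
  change LinearMap.toMatrix' (e : (Fin n → F) →ₗ[F] (Fin n → F)) * (g : Matrix (Fin n) (Fin n) F) =
    (g' : Matrix (Fin n) (Fin n) F) * LinearMap.toMatrix' (e : (Fin n → F) →ₗ[F] (Fin n → F))
  conv_lhs => rw [← LinearMap.toMatrix'_toLin' (g : Matrix (Fin n) (Fin n) F)]
  conv_rhs => rw [← LinearMap.toMatrix'_toLin' (g' : Matrix (Fin n) (Fin n) F)]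
  rw [← LinearMap.toMatrix'_comp, ← LinearMap.toMatrix'_comp]
  congr 1
  apply LinearMap.ext
  intro v
  exact he v

theorem aeval_toLin'_pow_sub_one {n : ℕ} (g : GL (Fin n) F) (r : ℕ) (h : g ^ r = 1) :
    aeval (Matrix.toLin' (g : Matrix (Fin n) (Fin n) F)) (X ^ r - 1 : F[X]) = 0 := by
  have h1 : (g : Matrix (Fin n) (Fin n) F) ^ r = 1 := by
    rw [← Units.val_pow_eq_pow_val, h, Units.val_one]
  rw [map_sub, map_pow, aeval_X, map_one, ← Matrix.toLin'_pow, h1, Matrix.toLin'_one]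
  exact sub_self _


theorem FactorData.not_dvd_of_ne {r i : ℕ} {PP : Finset F[X]} (D : FactorData F r i PP)
    {P P' : F[X]} (hP : P ∈ PP) (hP' : P' ∈ PP) (hne : P ≠ P') : ¬ P ∣ P' := by
  intro h
  exact (D.irr P hP).not_isUnit ((D.cop P hP P' hP' hne).isUnit_of_dvd' dvd_rfl h)

theorem FactorData.X_sub_one_not_dvd {r i : ℕ} {PP : Finset F[X]} (D : FactorData F r i PP)
    {P : F[X]} (hP : P ∈ PP) : ¬ (X - 1 : F[X]) ∣ P := by
  intro h
  exact irreducible_X_sub_one.not_isUnit ((D.cop1 P hP).isUnit_of_dvd' dvd_rfl h)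

theorem FactorData.exists_realize [Finite F] {r i : ℕ} {PP : Finset F[X]} (D : FactorData F r i PP)
    (hr : 0 < r) (n : ℕ) (a : PP → ℕ) (ha : i * ∑ P, a P ≤ n) :
    ∃ g : GL (Fin n) F, g ^ r = 1 ∧
      ∀ P : PP, kdim (Matrix.toLin' (g : Matrix (Fin n) (Fin n) F)) (P : F[X]) = i * a P := by
  classical
  set m₀ := n - i * ∑ P, a P with hm₀
  let ι := Fin m₀ ⊕ (Σ P : PP, Fin (a P))
  let Q : ι → F[X] := Sum.elim (fun _ => (X - 1 : F[X])) (fun x => (x.1 : F[X]))
  have hQ : ∀ j, Irreducible (Q j) := by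
    rintro (j | ⟨P, k⟩)
    · exact irreducible_X_sub_one
    · exact D.irr P P.2
  have hdeg1 : (X - 1 : F[X]).natDegree = 1 := by
    have : (X - 1 : F[X]) = X - C 1 := by rw [C_1]
    rw [this, natDegree_X_sub_C]
  have hsum : ∑ j, (Q j).natDegree = n := by
    rw [Fintype.sum_sum_type, Fintype.sum_sigma]
    simp only [Q, Sum.elim_inl, Sum.elim_inr, hdeg1, Finset.sum_const, Finset.card_univ,
      Fintype.card_fin, smul_eq_mul, mul_one]
    have : ∀ P : PP, a P * (P : F[X]).natDegree = a P * i := fun P => by rw [D.deg P P.2]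
    rw [Finset.sum_congr rfl (fun P _ => this P), ← Finset.sum_mul]
    rw [hm₀, mul_comm (∑ P, a P) i]
    omega
  haveI := finiteDimensional_model Q hQ
  obtain ⟨G, hG1, hG2⟩ := exists_matrix_of_operator (modelOp Q) n (by rw [finrank_model Q hQ, hsum])
  have hGr : aeval G (X ^ r - 1 : F[X]) = 0 := by
    apply hG1
    apply aeval_modelOp_eq_zero
    rintro (j | ⟨P, k⟩)
    · rw [← D.prod]; exact dvd_mul_right _ _
    · rw [← D.prod]
      exact dvd_mul_of_dvd_right (Finset.dvd_prod_of_mem _ P.2) _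
  have hGr' : G ^ r = 1 := by
    rw [map_sub, map_pow, aeval_X, map_one] at hGr
    exact sub_eq_zero.mp hGr
  obtain ⟨r', rfl⟩ : ∃ r', r = r' + 1 := ⟨r - 1, by omega⟩
  let g : GL (Fin n) F := ⟨G, G ^ r', by rw [← pow_succ', hGr'], by rw [← pow_succ, hGr']⟩
  refine ⟨g, ?_, ?_⟩
  · apply Units.ext
    rw [Units.val_pow_eq_pow_val, Units.val_one]
    exact hGr'
  · intro P₀
    change kdim (Matrix.toLin' G) (P₀ : F[X]) = i * a P₀
    rw [hG2, kdim_modelOp Q hQ, Fintype.sum_sum_type, Fintype.sum_sigma]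
    have h1 : ∀ j : Fin m₀, (if Q (Sum.inl j) ∣ (P₀ : F[X]) then (Q (Sum.inl j)).natDegree else 0) = 0 := by
      intro j
      rw [if_neg]
      exact D.X_sub_one_not_dvd P₀.2
    have h2 : ∀ (P : PP) (k : Fin (a P)),
        (if Q (Sum.inr ⟨P, k⟩) ∣ (P₀ : F[X]) then (Q (Sum.inr ⟨P, k⟩)).natDegree else 0) =
          if P = P₀ then i else 0 := by
      intro P k
      by_cases hPP : P = P₀
      · subst hPP
        rw [if_pos rfl, if_pos (show Q (Sum.inr ⟨P, k⟩) ∣ (P : F[X]) from dvd_rfl)]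
        exact D.deg P P.2
      · rw [if_neg hPP, if_neg]
        exact D.not_dvd_of_ne P.2 P₀.2 (fun h => hPP (Subtype.ext h))
    rw [Finset.sum_congr rfl (fun j _ => h1 j), Finset.sum_const_zero, zero_add]
    rw [Finset.sum_congr rfl (fun P _ => Finset.sum_congr rfl (fun k _ => h2 P k))]
    simp only [Finset.sum_const, Finset.card_univ, Fintype.card_fin, smul_eq_mul]
    rw [Finset.sum_eq_single P₀]
    · rw [if_pos rfl, mul_comm]
    · intro P _ hP
      rw [if_neg hP, mul_zero]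
    · intro h
      exact absurd (Finset.mem_univ _) h


theorem FactorData.card_classes [Finite F] {r i : ℕ} {PP : Finset F[X]} (D : FactorData F r i PP)
    (hr : r.Prime) (n : ℕ) :
    Nat.card {C : ConjClasses (GL (Fin n) F) // ∃ g : GL (Fin n) F, ConjClasses.mk g = C ∧ orderOf g = r} =
      Nat.choose (n / i + PP.card) PP.card - 1 := by
  classical
  haveI : Fact r.Prime := ⟨hr⟩
  let S := {C : ConjClasses (GL (Fin n) F) // ∃ g : GL (Fin n) F, ConjClasses.mk g = C ∧ orderOf g = r}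
  let T := {a : PP → ℕ // ∑ P, a P ≤ n / i ∧ a ≠ 0}
  have hex : ∀ C : S, ∃ g : GL (Fin n) F, ConjClasses.mk g = C.1 ∧ orderOf g = r := fun C => C.2
  choose rep hrep hord using hex
  have hpow : ∀ C : S, (rep C) ^ r = 1 := fun C => by rw [← hord C]; exact pow_orderOf_eq_one _
  have hae : ∀ g : GL (Fin n) F, g ^ r = 1 →
      aeval (Matrix.toLin' (g : Matrix (Fin n) (Fin n) F)) (X ^ r - 1 : F[X]) = 0 :=
    fun g hg => aeval_toLin'_pow_sub_one g r hg
  -- the invariant
  let κ : GL (Fin n) F → PP → ℕ := fun g P => kdim (Matrix.toLin' (g : Matrix (Fin n) (Fin n) F)) (P : F[X])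
  have hκdvd : ∀ g P, i ∣ κ g P := fun g P => D.dvd_kdim _ P.2
  have hκsum : ∀ g : GL (Fin n) F, g ^ r = 1 → i * ∑ P, κ g P / i ≤ n := by
    intro g hg
    have h1 := D.finrank_eq _ (hae g hg)
    rw [Module.finrank_fin_fun] at h1
    rw [Finset.mul_sum]
    have h2 : ∑ P : PP, i * (κ g P / i) = ∑ P : PP, κ g P :=
      Finset.sum_congr rfl (fun P _ => Nat.mul_div_cancel' (hκdvd g P))
    rw [h2]
    have h3 : ∑ P : PP, κ g P = ∑ P ∈ PP, kdim (Matrix.toLin' (g : Matrix (Fin n) (Fin n) F)) P :=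
      Finset.sum_coe_sort PP (fun P => kdim (Matrix.toLin' (g : Matrix (Fin n) (Fin n) F)) P)
    omega
  have hone : ∀ g : GL (Fin n) F, g ^ r = 1 → (g = 1 ↔ ∀ P, κ g P = 0) := by
    intro g hg
    rw [← Units.val_inj, Units.val_one, ← Matrix.toLin'.injective.eq_iff, Matrix.toLin'_one]
    have := D.eq_one_iff (Matrix.toLin' (g : Matrix (Fin n) (Fin n) F)) (hae g hg)
    have h1 : (LinearMap.id : (Fin n → F) →ₗ[F] (Fin n → F)) = 1 := rfl
    rw [h1, this]
    exact ⟨fun h P => h P P.2, fun h P hP => h ⟨P, hP⟩⟩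
  have hi := D.hi
  have hT : ∀ C : S, ∑ P, κ (rep C) P / i ≤ n / i ∧ (fun P => κ (rep C) P / i) ≠ 0 := by
    intro C
    refine ⟨(Nat.le_div_iff_mul_le hi).mpr (by rw [mul_comm]; exact hκsum _ (hpow C)), ?_⟩
    intro h0
    have h1 : rep C = 1 := by
      rw [hone _ (hpow C)]
      intro P
      have := congrFun h0 P
      simp only [Pi.zero_apply] at this
      obtain ⟨c, hc⟩ := hκdvd (rep C) P
      rw [hc, Nat.mul_div_cancel_left _ hi] at this
      rw [hc, this, mul_zero]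
    have h2 := hord C
    rw [h1, orderOf_one] at h2
    exact hr.one_lt.ne h2
  let f : S → T := fun C => ⟨fun P => κ (rep C) P / i, hT C⟩
  have hbij : Function.Bijective f := by
    constructor
    · intro C C' h
      have h0 : (fun P => κ (rep C) P / i) = (fun P => κ (rep C') P / i) := congrArg Subtype.val h
      have h1 : ∀ P ∈ PP, kdim (Matrix.toLin' ((rep C) : Matrix (Fin n) (Fin n) F)) P =
          kdim (Matrix.toLin' ((rep C') : Matrix (Fin n) (Fin n) F)) P := by
        intro P hP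
        have := congrFun h0 ⟨P, hP⟩
        beta_reduce at this
        have e1 := Nat.mul_div_cancel' (hκdvd (rep C) ⟨P, hP⟩)
        have e2 := Nat.mul_div_cancel' (hκdvd (rep C') ⟨P, hP⟩)
        rw [this] at e1
        exact e1.symm.trans e2
      obtain ⟨e, he⟩ := D.exists_equiv _ _ (hae _ (hpow C)) (hae _ (hpow C')) rfl h1
      apply Subtype.ext
      rw [← hrep C, ← hrep C']
      exact ConjClasses.mk_eq_mk_iff_isConj.mpr (isConj_of_equiv _ _ e he)
    · rintro ⟨a, ha1, ha2⟩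
      have ha1' : i * ∑ P, a P ≤ n := by
        rw [mul_comm]; exact (Nat.le_div_iff_mul_le hi).mp ha1
      obtain ⟨g, hg, hκ⟩ := D.exists_realize hr.pos n a ha1'
      have hg1 : g ≠ 1 := by
        intro h1
        apply ha2
        funext P
        have := (hone g hg).mp h1 P
        have h2 : κ g P = i * a P := hκ P
        rw [h2] at this
        rcases Nat.mul_eq_zero.mp this with h | h
        · omega
        · exact h
      have hgr : orderOf g = r := orderOf_eq_prime hg hg1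
      let C : S := ⟨ConjClasses.mk g, g, rfl, hgr⟩
      refine ⟨C, ?_⟩
      apply Subtype.ext
      funext P
      have h1 : IsConj (rep C) g := ConjClasses.mk_eq_mk_iff_isConj.mp (hrep C)
      have h2 : κ (rep C) P = κ g P := kdim_eq_of_isConj _ _ h1 _
      have h3 : κ g P = i * a P := hκ P
      change κ (rep C) P / i = a P
      rw [h2, h3, Nat.mul_div_cancel_left _ hi]
  rw [Nat.card_eq_of_bijective f hbij, card_sumLe_ne_zero, Fintype.card_coe]

end abstract

end Cfsg.Agent.Lib.Helper49
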