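import Mathlib
import Cfsg.Agent.Lib.Helper49.SemisimpleModel

set_option autoImplicit false

namespace Cfsg.Agent.Lib.Helper49

open Polynomial

universe u

section piCharpoly

variable {F : Type*} [Field F]

/-- characteristic polynomial of a "diagonal" operator on a finite product -/
theorem charpoly_pi_fin : ∀ (n : ℕ) (M : Fin n → Type u) [∀ j, AddCommGroup (M j)]
    [∀ j, Module F (M j)] [∀ j, FiniteDimensional F (M j)] (T : ∀ j, M j →ₗ[F] M j),
    (LinearMap.pi (fun j => (T j).comp (LinearMap.proj j)) :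
      ((j : Fin n) → M j) →ₗ[F] ((j : Fin n) → M j)).charpoly = ∏ j, (T j).charpoly := by
  intro n
  induction n with
  | zero =>
    intro M _ _ _ T
    rw [Finset.univ_eq_empty, Finset.prod_empty]
    have hmonic := LinearMap.charpoly_monic (LinearMap.pi (fun j => (T j).comp (LinearMap.proj j)) :
      ((j : Fin 0) → M j) →ₗ[F] ((j : Fin 0) → M j))
    rw [← Polynomial.Monic.natDegree_eq_zero hmonic, LinearMap.charpoly_natDegree]
    exact Module.finrank_zero_of_subsingleton
  | succ n ih =>
    intro M _ _ _ T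
    let e := Fin.consLinearEquiv F M
    have h1 : (LinearMap.pi (fun j => (T j).comp (LinearMap.proj j)) :
        ((j : Fin (n+1)) → M j) →ₗ[F] ((j : Fin (n+1)) → M j)) =
        e.conj ((T 0).prodMap (LinearMap.pi (fun j : Fin n => (T j.succ).comp (LinearMap.proj j)))) := by
      apply LinearMap.ext
      intro x
      obtain ⟨⟨a, b⟩, rfl⟩ := e.surjective x
      rw [LinearEquiv.conj_apply_apply, LinearEquiv.symm_apply_apply]
      funext j
      refine Fin.cases ?_ (fun k => ?_) j
      · rfl
      · rfl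
    rw [h1, LinearEquiv.charpoly_conj, LinearMap.charpoly_prodMap,
      ih (fun j => M j.succ) (fun j => T j.succ), Fin.prod_univ_succ]

theorem charpoly_mulLeft_root (Q : F[X]) (hQ : Q.Monic) (hQ0 : Q ≠ 0)
    [Module.Finite F (AdjoinRoot Q)] :
    (LinearMap.mulLeft F (AdjoinRoot.root Q)).charpoly = Q := by
  have h1 := charpoly_leftMulMatrix (AdjoinRoot.powerBasis hQ0)
  rw [AdjoinRoot.minpoly_powerBasis_gen_of_monic hQ hQ0, Algebra.leftMulMatrix_apply,
    LinearMap.charpoly_toMatrix, AdjoinRoot.powerBasis_gen] at h1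
  exact h1

theorem charpoly_modelOp {k : ℕ} (Q : Fin k → F[X]) (hQ : ∀ j, Irreducible (Q j))
    (hQm : ∀ j, (Q j).Monic) [∀ j, Module.Finite F (AdjoinRoot (Q j))] :
    (modelOp Q).charpoly = ∏ j, Q j := by
  have := charpoly_pi_fin k (fun j => AdjoinRoot (Q j))
    (fun j => LinearMap.mulLeft F (AdjoinRoot.root (Q j)))
  unfold modelOp
  rw [this]
  exact Finset.prod_congr rfl (fun j _ => charpoly_mulLeft_root (Q j) (hQm j) (hQ j).ne_zero)


/-- transport of an operator on an `n`-dimensional space to a matrix, with characteristic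
polynomial -/
theorem exists_matrix_of_operator' {M : Type*} [AddCommGroup M] [Module F M] [FiniteDimensional F M]
    (T : M →ₗ[F] M) (n : ℕ) (hn : Module.finrank F M = n) :
    ∃ g : Matrix (Fin n) (Fin n) F, (∀ s : F[X], aeval T s = 0 → aeval g s = 0) ∧
      g.charpoly = T.charpoly := by
  have hfr : Module.finrank F M = Module.finrank F (Fin n → F) := by
    rw [hn, Module.finrank_fin_fun]
  let e : M ≃ₗ[F] (Fin n → F) := LinearEquiv.ofFinrankEq _ _ hfr
  let ψ : (Fin n → F) →ₗ[F] (Fin n → F) := e.conj T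
  have he : ∀ v, e (T v) = ψ (e v) := by
    intro v
    change e (T v) = e (T (e.symm (e v)))
    rw [LinearEquiv.symm_apply_apply]
  refine ⟨LinearMap.toMatrix' ψ, ?_, ?_⟩
  · intro s hs
    have h1 : aeval ψ s = 0 := by
      apply LinearMap.ext
      intro w
      have := aeval_intertwine T ψ (e : M →ₗ[F] (Fin n → F)) he s (e.symm w)
      rw [LinearEquiv.coe_coe, LinearEquiv.apply_symm_apply, hs, LinearMap.zero_apply, map_zero] at this
      rw [← this]; rfl
    have h2 : LinearMap.toMatrix' ψ = LinearMap.toMatrixAlgEquiv' ψ := rfl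
    rw [h2, aeval_algHom_apply, h1, map_zero]
  · rw [← LinearMap.toMatrix_eq_toMatrix', LinearMap.charpoly_toMatrix]
    exact LinearEquiv.charpoly_conj e T

theorem exists_matrix_charpoly [Finite F] (p : ℕ) [Fact p.Prime] [CharP F p] (f : F[X])
    (hf : f.Monic) (n : ℕ) (hn : f.natDegree = n) (h0 : f.coeff 0 ≠ 0) :
    ∃ G : Matrix (Fin n) (Fin n) F, G.charpoly = f ∧ ∃ N : ℕ, N.Coprime p ∧ G ^ N = 1 := by
  classical
  have hf0 : f ≠ 0 := hf.ne_zero
  set L := (UniqueFactorizationMonoid.normalizedFactors f).toList with hL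
  let Q : Fin L.length → F[X] := fun j => L.get j
  have hmem : ∀ j, Q j ∈ UniqueFactorizationMonoid.normalizedFactors f := fun j =>
    Multiset.mem_toList.mp (List.get_mem L j)
  have hQ : ∀ j, Irreducible (Q j) := fun j =>
    UniqueFactorizationMonoid.irreducible_of_normalized_factor _ (hmem j)
  have hQm : ∀ j, (Q j).Monic := by
    intro j
    rw [← UniqueFactorizationMonoid.normalize_normalized_factor _ (hmem j)]
    exact monic_normalize (hQ j).ne_zero
  have hprod : ∏ j, Q j = f := by
    have h1 : ∏ j, Q j = (UniqueFactorizationMonoid.normalizedFactors f).prod := by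
      rw [← Multiset.prod_toList, ← hL, ← List.prod_ofFn]
      congr 1
      exact List.ofFn_get L
    have h2 : (∏ j, Q j).Monic := monic_prod_of_monic _ _ (fun j _ => hQm j)
    exact eq_of_monic_of_associated h2 hf
      (h1 ▸ UniqueFactorizationMonoid.prod_normalizedFactors hf0)
  haveI : ∀ j, Module.Finite F (AdjoinRoot (Q j)) :=
    fun j => (AdjoinRoot.powerBasis (hQ j).ne_zero).finite
  have hfin : Module.finrank F ((j : Fin L.length) → AdjoinRoot (Q j)) = n := by
    rw [finrank_model Q hQ, ← natDegree_prod_of_monic _ _ (fun j _ => hQm j), hprod, hn]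
  obtain ⟨G, hG1, hG2⟩ := exists_matrix_of_operator' (modelOp Q) n hfin
  refine ⟨G, ?_, ?_⟩
  · rw [hG2, charpoly_modelOp Q hQ hQm, hprod]
  · -- the order
    set q := Nat.card F with hq
    obtain ⟨e, _, hqe⟩ : ∃ e : ℕ+, p.Prime ∧ q = p ^ (e : ℕ) := by
      haveI := Fintype.ofFinite F
      rw [hq, Nat.card_eq_fintype_card]
      exact FiniteField.card F p
    have hp : p.Prime := Fact.out
    refine ⟨∏ j, (q ^ (Q j).natDegree - 1), ?_, ?_⟩
    · apply Nat.Coprime.prod_left
      intro j _
      have hd : 0 < (Q j).natDegree := (hQ j).natDegree_pos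
      have h1 : p ∣ q ^ (Q j).natDegree := by
        rw [hqe, ← pow_mul]
        exact dvd_pow_self p (Nat.mul_ne_zero e.pos.ne' hd.ne')
      have h2 : 0 < q ^ (Q j).natDegree := by
        rw [hqe]; exact pow_pos (pow_pos hp.pos _) _
      rw [Nat.coprime_comm, hp.coprime_iff_not_dvd]
      intro h3
      have h4 := (Nat.dvd_sub h1 h3)
      have h5 : q ^ (Q j).natDegree - (q ^ (Q j).natDegree - 1) = 1 := by omega
      rw [h5] at h4
      exact hp.one_lt.ne' (Nat.dvd_one.mp h4)
    · have hdvd : ∀ j, Q j ∣ (X ^ (∏ j, (q ^ (Q j).natDegree - 1)) - 1 : F[X]) := by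
        intro j
        haveI : Fact (Irreducible (Q j)) := ⟨hQ j⟩
        rw [← AdjoinRoot.mk_eq_zero, map_sub, map_pow, AdjoinRoot.mk_X, map_one, sub_eq_zero]
        have hroot : AdjoinRoot.root (Q j) ≠ 0 := by
          intro hr0
          rw [← AdjoinRoot.mk_X, AdjoinRoot.mk_eq_zero] at hr0
          apply h0
          have : (X : F[X]) ∣ f := by
            have h1 : Associated (Q j) X := (hQ j).associated_of_dvd irreducible_X hr0
            exact h1.symm.dvd.trans (UniqueFactorizationMonoid.dvd_of_mem_normalizedFactors (hmem j))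
          exact X_dvd_iff.mp this
        haveI : Finite (AdjoinRoot (Q j)) := Module.finite_of_finite F
        haveI := Fintype.ofFinite (AdjoinRoot (Q j))
        have h1 := FiniteField.pow_card_sub_one_eq_one (AdjoinRoot.root (Q j)) hroot
        rw [← Nat.card_eq_fintype_card, natCard_adjoinRoot (Q j) (hQ j)] at h1
        obtain ⟨c, hc⟩ := Finset.dvd_prod_of_mem (fun j => q ^ (Q j).natDegree - 1) (Finset.mem_univ j)
        rw [hc, pow_mul, h1, one_pow]
      have h1 := hG1 _ (aeval_modelOp_eq_zero Q _ hdvd)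
      rw [map_sub, map_pow, aeval_X, map_one] at h1
      exact sub_eq_zero.mp h1

end piCharpoly

end Cfsg.Agent.Lib.Helper49
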