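import Cfsg.Agent.Lib.Helper49.FrobPair

set_option autoImplicit false

namespace Cfsg.Agent.Lib.Helper49

open Polynomial DirectSum

section SelfAdj

variable {F : Type*} [Field F]

/-- On a finitely generated torsion `F[X]`-module there is a nondegenerate `F`-bilinear pairing for
which multiplication by `X` is self-adjoint. -/
theorem exists_selfadjoint_pairing {M : Type*} [AddCommGroup M] [Module F[X] M]
    [Module.Finite F[X] M] (hM : Module.IsTorsion F[X] M) :
    ∃ B : M → M → F, (∀ m m' m'', B (m + m') m'' = B m m'' + B m' m'') ∧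
      (∀ m m' m'', B m (m' + m'') = B m m' + B m m'') ∧
      (∀ (c : F) m m', B (C c • m) m' = c * B m m') ∧
      (∀ (c : F) m m', B m (C c • m') = c * B m m') ∧
      (∀ m m', B ((X : F[X]) • m) m' = B m ((X : F[X]) • m')) ∧
      (∀ m, m ≠ 0 → ∃ m', B m m' ≠ 0) ∧ (∀ m m', B m m' = B m' m) := by
  classical
  obtain ⟨ι, _, p, hp, e, ⟨E⟩⟩ := Module.equiv_directSum_of_isTorsion hM
  set g : ι → F[X] := fun i => p i ^ e i with hgdef
  have hg : ∀ i, g i ≠ 0 := fun i => pow_ne_zero _ (hp i).ne_zero
  -- representatives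
  have hsurj : ∀ (m : M) (i : ι), ∃ f : F[X],
      (Submodule.Quotient.mk f : F[X] ⧸ F[X] ∙ p i ^ e i) = (E m) i :=
    fun m i => Submodule.Quotient.mk_surjective _ _
  choose r hr using hsurj
  have hmk_eq : ∀ (i : ι) (f f' : F[X]),
      (Submodule.Quotient.mk f : F[X] ⧸ F[X] ∙ p i ^ e i) = Submodule.Quotient.mk f' ↔
        g i ∣ f - f' := by
    intro i f f'
    rw [Submodule.Quotient.eq, Submodule.mem_span_singleton]
    constructor
    · rintro ⟨a, ha⟩
      exact ⟨a, by rw [← ha, smul_eq_mul, mul_comm]⟩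
    · rintro ⟨a, ha⟩
      exact ⟨a, by rw [ha, smul_eq_mul, mul_comm]⟩
  have hr_add : ∀ m m' i, g i ∣ r (m + m') i - (r m i + r m' i) := by
    intro m m' i
    rw [← hmk_eq, hr, Submodule.Quotient.mk_add, hr, hr, map_add, DirectSum.add_apply]
  have hr_smul : ∀ (f : F[X]) m i, g i ∣ r (f • m) i - f * r m i := by
    intro f m i
    rw [← hmk_eq, hr, ← smul_eq_mul, Submodule.Quotient.mk_smul, hr, map_smul, DirectSum.smul_apply]
  refine ⟨fun m m' => ∑ i, frobPair (g i) (r m i) (r m' i), ?_, ?_, ?_, ?_, ?_, ?_, ?_⟩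
  rotate_right
  · intro m m'
    apply Finset.sum_congr rfl
    intro i _
    exact frobPair_comm _ _ _
  · intro m m' m''
    rw [← Finset.sum_add_distrib]
    apply Finset.sum_congr rfl
    intro i _
    rw [frobPair_congr_left (hg i) _ (hr_add m m' i), frobPair_add_left]
  · intro m m' m''
    rw [← Finset.sum_add_distrib]
    apply Finset.sum_congr rfl
    intro i _
    rw [frobPair_congr_right (hg i) _ (hr_add m' m'' i), frobPair_comm, frobPair_add_left,
      frobPair_comm, frobPair_comm _ (r m'' i)]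
  · intro c m m'
    rw [Finset.mul_sum]
    apply Finset.sum_congr rfl
    intro i _
    rw [frobPair_congr_left (hg i) _ (hr_smul (C c) m i), frobPair_C_mul_left]
  · intro c m m'
    rw [Finset.mul_sum]
    apply Finset.sum_congr rfl
    intro i _
    rw [frobPair_congr_right (hg i) _ (hr_smul (C c) m' i), frobPair_comm, frobPair_C_mul_left,
      frobPair_comm]
  · intro m m'
    apply Finset.sum_congr rfl
    intro i _
    rw [frobPair_congr_left (hg i) _ (hr_smul X m i), frobPair_congr_right (hg i) _ (hr_smul X m' i),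
      frobPair_X_mul]
  · intro m hm
    have hEm : E m ≠ 0 := by
      intro h
      apply hm
      exact E.map_eq_zero_iff.mp h
    obtain ⟨i, hi⟩ : ∃ i, (E m) i ≠ 0 := by
      by_contra hcon
      push Not at hcon
      apply hEm
      ext i
      rw [hcon i]; rfl
    have hnd : ¬ g i ∣ r m i := by
      intro hd
      apply hi
      rw [← hr]
      have : g i ∣ r m i - 0 := by rwa [sub_zero]
      rw [(hmk_eq i _ _).mpr this]
      rfl
    obtain ⟨h, hh⟩ := frobPair_nondeg (hg i) hnd
    set m' : M := E.symm (DirectSum.of (fun i => F[X] ⧸ F[X] ∙ p i ^ e i) i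
      (Submodule.Quotient.mk h)) with hm'
    have hEm' : E m' = DirectSum.of (fun i => F[X] ⧸ F[X] ∙ p i ^ e i) i
      (Submodule.Quotient.mk h) := by rw [hm', LinearEquiv.apply_symm_apply]
    refine ⟨m', ?_⟩
    have hsame : g i ∣ r m' i - h := by
      rw [← hmk_eq, hr, hEm', DirectSum.of_eq_same]
    have hother : ∀ j, j ≠ i → g j ∣ r m' j - 0 := by
      intro j hj
      rw [← hmk_eq, hr, hEm', DirectSum.of_eq_of_ne _ _ _ hj]
      rfl
    change ∑ j, frobPair (g j) (r m j) (r m' j) ≠ 0
    rw [Finset.sum_eq_single i]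
    · rw [frobPair_congr_right (hg i) _ hsame]
      exact hh
    · intro j _ hj
      rw [frobPair_congr_right (hg j) _ (hother j hj), frobPair_zero_right]
    · intro h
      exact absurd (Finset.mem_univ i) h

end SelfAdj

/-- every matrix is intertwined with its transpose by a symmetric invertible matrix -/
theorem exists_symm_intertwiner {F : Type*} [Field F] {ι : Type*} [Fintype ι] [DecidableEq ι]
    (A : Matrix ι ι F) : ∃ P : Matrix ι ι F, IsUnit P ∧ P.transpose = P ∧ A.transpose * P = P * A := by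
  classical
  set φ : (ι → F) →ₗ[F] (ι → F) := Matrix.toLin' A with hφ
  have hM : Module.IsTorsion F[X] (Module.AEval' φ) :=
    Module.AEval.isTorsion_of_finiteDimensional F (ι → F) φ
  obtain ⟨B, hadd1, hadd2, hsm1, hsm2, hX, hnd, hsymm⟩ :=
    exists_selfadjoint_pairing (M := Module.AEval' φ) hM
  let o : (ι → F) ≃ₗ[F] Module.AEval' φ := Module.AEval'.of φ
  have hC : ∀ (c : F) (v : ι → F), (C c : F[X]) • o v = o (c • v) := by
    intro c v
    have := Module.AEval.of_aeval_smul (R := F) (M := ι → F) (a := φ) (C c) v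
    rw [← this, aeval_C]
    congr 1
  have hXo : ∀ v : ι → F, (X : F[X]) • o v = o (φ v) := fun v => Module.AEval'.X_smul_of φ v
  let Bf : (ι → F) →ₗ[F] (ι → F) →ₗ[F] F :=
    LinearMap.mk₂ F (fun v w => B (o v) (o w))
      (fun v v' w => by simp only [map_add, hadd1])
      (fun c v w => by simp only [← hC, hsm1, smul_eq_mul])
      (fun v w w' => by simp only [map_add, hadd2])
      (fun c v w => by simp only [← hC, hsm2, smul_eq_mul])
  have hBf : ∀ v w, Bf v w = B (o v) (o w) := fun v w => rfl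
  set P : Matrix ι ι F := LinearMap.toMatrix₂' F Bf with hP
  have h1 : Bf.comp φ = Bf.compl₂ φ := by
    apply LinearMap.ext; intro v; apply LinearMap.ext; intro w
    rw [LinearMap.comp_apply, LinearMap.compl₂_apply, hBf, hBf, ← hXo, ← hXo, hX]
  have h2 : A.transpose * P = P * A := by
    have e1 := LinearMap.toMatrix₂'_comp Bf φ
    have e2 := LinearMap.toMatrix₂'_compl₂ Bf φ
    rw [hφ, LinearMap.toMatrix'_toLin'] at e1 e2
    rw [hP, ← e1, ← e2, ← hφ, h1]
  have hBP : ∀ v w, Bf v w = v ⬝ᵥ (P.mulVec w) := by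
    intro v w
    rw [← Matrix.toLinearMap₂'_apply', hP, Matrix.toLinearMap₂'_toMatrix']
  have hPunit : IsUnit P := by
    rw [← Matrix.vecMul_injective_iff_isUnit]
    intro v v' hvv'
    by_contra hne
    have hsub : v - v' ≠ 0 := sub_ne_zero.mpr hne
    have ho : o (v - v') ≠ 0 := fun h => hsub (o.map_eq_zero_iff.mp h)
    obtain ⟨m', hm'⟩ := hnd _ ho
    apply hm'
    have : B (o (v - v')) (o (o.symm m')) = 0 := by
      rw [← hBf, hBP, Matrix.dotProduct_mulVec, Matrix.sub_vecMul]
      have : Matrix.vecMul v P = Matrix.vecMul v' P := hvv'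
      rw [this, sub_self, zero_dotProduct]
    rwa [LinearEquiv.apply_symm_apply] at this
  refine ⟨P, hPunit, ?_, h2⟩
  ext i j
  rw [Matrix.transpose_apply, hP, LinearMap.toMatrix₂'_apply, LinearMap.toMatrix₂'_apply, hBf, hBf,
    hsymm]

theorem isConj_transpose_gen {F : Type*} [Field F] {ι : Type*} [Fintype ι] [DecidableEq ι] (A : Matrix ι ι F) :
    IsConj A A.transpose := by
  classical
  set φ : (ι → F) →ₗ[F] (ι → F) := Matrix.toLin' A with hφ
  have hM : Module.IsTorsion F[X] (Module.AEval' φ) :=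
    Module.AEval.isTorsion_of_finiteDimensional F (ι → F) φ
  obtain ⟨B, hadd1, hadd2, hsm1, hsm2, hX, hnd, _⟩ :=
    exists_selfadjoint_pairing (M := Module.AEval' φ) hM
  let o : (ι → F) ≃ₗ[F] Module.AEval' φ := Module.AEval'.of φ
  have hC : ∀ (c : F) (v : ι → F), (C c : F[X]) • o v = o (c • v) := by
    intro c v
    have := Module.AEval.of_aeval_smul (R := F) (M := ι → F) (a := φ) (C c) v
    rw [← this, aeval_C]
    congr 1
  have hXo : ∀ v : ι → F, (X : F[X]) • o v = o (φ v) := fun v => Module.AEval'.X_smul_of φ v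
  let Bf : (ι → F) →ₗ[F] (ι → F) →ₗ[F] F :=
    LinearMap.mk₂ F (fun v w => B (o v) (o w))
      (fun v v' w => by simp only [map_add, hadd1])
      (fun c v w => by simp only [← hC, hsm1, smul_eq_mul])
      (fun v w w' => by simp only [map_add, hadd2])
      (fun c v w => by simp only [← hC, hsm2, smul_eq_mul])
  have hBf : ∀ v w, Bf v w = B (o v) (o w) := fun v w => rfl
  set P : Matrix ι ι F := LinearMap.toMatrix₂' F Bf with hP
  have h1 : Bf.comp φ = Bf.compl₂ φ := by
    apply LinearMap.ext; intro v; apply LinearMap.ext; intro w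
    rw [LinearMap.comp_apply, LinearMap.compl₂_apply, hBf, hBf, ← hXo, ← hXo, hX]
  have h2 : A.transpose * P = P * A := by
    have e1 := LinearMap.toMatrix₂'_comp Bf φ
    have e2 := LinearMap.toMatrix₂'_compl₂ Bf φ
    rw [hφ, LinearMap.toMatrix'_toLin'] at e1 e2
    rw [hP, ← e1, ← e2, ← hφ, h1]
  have hBP : ∀ v w, Bf v w = v ⬝ᵥ (P.mulVec w) := by
    intro v w
    rw [← Matrix.toLinearMap₂'_apply', hP, Matrix.toLinearMap₂'_toMatrix']
  have hPunit : IsUnit P := by
    rw [← Matrix.vecMul_injective_iff_isUnit]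
    intro v v' hvv'
    by_contra hne
    have hsub : v - v' ≠ 0 := sub_ne_zero.mpr hne
    have ho : o (v - v') ≠ 0 := fun h => hsub (o.map_eq_zero_iff.mp h)
    obtain ⟨m', hm'⟩ := hnd _ ho
    apply hm'
    have : B (o (v - v')) (o (o.symm m')) = 0 := by
      rw [← hBf, hBP, Matrix.dotProduct_mulVec, Matrix.sub_vecMul]
      have : Matrix.vecMul v P = Matrix.vecMul v' P := hvv'
      rw [this, sub_self, zero_dotProduct]
    rwa [LinearEquiv.apply_symm_apply] at this
  obtain ⟨u, hu⟩ := hPunit
  refine ⟨u, ?_⟩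
  change (u : Matrix ι ι F) * A = A.transpose * u
  rw [hu, h2]

theorem isConj_transpose {F : Type*} [Field F] {n : ℕ} (A : Matrix (Fin n) (Fin n) F) :
    IsConj A A.transpose := isConj_transpose_gen A

end Cfsg.Agent.Lib.Helper49
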