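import Mathlib
import Cfsg.Agent.S0765
import Cfsg.Agent.Lib.Helper49.PresAlt

set_option autoImplicit false

namespace Cfsg.Agent.Lib.Helper49

open Matrix

section SpDet

variable {F : Type*} [Field F] {m : ℕ}

theorem J_alt' (x : Fin m ⊕ Fin m → F) : x ⬝ᵥ (Matrix.J (Fin m) F) *ᵥ x = 0 := by
  have hJ : Matrix.J (Fin m) F =
      Matrix.fromBlocks 0 (-1 : Matrix (Fin m) (Fin m) F) (-(-1 : Matrix (Fin m) (Fin m) F)ᵀ) 0 := by
    unfold Matrix.J
    rw [Matrix.transpose_neg, Matrix.transpose_one, neg_neg]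
  rw [hJ]
  exact hypMat_alt _ x

theorem sympTransvection_det (w : Fin m ⊕ Fin m → F) (c : F) :
    (Cfsg.sympTransvection m w c).det = 1 := by
  unfold Cfsg.sympTransvection
  rw [← Matrix.smul_vecMulVec, Matrix.vecMulVec_eq Unit,
    Matrix.det_one_add_replicateCol_mul_replicateRow, dotProduct_smul, dotProduct_comm, J_alt',
    smul_zero, add_zero]

/-- symplectic matrices have determinant one -/
theorem det_eq_one_of_mem_symplecticGroup (A : Matrix.symplecticGroup (Fin m) F) :
    (A : Matrix (Fin m ⊕ Fin m) (Fin m ⊕ Fin m) F).det = 1 := by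
  have hA : A ∈ Subgroup.closure {A : Matrix.symplecticGroup (Fin m) F |
      ∃ (w : Fin m ⊕ Fin m → F) (c : F),
        (A : Matrix (Fin m ⊕ Fin m) (Fin m ⊕ Fin m) F) = Cfsg.sympTransvection m w c} := by
    rw [Cfsg.Agent.S0765.result]
    trivial
  induction hA using Subgroup.closure_induction with
  | mem x hx =>
    obtain ⟨w, c, hwc⟩ := hx
    rw [hwc, sympTransvection_det]
  | one => simp
  | mul x y _ _ hx hy =>
    rw [Submonoid.coe_mul, Matrix.det_mul, hx, hy, one_mul]
  | inv x _ hx =>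
    have h1 : ((x⁻¹ * x : Matrix.symplecticGroup (Fin m) F) :
        Matrix (Fin m ⊕ Fin m) (Fin m ⊕ Fin m) F).det = 1 := by
      rw [inv_mul_cancel]; simp
    rw [Submonoid.coe_mul, Matrix.det_mul, hx, mul_one] at h1
    exact h1

end SpDet

end Cfsg.Agent.Lib.Helper49
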