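import Mathlib

set_option autoImplicit false

namespace Cfsg.Agent.Lib.Helper49

open Matrix

section BT

variable {F : Type*} [Field F] [Fintype F] {m : Type*} [Fintype m] [DecidableEq m]
  {s : ℕ} (b : m → Fin s)

/-- invertible matrices over an index type, as a subtype, are counted by `GL` -/
theorem card_isUnit_det (n : Type*) [Fintype n] [DecidableEq n] :
    Nat.card {B : Matrix n n F // IsUnit B.det} = Nat.card (GL n F) := by
  apply Nat.card_congr
  exact
    { toFun := fun B => ((Matrix.isUnit_iff_isUnit_det B.1).mpr B.2).unit
      invFun := fun g => ⟨g.1, (Matrix.isUnit_iff_isUnit_det g.1).mp g.isUnit⟩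
      left_inv := fun B => by
        apply Subtype.ext
        rfl
      right_inv := fun g => by
        apply Units.ext
        rfl }

theorem card_GL_of_card (n : Type*) [Fintype n] [DecidableEq n] (a : ℕ) (ha : Fintype.card n = a) :
    Nat.card (GL n F) = ∏ j : Fin a, (Fintype.card F ^ a - Fintype.card F ^ (j : ℕ)) := by
  have e : n ≃ Fin a := (Fintype.equivFin n).trans (finCongr ha)
  rw [← Matrix.card_GL_field]
  apply Nat.card_congr
  exact (Units.mapEquiv (Matrix.reindexAlgEquiv F F e).toMulEquiv).toEquiv

/-- assembling a block triangular matrix from its diagonal blocks and strictly upper part -/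
def btAssemble (B : (i : Fin s) → Matrix {k // b k = i} {k // b k = i} F)
    (u : {p : m × m // b p.1 < b p.2} → F) : Matrix m m F :=
  Matrix.of fun i j => if h : b i = b j then B (b j) ⟨i, h⟩ ⟨j, rfl⟩
    else if h' : b i < b j then u ⟨(i, j), h'⟩ else 0

theorem btAssemble_blockTriangular (B : (i : Fin s) → Matrix {k // b k = i} {k // b k = i} F)
    (u : {p : m × m // b p.1 < b p.2} → F) : (btAssemble b B u).BlockTriangular b := by
  intro i j hij
  unfold btAssemble
  rw [Matrix.of_apply, dif_neg (ne_of_gt hij), dif_neg (not_lt_of_gt hij)]

theorem btAssemble_block (B : (i : Fin s) → Matrix {k // b k = i} {k // b k = i} F)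
    (u : {p : m × m // b p.1 < b p.2} → F) (i : Fin s) :
    (btAssemble b B u).toSquareBlock b i = B i := by
  ext ⟨k, hk⟩ ⟨l, hl⟩
  subst hl
  rw [Matrix.toSquareBlock_def, Matrix.of_apply]
  unfold btAssemble
  rw [Matrix.of_apply, dif_pos hk]

theorem card_blockTriangular_units :
    Nat.card {c : Matrix m m F // c.BlockTriangular b ∧ IsUnit c.det} =
      Fintype.card F ^ (Fintype.card {p : m × m // b p.1 < b p.2}) *
        ∏ i : Fin s, Nat.card (GL {k // b k = i} F) := by
  classical
  have e : {c : Matrix m m F // c.BlockTriangular b ∧ IsUnit c.det} ≃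
      ((i : Fin s) → {B : Matrix {k // b k = i} {k // b k = i} F // IsUnit B.det}) ×
        ({p : m × m // b p.1 < b p.2} → F) :=
    { toFun := fun c => (fun i => ⟨c.1.toSquareBlock b i, by
          have h1 := c.2.1.det_fintype
          have h2 := c.2.2
          rw [h1] at h2
          exact (IsUnit.prod_univ_iff.mp h2) i⟩, fun p => c.1 p.1.1 p.1.2)
      invFun := fun Bu => ⟨btAssemble b (fun i => (Bu.1 i).1) Bu.2,
        btAssemble_blockTriangular b _ _, by
          rw [(btAssemble_blockTriangular b _ _).det_fintype]
          apply IsUnit.prod_univ_iff.mpr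
          intro i
          rw [btAssemble_block]
          exact (Bu.1 i).2⟩
      left_inv := fun c => by
        apply Subtype.ext
        ext i j
        simp only
        unfold btAssemble
        rw [Matrix.of_apply]
        split_ifs with h1 h2
        · rfl
        · rfl
        · symm
          apply c.2.1
          exact lt_of_le_of_ne (not_lt.mp h2) (Ne.symm h1)
      right_inv := fun Bu => by
        apply Prod.ext
        · funext i
          apply Subtype.ext
          exact btAssemble_block b (fun i => (Bu.1 i).1) Bu.2 i
        · funext p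
          obtain ⟨⟨i, j⟩, hp⟩ := p
          simp only
          unfold btAssemble
          rw [Matrix.of_apply, dif_neg (ne_of_lt hp), dif_pos hp] }
  rw [Nat.card_congr e, Nat.card_prod, Nat.card_pi, Nat.card_fun, Nat.card_eq_fintype_card,
    Nat.card_eq_fintype_card, mul_comm]
  congr 1
  apply Finset.prod_congr rfl
  intro i _
  exact card_isUnit_det _

end BT

end Cfsg.Agent.Lib.Helper49
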