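import Mathlib

set_option autoImplicit false

namespace Cfsg.Agent.Lib.Helper49

open Polynomial DirectSum Module

section RK

variable {F : Type*} [Field F] {M : Type*} [AddCommGroup M] [Module F M]
  {ι : Type*} [Fintype ι]

/-- `b` is a Jordan basis of type `d` for the (nilpotent) operator `N` -/
def IsJordanBasis (N : M →ₗ[F] M) (d : ι → ℕ) (b : Basis ((k : ι) × Fin (d k)) F M) : Prop :=
  ∀ (k : ι) (j : Fin (d k)), N (b ⟨k, j⟩) =
    if h : (j : ℕ) + 1 < d k then b ⟨k, ⟨j + 1, h⟩⟩ else 0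

omit [Fintype ι] in
theorem IsJordanBasis.pow_apply {N : M →ₗ[F] M} {d : ι → ℕ} {b : Basis ((k : ι) × Fin (d k)) F M}
    (h : IsJordanBasis N d b) (m : ℕ) (k : ι) (j : Fin (d k)) :
    (N ^ m) (b ⟨k, j⟩) = if h : (j : ℕ) + m < d k then b ⟨k, ⟨j + m, h⟩⟩ else 0 := by
  induction m generalizing j with
  | zero =>
    have : (j : ℕ) + 0 < d k := by simp
    rw [dif_pos this]
    rfl
  | succ m ih =>
    rw [pow_succ, Module.End.mul_apply, h k j]
    split_ifs with h1 h2 h2
    · rw [ih]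
      have : (j : ℕ) + 1 + m < d k := by omega
      rw [dif_pos this]
      congr 2
      apply Fin.ext
      simp only
      omega
    · rw [ih]
      have : ¬ ((j : ℕ) + 1 + m < d k) := by omega
      rw [dif_neg this]
    · exfalso; omega
    · rw [map_zero]

theorem card_fin_ge (a m : ℕ) : Fintype.card {j : Fin a // m ≤ (j : ℕ)} = a - m := by
  classical
  rw [Fintype.card_subtype]
  have h1 := Finset.card_filter_add_card_filter_not (s := (Finset.univ : Finset (Fin a)))
    (fun j : Fin a => (j : ℕ) < m)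
  rw [Fin.card_filter_val_lt, Finset.card_univ, Fintype.card_fin] at h1
  have h2 : (Finset.univ.filter fun j : Fin a => ¬ ((j : ℕ) < m)) =
      Finset.univ.filter fun j : Fin a => m ≤ (j : ℕ) := by
    apply Finset.filter_congr
    intro j _
    exact not_lt
  rw [h2] at h1
  omega

theorem IsJordanBasis.finrank_range_pow [DecidableEq ι] {N : M →ₗ[F] M} {d : ι → ℕ}
    {b : Basis ((k : ι) × Fin (d k)) F M}
    (h : IsJordanBasis N d b) (m : ℕ) :
    finrank F (LinearMap.range (N ^ m)) = ∑ k, (d k - m) := by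
  classical
  let S := {x : (k : ι) × Fin (d k) // m ≤ (x.2 : ℕ)}
  have hspan : LinearMap.range (N ^ m) = Submodule.span F (Set.range (fun x : S => b x.1)) := by
    rw [LinearMap.range_eq_map, ← b.span_eq, Submodule.map_span]
    apply le_antisymm
    · rw [Submodule.span_le]
      rintro _ ⟨_, ⟨⟨k, j⟩, rfl⟩, rfl⟩
      rw [h.pow_apply]
      split_ifs with h1
      · apply Submodule.subset_span
        exact ⟨⟨⟨k, ⟨j + m, h1⟩⟩, by simp⟩, rfl⟩
      · exact Submodule.zero_mem _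
    · rw [Submodule.span_le]
      rintro _ ⟨⟨⟨k, j⟩, hj⟩, rfl⟩
      apply Submodule.subset_span
      have hj' : m ≤ (j : ℕ) := hj
      refine ⟨b ⟨k, ⟨j - m, by have := j.2; omega⟩⟩, ⟨_, rfl⟩, ?_⟩
      rw [h.pow_apply]
      have : ((⟨(j : ℕ) - m, by have := j.2; omega⟩ : Fin (d k)) : ℕ) + m < d k := by
        have := j.2
        simp only
        omega
      rw [dif_pos this]
      congr 2
      apply Fin.ext
      simp only
      omega
  have hli : LinearIndependent F (fun x : S => b x.1) :=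
    b.linearIndependent.comp _ Subtype.val_injective
  rw [hspan, finrank_span_eq_card hli]
  have e1 : S ≃ ((k : ι) × {j : Fin (d k) // m ≤ (j : ℕ)}) :=
    { toFun := fun x => ⟨x.1.1, ⟨x.1.2, x.2⟩⟩
      invFun := fun y => ⟨⟨y.1, y.2.1⟩, y.2.2⟩
      left_inv := fun x => rfl
      right_inv := fun y => rfl }
  rw [Fintype.card_congr e1, Fintype.card_sigma]
  apply Finset.sum_congr rfl
  intro k _
  exact card_fin_ge (d k) m

end RK


section COMB

theorem sum_sub_succ {ι : Type*} [Fintype ι] (d : ι → ℕ) (m : ℕ) :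
    ∑ k, (d k - m) = ∑ k, (d k - (m + 1)) + (Finset.univ.filter fun k => m + 1 ≤ d k).card := by
  classical
  rw [Finset.card_filter, ← Finset.sum_add_distrib]
  apply Finset.sum_congr rfl
  intro k _
  split_ifs <;> omega

theorem card_ge_succ {ι : Type*} [Fintype ι] (d : ι → ℕ) (j : ℕ) :
    (Finset.univ.filter fun k => j ≤ d k).card =
      (Finset.univ.filter fun k => j + 1 ≤ d k).card + (Finset.univ.filter fun k => d k = j).card := by
  classical
  rw [Finset.card_filter, Finset.card_filter, Finset.card_filter, ← Finset.sum_add_distrib]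
  apply Finset.sum_congr rfl
  intro k _
  split_ifs <;> omega

theorem card_eq_of_sums_eq {ι ι' : Type*} [Fintype ι] [Fintype ι'] (d : ι → ℕ) (d' : ι' → ℕ)
    (h : ∀ m, ∑ k, (d k - m) = ∑ k, (d' k - m)) (j : ℕ) (hj : 1 ≤ j) :
    (Finset.univ.filter fun k => d k = j).card = (Finset.univ.filter fun k => d' k = j).card := by
  have ha : ∀ m, (Finset.univ.filter fun k => m + 1 ≤ d k).card =
      (Finset.univ.filter fun k => m + 1 ≤ d' k).card := by
    intro m
    have h1 := sum_sub_succ d m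
    have h2 := sum_sub_succ d' m
    have h3 := h m
    have h4 := h (m + 1)
    omega
  obtain ⟨i, rfl⟩ : ∃ i, j = i + 1 := ⟨j - 1, by omega⟩
  have h1 := card_ge_succ d (i + 1)
  have h2 := card_ge_succ d' (i + 1)
  have h3 := ha i
  have h4 := ha (i + 1)
  omega

theorem exists_equiv_of_card_fibers_eq {ι ι' : Type*} [Fintype ι] [Fintype ι'] [DecidableEq ι]
    [DecidableEq ι'] (d : ι → ℕ) (d' : ι' → ℕ)
    (h : ∀ j, (Finset.univ.filter fun k => d k = j).card = (Finset.univ.filter fun k => d' k = j).card) :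
    ∃ τ : ι ≃ ι', ∀ k, d' (τ k) = d k := by
  classical
  have hne : ∀ j, Nonempty ({k // d k = j} ≃ {k // d' k = j}) := by
    intro j
    apply Fintype.card_eq.mp
    rw [Fintype.card_subtype, Fintype.card_subtype]
    exact h j
  let τj : ∀ j, {k // d k = j} ≃ {k // d' k = j} := fun j => (hne j).some
  let τ : ι ≃ ι' := (Equiv.sigmaFiberEquiv d).symm.trans
    ((Equiv.sigmaCongrRight τj).trans (Equiv.sigmaFiberEquiv d'))
  refine ⟨τ, ?_⟩
  intro k
  have : τ k = (τj (d k) ⟨k, rfl⟩ : ι') := rfl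
  rw [this]
  exact (τj (d k) ⟨k, rfl⟩).2

end COMB


section CONJ

variable {F : Type*} [Field F] {M : Type*} [AddCommGroup M] [Module F M]
  {M' : Type*} [AddCommGroup M'] [Module F M']
  {ι : Type*} {ι' : Type*} [Fintype ι] [Fintype ι']

theorem exists_intertwiner {N : M →ₗ[F] M} {d : ι → ℕ} {b : Basis ((k : ι) × Fin (d k)) F M}
    (h : IsJordanBasis N d b)
    {N' : M' →ₗ[F] M'} {d' : ι' → ℕ} {b' : Basis ((k : ι') × Fin (d' k)) F M'}
    (h' : IsJordanBasis N' d' b') (τ : ι ≃ ι') (hτ : ∀ k, d' (τ k) = d k) :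
    ∃ Φ : M ≃ₗ[F] M', ∀ x, Φ (N x) = N' (Φ x) := by
  classical
  let σ : ((k : ι) × Fin (d k)) ≃ ((k : ι') × Fin (d' k)) :=
    { toFun := fun x => ⟨τ x.1, Fin.cast (hτ x.1).symm x.2⟩
      invFun := fun y => ⟨τ.symm y.1, Fin.cast (by rw [← hτ, Equiv.apply_symm_apply]) y.2⟩
      left_inv := by
        rintro ⟨k, j⟩
        simp only
        apply Sigma.ext
        · simp
        · simp only
          apply (Fin.heq_ext_iff (by rw [← hτ, Equiv.apply_symm_apply, hτ])).mpr
          rfl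
      right_inv := by
        rintro ⟨k, j⟩
        simp only
        apply Sigma.ext
        · simp
        · simp only
          apply (Fin.heq_ext_iff (by rw [Equiv.apply_symm_apply])).mpr
          rfl }
  have hσ : ∀ k (j : Fin (d k)), σ ⟨k, j⟩ = ⟨τ k, Fin.cast (hτ k).symm j⟩ := fun k j => rfl
  let Φ : M ≃ₗ[F] M' := b.equiv b' σ
  have hΦ : ∀ x, Φ (b x) = b' (σ x) := fun x => b.equiv_apply x b' σ
  refine ⟨Φ, ?_⟩
  intro x
  have hlin : (Φ : M →ₗ[F] M') ∘ₗ N = N' ∘ₗ (Φ : M →ₗ[F] M') := by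
    apply b.ext
    rintro ⟨k, j⟩
    change Φ (N (b ⟨k, j⟩)) = N' (Φ (b ⟨k, j⟩))
    rw [hΦ, hσ, h k j, h' (τ k)]
    by_cases hj : (j : ℕ) + 1 < d k
    · have hj' : ((Fin.cast (hτ k).symm j : Fin (d' (τ k))) : ℕ) + 1 < d' (τ k) := by
        have := hτ k
        simp only [Fin.val_cast]
        omega
      rw [dif_pos hj, dif_pos hj', hΦ, hσ]
      rfl
    · have hj' : ¬ (((Fin.cast (hτ k).symm j : Fin (d' (τ k))) : ℕ) + 1 < d' (τ k)) := by
        have := hτ k
        simp only [Fin.val_cast]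
        omega
      rw [dif_neg hj, dif_neg hj', map_zero]
  exact LinearMap.congr_fun hlin x

end CONJ


section JB

universe u

variable {F : Type u} [Field F]

theorem dfinsupp_basis_apply {ι R : Type*} [DecidableEq ι] [Semiring R] {M : ι → Type*}
    [∀ i, AddCommMonoid (M i)] [∀ i, Module R (M i)]
    {η : ι → Type*} (b : ∀ i, Basis (η i) R (M i)) (i : ι) (j : η i) :
    DFinsupp.basis b ⟨i, j⟩ = DFinsupp.single i (b i j) := by
  apply (DFinsupp.basis b).repr.injective
  simp [DFinsupp.basis]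

/-- Jordan basis, first form (index type from the structure theorem). -/
theorem exists_jordan_basis_aux {M : Type*} [AddCommGroup M] [Module F M] [Module F[X] M]
    [IsScalarTower F F[X] M] [Module.Finite F[X] M]
    (hM : Module.IsTorsion F[X] M) (m : ℕ) (hXm : ∀ x : M, (X ^ m : F[X]) • x = 0) :
    ∃ (ι : Type u) (_ : Fintype ι) (dd : ι → ℕ) (b : Basis ((i : ι) × Fin (dd i)) F M),
      ∀ (i : ι) (j : Fin (dd i)), (X : F[X]) • b ⟨i, j⟩ =
        if h : (j : ℕ) + 1 < dd i then b ⟨i, ⟨j + 1, h⟩⟩ else 0 := by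
  classical
  obtain ⟨ι, _, p, hp, e, ⟨E⟩⟩ := Module.equiv_directSum_of_isTorsion hM
  let g : ι → F[X] := fun i => p i ^ e i
  have hg : ∀ i, g i ≠ 0 := fun i => pow_ne_zero _ (hp i).ne_zero
  let Q : ι → Type _ := fun i => F[X] ⧸ F[X] ∙ p i ^ e i
  -- X^m kills each summand
  have hkill : ∀ i (y : Q i), (X ^ m : F[X]) • y = 0 := by
    intro i y
    have h1 : (X ^ m : F[X]) • (DirectSum.lof F[X] ι Q i y) = 0 := by
      have := hXm (E.symm (DirectSum.lof F[X] ι Q i y))
      have h2 := congrArg E this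
      rwa [map_smul, LinearEquiv.apply_symm_apply, map_zero] at h2
    rw [← map_smul] at h1
    have h3 := congrArg (DirectSum.component F[X] ι Q i) h1
    rwa [DirectSum.component.lof_self, map_zero] at h3
  have hdvd : ∀ i, g i ∣ X ^ (g i).natDegree := by
    intro i
    have h1 : g i ∣ X ^ m := by
      have := hkill i (Submodule.Quotient.mk 1)
      rw [← Submodule.Quotient.mk_smul, smul_eq_mul, mul_one, Submodule.Quotient.mk_eq_zero,
        Submodule.mem_span_singleton] at this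
      obtain ⟨a, ha⟩ := this
      exact ⟨a, by rw [← ha, smul_eq_mul, mul_comm]⟩
    obtain ⟨j, _, hj⟩ := (dvd_prime_pow prime_X m).mp h1
    have hdeg : (g i).natDegree = j := by
      rw [natDegree_eq_of_degree_eq (degree_eq_degree_of_associated hj), natDegree_X_pow]
    rw [hdeg]
    exact hj.dvd
  let bQ : ∀ i, Basis (Fin (g i).natDegree) F (Q i) := fun i =>
    (AdjoinRoot.powerBasisAux (hg i) : Basis (Fin (g i).natDegree) F (AdjoinRoot (g i)))
  have hbQ : ∀ i (j : Fin (g i).natDegree), bQ i j = Submodule.Quotient.mk (X ^ (j : ℕ)) := by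
    intro i j
    have h1 := (AdjoinRoot.powerBasis (hg i)).basis_eq_pow j
    rw [AdjoinRoot.powerBasis_gen] at h1
    change (AdjoinRoot.powerBasis (hg i)).basis j = _
    rw [h1, AdjoinRoot.root, ← map_pow]
    rfl
  let B : Basis ((i : ι) × Fin (g i).natDegree) F (⨁ i, Q i) := DFinsupp.basis bQ
  have hB : ∀ i j, B ⟨i, j⟩ = DirectSum.lof F[X] ι Q i (bQ i j) := fun i j =>
    dfinsupp_basis_apply bQ i j
  let EF : M ≃ₗ[F] (⨁ i, Q i) := E.restrictScalars F
  refine ⟨ι, inferInstance, fun i => (g i).natDegree, B.map EF.symm, ?_⟩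
  intro i j
  have hbj : (B.map EF.symm) ⟨i, j⟩ = E.symm (DirectSum.lof F[X] ι Q i (bQ i j)) := by
    rw [Basis.map_apply, hB]; rfl
  rw [hbj, ← map_smul, ← map_smul, hbQ, ← Submodule.Quotient.mk_smul, smul_eq_mul, ← pow_succ']
  split_ifs with h
  · have : (B.map EF.symm) ⟨i, ⟨j + 1, h⟩⟩ =
        E.symm (DirectSum.lof F[X] ι Q i (bQ i ⟨j + 1, h⟩)) := by
      rw [Basis.map_apply, hB]; rfl
    rw [this, hbQ]
  · have hj1 : (j : ℕ) + 1 = (g i).natDegree := by
      have h1 : (j : ℕ) < (g i).natDegree := j.2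
      have h2 : ¬ ((j : ℕ) + 1 < (g i).natDegree) := h
      omega
    have h0 : (Submodule.Quotient.mk (X ^ ((j : ℕ) + 1)) : Q i) = 0 := by
      rw [Submodule.Quotient.mk_eq_zero, Submodule.mem_span_singleton, hj1]
      obtain ⟨a, ha⟩ := hdvd i
      exact ⟨a, by rw [smul_eq_mul, ha, mul_comm]⟩
    rw [h0, map_zero, map_zero]

end JB


section JB2

universe u

variable {F : Type u} [Field F]

/-- reindexing step -/
theorem jordan_basis_reindex {M : Type*} [AddCommGroup M] [Module F M]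
    (N : M →ₗ[F] M)
    {ι : Type u} [Fintype ι] (dd : ι → ℕ) (b : Basis ((i : ι) × Fin (dd i)) F M)
    (hb : ∀ (i : ι) (j : Fin (dd i)), N (b ⟨i, j⟩) =
        if h : (j : ℕ) + 1 < dd i then b ⟨i, ⟨j + 1, h⟩⟩ else 0) :
    ∃ (t : ℕ) (d : Fin t → ℕ) (b' : Basis ((k : Fin t) × Fin (d k)) F M), (∀ k, 1 ≤ d k) ∧
      ∀ (k : Fin t) (j : Fin (d k)), N (b' ⟨k, j⟩) =
        if h : (j : ℕ) + 1 < d k then b' ⟨k, ⟨j + 1, h⟩⟩ else 0 := by
  classical
  let ιp := {i : ι // 0 < dd i}
  let σ1 : ((i : ι) × Fin (dd i)) ≃ ((i : ιp) × Fin (dd i.1)) :=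
    { toFun := fun x => ⟨⟨x.1, lt_of_le_of_lt (Nat.zero_le _) x.2.2⟩, x.2⟩
      invFun := fun y => ⟨y.1.1, y.2⟩
      left_inv := fun x => rfl
      right_inv := fun y => rfl }
  let t := Fintype.card ιp
  let eqv : ιp ≃ Fin t := Fintype.equivFin ιp
  let σ2 : ((i : ιp) × Fin (dd i.1)) ≃ ((k : Fin t) × Fin (dd (eqv.symm k).1)) :=
    Equiv.sigmaCongrLeft' eqv
  refine ⟨t, fun k => dd (eqv.symm k).1, b.reindex (σ1.trans σ2), fun k => (eqv.symm k).2, ?_⟩
  intro k j
  have h1 : ∀ (k : Fin t) (j : Fin (dd (eqv.symm k).1)),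
      (b.reindex (σ1.trans σ2)) ⟨k, j⟩ = b ⟨(eqv.symm k).1, j⟩ := by
    intro k j
    rw [Basis.reindex_apply]
    rfl
  rw [h1, hb]
  split_ifs with h
  · rw [h1]
  · rfl

end JB2


section JF

universe u

variable {F : Type u} [Field F] {V : Type u} [AddCommGroup V] [Module F V] [FiniteDimensional F V]

/-- Jordan basis of a nilpotent endomorphism. -/
theorem exists_jordan_basis (N : V →ₗ[F] V) (m : ℕ) (hN : N ^ m = 0) :
    ∃ (t : ℕ) (d : Fin t → ℕ) (b : Basis ((k : Fin t) × Fin (d k)) F V), (∀ k, 1 ≤ d k) ∧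
      IsJordanBasis N d b := by
  classical
  have hM : Module.IsTorsion F[X] (Module.AEval' N) :=
    Module.AEval.isTorsion_of_finiteDimensional F V N
  let o : V ≃ₗ[F] Module.AEval' N := Module.AEval'.of N
  have hXm : ∀ x : Module.AEval' N, (X ^ m : F[X]) • x = 0 := by
    intro x
    obtain ⟨v, rfl⟩ := o.surjective x
    change (X ^ m : F[X]) • (Module.AEval'.of N v) = 0
    rw [Module.AEval'.X_pow_smul_of, hN]
    simp
  obtain ⟨ι, _, dd, b0, hb0⟩ := exists_jordan_basis_aux (M := Module.AEval' N) hM m hXm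
  let b1 : Basis ((i : ι) × Fin (dd i)) F V := b0.map o.symm
  have hb1 : ∀ (i : ι) (j : Fin (dd i)), N (b1 ⟨i, j⟩) =
      if h : (j : ℕ) + 1 < dd i then b1 ⟨i, ⟨j + 1, h⟩⟩ else 0 := by
    intro i j
    have h1 : N (b1 ⟨i, j⟩) = o.symm ((X : F[X]) • b0 ⟨i, j⟩) := by
      rw [Module.AEval'.of_symm_X_smul]
      rfl
    rw [h1, hb0]
    split_ifs with h
    · rfl
    · rw [map_zero]
  exact jordan_basis_reindex N dd b1 hb1

end JF


end Cfsg.Agent.Lib.Helper49
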