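import Mathlib
import Cfsg.Prelude.Def_JordanBlocks
import Cfsg.Agent.Lib.Helper49.BlockTriCount
import Cfsg.Agent.Lib.Helper49.JordanBasis

set_option autoImplicit false

namespace Cfsg.Agent.Lib.Helper49

open Matrix Module

section UC

variable {F : Type*} [Field F] {t : ℕ} (d : Fin t → ℕ)

/-- index type of the Jordan type matrix -/
abbrev JI := (k : Fin t) × Fin (d k)

variable (F) in
/-- nilpotent part of the Jordan type matrix -/
def jnilM : Matrix (JI d) (JI d) F := Cfsg.jordanTypeMatrix d F - 1

theorem jnilM_apply (p q : JI d) :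
    jnilM F d p q = if p.1 = q.1 ∧ (p.2 : ℕ) = (q.2 : ℕ) + 1 then 1 else 0 := by
  obtain ⟨k, i⟩ := p
  obtain ⟨l, j⟩ := q
  unfold jnilM Cfsg.jordanTypeMatrix
  rw [Matrix.sub_apply, Matrix.blockDiagonal'_apply, Matrix.one_apply]
  by_cases h : k = l
  · subst h
    simp only [true_and, dite_true, cast_eq]
    unfold Cfsg.jordanBlock
    rw [Matrix.of_apply]
    by_cases h1 : (i : ℕ) = j
    · have h2 : i = j := Fin.ext h1
      subst h2
      simp
    · have h2 : ¬ ((⟨k, i⟩ : JI d) = ⟨k, j⟩) := by
        intro h3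
        apply h1
        have := eq_of_heq (Sigma.mk.inj h3).2
        rw [this]
      rw [if_neg h1, if_neg h2, sub_zero]
  · have h2 : ¬ ((⟨k, i⟩ : JI d) = ⟨l, j⟩) := by
      intro h3
      exact h (Sigma.mk.inj h3).1
    simp only [h, false_and, dite_false, if_false]
    rw [if_neg h2, sub_zero]

variable (F) in
/-- nilpotent part of the Jordan type matrix as a linear map -/
noncomputable def jnil : (JI d → F) →ₗ[F] (JI d → F) := Matrix.toLin' (jnilM F d)

theorem jnil_apply (v : JI d → F) (p : JI d) :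
    jnil F d v p = if h : 1 ≤ (p.2 : ℕ) then
      v ⟨p.1, ⟨(p.2 : ℕ) - 1, by have := p.2.2; omega⟩⟩ else 0 := by
  unfold jnil
  rw [Matrix.toLin'_apply, Matrix.mulVec, dotProduct]
  split_ifs with h
  · rw [Finset.sum_eq_single (⟨p.1, ⟨(p.2 : ℕ) - 1, by have := p.2.2; omega⟩⟩ : JI d)]
    · rw [jnilM_apply, if_pos, one_mul]
      refine ⟨rfl, ?_⟩
      simp only
      omega
    · intro q _ hq
      rw [jnilM_apply, if_neg, zero_mul]
      rintro ⟨h1, h2⟩
      apply hq
      obtain ⟨l, j⟩ := q
      obtain ⟨k, i⟩ := p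
      simp only at h1 h2
      subst h1
      congr 1
      apply Fin.ext
      simp only
      omega
    · intro h1
      exact absurd (Finset.mem_univ _) h1
  · apply Finset.sum_eq_zero
    intro q _
    rw [jnilM_apply, if_neg, zero_mul]
    rintro ⟨_, h2⟩
    omega

theorem jnil_pow_apply (m : ℕ) (v : JI d → F) (p : JI d) :
    (jnil F d ^ m) v p = if h : m ≤ (p.2 : ℕ) then
      v ⟨p.1, ⟨(p.2 : ℕ) - m, by have := p.2.2; omega⟩⟩ else 0 := by
  induction m generalizing p with
  | zero =>
    rw [dif_pos (Nat.zero_le _), pow_zero, Module.End.one_apply]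
    rfl
  | succ m ih =>
    rw [pow_succ', Module.End.mul_apply, jnil_apply]
    split_ifs with h1 h2 h2
    · rw [ih, dif_pos (by simp only; omega)]
      congr 2
      apply Fin.ext
      simp only
      omega
    · rw [ih, dif_neg (by simp only; omega)]
    · exfalso; omega
    · rfl

theorem jnil_pow_eq_zero_iff (m : ℕ) (v : JI d → F) :
    (jnil F d ^ m) v = 0 ↔ ∀ p : JI d, (p.2 : ℕ) + m < d p.1 → v p = 0 := by
  constructor
  · intro h p hp
    have h1 := congrFun h ⟨p.1, ⟨(p.2 : ℕ) + m, hp⟩⟩
    rw [jnil_pow_apply, dif_pos (by simp only; omega), Pi.zero_apply] at h1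
    rw [← h1]
    congr 1
    obtain ⟨k, i⟩ := p
    congr 1
    apply Fin.ext
    simp only
    omega
  · intro h
    funext p
    rw [jnil_pow_apply]
    split_ifs with h1
    · apply h
      simp only
      have := p.2.2
      omega
    · rfl

theorem jnil_isJordanBasis : IsJordanBasis (jnil F d) d (Pi.basisFun F (JI d)) := by
  intro k j
  funext p
  rw [jnil_apply, Pi.basisFun_apply]
  obtain ⟨l, i⟩ := p
  simp only
  by_cases hkl : l = k
  · subst hkl
    split_ifs with h1 h2 h2
    · rw [Pi.basisFun_apply, Pi.single_apply, Pi.single_apply]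
      by_cases h3 : (i : ℕ) = j + 1
      · rw [if_pos, if_pos]
        · congr 1
          apply Fin.ext
          exact h3
        · congr 1
          apply Fin.ext
          simp only
          omega
      · rw [if_neg, if_neg]
        · intro h4
          apply h3
          have := eq_of_heq (Sigma.mk.inj h4).2
          rw [this]
        · intro h4
          apply h3
          have := eq_of_heq (Sigma.mk.inj h4).2
          rw [← this]
          simp only
          omega
    · rw [Pi.single_apply, if_neg]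
      · rfl
      · intro h4
        have := eq_of_heq (Sigma.mk.inj h4).2
        have h5 := congrArg Fin.val this
        simp only at h5
        have := i.2
        omega
    · rw [Pi.basisFun_apply, Pi.single_apply, if_neg]
      intro h4
      have := eq_of_heq (Sigma.mk.inj h4).2
      have h5 := congrArg Fin.val this
      simp only at h5
      omega
    · rfl
  · have h0 : ∀ (i' : Fin (d l)) (j' : Fin (d k)),
        (Pi.single (⟨k, j'⟩ : JI d) (1 : F) : JI d → F) ⟨l, i'⟩ = 0 := by
      intro i' j'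
      rw [Pi.single_apply, if_neg]
      intro h4
      exact hkl (Sigma.mk.inj h4).1
    split_ifs with h1 h2 h2
    · rw [Pi.basisFun_apply, h0, h0]
    · rw [h0]; rfl
    · rw [Pi.basisFun_apply, h0]
    · rfl

/-- Nakayama-type lemma: an operator commuting with a nilpotent `N` and surjective modulo
the range of `N` is surjective. -/
theorem surjective_of_commute_nilpotent {V : Type*} [AddCommGroup V] [Module F V]
    (G N : V →ₗ[F] V) (hc : Commute G N) (m : ℕ) (hN : N ^ m = 0)
    (h : ∀ v, ∃ w u, v = G w + N u) : Function.Surjective G := by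
  have key : ∀ j : ℕ, ∀ v, ∃ w u, v = G w + (N ^ j) u := by
    intro j
    induction j with
    | zero =>
      intro v
      exact ⟨0, v, by simp⟩
    | succ j ih =>
      intro v
      obtain ⟨w, u, hv⟩ := ih v
      obtain ⟨w', u', hu⟩ := h u
      refine ⟨w + (N ^ j) w', u', ?_⟩
      have h1 : (N ^ j) (G w') = G ((N ^ j) w') := by
        have := (hc.pow_right j).eq
        rw [← Module.End.mul_apply, ← Module.End.mul_apply, this]
      rw [hv, hu, map_add, map_add, h1, pow_succ, Module.End.mul_apply, add_assoc]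
  intro v
  obtain ⟨w, u, hv⟩ := key m v
  refine ⟨w, ?_⟩
  rw [hv, hN, LinearMap.zero_apply, add_zero]

variable (hd : ∀ k, 1 ≤ d k)

/-- top index of block `k` -/
def jz (k : Fin t) : JI d := ⟨k, ⟨0, hd k⟩⟩

theorem eq_jz_of_val_eq_zero (p : JI d) (hp : (p.2 : ℕ) = 0) : p = jz d hd p.1 := by
  obtain ⟨k, i⟩ := p
  unfold jz
  congr 1
  apply Fin.ext
  exact hp

variable (F) in
/-- projection onto the top coordinates -/
def jpi : (JI d → F) →ₗ[F] (Fin t → F) := LinearMap.funLeft F F (jz d hd)

theorem jpi_apply (v : JI d → F) (l : Fin t) : jpi F d hd v l = v (jz d hd l) := rfl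

theorem jpi_surjective : Function.Surjective (jpi F d hd) := by
  intro w
  refine ⟨fun p => w p.1, ?_⟩
  funext l
  rfl

theorem jpi_jnil_pow (m : ℕ) (v : JI d → F) :
    jpi F d hd ((jnil F d ^ m) v) = if m = 0 then jpi F d hd v else 0 := by
  funext l
  rw [jpi_apply, jnil_pow_apply]
  split_ifs with h1 h2 h2
  · subst h2
    rfl
  · exfalso
    have : ((jz d hd l).2 : ℕ) = 0 := rfl
    omega
  · exfalso
    apply h1
    rw [h2]
    exact Nat.zero_le _
  · rfl

theorem mem_range_jnil_of_jpi_eq_zero (v : JI d → F) (hv : jpi F d hd v = 0) :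
    ∃ u, v = jnil F d u := by
  refine ⟨fun p => if h : (p.2 : ℕ) + 1 < d p.1 then v ⟨p.1, ⟨(p.2 : ℕ) + 1, h⟩⟩ else 0, ?_⟩
  funext p
  rw [jnil_apply]
  by_cases h1 : 1 ≤ (p.2 : ℕ)
  · have h2 : (p.2 : ℕ) - 1 + 1 < d p.1 := by
      have := p.2.2
      omega
    rw [dif_pos h1]
    beta_reduce
    rw [dif_pos h2]
    obtain ⟨k, i⟩ := p
    congr 2
    apply Fin.ext
    simp only
    simp only at h1
    omega
  · have h2 : (p.2 : ℕ) = 0 := by omega
    rw [dif_neg h1]
    rw [eq_jz_of_val_eq_zero d hd p h2]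
    exact congrFun hv p.1

/-- the endomorphism commuting with `jnil` generated by a tuple of vectors -/
noncomputable def jgen (x : Fin t → (JI d → F)) : (JI d → F) →ₗ[F] (JI d → F) :=
  (Pi.basisFun F (JI d)).constr F (fun p => (jnil F d ^ (p.2 : ℕ)) (x p.1))

theorem jgen_single (x : Fin t → (JI d → F)) (p : JI d) :
    jgen d x (Pi.single p 1) = (jnil F d ^ (p.2 : ℕ)) (x p.1) := by
  unfold jgen
  rw [← Pi.basisFun_apply F (JI d) p, Basis.constr_basis]

theorem jgen_commute (x : Fin t → (JI d → F)) (hx : ∀ k, (jnil F d ^ d k) (x k) = 0) :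
    Commute (jgen d x) (jnil F d) := by
  apply (Pi.basisFun F (JI d)).ext
  intro p
  rw [Module.End.mul_apply, Module.End.mul_apply, jnil_isJordanBasis d p.1 p.2]
  split_ifs with h
  · rw [Pi.basisFun_apply, Pi.basisFun_apply, jgen_single, jgen_single, ← Module.End.mul_apply,
      ← pow_succ']
  · rw [Pi.basisFun_apply, map_zero, jgen_single, ← Module.End.mul_apply, ← pow_succ']
    have h1 : (p.2 : ℕ) + 1 = d p.1 := by
      have := p.2.2
      omega
    rw [h1, hx]

theorem single_eq_jnil_pow (p : JI d) :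
    (Pi.single p 1 : JI d → F) = (jnil F d ^ (p.2 : ℕ)) (Pi.single (jz d hd p.1) 1) := by
  have h := (jnil_isJordanBasis (F := F) d).pow_apply (p.2 : ℕ) p.1 ⟨0, hd p.1⟩
  rw [Pi.basisFun_apply] at h
  unfold jz
  rw [h, dif_pos (by simp only; have := p.2.2; omega), Pi.basisFun_apply]
  obtain ⟨k, i⟩ := p
  congr 2
  apply Fin.ext
  simp

theorem jnil_pow_single_jz (k : Fin t) :
    (jnil F d ^ d k) (Pi.single (jz d hd k) 1) = 0 := by
  have h := (jnil_isJordanBasis (F := F) d).pow_apply (d k) k ⟨0, hd k⟩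
  rw [Pi.basisFun_apply] at h
  unfold jz
  rw [h, dif_neg (by simp)]

theorem eq_jgen_of_commute (G : (JI d → F) →ₗ[F] (JI d → F)) (hG : Commute G (jnil F d)) :
    G = jgen d (fun k => G (Pi.single (jz d hd k) 1)) := by
  apply (Pi.basisFun F (JI d)).ext
  intro p
  rw [Pi.basisFun_apply, jgen_single]
  conv_lhs => rw [single_eq_jnil_pow d hd p]
  have := (hG.pow_right (p.2 : ℕ)).eq
  rw [← Module.End.mul_apply, this, Module.End.mul_apply]

/-- matrix of top coordinates of a tuple -/
def jtop (x : Fin t → (JI d → F)) : Matrix (Fin t) (Fin t) F :=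
  Matrix.of fun l k => x k (jz d hd l)

theorem jpi_jgen (x : Fin t → (JI d → F)) :
    (jpi F d hd) ∘ₗ (jgen d x) = (Matrix.toLin' (jtop d hd x)) ∘ₗ (jpi F d hd) := by
  apply (Pi.basisFun F (JI d)).ext
  intro p
  rw [LinearMap.comp_apply, LinearMap.comp_apply, Pi.basisFun_apply, jgen_single, jpi_jnil_pow]
  funext l'
  rw [Matrix.toLin'_apply, Matrix.mulVec, dotProduct]
  split_ifs with h
  · rw [Finset.sum_eq_single p.1]
    · rw [jpi_apply, jpi_apply, ← eq_jz_of_val_eq_zero d hd p h, Pi.single_eq_same, mul_one]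
      rfl
    · intro l _ hl
      rw [jpi_apply, Pi.single_apply, if_neg, mul_zero]
      intro h1
      apply hl
      rw [← h1]
      rfl
    · intro h1
      exact absurd (Finset.mem_univ _) h1
  · symm
    apply Finset.sum_eq_zero
    intro l _
    rw [jpi_apply, Pi.single_apply, if_neg, mul_zero]
    intro h1
    apply h
    rw [← h1]
    rfl

theorem jgen_surjective_iff (x : Fin t → (JI d → F)) (hx : ∀ k, (jnil F d ^ d k) (x k) = 0) :
    Function.Surjective (jgen d x) ↔ IsUnit (jtop d hd x) := by
  have hcomp := jpi_jgen d hd x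
  constructor
  · intro h
    rw [← Matrix.mulVec_surjective_iff_isUnit]
    intro w
    obtain ⟨v, hv⟩ := jpi_surjective (F := F) d hd w
    obtain ⟨u, hu⟩ := h v
    refine ⟨jpi F d hd u, ?_⟩
    have := LinearMap.congr_fun hcomp u
    rw [LinearMap.comp_apply, LinearMap.comp_apply, Matrix.toLin'_apply] at this
    rw [← this, hu, hv]
  · intro h
    rw [← Matrix.mulVec_surjective_iff_isUnit] at h
    have hmax : (jnil F d) ^ (Finset.univ.sup d) = 0 := by
      apply LinearMap.ext
      intro v
      rw [LinearMap.zero_apply, jnil_pow_eq_zero_iff]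
      intro p hp
      exfalso
      have := Finset.le_sup (f := d) (Finset.mem_univ p.1)
      omega
    apply surjective_of_commute_nilpotent (jgen d x) (jnil F d) (jgen_commute d x hx) _ hmax
    intro v
    obtain ⟨w, hw⟩ := h (jpi F d hd v)
    obtain ⟨w', hw'⟩ := jpi_surjective (F := F) d hd w
    have h1 : jpi F d hd (v - jgen d x w') = 0 := by
      have := LinearMap.congr_fun hcomp w'
      rw [LinearMap.comp_apply, LinearMap.comp_apply, Matrix.toLin'_apply] at this
      rw [map_sub, this, hw', hw, sub_self]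
    obtain ⟨u, hu⟩ := mem_range_jnil_of_jpi_eq_zero d hd _ h1
    refine ⟨w', u, ?_⟩
    rw [← hu]
    abel

/-- the set of generating tuples of invertible commuting operators -/
def JS : Set (Fin t → (JI d → F)) :=
  {x | (∀ k, (jnil F d ^ d k) (x k) = 0) ∧ IsUnit (jtop d hd x)}

theorem commute_toLin'_of_comm (g : Matrix (JI d) (JI d) F)
    (hg : g * Cfsg.jordanTypeMatrix d F = Cfsg.jordanTypeMatrix d F * g) :
    Commute (Matrix.toLin' g) (jnil F d) := by
  unfold jnil jnilM
  show Matrix.toLin' g * Matrix.toLin' _ = Matrix.toLin' _ * Matrix.toLin' g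
  rw [Module.End.mul_eq_comp, Module.End.mul_eq_comp, ← Matrix.toLin'_mul, ← Matrix.toLin'_mul,
    mul_sub, sub_mul, hg, mul_one, one_mul]

theorem comm_of_commute_toLin' (g : Matrix (JI d) (JI d) F)
    (hg : Commute (Matrix.toLin' g) (jnil F d)) :
    g * Cfsg.jordanTypeMatrix d F = Cfsg.jordanTypeMatrix d F * g := by
  unfold jnil jnilM at hg
  have h1 : Matrix.toLin' g * Matrix.toLin' (Cfsg.jordanTypeMatrix d F - 1) =
      Matrix.toLin' (Cfsg.jordanTypeMatrix d F - 1) * Matrix.toLin' g := hg
  rw [Module.End.mul_eq_comp, Module.End.mul_eq_comp, ← Matrix.toLin'_mul,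
    ← Matrix.toLin'_mul] at h1
  have h2 := Matrix.toLin'.injective h1
  rw [mul_sub, sub_mul, mul_one, one_mul] at h2
  exact sub_left_injective h2

theorem card_centralizer_eq_card_JS [Fintype F] :
    Nat.card {g : GL (JI d) F // (g : Matrix (JI d) (JI d) F) * Cfsg.jordanTypeMatrix d F =
      Cfsg.jordanTypeMatrix d F * (g : Matrix (JI d) (JI d) F)} = Nat.card (JS (F := F) d hd) := by
  classical
  have hwd : ∀ g : {g : GL (JI d) F // (g : Matrix (JI d) (JI d) F) * Cfsg.jordanTypeMatrix d F =
      Cfsg.jordanTypeMatrix d F * (g : Matrix (JI d) (JI d) F)},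
      (fun k => (g.1 : Matrix (JI d) (JI d) F) *ᵥ Pi.single (jz d hd k) 1) ∈ JS (F := F) d hd := by
    intro g
    have hc := commute_toLin'_of_comm d g.1.1 g.2
    have heq := eq_jgen_of_commute d hd _ hc
    have hker : ∀ k, (jnil F d ^ d k) ((g.1 : Matrix (JI d) (JI d) F) *ᵥ
        Pi.single (jz d hd k) 1) = 0 := by
      intro k
      rw [← Matrix.toLin'_apply, ← Module.End.mul_apply, ← (hc.pow_right (d k)).eq,
        Module.End.mul_apply, jnil_pow_single_jz, map_zero]
    refine ⟨hker, ?_⟩
    have h1 := (jgen_surjective_iff d hd _ hker).mp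
    apply h1
    have h2 : Function.Surjective (Matrix.toLin' (g.1 : Matrix (JI d) (JI d) F)) := by
      have : Function.Surjective (g.1 : Matrix (JI d) (JI d) F).mulVec :=
        Matrix.mulVec_surjective_iff_isUnit.mpr g.1.isUnit
      intro v
      obtain ⟨w, hw⟩ := this v
      exact ⟨w, by rw [Matrix.toLin'_apply]; exact hw⟩
    rw [heq] at h2
    exact h2
  apply Nat.card_congr
  apply Equiv.ofBijective (fun g => (⟨_, hwd g⟩ : JS (F := F) d hd))
  constructor
  · intro g g' hgg
    have hx : (fun k => (g.1 : Matrix (JI d) (JI d) F) *ᵥ Pi.single (jz d hd k) 1) =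
        (fun k => (g'.1 : Matrix (JI d) (JI d) F) *ᵥ Pi.single (jz d hd k) 1) :=
      congrArg Subtype.val hgg
    have h1 := eq_jgen_of_commute d hd _ (commute_toLin'_of_comm d g.1.1 g.2)
    have h2 := eq_jgen_of_commute d hd _ (commute_toLin'_of_comm d g'.1.1 g'.2)
    simp only [Matrix.toLin'_apply] at h1 h2
    rw [hx, ← h2] at h1
    apply Subtype.ext
    apply Units.ext
    exact Matrix.toLin'.injective h1
  · rintro ⟨x, hx1, hx2⟩
    have hs := (jgen_surjective_iff d hd x hx1).mpr hx2
    have hc := jgen_commute d x hx1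
    have hu : IsUnit (LinearMap.toMatrix' (jgen d x)) := by
      rw [← Matrix.mulVec_surjective_iff_isUnit]
      intro v
      obtain ⟨w, hw⟩ := hs v
      refine ⟨w, ?_⟩
      rw [← Matrix.toLin'_apply, Matrix.toLin'_toMatrix']
      exact hw
    refine ⟨⟨hu.unit, ?_⟩, ?_⟩
    · apply comm_of_commute_toLin'
      rw [IsUnit.unit_spec, Matrix.toLin'_toMatrix']
      exact hc
    · apply Subtype.ext
      funext k
      simp only [IsUnit.unit_spec]
      rw [← Matrix.toLin'_apply, Matrix.toLin'_toMatrix', jgen_single]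
      rfl

/-- block label: size of block as an element of a finite linear order -/
def jb (k : Fin t) : Fin (Finset.univ.sup d + 1) :=
  ⟨d k, Nat.lt_succ_of_le (Finset.le_sup (f := d) (Finset.mem_univ k))⟩

theorem jb_lt_iff (k l : Fin t) : jb d k < jb d l ↔ d k < d l := Iff.rfl

theorem jb_eq_iff (k : Fin t) (i : Fin (Finset.univ.sup d + 1)) : jb d k = i ↔ d k = (i : ℕ) :=
  Fin.ext_iff

/-- free positions below the top rows -/
abbrev JPos := (k : Fin t) × (l : Fin t) × {j : Fin (d l) // 1 ≤ (j : ℕ) ∧ d l ≤ (j : ℕ) + d k}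

theorem JS_mem_iff (x : Fin t → (JI d → F)) :
    x ∈ JS (F := F) d hd ↔
      (∀ k (p : JI d), (p.2 : ℕ) + d k < d p.1 → x k p = 0) ∧ IsUnit (jtop d hd x) := by
  unfold JS
  rw [Set.mem_setOf_eq]
  apply and_congr_left'
  apply forall_congr'
  intro k
  exact jnil_pow_eq_zero_iff d (d k) (x k)

/-- the tuple with given top matrix and lower entries -/
def jsInv (c : Matrix (Fin t) (Fin t) F) (y : JPos d → F) : Fin t → (JI d → F) :=
  fun k p => if h0 : (p.2 : ℕ) = 0 then c p.1 k
    else if h : d p.1 ≤ (p.2 : ℕ) + d k then y ⟨k, p.1, ⟨p.2, by omega, h⟩⟩ else 0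

theorem jsInv_apply (c : Matrix (Fin t) (Fin t) F) (y : JPos d → F) (k : Fin t) (p : JI d) :
    jsInv d c y k p = if h0 : (p.2 : ℕ) = 0 then c p.1 k
    else if h : d p.1 ≤ (p.2 : ℕ) + d k then y ⟨k, p.1, ⟨p.2, by omega, h⟩⟩ else 0 := rfl

theorem jtop_jsInv (c : Matrix (Fin t) (Fin t) F) (y : JPos d → F) :
    jtop d hd (jsInv d c y) = c := by
  ext l k
  unfold jtop
  rw [Matrix.of_apply, jsInv_apply]
  have : ((jz d hd l).2 : ℕ) = 0 := rfl
  rw [dif_pos this]
  rfl

theorem jsInv_mem (c : Matrix (Fin t) (Fin t) F) (hc : c.BlockTriangular (jb d) ∧ IsUnit c.det)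
    (y : JPos d → F) : jsInv d c y ∈ JS (F := F) d hd := by
  rw [JS_mem_iff]
  constructor
  · intro k p hp
    rw [jsInv_apply]
    split_ifs with h0 h
    · apply hc.1
      rw [jb_lt_iff]
      omega
    · exfalso; omega
    · rfl
  · rw [Matrix.isUnit_iff_isUnit_det, jtop_jsInv]
    exact hc.2

/-- the parametrisation of `JS` -/
noncomputable def jsEquiv : JS (F := F) d hd ≃
    {c : Matrix (Fin t) (Fin t) F // c.BlockTriangular (jb d) ∧ IsUnit c.det} × (JPos d → F) where
  toFun x := (⟨jtop d hd x.1, by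
      intro i j hij
      rw [jb_lt_iff] at hij
      have h1 := ((JS_mem_iff d hd x.1).mp x.2).1 j (jz d hd i)
      apply h1
      show 0 + d j < d i
      omega, (Matrix.isUnit_iff_isUnit_det _).mp ((JS_mem_iff d hd x.1).mp x.2).2⟩,
    fun r => x.1 r.1 ⟨r.2.1, r.2.2.1⟩)
  invFun cy := ⟨jsInv d cy.1.1 cy.2, jsInv_mem d hd cy.1.1 cy.1.2 cy.2⟩
  left_inv x := by
    apply Subtype.ext
    funext k p
    show jsInv d (jtop d hd x.1) _ k p = _
    rw [jsInv_apply]
    split_ifs with h0 h
    · unfold jtop
      rw [Matrix.of_apply, ← eq_jz_of_val_eq_zero d hd p h0]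
    · rfl
    · symm
      apply ((JS_mem_iff d hd x.1).mp x.2).1 k p
      omega
  right_inv cy := by
    apply Prod.ext
    · apply Subtype.ext
      exact jtop_jsInv d hd cy.1.1 cy.2
    · funext r
      obtain ⟨k, l, ⟨j, hj1, hj2⟩⟩ := r
      show jsInv d cy.1.1 cy.2 k ⟨l, j⟩ = _
      rw [jsInv_apply, dif_neg (by simp only; omega), dif_pos hj2]

theorem card_fin_window (n m : ℕ) (hn : 1 ≤ n) (hm : 1 ≤ m) :
    Fintype.card {j : Fin n // 1 ≤ (j : ℕ) ∧ n ≤ (j : ℕ) + m} = if n ≤ m then n - 1 else m := by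
  have e : {j : Fin n // 1 ≤ (j : ℕ) ∧ n ≤ (j : ℕ) + m} ≃ {j : Fin n // max 1 (n - m) ≤ (j : ℕ)} :=
    Equiv.subtypeEquivRight (fun j => by omega)
  rw [Fintype.card_congr e, card_fin_ge]
  split_ifs <;> omega

include hd in
theorem card_JPos :
    Fintype.card (JPos d) = ∑ k : Fin t, ∑ l : Fin t, if d l ≤ d k then d l - 1 else d k := by
  rw [Fintype.card_sigma]
  apply Finset.sum_congr rfl
  intro k _
  rw [Fintype.card_sigma]
  apply Finset.sum_congr rfl
  intro l _
  exact card_fin_window (d l) (d k) (hd l) (hd k)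

theorem card_jb_lt :
    Fintype.card {p : Fin t × Fin t // jb d p.1 < jb d p.2} =
      ∑ k : Fin t, ∑ l : Fin t, if d l < d k then 1 else 0 := by
  rw [Fintype.card_subtype, Finset.card_filter, Fintype.sum_prod_type, Finset.sum_comm]
  rfl

/-- multiplicity of a block size -/
def jmult (i : ℕ) : ℕ := (Finset.univ.filter (fun k : Fin t => d k = i)).card

theorem sum_comp_eq (g : ℕ → ℕ) :
    ∑ k : Fin t, g (d k) = ∑ i ∈ Finset.range (Finset.univ.sup d + 1), jmult d i * g i := by
  have h : ∀ k ∈ (Finset.univ : Finset (Fin t)), d k ∈ Finset.range (Finset.univ.sup d + 1) := by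
    intro k _
    rw [Finset.mem_range]
    exact Nat.lt_succ_of_le (Finset.le_sup (f := d) (Finset.mem_univ k))
  rw [← Finset.sum_fiberwise_of_maps_to h]
  apply Finset.sum_congr rfl
  intro i _
  unfold jmult
  rw [Finset.card_eq_sum_ones, Finset.sum_mul]
  apply Finset.sum_congr rfl
  intro k hk
  rw [(Finset.mem_filter.mp hk).2, one_mul]

include hd in
theorem exponent_eq :
    Fintype.card {p : Fin t × Fin t // jb d p.1 < jb d p.2} + Fintype.card (JPos d) =
      2 * (∑ i ∈ Finset.range (Finset.univ.sup d + 1),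
        ∑ j ∈ Finset.range (Finset.univ.sup d + 1),
          if i < j then i * jmult d i * jmult d j else 0) +
      ∑ i ∈ Finset.range (Finset.univ.sup d + 1), (i - 1) * jmult d i ^ 2 := by
  rw [card_JPos d hd, card_jb_lt, ← Finset.sum_add_distrib]
  have h1 : ∀ k : Fin t, (∑ l : Fin t, (if d l < d k then 1 else 0)) +
      (∑ l : Fin t, if d l ≤ d k then d l - 1 else d k) =
      ∑ i ∈ Finset.range (Finset.univ.sup d + 1), jmult d i *
        (if i < d k then i else if i = d k then i - 1 else d k) := by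
    intro k
    rw [← Finset.sum_add_distrib,
      ← sum_comp_eq d (fun n => if n < d k then n else if n = d k then n - 1 else d k)]
    apply Finset.sum_congr rfl
    intro l _
    have := hd l
    have := hd k
    split_ifs <;> omega
  rw [Finset.sum_congr rfl (fun k _ => h1 k)]
  rw [sum_comp_eq d (fun m => ∑ i ∈ Finset.range (Finset.univ.sup d + 1), jmult d i *
        (if i < m then i else if i = m then i - 1 else m))]
  have key : ∀ j i : ℕ, jmult d j * (jmult d i * (if i < j then i else if i = j then i - 1 else j)) =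
      (if i < j then i * jmult d i * jmult d j else 0) +
      (if j < i then j * jmult d j * jmult d i else 0) +
      (if j = i then (i - 1) * jmult d i ^ 2 else 0) := by
    intro j i
    rcases lt_trichotomy i j with h | h | h
    · rw [if_pos h, if_pos h, if_neg (by omega), if_neg (by omega)]
      ring
    · subst h
      simp
      ring
    · rw [if_neg (by omega), if_neg (by omega), if_neg (by omega), if_pos h, if_neg (by omega)]
      ring
  have hL : ∀ j ∈ Finset.range (Finset.univ.sup d + 1),
      jmult d j * (∑ i ∈ Finset.range (Finset.univ.sup d + 1), jmult d i *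
        (if i < j then i else if i = j then i - 1 else j)) =
      ∑ i ∈ Finset.range (Finset.univ.sup d + 1),
        ((if i < j then i * jmult d i * jmult d j else 0) +
      (if j < i then j * jmult d j * jmult d i else 0) +
      (if j = i then (i - 1) * jmult d i ^ 2 else 0)) := by
    intro j _
    rw [Finset.mul_sum]
    apply Finset.sum_congr rfl
    intro i _
    exact key j i
  rw [Finset.sum_congr rfl hL]
  simp_rw [Finset.sum_add_distrib]
  rw [Finset.sum_comm (f := fun j i => if i < j then i * jmult d i * jmult d j else 0)]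
  simp_rw [Finset.sum_ite_eq]
  rw [two_mul]
  congr 1
  apply Finset.sum_congr rfl
  intro i hi
  rw [if_pos hi]

theorem card_jb_fiber (i : Fin (Finset.univ.sup d + 1)) :
    Fintype.card {k : Fin t // jb d k = i} = jmult d (i : ℕ) := by
  rw [Fintype.card_subtype]
  unfold jmult
  congr 1
  apply Finset.filter_congr
  intro k _
  exact jb_eq_iff d k i

include hd in
theorem card_unip_centralizer [Fintype F] :
    Nat.card {g : GL (JI d) F // (g : Matrix (JI d) (JI d) F) * Cfsg.jordanTypeMatrix d F =
      Cfsg.jordanTypeMatrix d F * (g : Matrix (JI d) (JI d) F)} =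
    Fintype.card F ^ (2 * (∑ i ∈ Finset.range (Finset.univ.sup d + 1),
        ∑ j ∈ Finset.range (Finset.univ.sup d + 1),
          if i < j then i * jmult d i * jmult d j else 0) +
      ∑ i ∈ Finset.range (Finset.univ.sup d + 1), (i - 1) * jmult d i ^ 2) *
    ∏ i ∈ Finset.range (Finset.univ.sup d + 1), ∏ j : Fin (jmult d i),
      (Fintype.card F ^ jmult d i - Fintype.card F ^ (j : ℕ)) := by
  classical
  rw [card_centralizer_eq_card_JS d hd, Nat.card_congr (jsEquiv d hd), Nat.card_prod,
    card_blockTriangular_units, Nat.card_fun, Nat.card_eq_fintype_card, Nat.card_eq_fintype_card,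
    mul_right_comm, ← pow_add, exponent_eq d hd]
  congr 1
  rw [← Fin.prod_univ_eq_prod_range (fun i => ∏ j : Fin (jmult d i),
      (Fintype.card F ^ jmult d i - Fintype.card F ^ (j : ℕ)))]
  apply Finset.prod_congr rfl
  intro i _
  exact card_GL_of_card _ _ (card_jb_fiber d i)

end UC

end Cfsg.Agent.Lib.Helper49
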