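import Mathlib
import Cfsg.Agent.Lib.Helper49.UnipCentralizer
import Cfsg.Agent.Lib.Helper43.AltForm

set_option autoImplicit false

namespace Cfsg.Agent.Lib.Helper49

open Matrix Module

section Nec

variable {F : Type*} [Field F] {V : Type*} [AddCommGroup V] [Module F V]
  (B : LinearMap.BilinForm F V) (N : V →ₗ[F] V)

/-- invariance of `B` under `1 + N` -/
def UInv : Prop := ∀ x y, B (x + N x) (y + N y) = B x y

variable {B N}

theorem UInv.rel (h : UInv B N) (x y : V) : B (N x) y + B x (N y) + B (N x) (N y) = 0 := by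
  have := h x y
  simp only [map_add, LinearMap.add_apply] at this
  linear_combination this

theorem UInv.adj (h : UInv B N) (x y : V) : B x (N y) = - B (N x) (y + N y) := by
  have := h.rel x y
  rw [map_add]
  linear_combination this

theorem UInv.adj_pow (h : UInv B N) (j : ℕ) (x z : V) :
    B x ((N ^ j) z) = (-1) ^ j * B ((N ^ j) x) (((1 + N) ^ j) z) := by
  induction j generalizing x z with
  | zero => simp
  | succ j ih =>
    have hc : Commute (N ^ j) (1 + N) := by
      apply Commute.add_right (Commute.one_right _)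
      exact (Commute.refl N).pow_left j
    have h1 : (N ^ (j + 1)) z = N ((N ^ j) z) := by
      rw [pow_succ', Module.End.mul_apply]
    have h2 : (N ^ j) z + N ((N ^ j) z) = (N ^ j) ((1 + N) z) := by
      rw [LinearMap.add_apply, Module.End.one_apply, map_add, ← Module.End.mul_apply,
        ← Module.End.mul_apply, ← pow_succ, ← pow_succ']
    rw [h1, h.adj, h2, ih, pow_succ (N) j, Module.End.mul_apply, pow_succ (1 + N) j,
      Module.End.mul_apply, pow_succ]
    ring

theorem UInv.ortho_of_pow_eq_zero (h : UInv B N) (j : ℕ) (x : V) (hx : (N ^ j) x = 0) (z : V) :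
    B x ((N ^ j) z) = 0 := by
  rw [h.adj_pow, hx, map_zero, LinearMap.zero_apply, mul_zero]

theorem pow_apply_eq_zero_of_le {j b : ℕ} (x : V) (hx : (N ^ j) x = 0) (hb : j ≤ b) :
    (N ^ b) x = 0 := by
  obtain ⟨c, rfl⟩ := Nat.exists_eq_add_of_le hb
  rw [add_comm, pow_add, Module.End.mul_apply, hx, map_zero]

theorem UInv.level_zero (h : UInv B N) (j : ℕ) (x : V) (hx : (N ^ j) x = 0) :
    ∀ r a b : ℕ, j ≤ a + b → j ≤ b + r → B ((N ^ a) x) ((N ^ b) x) = 0 := by
  intro r
  induction r with
  | zero =>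
    intro a b _ hb
    rw [pow_apply_eq_zero_of_le x hx (by omega : j ≤ b), map_zero]
  | succ r ih =>
    intro a b hab hb
    by_cases hjb : j ≤ b
    · rw [pow_apply_eq_zero_of_le x hx hjb, map_zero]
    · obtain ⟨a', rfl⟩ : ∃ a', a = a' + 1 := ⟨a - 1, by omega⟩
      have h1 := h.rel ((N ^ a') x) ((N ^ b) x)
      rw [← Module.End.mul_apply, ← pow_succ', ← Module.End.mul_apply N, ← pow_succ'] at h1
      have h2 := ih a' (b + 1) (by omega) (by omega)
      have h3 := ih (a' + 1) (b + 1) (by omega) (by omega)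
      rw [h2, h3] at h1
      simpa using h1

theorem UInv.alt_mid (h : UInv B N) (hA : B.IsAlt) (k : ℕ) (x : V)
    (hx : (N ^ (2 * k + 1)) x = 0) :
    ∀ i : ℕ, i ≤ k → B ((N ^ (k - i)) x) ((N ^ (k + i)) x) = 0 := by
  intro i
  induction i with
  | zero =>
    intro _
    exact hA.self_eq_zero _
  | succ i ih =>
    intro hi
    have h1 := h.rel ((N ^ (k - (i + 1))) x) ((N ^ (k + i)) x)
    rw [← Module.End.mul_apply, ← pow_succ', ← Module.End.mul_apply N, ← pow_succ'] at h1
    have e1 : k - (i + 1) + 1 = k - i := by omega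
    rw [e1] at h1
    have h2 := ih (by omega)
    have h3 := h.level_zero (2 * k + 1) x hx (2 * k + 1) (k - i) (k + i + 1) (by omega) (by omega)
    rw [h2, h3] at h1
    have e2 : k + (i + 1) = k + i + 1 := by omega
    rw [e2]
    simpa using h1

theorem UInv.alt_top (h : UInv B N) (hA : B.IsAlt) (k : ℕ) (x : V)
    (hx : (N ^ (2 * k + 1)) x = 0) : B x ((N ^ (2 * k)) x) = 0 := by
  have := h.alt_mid hA k x hx k le_rfl
  rw [Nat.sub_self, pow_zero, Module.End.one_apply, ← two_mul] at this
  exact this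

theorem UInv.sym_mid (h : UInv B N) (hS : B.IsSymm) (h2 : (2 : F) ≠ 0) (k : ℕ) (hk : 1 ≤ k) (x : V)
    (hx : (N ^ (2 * k)) x = 0) :
    ∀ i : ℕ, i + 1 ≤ k → B ((N ^ (k - 1 - i)) x) ((N ^ (k + i)) x) = 0 := by
  intro i
  induction i with
  | zero =>
    intro _
    have h1 := h.rel ((N ^ (k - 1)) x) ((N ^ (k - 1)) x)
    rw [← Module.End.mul_apply, ← pow_succ'] at h1
    have e1 : k - 1 + 1 = k := by omega
    rw [e1] at h1
    have h3 := h.level_zero (2 * k) x hx (2 * k) k k (by omega) (by omega)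
    rw [h3, add_zero, hS.eq ((N ^ k) x) ((N ^ (k - 1)) x)] at h1
    have h4 : (2 : F) * B ((N ^ (k - 1)) x) ((N ^ k) x) = 0 := by
      rw [two_mul]; exact h1
    rcases mul_eq_zero.mp h4 with h5 | h5
    · exact absurd h5 h2
    · simpa using h5
  | succ i ih =>
    intro hi
    have h1 := h.rel ((N ^ (k - 1 - (i + 1))) x) ((N ^ (k + i)) x)
    rw [← Module.End.mul_apply, ← pow_succ', ← Module.End.mul_apply N, ← pow_succ'] at h1
    have e1 : k - 1 - (i + 1) + 1 = k - 1 - i := by omega
    rw [e1] at h1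
    have h2' := ih (by omega)
    have h3 := h.level_zero (2 * k) x hx (2 * k) (k - 1 - i) (k + i + 1) (by omega) (by omega)
    rw [h2', h3] at h1
    have e2 : k + (i + 1) = k + i + 1 := by omega
    rw [e2]
    simpa using h1

theorem UInv.sym_top (h : UInv B N) (hS : B.IsSymm) (h2 : (2 : F) ≠ 0) (k : ℕ) (hk : 1 ≤ k) (x : V)
    (hx : (N ^ (2 * k)) x = 0) : B x ((N ^ (2 * k - 1)) x) = 0 := by
  have := h.sym_mid hS h2 k hk x hx (k - 1) (by omega)
  have e1 : k - 1 - (k - 1) = 0 := by omega
  have e2 : k + (k - 1) = 2 * k - 1 := by omega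
  rw [e1, e2, pow_zero, Module.End.one_apply] at this
  exact this

end Nec

section Spec

variable {F : Type*} [Field F] {t : ℕ} (d : Fin t → ℕ) (hd : ∀ k, 1 ≤ d k)
  (B : LinearMap.BilinForm F (JI d → F))

theorem orthogonal_ker_pow (hN : B.Nondegenerate) (hU : UInv B (jnil F d)) (j : ℕ) :
    B.orthogonal (LinearMap.ker (jnil F d ^ j)) = LinearMap.range (jnil F d ^ j) := by
  symm
  apply Submodule.eq_of_le_of_finrank_eq
  · rintro _ ⟨z, rfl⟩
    rw [LinearMap.BilinForm.mem_orthogonal_iff]
    intro x hx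
    exact hU.ortho_of_pow_eq_zero j x (LinearMap.mem_ker.mp hx) z
  · rw [LinearMap.BilinForm.finrank_orthogonal hN]
    have := LinearMap.finrank_range_add_finrank_ker (jnil F d ^ j)
    omega

/-- vectors supported on the tops of the blocks of size `j` -/
def jtopL (j : ℕ) : ({k : Fin t // d k = j} → F) →ₗ[F] (JI d → F) where
  toFun c := fun p => if h : d p.1 = j ∧ (p.2 : ℕ) = 0 then c ⟨p.1, h.1⟩ else 0
  map_add' c c' := by
    funext p
    simp only [Pi.add_apply]
    split_ifs
    · rfl
    · rw [add_zero]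
  map_smul' a c := by
    funext p
    simp only [Pi.smul_apply, RingHom.id_apply, smul_eq_mul]
    split_ifs
    · rfl
    · rw [mul_zero]

theorem jtopL_apply (j : ℕ) (c : {k : Fin t // d k = j} → F) (p : JI d) :
    jtopL d j c p = if h : d p.1 = j ∧ (p.2 : ℕ) = 0 then c ⟨p.1, h.1⟩ else 0 := rfl

theorem jnil_pow_jtopL (j : ℕ) (c : {k : Fin t // d k = j} → F) :
    (jnil F d ^ j) (jtopL d j c) = 0 := by
  rw [jnil_pow_eq_zero_iff]
  intro p hp
  rw [jtopL_apply, dif_neg]
  rintro ⟨h1, _⟩
  omega

theorem jnil_pow_pred_jtopL (j : ℕ) (hj : 1 ≤ j) (c : {k : Fin t // d k = j} → F)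
    (k : {k : Fin t // d k = j}) :
    (jnil F d ^ (j - 1)) (jtopL d j c) ⟨k.1, ⟨j - 1, by have := k.2; omega⟩⟩ = c k := by
  rw [jnil_pow_apply, dif_pos (le_refl _), jtopL_apply, dif_pos]
  refine ⟨k.2, ?_⟩
  simp

include hd in
theorem even_card_of_top_zero (hN : B.Nondegenerate) (hU : UInv B (jnil F d))
    (j : ℕ) (hj1 : 1 ≤ j)
    (halt : ∀ x, (jnil F d ^ j) x = 0 → B x ((jnil F d ^ (j - 1)) x) = 0) :
    Even (Fintype.card {k : Fin t // d k = j}) := by
  let γ : LinearMap.BilinForm F ({k : Fin t // d k = j} → F) :=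
    B.comp (jtopL d j) ((jnil F d ^ (j - 1)) ∘ₗ (jtopL d j))
  have hγ : ∀ c c', γ c c' = B (jtopL d j c) ((jnil F d ^ (j - 1)) (jtopL d j c')) := fun c c' => rfl
  have hγA : γ.IsAlt := by
    intro c
    rw [hγ]
    exact halt (jtopL d j c) (jnil_pow_jtopL d j c)
  have hγN : γ.Nondegenerate := by
    apply LinearMap.BilinForm.Nondegenerate.ofSeparatingRight
    intro c' hc'
    set w := (jnil F d ^ (j - 1)) (jtopL d j c') with hw
    have hNw : jnil F d w = 0 := by
      rw [hw, ← Module.End.mul_apply, ← pow_succ']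
      have e : j - 1 + 1 = j := by omega
      rw [e]
      exact jnil_pow_jtopL d j c'
    have hwo : w ∈ B.orthogonal (LinearMap.ker (jnil F d ^ j)) := by
      rw [LinearMap.BilinForm.mem_orthogonal_iff]
      intro x hx
      show B x w = 0
      rw [LinearMap.mem_ker, jnil_pow_eq_zero_iff] at hx
      -- decompose x
      let c : {k : Fin t // d k = j} → F := fun k => x (jz d hd k.1)
      let x₂ : JI d → F := fun p => if (p.2 : ℕ) = 0 ∧ d p.1 < j then x p else 0
      let x₃ : JI d → F := fun p => if 1 ≤ (p.2 : ℕ) then x p else 0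
      have hx₂ : ∀ p, x₂ p = if (p.2 : ℕ) = 0 ∧ d p.1 < j then x p else 0 := fun p => rfl
      have hx₃ : ∀ p, x₃ p = if 1 ≤ (p.2 : ℕ) then x p else 0 := fun p => rfl
      have hdec : x = jtopL d j c + x₂ + x₃ := by
        funext p
        rw [Pi.add_apply, Pi.add_apply, jtopL_apply, hx₂, hx₃]
        by_cases h1 : 1 ≤ (p.2 : ℕ)
        · rw [dif_neg (by omega), if_neg (by omega), if_pos h1, zero_add, zero_add]
        · have h0 : (p.2 : ℕ) = 0 := by omega
          rw [if_neg h1, add_zero]
          rcases lt_trichotomy (d p.1) j with h2 | h2 | h2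
          · rw [dif_neg (by omega), if_pos ⟨h0, h2⟩, zero_add]
          · rw [dif_pos ⟨h2, h0⟩, if_neg (by omega), add_zero]
            show x p = x (jz d hd p.1)
            rw [← eq_jz_of_val_eq_zero d hd p h0]
          · rw [dif_neg (by omega), if_neg (by omega), add_zero]
            apply hx
            omega
      have h1 : B (jtopL d j c) w = 0 := by
        have := hc' c
        rw [hγ] at this
        exact this
      have h2 : B x₂ w = 0 := by
        rw [hw]
        apply hU.ortho_of_pow_eq_zero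
        rw [jnil_pow_eq_zero_iff]
        intro p hp
        rw [hx₂, if_neg]
        omega
      have h3 : B x₃ w = 0 := by
        have hpi : jpi F d hd x₃ = 0 := by
          funext l
          rw [jpi_apply, hx₃, if_neg]
          · rfl
          · show ¬ 1 ≤ 0
            omega
        obtain ⟨u, hu⟩ := mem_range_jnil_of_jpi_eq_zero d hd x₃ hpi
        have := hU.rel u w
        rw [hNw, map_zero, map_zero, add_zero, add_zero, ← hu] at this
        exact this
      rw [hdec, map_add, map_add, LinearMap.add_apply, LinearMap.add_apply, h1, h2, h3, add_zero,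
        add_zero]
    rw [orthogonal_ker_pow d B hN hU j] at hwo
    obtain ⟨z, hz⟩ := hwo
    funext k
    have h4 := jnil_pow_pred_jtopL d j (by omega) c' k
    rw [← hw, ← hz, jnil_pow_apply, dif_neg] at h4
    · rw [← h4]; rfl
    · simp only
      omega
  have := Cfsg.Agent.Lib.Helper43.even_finrank_of_isAlt_nondegenerate γ hγA hγN
  rw [Module.finrank_fintype_fun_eq_card] at this
  exact this


include hd in
theorem even_card_of_odd (hA : B.IsAlt) (hN : B.Nondegenerate) (hU : UInv B (jnil F d))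
    (j : ℕ) (hj : Odd j) : Even (Fintype.card {k : Fin t // d k = j}) := by
  obtain ⟨m, rfl⟩ := hj
  apply even_card_of_top_zero d hd B hN hU (2 * m + 1) (by omega)
  intro x hx
  have := hU.alt_top hA m x hx
  have e : 2 * m + 1 - 1 = 2 * m := by omega
  rw [e]
  exact this

include hd in
theorem even_card_of_even_sym (hS : B.IsSymm) (h2 : (2 : F) ≠ 0) (hN : B.Nondegenerate)
    (hU : UInv B (jnil F d)) (j : ℕ) (hj : Even j) (hj0 : 0 < j) :
    Even (Fintype.card {k : Fin t // d k = j}) := by
  obtain ⟨k, rfl⟩ := hj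
  have hk : 1 ≤ k := by omega
  rw [← two_mul] at hj0 ⊢
  apply even_card_of_top_zero d hd B hN hU (2 * k) (by omega)
  intro x hx
  exact hU.sym_top hS h2 k hk x hx

end Spec

end Cfsg.Agent.Lib.Helper49
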