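import Mathlib

set_option autoImplicit false

namespace Cfsg.Agent.Lib.Helper49

open Module

theorem finrank_ker_pow_le {F V : Type*} [Field F] [AddCommGroup V] [Module F V] [FiniteDimensional F V]
    (f : Module.End F V) (k : ℕ) :
    finrank F (LinearMap.ker (f ^ k)) ≤ k * finrank F (LinearMap.ker f) := by
  induction k with
  | zero => simp [Module.End.one_eq_id]
  | succ k ih =>
    have h1 : ∀ x : V, x ∈ LinearMap.ker (f ^ (k+1)) → f x ∈ LinearMap.ker (f ^ k) := by
      intro x hx
      rw [LinearMap.mem_ker] at hx ⊢
      rw [pow_succ, Module.End.mul_apply] at hx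
      exact hx
    let g : LinearMap.ker (f ^ (k+1)) →ₗ[F] LinearMap.ker (f ^ k) :=
      (f.domRestrict _).codRestrict _ (fun x => h1 x.1 x.2)
    have h2 := LinearMap.finrank_range_add_finrank_ker g
    have h3 : finrank F (LinearMap.range g) ≤ finrank F (LinearMap.ker (f ^ k)) := Submodule.finrank_le _
    have h4 : finrank F (LinearMap.ker g) ≤ finrank F (LinearMap.ker f) := by
      apply LinearMap.finrank_le_finrank_of_injective (f := ((LinearMap.ker (f ^ (k+1))).subtype.domRestrict (LinearMap.ker g)).codRestrict (LinearMap.ker f) (by
        rintro ⟨x, hx⟩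
        rw [LinearMap.mem_ker] at hx
        have h := congrArg Subtype.val hx
        simp only [LinearMap.mem_ker]
        exact h))
      intro x y hxy
      have := congrArg Subtype.val hxy
      simp at this
      exact this
    rw [Nat.succ_mul]
    omega

/-- An invariant subspace of a nilpotent endomorphism with one-dimensional kernel is the kernel
of a power. -/
theorem invariant_eq_ker_pow {F V : Type*} [Field F] [AddCommGroup V] [Module F V] [FiniteDimensional F V]
    (f : Module.End F V) (n : ℕ) (hnil : f ^ n = 0) (hker : finrank F (LinearMap.ker f) ≤ 1)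
    (W : Submodule F V) (hW : ∀ v ∈ W, f v ∈ W) :
    W = LinearMap.ker (f ^ finrank F W) := by
  have hle : W ≤ LinearMap.ker (f ^ finrank F W) := by
    let fW : Module.End F W := f.restrict hW
    have h1 : fW ^ n = 0 := by
      rw [Module.End.pow_restrict n]
      ext x
      simp [hnil]
    have h2 : LinearMap.ker (fW ^ n) ≤ LinearMap.ker (fW ^ finrank F W) :=
      Module.End.ker_pow_le_ker_pow_finrank fW n
    intro w hw
    have h3 : (⟨w, hw⟩ : W) ∈ LinearMap.ker (fW ^ finrank F W) := by
      apply h2
      rw [h1]
      simp
    rw [LinearMap.mem_ker] at h3 ⊢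
    rw [Module.End.pow_restrict (finrank F W)] at h3
    have := congrArg Subtype.val h3
    simpa using this
  apply Submodule.eq_of_le_of_finrank_le hle
  calc finrank F (LinearMap.ker (f ^ finrank F W)) ≤ finrank F W * finrank F (LinearMap.ker f) :=
        finrank_ker_pow_le f _
    _ ≤ finrank F W * 1 := Nat.mul_le_mul_left _ hker
    _ = finrank F W := Nat.mul_one _

end Cfsg.Agent.Lib.Helper49
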