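import Mathlib
import Cfsg.Agent.Lib.Helper49.RegUnipotent

set_option autoImplicit false

namespace Cfsg.Agent.Lib.Helper49

open Module

/-- A nilpotent endomorphism with one-dimensional kernel has a cyclic vector. -/
theorem exists_cyclic {F V : Type*} [Field F] [AddCommGroup V] [Module F V] [FiniteDimensional F V]
    (f : Module.End F V) (n : ℕ) (hn : finrank F V = n) (hn1 : 1 ≤ n) (hnil : f ^ n = 0)
    (hker : finrank F (LinearMap.ker f) ≤ 1) :
    ∃ e : V, (f ^ (n - 1)) e ≠ 0 ∧
      ⊤ ≤ Submodule.span F (Set.range (fun i : Fin n => (f ^ (i : ℕ)) e)) := by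
  have h1 : finrank F (LinearMap.ker (f ^ (n - 1))) ≤ n - 1 := by
    calc finrank F (LinearMap.ker (f ^ (n - 1))) ≤ (n - 1) * finrank F (LinearMap.ker f) :=
          finrank_ker_pow_le f _
      _ ≤ (n - 1) * 1 := Nat.mul_le_mul_left _ hker
      _ = n - 1 := Nat.mul_one _
  have h2 : LinearMap.ker (f ^ (n - 1)) ≠ ⊤ := by
    intro h
    rw [h, finrank_top, hn] at h1
    omega
  obtain ⟨e, he⟩ : ∃ e : V, e ∉ LinearMap.ker (f ^ (n - 1)) := by
    by_contra hcon
    push Not at hcon
    exact h2 (eq_top_iff.mpr (fun x _ => hcon x))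
  rw [LinearMap.mem_ker] at he
  refine ⟨e, he, ?_⟩
  set W := Submodule.span F (Set.range (fun i : Fin n => (f ^ (i : ℕ)) e)) with hW
  have hinv : ∀ v ∈ W, f v ∈ W := by
    have : Submodule.map f W ≤ W := by
      rw [hW, Submodule.map_span_le]
      rintro _ ⟨i, rfl⟩
      change f ((f ^ (i : ℕ)) e) ∈ _
      rw [← Module.End.mul_apply, ← pow_succ']
      by_cases hi : (i : ℕ) + 1 < n
      · apply Submodule.subset_span
        exact ⟨⟨(i : ℕ) + 1, hi⟩, rfl⟩
      · have : (i : ℕ) + 1 = n := by have := i.2; omega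
        rw [this, hnil]
        simp
    intro v hv
    exact this (Submodule.mem_map_of_mem hv)
  have hWeq := invariant_eq_ker_pow f n hnil hker W hinv
  have heW : e ∈ W := by
    apply Submodule.subset_span
    exact ⟨⟨0, by omega⟩, by simp⟩
  rw [hWeq, LinearMap.mem_ker] at heW
  have hge : n ≤ finrank F W := by
    by_contra hlt
    push Not at hlt
    apply he
    obtain ⟨c, hc⟩ := Nat.exists_eq_add_of_le (show finrank F W ≤ n - 1 by omega)
    rw [hc, add_comm, pow_add, Module.End.mul_apply, heW, map_zero]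
  have : W = ⊤ := Submodule.eq_top_of_finrank_eq (by
    have := Submodule.finrank_le W
    omega)
  rw [this]

end Cfsg.Agent.Lib.Helper49
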