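import Mathlib
import Cfsg.Agent.Lib.Helper49.Cyclic

set_option autoImplicit false

namespace Cfsg.Agent.Lib.Helper49

open Module

section

variable {F : Type*} [Field F] {n : ℕ}

/-- polynomial in `N` with coefficient vector `a` -/
def polyMat (N : Matrix (Fin n) (Fin n) F) (a : Fin n → F) : Matrix (Fin n) (Fin n) F :=
  ∑ i : Fin n, a i • N ^ (i : ℕ)

theorem polyMat_commute (N : Matrix (Fin n) (Fin n) F) (a : Fin n → F) :
    Commute (polyMat N a) N := by
  unfold polyMat
  apply Commute.sum_left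
  intro i _
  exact ((Commute.refl N).pow_left _).smul_left _

theorem finrank_ker_le_one_of_rank (N : Matrix (Fin n) (Fin n) F) (hreg : N.rank = n - 1) :
    finrank F (LinearMap.ker (Matrix.toLin' N)) ≤ 1 := by
  have h1 := LinearMap.finrank_range_add_finrank_ker (Matrix.toLin' N)
  have h2 : finrank F (LinearMap.range (Matrix.toLin' N)) = n - 1 := by
    rw [← hreg, Matrix.rank, Matrix.toLin'_apply']
  rw [h2] at h1
  simp at h1
  omega

/-- structure of a regular nilpotent matrix: cyclic vector and basis -/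
theorem exists_cyclic_basis (hn : 1 ≤ n) (N : Matrix (Fin n) (Fin n) F) (hnil : N ^ n = 0)
    (hreg : N.rank = n - 1) :
    ∃ (e : Fin n → F) (b : Basis (Fin n) F (Fin n → F)),
      (N ^ (n - 1)).mulVec e ≠ 0 ∧ ∀ i : Fin n, b i = (N ^ (i : ℕ)).mulVec e := by
  have hfn : (Matrix.toLin' N) ^ n = 0 := by rw [← Matrix.toLin'_pow, hnil]; simp
  obtain ⟨e, he, hspan⟩ := exists_cyclic (Matrix.toLin' N) n (by simp) hn hfn
    (finrank_ker_le_one_of_rank N hreg)
  refine ⟨e, basisOfTopLeSpanOfCardEqFinrank _ hspan (by simp), ?_, ?_⟩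
  · rw [← Matrix.toLin'_pow, Matrix.toLin'_apply] at he
    exact he
  · intro i
    rw [coe_basisOfTopLeSpanOfCardEqFinrank, ← Matrix.toLin'_pow, Matrix.toLin'_apply]

/-- a matrix commuting with `N` is determined by its value on the cyclic vector -/
theorem eq_of_commute_of_mulVec_eq (N : Matrix (Fin n) (Fin n) F) (e : Fin n → F)
    (b : Basis (Fin n) F (Fin n → F)) (hb : ∀ i : Fin n, b i = (N ^ (i : ℕ)).mulVec e)
    (M M' : Matrix (Fin n) (Fin n) F) (hM : Commute M N) (hM' : Commute M' N)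
    (h : M.mulVec e = M'.mulVec e) : M = M' := by
  apply Matrix.toLin'.injective
  apply b.ext
  intro i
  rw [hb, Matrix.toLin'_apply, Matrix.toLin'_apply, Matrix.mulVec_mulVec, Matrix.mulVec_mulVec,
    (hM.pow_right _).eq, (hM'.pow_right _).eq, ← Matrix.mulVec_mulVec, ← Matrix.mulVec_mulVec, h]

theorem polyMat_mulVec (N : Matrix (Fin n) (Fin n) F) (e : Fin n → F)
    (b : Basis (Fin n) F (Fin n → F)) (hb : ∀ i : Fin n, b i = (N ^ (i : ℕ)).mulVec e)
    (a : Fin n → F) : (polyMat N a).mulVec e = b.equivFun.symm a := by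
  rw [Basis.equivFun_symm_apply]
  unfold polyMat
  rw [Matrix.sum_mulVec]
  apply Finset.sum_congr rfl
  intro i _
  rw [hb, Matrix.smul_mulVec]

/-- any matrix commuting with `N` is a polynomial in `N` -/
theorem eq_polyMat_of_commute (N : Matrix (Fin n) (Fin n) F) (e : Fin n → F)
    (b : Basis (Fin n) F (Fin n → F)) (hb : ∀ i : Fin n, b i = (N ^ (i : ℕ)).mulVec e)
    (M : Matrix (Fin n) (Fin n) F) (hM : Commute M N) :
    M = polyMat N (b.equivFun (M.mulVec e)) := by
  apply eq_of_commute_of_mulVec_eq N e b hb M _ hM (polyMat_commute N _)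
  rw [polyMat_mulVec N e b hb, LinearEquiv.symm_apply_apply]

/-- leading coefficient: `N^(n-1) (P a) e = a_0 N^(n-1) e` -/
theorem pow_mulVec_polyMat (hn : 1 ≤ n) (N : Matrix (Fin n) (Fin n) F) (hnil : N ^ n = 0)
    (e : Fin n → F) (a : Fin n → F) :
    (N ^ (n - 1)).mulVec ((polyMat N a).mulVec e) = a ⟨0, hn⟩ • (N ^ (n - 1)).mulVec e := by
  unfold polyMat
  rw [Matrix.mulVec_mulVec, Finset.mul_sum, Matrix.sum_mulVec]
  rw [Finset.sum_eq_single (⟨0, hn⟩ : Fin n)]
  · simp [Matrix.smul_mulVec]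
  · intro i _ hi
    have hi' : 1 ≤ (i : ℕ) := by
      rcases Nat.eq_zero_or_pos (i : ℕ) with h | h
      · exact absurd (Fin.ext h) hi
      · exact h
    rw [Matrix.mul_smul, ← pow_add]
    have : n - 1 + (i : ℕ) = n + ((i : ℕ) - 1) := by omega
    rw [this, pow_add, hnil, zero_mul, smul_zero, Matrix.zero_mulVec]
  · simp

theorem polyMat_isUnit (hn : 1 ≤ n) (N : Matrix (Fin n) (Fin n) F) (hnil : N ^ n = 0)
    (a : Fin n → F) (ha : a ⟨0, hn⟩ ≠ 0) : IsUnit (polyMat N a) := by
  obtain ⟨k, rfl⟩ : ∃ k, n = k + 1 := ⟨n - 1, by omega⟩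
  have h1 : polyMat N a = algebraMap F _ (a 0) + N * ∑ i : Fin k, a i.succ • N ^ (i : ℕ) := by
    unfold polyMat
    rw [Fin.sum_univ_succ, Finset.mul_sum]
    congr 1
    · simp [Algebra.algebraMap_eq_smul_one]
    · apply Finset.sum_congr rfl
      intro i _
      rw [Matrix.mul_smul, Fin.val_succ, pow_succ']
  rw [h1]
  have hcomm : Commute N (∑ i : Fin k, a i.succ • N ^ (i : ℕ)) := by
    apply Commute.sum_right
    intro i _
    exact ((Commute.refl N).pow_right _).smul_right _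
  have hnilp : IsNilpotent (N * ∑ i : Fin k, a i.succ • N ^ (i : ℕ)) :=
    Commute.isNilpotent_mul_right hcomm ⟨k + 1, hnil⟩
  apply hnilp.isUnit_add_left_of_commute
  · apply IsUnit.map
    exact isUnit_iff_ne_zero.mpr ha
  · exact (Algebra.commutes _ _).symm

end

end Cfsg.Agent.Lib.Helper49
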