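import Mathlib
import Cfsg.Agent.Lib.Helper49.RegUnipCent

set_option autoImplicit false

namespace Cfsg.Agent.Lib.Helper49

open Module

section

variable {F : Type*} [Field F] {n : ℕ}

/-- determinant of scalar plus nilpotent -/
theorem det_scalar_add_nilpotent (t : F) (R : Matrix (Fin n) (Fin n) F) (hR : IsNilpotent R) :
    (algebraMap F (Matrix (Fin n) (Fin n) F) t + R).det = t ^ n := by
  have h1 : IsNilpotent (-R) := hR.neg
  have h2 := Matrix.isNilpotent_charpoly_sub_pow_of_isNilpotent h1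
  have h3 : (-R).charpoly = Polynomial.X ^ n := by
    have := h2.eq_zero
    rw [sub_eq_zero] at this
    simpa using this
  have h4 := Matrix.eval_charpoly (-R) t
  rw [h3] at h4
  simp only [Polynomial.eval_pow, Polynomial.eval_X, sub_neg_eq_add] at h4
  rw [h4]
  rfl

/-- regular unipotent matrices -/
def IsRegUnip (M : Matrix (Fin n) (Fin n) F) : Prop :=
  (M - 1) ^ n = 0 ∧ (M - 1).rank = n - 1

theorem IsRegUnip.det_eq_one {M : Matrix (Fin n) (Fin n) F} (h : IsRegUnip M) : M.det = 1 := by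
  have h1 : M = algebraMap F (Matrix (Fin n) (Fin n) F) 1 + (M - 1) := by
    rw [map_one]; abel
  rw [h1, det_scalar_add_nilpotent 1 (M - 1) ⟨n, h.1⟩, one_pow]

theorem polyMat_det (hn : 1 ≤ n) (N : Matrix (Fin n) (Fin n) F) (hnil : N ^ n = 0)
    (a : Fin n → F) : (polyMat N a).det = a ⟨0, hn⟩ ^ n := by
  obtain ⟨k, rfl⟩ : ∃ k, n = k + 1 := ⟨n - 1, by omega⟩
  have h1 : polyMat N a = algebraMap F _ (a 0) + N * ∑ i : Fin k, a i.succ • N ^ (i : ℕ) := by
    unfold polyMat
    rw [Fin.sum_univ_succ, Finset.mul_sum]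
    congr 1
    · simp [Algebra.algebraMap_eq_smul_one]
    · apply Finset.sum_congr rfl
      intro i _
      rw [Matrix.mul_smul, Fin.val_succ, pow_succ']
  rw [h1]
  have hcomm : Commute N (∑ i : Fin k, a i.succ • N ^ (i : ℕ)) := by
    apply Commute.sum_right
    intro i _
    exact ((Commute.refl N).pow_right _).smul_right _
  have hnilp : IsNilpotent (N * ∑ i : Fin k, a i.succ • N ^ (i : ℕ)) :=
    Commute.isNilpotent_mul_right hcomm ⟨k + 1, hnil⟩
  rw [det_scalar_add_nilpotent _ _ hnilp]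
  rfl

/-- conjugation invariance, in the form `g * M = M' * g` -/
theorem IsRegUnip.of_conj {M M' : Matrix (Fin n) (Fin n) F} (g : GL (Fin n) F)
    (hg : (g : Matrix (Fin n) (Fin n) F) * M = M' * (g : Matrix (Fin n) (Fin n) F))
    (h : IsRegUnip M) : IsRegUnip M' := by
  have hM' : M' - 1 = (g : Matrix (Fin n) (Fin n) F) * (M - 1) * ((g⁻¹ : GL (Fin n) F) : Matrix (Fin n) (Fin n) F) := by
    rw [mul_sub, sub_mul, mul_one, hg, mul_assoc, ← Units.val_mul, mul_inv_cancel]
    simp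
  have hpow : ∀ k : ℕ, (M' - 1) ^ k = (g : Matrix (Fin n) (Fin n) F) * (M - 1) ^ k * ((g⁻¹ : GL (Fin n) F) : Matrix (Fin n) (Fin n) F) := by
    intro k
    induction k with
    | zero => simp [← Units.val_mul]
    | succ k ih =>
      rw [pow_succ, ih, hM', pow_succ]
      have : ((g⁻¹ : GL (Fin n) F) : Matrix (Fin n) (Fin n) F) * (g : Matrix (Fin n) (Fin n) F) = 1 := by
        rw [← Units.val_mul, inv_mul_cancel]; rfl
      calc (g : Matrix (Fin n) (Fin n) F) * (M - 1) ^ k * ((g⁻¹ : GL (Fin n) F) : Matrix (Fin n) (Fin n) F) * ((g : Matrix (Fin n) (Fin n) F) * (M - 1) * ((g⁻¹ : GL (Fin n) F) : Matrix (Fin n) (Fin n) F))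
          = (g : Matrix (Fin n) (Fin n) F) * (M - 1) ^ k * (((g⁻¹ : GL (Fin n) F) : Matrix (Fin n) (Fin n) F) * (g : Matrix (Fin n) (Fin n) F)) * (M - 1) * ((g⁻¹ : GL (Fin n) F) : Matrix (Fin n) (Fin n) F) := by
            simp only [mul_assoc]
        _ = _ := by rw [this, mul_one]; simp only [mul_assoc]
  refine ⟨?_, ?_⟩
  · rw [hpow, h.1]; simp
  · rw [hM', Matrix.rank_mul_eq_left_of_isUnit_det _ _ ((Matrix.isUnit_iff_isUnit_det _).mp (g⁻¹).isUnit),
      Matrix.rank_mul_eq_right_of_isUnit_det _ _ ((Matrix.isUnit_iff_isUnit_det _).mp g.isUnit)]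
    exact h.2

/-- all regular unipotent matrices are conjugate under `GL` -/
theorem IsRegUnip.exists_conj (hn : 1 ≤ n) {M M' : Matrix (Fin n) (Fin n) F}
    (h : IsRegUnip M) (h' : IsRegUnip M') :
    ∃ g : GL (Fin n) F, (g : Matrix (Fin n) (Fin n) F) * M = M' * (g : Matrix (Fin n) (Fin n) F) := by
  obtain ⟨e, b, _, hb⟩ := exists_cyclic_basis hn (M - 1) h.1 h.2
  obtain ⟨e', b', _, hb'⟩ := exists_cyclic_basis hn (M' - 1) h'.1 h'.2
  let gl : (Fin n → F) ≃ₗ[F] (Fin n → F) := b.equiv b' (Equiv.refl _)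
  have hgl : ∀ i, gl (b i) = b' i := fun i => by simp [gl]
  have hN : ∀ i : Fin n, (M - 1).mulVec (b i) = if h : (i : ℕ) + 1 < n then b ⟨(i : ℕ) + 1, h⟩ else 0 := by
    intro i
    rw [hb, Matrix.mulVec_mulVec, ← pow_succ']
    split_ifs with hi
    · rw [hb]
    · have : (i : ℕ) + 1 = n := by have := i.2; omega
      rw [this, h.1, Matrix.zero_mulVec]
  have hN' : ∀ i : Fin n, (M' - 1).mulVec (b' i) = if h : (i : ℕ) + 1 < n then b' ⟨(i : ℕ) + 1, h⟩ else 0 := by
    intro i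
    rw [hb', Matrix.mulVec_mulVec, ← pow_succ']
    split_ifs with hi
    · rw [hb']
    · have : (i : ℕ) + 1 = n := by have := i.2; omega
      rw [this, h'.1, Matrix.zero_mulVec]
  let G : Matrix (Fin n) (Fin n) F := LinearMap.toMatrix' (gl : (Fin n → F) →ₗ[F] (Fin n → F))
  let Ginv : Matrix (Fin n) (Fin n) F := LinearMap.toMatrix' (gl.symm : (Fin n → F) →ₗ[F] (Fin n → F))
  have h1 : G * Ginv = 1 := by
    rw [← LinearMap.toMatrix'_comp]
    simp
  have h2 : Ginv * G = 1 := by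
    rw [← LinearMap.toMatrix'_comp]
    simp
  refine ⟨⟨G, Ginv, h1, h2⟩, ?_⟩
  change G * M = M' * G
  have hMN : M = 1 + (M - 1) := by abel
  have hMN' : M' = 1 + (M' - 1) := by abel
  rw [hMN, hMN', mul_add, add_mul, mul_one, one_mul]
  congr 1
  apply Matrix.toLin'.injective
  apply b.ext
  intro i
  rw [Matrix.toLin'_apply, Matrix.toLin'_apply, ← Matrix.mulVec_mulVec, ← Matrix.mulVec_mulVec, hN]
  have hG : ∀ x, G.mulVec x = gl x := by
    intro x
    rw [← Matrix.toLin'_apply, Matrix.toLin'_toMatrix']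
    rfl
  rw [hG, hG, hgl, hN']
  split_ifs with hi
  · exact hgl _
  · exact map_zero _

/-- the determinant of an invertible matrix commuting with a regular unipotent is an `n`-th power -/
theorem IsRegUnip.det_commute (hn : 1 ≤ n) {M : Matrix (Fin n) (Fin n) F} (h : IsRegUnip M)
    (g : GL (Fin n) F) (hg : (g : Matrix (Fin n) (Fin n) F) * M = M * (g : Matrix (Fin n) (Fin n) F)) :
    ∃ c : Fˣ, Matrix.GeneralLinearGroup.det g = c ^ n := by
  obtain ⟨e, b, _, hb⟩ := exists_cyclic_basis hn (M - 1) h.1 h.2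
  have hcomm : Commute (g : Matrix (Fin n) (Fin n) F) (M - 1) := by
    change (g : Matrix (Fin n) (Fin n) F) * (M - 1) = (M - 1) * (g : Matrix (Fin n) (Fin n) F)
    rw [mul_sub, sub_mul, hg, mul_one, one_mul]
  have h1 := eq_polyMat_of_commute (M - 1) e b hb _ hcomm
  have h2 := polyMat_det hn (M - 1) h.1 (b.equivFun ((g : Matrix (Fin n) (Fin n) F).mulVec e))
  rw [← h1] at h2
  set a0 := b.equivFun ((g : Matrix (Fin n) (Fin n) F).mulVec e) ⟨0, hn⟩ with ha0
  have hdet : (g : Matrix (Fin n) (Fin n) F).det ≠ 0 := by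
    have := (Matrix.isUnit_iff_isUnit_det _).mp g.isUnit
    exact this.ne_zero
  have ha0ne : a0 ≠ 0 := by
    intro h0
    rw [h0, zero_pow (by omega)] at h2
    exact hdet h2
  refine ⟨Units.mk0 a0 ha0ne, ?_⟩
  apply Units.ext
  rw [Matrix.GeneralLinearGroup.val_det_apply, h2]
  simp

end

end Cfsg.Agent.Lib.Helper49
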