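import Mathlib
import Cfsg.Agent.Lib.Helper49.RegUnipClasses

set_option autoImplicit false

namespace Cfsg.Agent.Lib.Helper49

open Module

section

variable {F : Type*} [Field F] {n : ℕ}

/-- the nilpotent shift matrix -/
def shiftMat (F : Type*) [Field F] (n : ℕ) : Matrix (Fin n) (Fin n) F :=
  Matrix.of fun i j => if (i : ℕ) = (j : ℕ) + 1 then 1 else 0

/-- extension by zero of a vector to all naturals -/
def extVec (v : Fin n → F) (m : ℕ) : F := if h : m < n then v ⟨m, h⟩ else 0

theorem extVec_val (v : Fin n → F) (i : Fin n) : extVec v (i : ℕ) = v i := by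
  unfold extVec
  rw [dif_pos i.2]

theorem shiftMat_mulVec (v : Fin n → F) (i : Fin n) :
    ((shiftMat F n).mulVec v) i = if 0 < (i : ℕ) then extVec v ((i : ℕ) - 1) else 0 := by
  unfold Matrix.mulVec dotProduct shiftMat
  simp only [Matrix.of_apply]
  split_ifs with hi
  · have hlt : (i : ℕ) - 1 < n := by have := i.2; omega
    rw [Finset.sum_eq_single (⟨(i : ℕ) - 1, hlt⟩ : Fin n)]
    · have : (i : ℕ) = (i : ℕ) - 1 + 1 := by omega
      rw [if_pos this, one_mul]
      unfold extVec
      rw [dif_pos hlt]
    · intro j _ hj
      have : ¬ (i : ℕ) = (j : ℕ) + 1 := by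
        intro h
        apply hj
        apply Fin.ext
        simp only
        omega
      rw [if_neg this, zero_mul]
    · simp
  · apply Finset.sum_eq_zero
    intro j _
    have : ¬ (i : ℕ) = (j : ℕ) + 1 := by omega
    rw [if_neg this, zero_mul]

theorem shiftMat_pow_mulVec (k : ℕ) (v : Fin n → F) (i : Fin n) :
    (((shiftMat F n) ^ k).mulVec v) i = if k ≤ (i : ℕ) then extVec v ((i : ℕ) - k) else 0 := by
  induction k generalizing i with
  | zero => simp [extVec_val]
  | succ k ih =>
    rw [pow_succ', ← Matrix.mulVec_mulVec, shiftMat_mulVec]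
    split_ifs with h1 h2 h2
    · have hlt : (i : ℕ) - 1 < n := by have := i.2; omega
      have := ih ⟨(i : ℕ) - 1, hlt⟩
      unfold extVec at this ⊢
      rw [dif_pos hlt]
      simp only at this
      rw [this]
      have h3 : k ≤ (i : ℕ) - 1 := by omega
      rw [if_pos h3]
      have h4 : (i : ℕ) - 1 - k = (i : ℕ) - (k + 1) := by omega
      rw [h4]
    · have hlt : (i : ℕ) - 1 < n := by have := i.2; omega
      have := ih ⟨(i : ℕ) - 1, hlt⟩
      unfold extVec at this ⊢
      rw [dif_pos hlt]
      simp only at this
      rw [this]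
      have h3 : ¬ k ≤ (i : ℕ) - 1 := by omega
      rw [if_neg h3]
    · omega
    · rfl

theorem shiftMat_pow_self : (shiftMat F n) ^ n = 0 := by
  apply Matrix.toLin'.injective
  apply LinearMap.ext
  intro v
  funext i
  rw [Matrix.toLin'_apply, shiftMat_pow_mulVec]
  have : ¬ n ≤ (i : ℕ) := by have := i.2; omega
  rw [if_neg this]
  simp

theorem shiftMat_rank (hn : 1 ≤ n) : (shiftMat F n).rank = n - 1 := by
  classical
  have h1 := LinearMap.finrank_range_add_finrank_ker (Matrix.toLin' (shiftMat F n))
  have h2 : finrank F (LinearMap.range (Matrix.toLin' (shiftMat F n))) = (shiftMat F n).rank := by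
    rw [Matrix.rank, Matrix.toLin'_apply']
  simp only [finrank_fintype_fun_eq_card, Fintype.card_fin] at h1
  have hlast : n - 1 < n := by omega
  -- upper bound for the kernel
  have hle : finrank F (LinearMap.ker (Matrix.toLin' (shiftMat F n))) ≤ 1 := by
    let π : LinearMap.ker (Matrix.toLin' (shiftMat F n)) →ₗ[F] F :=
      (LinearMap.proj (⟨n - 1, hlast⟩ : Fin n)).comp (LinearMap.ker (Matrix.toLin' (shiftMat F n))).subtype
    have hπ : Function.Injective π := by
      rw [← LinearMap.ker_eq_bot, LinearMap.ker_eq_bot']
      rintro ⟨v, hv⟩ hv0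
      apply Subtype.ext
      change v = 0
      rw [LinearMap.mem_ker, Matrix.toLin'_apply] at hv
      funext j
      by_cases hj : (j : ℕ) + 1 < n
      · have := congrFun hv ⟨(j : ℕ) + 1, hj⟩
        rw [shiftMat_mulVec] at this
        simp only [Nat.add_sub_cancel, Nat.succ_pos, if_true] at this
        rw [extVec_val] at this
        simpa using this
      · have hjn : j = ⟨n - 1, hlast⟩ := by
          apply Fin.ext
          have := j.2
          simp only
          omega
        rw [hjn]
        exact hv0
    have := LinearMap.finrank_le_finrank_of_injective hπ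
    simpa using this
  -- lower bound
  have hge : 1 ≤ finrank F (LinearMap.ker (Matrix.toLin' (shiftMat F n))) := by
    rw [Nat.one_le_iff_ne_zero, Ne, Submodule.finrank_eq_zero]
    intro hbot
    have hmem : (Pi.single (⟨n - 1, hlast⟩ : Fin n) (1 : F)) ∈ LinearMap.ker (Matrix.toLin' (shiftMat F n)) := by
      rw [LinearMap.mem_ker, Matrix.toLin'_apply]
      funext i
      rw [shiftMat_mulVec]
      split_ifs with hi
      · unfold extVec
        have hlt : (i : ℕ) - 1 < n := by have := i.2; omega
        rw [dif_pos hlt]
        have : (⟨(i : ℕ) - 1, hlt⟩ : Fin n) ≠ ⟨n - 1, hlast⟩ := by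
          intro h
          have := congrArg Fin.val h
          simp only at this
          have := i.2
          omega
        simp [Pi.single_apply, this]
      · rfl
    rw [hbot, Submodule.mem_bot] at hmem
    have := congrFun hmem ⟨n - 1, hlast⟩
    simp at this
  rw [← h2]
  omega

theorem isRegUnip_one_add_shift (hn : 1 ≤ n) : IsRegUnip (1 + shiftMat F n) := by
  unfold IsRegUnip
  rw [add_sub_cancel_left]
  exact ⟨shiftMat_pow_self, shiftMat_rank hn⟩

end

end Cfsg.Agent.Lib.Helper49
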