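import Mathlib

set_option autoImplicit false

namespace Cfsg.Agent.Lib.Helper49

open Polynomial

section TruncAlg

variable (F : Type*) [Field F] (n : ℕ)

/-- the truncated polynomial algebra `F[X]/(X^n)` -/
abbrev TR : Type _ := AdjoinRoot (X ^ n : F[X])

variable {F n}

/-- the generator -/
noncomputable def tx : TR F n := AdjoinRoot.root (X ^ n : F[X])

theorem tx_pow : (tx : TR F n) ^ n = 0 := by
  have h := AdjoinRoot.eval₂_root (X ^ n : F[X])
  simpa [tx] using h

/-- the involution `x ↦ -x` -/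
noncomputable def tsig : TR F n →ₐ[F] TR F n :=
  AdjoinRoot.liftAlgHom (X ^ n : F[X]) (Algebra.ofId F (TR F n)) (-tx) (by
    rw [eval₂_pow, eval₂_X, neg_pow, tx_pow, mul_zero])

theorem tsig_tx : tsig (tx : TR F n) = -tx := AdjoinRoot.liftAlgHom_root _ _ _ _

theorem tsig_tsig (a : TR F n) : tsig (tsig a) = a := by
  have : (tsig.comp tsig : TR F n →ₐ[F] TR F n) = AlgHom.id F _ := by
    apply AdjoinRoot.algHom_ext
    change tsig (tsig tx) = tx
    rw [tsig_tx, map_neg, tsig_tx, neg_neg]
  exact DFunLike.congr_fun this a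

/-- evaluation at `0` -/
noncomputable def tchi (hn : 1 ≤ n) : TR F n →ₐ[F] F :=
  AdjoinRoot.liftAlgHom (X ^ n : F[X]) (Algebra.ofId F F) 0 (by
    rw [eval₂_pow, eval₂_X, zero_pow (by omega)])

theorem tchi_tx (hn : 1 ≤ n) : tchi hn (tx : TR F n) = 0 := AdjoinRoot.liftAlgHom_root _ _ _ _

theorem tchi_tsig (hn : 1 ≤ n) (a : TR F n) : tchi hn (tsig a) = tchi hn a := by
  have : ((tchi hn).comp tsig : TR F n →ₐ[F] F) = tchi hn := by
    apply AdjoinRoot.algHom_ext
    change tchi hn (tsig tx) = tchi hn tx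
    rw [tsig_tx, map_neg, tchi_tx, neg_zero]
  exact DFunLike.congr_fun this a

theorem nontrivial_TR (hn : 1 ≤ n) : Nontrivial (TR F n) := by
  refine ⟨⟨0, 1, fun h => ?_⟩⟩
  have := congrArg (tchi hn) h
  simp at this

theorem exists_eq_tx_mul (hn : 1 ≤ n) (a : TR F n) (h : tchi hn a = 0) : ∃ b, a = tx * b := by
  induction a using AdjoinRoot.induction_on with
  | ih p =>
    have h0 : p.coeff 0 = 0 := by
      have : tchi hn (AdjoinRoot.mk _ p) = p.eval 0 := by
        unfold tchi
        rw [AdjoinRoot.liftAlgHom_mk]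
        simp [Polynomial.eval₂_eq_eval_map, Algebra.ofId]
      rw [this] at h
      rwa [← Polynomial.coeff_zero_eq_eval_zero] at h
    obtain ⟨r, rfl⟩ := Polynomial.X_dvd_iff.mpr h0
    refine ⟨AdjoinRoot.mk _ r, ?_⟩
    rw [map_mul, AdjoinRoot.mk_X]
    rfl

theorem pow_eq_zero_of_tchi (hn : 1 ≤ n) (a : TR F n) (h : tchi hn a = 0) : a ^ n = 0 := by
  obtain ⟨b, rfl⟩ := exists_eq_tx_mul hn a h
  rw [mul_pow, tx_pow, zero_mul]

theorem isUnit_iff_tchi (hn : 1 ≤ n) (a : TR F n) : IsUnit a ↔ tchi hn a ≠ 0 := by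
  constructor
  · intro h
    exact (h.map (tchi hn)).ne_zero
  · intro h
    have h1 : a = algebraMap F (TR F n) (tchi hn a) + (a - algebraMap F (TR F n) (tchi hn a)) := by
      ring
    rw [h1]
    have hnil : IsNilpotent (a - algebraMap F (TR F n) (tchi hn a)) :=
      ⟨n, pow_eq_zero_of_tchi hn _ (by rw [map_sub, AlgHom.commutes]; simp)⟩
    apply hnil.isUnit_add_left_of_commute
    · exact (isUnit_iff_ne_zero.mpr h).map _
    · exact Commute.all _ _

/-- the power basis `1, x, …, x^(n-1)` -/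
noncomputable def cb : Module.Basis (Fin n) F (TR F n) :=
  ((AdjoinRoot.powerBasis' (monic_X_pow n : (X ^ n : F[X]).Monic)).basis).reindex
    (finCongr (by rw [AdjoinRoot.powerBasis'_dim, natDegree_X_pow]))

theorem cb_apply (k : Fin n) : (cb k : TR F n) = tx ^ (k : ℕ) := by
  unfold cb
  rw [Module.Basis.reindex_apply, PowerBasis.coe_basis]
  simp [tx]

theorem tsig_cb (k : Fin n) : tsig (cb k : TR F n) = ((-1 : F) ^ (k : ℕ)) • cb k := by
  rw [cb_apply, map_pow, tsig_tx, neg_pow, Algebra.smul_def, map_pow, map_neg, map_one]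

theorem repr_tsig (a : TR F n) (k : Fin n) :
    cb.repr (tsig a) k = (-1) ^ (k : ℕ) * cb.repr a k := by
  conv_lhs => rw [← cb.sum_repr a]
  rw [map_sum]
  simp_rw [map_smul, tsig_cb, smul_smul]
  rw [cb.repr_sum_self]
  ring

instance finite_TR [Finite F] : Finite (TR F n) :=
  haveI : Module.Finite F (TR F n) := Module.Finite.of_basis cb
  Module.finite_of_finite F

end TruncAlg

section Cayley

variable {A : Type*} [CommRing A]

theorem inverse_eq_of_mul {r z : A} (h : r * z = 1) : Ring.inverse r = z := by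
  have hu : IsUnit r := IsUnit.of_mul_eq_one z h
  calc Ring.inverse r = Ring.inverse r * (r * z) := by rw [h, mul_one]
    _ = (Ring.inverse r * r) * z := by ring
    _ = z := by rw [Ring.inverse_mul_cancel r hu, one_mul]

/-- the Cayley transform -/
noncomputable def cay (r : A) : A := (1 - r) * Ring.inverse (1 + r)

theorem cay_eq {r z : A} (h : (1 + r) * z = 1) : cay r = (1 - r) * z := by
  unfold cay
  rw [inverse_eq_of_mul h]

theorem one_add_cay {r z i2 : A} (h : (1 + r) * z = 1) (h2 : 2 * i2 = 1) :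
    (1 + cay r) * ((1 + r) * i2) = 1 := by
  rw [cay_eq h]
  linear_combination ((1 - r) * i2) * h + h2

theorem cay_cay {r z i2 : A} (h : (1 + r) * z = 1) (h2 : 2 * i2 = 1) : cay (cay r) = r := by
  rw [cay_eq (one_add_cay h h2), cay_eq h]
  linear_combination (-(1 - r) * i2) * h + r * h2

theorem cay_map {B G : Type*} [CommRing B] [FunLike G A B] [RingHomClass G A B] (f : G)
    {r z : A} (h : (1 + r) * z = 1) :
    f (cay r) = cay (f r) := by
  have h' : (1 + f r) * f z = 1 := by
    rw [← map_one f, ← map_add, ← map_mul, h]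
  rw [cay_eq h, cay_eq h', map_mul, map_sub, map_one]

theorem cay_inv {r s z : A} (hrs : r * s = 1) (h : (1 + r) * z = 1) : cay s = - cay r := by
  have h' : (1 + s) * (r * z) = 1 := by
    linear_combination z * hrs + h
  rw [cay_eq h, cay_eq h']
  linear_combination (-z) * hrs

theorem cay_mul_cay_neg {y z z' : A} (h : (1 + y) * z = 1) (h' : (1 - y) * z' = 1) :
    cay y * cay (-y) = 1 := by
  have h'' : (1 + -y) * z' = 1 := by linear_combination h'
  rw [cay_eq h, cay_eq h'']
  linear_combination ((1 - y) * z') * h + h'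

theorem cay_zero : cay (0 : A) = 1 := by
  rw [cay_eq (z := 1) (by ring)]
  ring

end Cayley

section TruncCount

variable {F : Type*} [Field F] {n : ℕ}

theorem exists_inv_of_tchi (hn : 1 ≤ n) (a : TR F n) (h : tchi hn a ≠ 0) : ∃ z, a * z = 1 := by
  obtain ⟨u, hu⟩ := (isUnit_iff_tchi hn a).mpr h
  exact ⟨↑u⁻¹, by rw [← hu, Units.mul_inv]⟩

theorem tchi_eq_zero_of_tsig_neg (hn : 1 ≤ n) (h2 : (2 : F) ≠ 0) (y : TR F n)
    (hy : tsig y = -y) : tchi hn y = 0 := by
  have h := tchi_tsig hn y
  rw [hy, map_neg] at h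
  have h' : (2 : F) * tchi hn y = 0 := by linear_combination -h
  exact (mul_eq_zero.mp h').resolve_left h2

theorem two_mul_half (h2 : (2 : F) ≠ 0) :
    (2 : TR F n) * algebraMap F (TR F n) (2⁻¹) = 1 := by
  have : (2 : TR F n) = algebraMap F (TR F n) 2 := (map_ofNat (algebraMap F (TR F n)) 2).symm
  rw [this, ← map_mul, mul_inv_cancel₀ h2, map_one]

/-- Cayley equivalence between norm-one elements with constant term `1` and skew elements -/
noncomputable def cayEquiv (hn : 1 ≤ n) (h2 : (2 : F) ≠ 0) :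
    {a : TR F n // a * tsig a = 1 ∧ tchi hn a = 1} ≃ {y : TR F n // tsig y = -y} where
  toFun a := ⟨cay a.1, by
    obtain ⟨z, hz⟩ := exists_inv_of_tchi hn (1 + a.1) (by
      rw [map_add, map_one, a.2.2]; norm_num; exact h2)
    rw [cay_map tsig hz, cay_inv a.2.1 hz]⟩
  invFun y := ⟨cay y.1, by
    have hy0 := tchi_eq_zero_of_tsig_neg hn h2 y.1 y.2
    obtain ⟨z, hz⟩ := exists_inv_of_tchi hn (1 + y.1) (by
      rw [map_add, map_one, hy0, add_zero]; exact one_ne_zero)
    obtain ⟨z', hz'⟩ := exists_inv_of_tchi hn (1 - y.1) (by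
      rw [map_sub, map_one, hy0, sub_zero]; exact one_ne_zero)
    constructor
    · rw [cay_map tsig hz, y.2, cay_mul_cay_neg hz hz']
    · rw [cay_map (tchi hn) hz, hy0, cay_zero]⟩
  left_inv a := by
    obtain ⟨z, hz⟩ := exists_inv_of_tchi hn (1 + a.1) (by
      rw [map_add, map_one, a.2.2]; norm_num; exact h2)
    exact Subtype.ext (cay_cay hz (two_mul_half h2))
  right_inv y := by
    have hy0 := tchi_eq_zero_of_tsig_neg hn h2 y.1 y.2
    obtain ⟨z, hz⟩ := exists_inv_of_tchi hn (1 + y.1) (by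
      rw [map_add, map_one, hy0, add_zero]; exact one_ne_zero)
    exact Subtype.ext (cay_cay hz (two_mul_half h2))

/-- functions on `Fin (2m)` vanishing at even indices -/
def oddEquiv (m : ℕ) :
    {c : Fin (2 * m) → F // ∀ k : Fin (2 * m), Even (k : ℕ) → c k = 0} ≃ (Fin m → F) where
  toFun c j := c.1 ⟨2 * (j : ℕ) + 1, by have := j.2; omega⟩
  invFun d := ⟨fun k => if Even (k : ℕ) then 0 else d ⟨(k : ℕ) / 2, by have := k.2; omega⟩, by
    intro k hk
    exact if_pos hk⟩
  left_inv c := by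
    apply Subtype.ext
    funext k
    by_cases hk : Even (k : ℕ)
    · simp only [if_pos hk]
      exact (c.2 k hk).symm
    · simp only [if_neg hk]
      have := Nat.odd_iff.mp (Nat.not_even_iff_odd.mp hk)
      exact congrArg c.1 (Fin.ext (by simp only; omega))
  right_inv d := by
    funext j
    have h1 : ¬ Even (2 * (j : ℕ) + 1) := by
      rw [Nat.not_even_iff_odd]; exact ⟨j, rfl⟩
    simp only [if_neg h1]
    exact congrArg d (Fin.ext (by simp only; omega))

theorem tsig_eq_neg_iff (h2 : (2 : F) ≠ 0) (y : TR F n) :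
    tsig y = -y ↔ ∀ k : Fin n, Even (k : ℕ) → cb.repr y k = 0 := by
  constructor
  · intro h k hk
    have h1 := repr_tsig y k
    rw [h, map_neg, Finsupp.neg_apply, hk.neg_one_pow, one_mul] at h1
    have h' : (2 : F) * cb.repr y k = 0 := by linear_combination -h1
    exact (mul_eq_zero.mp h').resolve_left h2
  · intro h
    apply cb.ext_elem
    intro k
    rw [repr_tsig, map_neg, Finsupp.neg_apply]
    by_cases hk : Even (k : ℕ)
    · rw [h k hk]; ring
    · rw [(Nat.not_even_iff_odd.mp hk).neg_one_pow]; ring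

theorem card_skew [Fintype F] (m : ℕ) (h2 : (2 : F) ≠ 0) :
    Nat.card {y : TR F (2 * m) // tsig y = -y} = Fintype.card F ^ m := by
  have e1 : {y : TR F (2 * m) // tsig y = -y} ≃
      {c : Fin (2 * m) → F // ∀ k : Fin (2 * m), Even (k : ℕ) → c k = 0} :=
    Equiv.subtypeEquiv (cb.equivFun.toEquiv) (fun y => by
      rw [tsig_eq_neg_iff h2]
      rfl)
  rw [Nat.card_congr (e1.trans (oddEquiv m)), Nat.card_fun]
  simp

theorem card_norm_one [Fintype F] (m : ℕ) (hm : 1 ≤ m) (h2 : (2 : F) ≠ 0) :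
    Nat.card {a : TR F (2 * m) // a * tsig a = 1} = 2 * Fintype.card F ^ m := by
  classical
  have hn : 1 ≤ 2 * m := by omega
  have hchi : ∀ a : TR F (2 * m), a * tsig a = 1 → tchi hn a = 1 ∨ tchi hn a = -1 := by
    intro a ha
    have h := congrArg (tchi hn) ha
    rw [map_mul, tchi_tsig, map_one] at h
    exact mul_self_eq_one_iff.mp h
  have hne : (1 : F) ≠ -1 := by
    intro h
    apply h2
    linear_combination h
  let p : {a : TR F (2 * m) // a * tsig a = 1} → Prop := fun a => tchi hn a.1 = 1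
  have e1 : {a : {a : TR F (2 * m) // a * tsig a = 1} // p a} ≃
      {a : TR F (2 * m) // a * tsig a = 1 ∧ tchi hn a = 1} :=
    Equiv.subtypeSubtypeEquivSubtypeInter (fun a : TR F (2 * m) => a * tsig a = 1)
      (fun a => tchi hn a = 1)
  have e2 : {a : {a : TR F (2 * m) // a * tsig a = 1} // ¬ p a} ≃
      {a : TR F (2 * m) // a * tsig a = 1 ∧ tchi hn a = 1} :=
    { toFun := fun a => ⟨-a.1.1, by
        constructor
        · rw [map_neg, neg_mul_neg]; exact a.1.2
        · rw [map_neg]
          rcases hchi a.1.1 a.1.2 with h | h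
          · exact absurd h a.2
          · rw [h, neg_neg]⟩
      invFun := fun b => ⟨⟨-b.1, by rw [map_neg, neg_mul_neg]; exact b.2.1⟩, by
        change ¬ (tchi hn (-b.1) = 1)
        rw [map_neg, b.2.2]
        exact fun h => hne h.symm⟩
      left_inv := fun a => by
        apply Subtype.ext; apply Subtype.ext
        simp
      right_inv := fun b => by
        apply Subtype.ext
        simp }
  rw [Nat.card_congr (Equiv.sumCompl p).symm, Nat.card_sum, Nat.card_congr e1, Nat.card_congr e2,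
    Nat.card_congr (cayEquiv hn h2), card_skew m h2]
  ring

end TruncCount

section TruncForm

variable {F : Type*} [Field F] {n : ℕ}

/-- the top coefficient functional -/
noncomputable def tlam (hn : 1 ≤ n) : TR F n →ₗ[F] F := cb.coord ⟨n - 1, by omega⟩

theorem tlam_pow (hn : 1 ≤ n) (i : ℕ) :
    tlam hn ((tx : TR F n) ^ i) = if i = n - 1 then 1 else 0 := by
  by_cases hi : i < n
  · have h1 : (tx : TR F n) ^ i = cb ⟨i, hi⟩ := by rw [cb_apply]
    rw [h1, tlam, Module.Basis.coord_apply, Module.Basis.repr_self, Finsupp.single_apply]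
    simp only [Fin.mk.injEq]
  · have h1 : (tx : TR F n) ^ i = 0 := pow_eq_zero_of_le (by omega) tx_pow
    rw [h1, map_zero, if_neg (by omega)]

theorem tlam_mul_pow (hn : 1 ≤ n) (c : TR F n) (k : Fin n) :
    tlam hn (c * tx ^ (n - 1 - (k : ℕ))) = cb.repr c k := by
  conv_lhs => rw [← cb.sum_repr c]
  rw [Finset.sum_mul, map_sum]
  rw [Finset.sum_eq_single k]
  · rw [smul_mul_assoc, map_smul, cb_apply, ← pow_add, tlam_pow, if_pos (by have := k.2; omega),
      smul_eq_mul, mul_one]
  · intro j _ hj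
    rw [smul_mul_assoc, map_smul, cb_apply, ← pow_add, tlam_pow, if_neg, smul_zero]
    intro h
    apply hj
    apply Fin.ext
    have := k.2
    have := j.2
    omega
  · intro h
    exact absurd (Finset.mem_univ _) h

theorem eq_zero_of_tlam (hn : 1 ≤ n) (c : TR F n) (h : ∀ j : ℕ, tlam hn (c * tx ^ j) = 0) :
    c = 0 := by
  apply cb.ext_elem
  intro k
  rw [← tlam_mul_pow hn c k, h, map_zero, Finsupp.zero_apply]

/-- the invariant bilinear form -/
noncomputable def tform (hn : 1 ≤ n) : LinearMap.BilinForm F (TR F n) :=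
  LinearMap.mk₂ F (fun a b => tlam hn (tsig a * b))
    (fun a a' b => by simp only [map_add, add_mul])
    (fun c a b => by simp only [map_smul, smul_mul_assoc, smul_eq_mul])
    (fun a b b' => by simp only [map_add, mul_add])
    (fun c a b => by simp only [map_smul, mul_smul_comm, smul_eq_mul])

theorem tform_apply (hn : 1 ≤ n) (a b : TR F n) : tform hn a b = tlam hn (tsig a * b) := rfl

theorem tform_nondegenerate (hn : 1 ≤ n) : (tform hn : LinearMap.BilinForm F (TR F n)).Nondegenerate := by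
  constructor
  · intro a ha
    have h1 : tsig a = 0 := by
      apply eq_zero_of_tlam hn
      intro j
      exact ha _
    rw [← tsig_tsig a, h1, map_zero]
  · intro b hb
    apply eq_zero_of_tlam hn
    intro j
    have h1 := hb (tsig (tx ^ j))
    rw [tform_apply, tsig_tsig, mul_comm] at h1
    exact h1

theorem tform_isAlt (m : ℕ) (hm : 1 ≤ m) (h2 : (2 : F) ≠ 0) :
    (tform (by omega : 1 ≤ 2 * m) : LinearMap.BilinForm F (TR F (2 * m))).IsAlt := by
  intro a
  rw [tform_apply]
  have hc : tsig (tsig a * a) = tsig a * a := by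
    rw [map_mul, tsig_tsig, mul_comm a]
  have h1 := repr_tsig (tsig a * a) ⟨2 * m - 1, by omega⟩
  rw [hc] at h1
  have hodd : Odd (2 * m - 1) := ⟨m - 1, by omega⟩
  simp only [hodd.neg_one_pow] at h1
  have h' : (2 : F) * cb.repr (tsig a * a) ⟨2 * m - 1, by omega⟩ = 0 := by
    linear_combination h1
  exact (mul_eq_zero.mp h').resolve_left h2

theorem tform_mul_mul (hn : 1 ≤ n) (w : TR F n) (hw : w * tsig w = 1) (a b : TR F n) :
    tform hn (w * a) (w * b) = tform hn a b := by
  rw [tform_apply, tform_apply, map_mul tsig]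
  congr 1
  linear_combination (tsig a * b) * hw

theorem finrank_TR : Module.finrank F (TR F n) = n := by
  rw [Module.finrank_eq_card_basis cb, Fintype.card_fin]

theorem exists_norm_one_reg (hn : 1 ≤ n) (h2 : (2 : F) ≠ 0) :
    ∃ w v z : TR F n, w * tsig w = 1 ∧ w - 1 = tx * v ∧ v * z = 1 := by
  obtain ⟨z0, hz0⟩ := exists_inv_of_tchi hn (1 + (tx : TR F n)) (by
    rw [map_add, map_one, tchi_tx, add_zero]; exact one_ne_zero)
  have hw := ((cayEquiv hn h2).symm ⟨tx, tsig_tx⟩).2.1
  have hw' : ((cayEquiv hn h2).symm ⟨tx, tsig_tx⟩).1 = cay (tx : TR F n) := rfl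
  rw [hw'] at hw
  refine ⟨cay tx, -2 * z0, -(algebraMap F (TR F n) 2⁻¹) * (1 + tx), hw, ?_, ?_⟩
  · rw [cay_eq hz0]
    linear_combination hz0
  · have hh := two_mul_half (n := n) h2
    linear_combination (algebraMap F (TR F n) 2⁻¹ * 2) * hz0 + hh

theorem exists_mul_tsig_eq [Fintype F] (hn : 1 ≤ n) (h2 : (2 : F) ≠ 0) (a : TR F n)
    (hs : tsig a = a) (hsq : IsSquare (tchi hn a)) (h0 : tchi hn a ≠ 0) :
    ∃ b, b * tsig b = a := by
  obtain ⟨c, hc⟩ := hsq
  have hc0 : c * c ≠ 0 := hc ▸ h0
  set k : TR F n := a * algebraMap F (TR F n) (c * c)⁻¹ with hk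
  have hks : tsig k = k := by rw [hk, map_mul, hs, AlgHom.commutes]
  have hk1 : tchi hn k = 1 := by
    rw [hk, map_mul, AlgHom.commutes, hc]
    change c * c * (c * c)⁻¹ = 1
    exact mul_inv_cancel₀ hc0
  have := nontrivial_TR (F := F) hn
  set p := ringChar F with hp
  have : Fact p.Prime := ⟨CharP.char_is_prime F p⟩
  have : CharP (TR F n) p := charP_of_injective_algebraMap (algebraMap F (TR F n)).injective p
  have hp2 : p ≠ 2 := by
    intro h
    apply h2
    have : ((2 : ℕ) : F) = 0 := by rw [← h]; exact CharP.cast_eq_zero F p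
    exact_mod_cast this
  have hpodd : Odd (p ^ n) := (Nat.Prime.odd_of_ne_two Fact.out hp2).pow
  obtain ⟨l, hl⟩ := hpodd
  have hnil : (k - 1) ^ (p ^ n) = 0 := by
    apply pow_eq_zero_of_le (Nat.lt_pow_self (Nat.Prime.one_lt Fact.out)).le
    apply pow_eq_zero_of_tchi hn
    rw [map_sub, hk1, map_one, sub_self]
  have hkp : k ^ (p ^ n) = 1 := by
    have : k = (k - 1) + 1 := by ring
    rw [this, add_pow_char_pow, hnil, one_pow, zero_add]
  refine ⟨algebraMap F (TR F n) c * k ^ (l + 1), ?_⟩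
  rw [map_mul, AlgHom.commutes, map_pow, hks]
  have h3 : k ^ (l + 1) * k ^ (l + 1) = k := by
    rw [← pow_add]
    have : l + 1 + (l + 1) = p ^ n + 1 := by omega
    rw [this, pow_succ, hkp, one_mul]
  calc algebraMap F (TR F n) c * k ^ (l + 1) * (algebraMap F (TR F n) c * k ^ (l + 1))
      = algebraMap F (TR F n) (c * c) * (k ^ (l + 1) * k ^ (l + 1)) := by rw [map_mul]; ring
    _ = algebraMap F (TR F n) (c * c) * k := by rw [h3]
    _ = a * algebraMap F (TR F n) ((c * c) * (c * c)⁻¹) := by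
      rw [hk, map_mul (algebraMap F (TR F n)) (c * c) ((c * c)⁻¹)]; ring
    _ = a := by rw [mul_inv_cancel₀ hc0, map_one, mul_one]

end TruncForm

end Cfsg.Agent.Lib.Helper49
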