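import Mathlib
import Cfsg.Agent.Lib.Helper49.TruncAlg
import Cfsg.Agent.Lib.Helper49.Cyclic

set_option autoImplicit false

namespace Cfsg.Agent.Lib.Helper49

open Polynomial Module

section Commutant

variable {F : Type*} [Field F] {ι : Type*} [Fintype ι] [DecidableEq ι] {n : ℕ}

theorem exists_cyclic_basis_gen (hcard : Fintype.card ι = n) (hn : 1 ≤ n) (N : Matrix ι ι F)
    (hnil : N ^ n = 0) (hreg : N.rank = n - 1) :
    ∃ (e : ι → F) (b : Basis (Fin n) F (ι → F)), ∀ i : Fin n, b i = (N ^ (i : ℕ)).mulVec e := by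
  have hfn : (Matrix.toLin' N) ^ n = 0 := by rw [← Matrix.toLin'_pow, hnil]; simp
  have hker : finrank F (LinearMap.ker (Matrix.toLin' N)) ≤ 1 := by
    have h1 := LinearMap.finrank_range_add_finrank_ker (Matrix.toLin' N)
    have h2 : finrank F (LinearMap.range (Matrix.toLin' N)) = n - 1 := by
      rw [← hreg, Matrix.rank, Matrix.toLin'_apply']
    rw [h2] at h1
    simp only [finrank_pi, hcard] at h1
    omega
  obtain ⟨e, he, hspan⟩ := exists_cyclic (Matrix.toLin' N) n (by simp [hcard]) hn hfn hker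
  refine ⟨e, basisOfTopLeSpanOfCardEqFinrank _ hspan (by simp [hcard]), ?_⟩
  intro i
  rw [coe_basisOfTopLeSpanOfCardEqFinrank, ← Matrix.toLin'_pow, Matrix.toLin'_apply]

theorem eq_of_commute_of_mulVec_eq_gen (N : Matrix ι ι F) (e : ι → F)
    (b : Basis (Fin n) F (ι → F)) (hb : ∀ i : Fin n, b i = (N ^ (i : ℕ)).mulVec e)
    (M M' : Matrix ι ι F) (hM : Commute M N) (hM' : Commute M' N)
    (h : M.mulVec e = M'.mulVec e) : M = M' := by
  apply Matrix.toLin'.injective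
  apply b.ext
  intro i
  rw [hb, Matrix.toLin'_apply, Matrix.toLin'_apply, Matrix.mulVec_mulVec, Matrix.mulVec_mulVec,
    (hM.pow_right _).eq, (hM'.pow_right _).eq, ← Matrix.mulVec_mulVec, ← Matrix.mulVec_mulVec, h]

/-- the algebra map `F[X]/(X^n) → Mat` sending `x` to `t` -/
noncomputable def tphi (t : Matrix ι ι F) (ht : t ^ n = 0) : TR F n →ₐ[F] Matrix ι ι F :=
  Ideal.Quotient.liftₐ (Ideal.span {(X ^ n : F[X])}) (aeval t) (by
    intro a ha
    obtain ⟨c, rfl⟩ := Ideal.mem_span_singleton.mp ha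
    rw [map_mul, map_pow, aeval_X, ht, zero_mul])

theorem tphi_mk (t : Matrix ι ι F) (ht : t ^ n = 0) (p : F[X]) :
    tphi t ht (AdjoinRoot.mk _ p) = aeval t p := rfl

theorem tphi_tx (t : Matrix ι ι F) (ht : t ^ n = 0) : tphi t ht tx = t := by
  unfold tx
  rw [← AdjoinRoot.mk_X, tphi_mk, aeval_X]

theorem tphi_eq_sum (t : Matrix ι ι F) (ht : t ^ n = 0) (a : TR F n) :
    tphi t ht a = ∑ k : Fin n, cb.repr a k • t ^ (k : ℕ) := by
  conv_lhs => rw [← cb.sum_repr a]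
  rw [map_sum]
  apply Finset.sum_congr rfl
  intro k _
  rw [map_smul, cb_apply, map_pow, tphi_tx]

theorem tphi_commute (t : Matrix ι ι F) (ht : t ^ n = 0) (a : TR F n) :
    Commute (tphi t ht a) t := by
  have h : tphi t ht (a * tx) = tphi t ht (tx * a) := by rw [mul_comm]
  rw [map_mul, map_mul, tphi_tx] at h
  exact h

theorem tphi_mulVec (t : Matrix ι ι F) (ht : t ^ n = 0) (e : ι → F)
    (b : Basis (Fin n) F (ι → F)) (hb : ∀ i : Fin n, b i = (t ^ (i : ℕ)).mulVec e) (a : TR F n) :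
    (tphi t ht a).mulVec e = ∑ k : Fin n, cb.repr a k • b k := by
  rw [tphi_eq_sum, Matrix.sum_mulVec]
  apply Finset.sum_congr rfl
  intro k _
  rw [Matrix.smul_mulVec, hb]

theorem tphi_injective (t : Matrix ι ι F) (ht : t ^ n = 0) (e : ι → F)
    (b : Basis (Fin n) F (ι → F)) (hb : ∀ i : Fin n, b i = (t ^ (i : ℕ)).mulVec e) :
    Function.Injective (tphi t ht) := by
  rw [injective_iff_map_eq_zero]
  intro a ha
  have h1 := tphi_mulVec t ht e b hb a
  rw [ha, Matrix.zero_mulVec] at h1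
  have h2 := Fintype.linearIndependent_iff.mp b.linearIndependent _ h1.symm
  apply cb.ext_elem
  intro k
  rw [h2 k, map_zero, Finsupp.zero_apply]

theorem exists_tphi_eq (t : Matrix ι ι F) (ht : t ^ n = 0) (e : ι → F)
    (b : Basis (Fin n) F (ι → F)) (hb : ∀ i : Fin n, b i = (t ^ (i : ℕ)).mulVec e)
    (M : Matrix ι ι F) (hM : Commute M t) : ∃ a : TR F n, tphi t ht a = M := by
  refine ⟨cb.equivFun.symm (b.equivFun (M.mulVec e)), ?_⟩
  apply eq_of_commute_of_mulVec_eq_gen t e b hb _ _ (tphi_commute t ht _) hM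
  rw [tphi_mulVec t ht e b hb]
  conv_rhs => rw [← b.sum_repr (M.mulVec e)]
  apply Finset.sum_congr rfl
  intro k _
  congr 1
  simp

end Commutant

section Symp

variable {F : Type*} [Field F] {m n : ℕ}

theorem pow_transpose_mul_J (t : Matrix (Fin m ⊕ Fin m) (Fin m ⊕ Fin m) F)
    (hskew : t.transpose * Matrix.J (Fin m) F = -(Matrix.J (Fin m) F * t)) (k : ℕ) :
    (t ^ k).transpose * Matrix.J (Fin m) F = Matrix.J (Fin m) F * (-t) ^ k := by
  induction k with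
  | zero => simp
  | succ k ih =>
    rw [pow_succ, Matrix.transpose_mul, Matrix.mul_assoc, ih, ← Matrix.mul_assoc, hskew, pow_succ']
    rw [Matrix.neg_mul, Matrix.mul_assoc, Matrix.neg_mul, Matrix.mul_neg]

theorem tphi_tsig_eq_sum (t : Matrix (Fin m ⊕ Fin m) (Fin m ⊕ Fin m) F) (ht : t ^ n = 0)
    (a : TR F n) : tphi t ht (tsig a) = ∑ k : Fin n, cb.repr a k • (-t) ^ (k : ℕ) := by
  conv_lhs => rw [← cb.sum_repr a]
  rw [map_sum, map_sum]
  apply Finset.sum_congr rfl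
  intro k _
  rw [map_smul, map_smul, cb_apply, map_pow, tsig_tx, map_pow, map_neg, tphi_tx]

theorem tphi_transpose (t : Matrix (Fin m ⊕ Fin m) (Fin m ⊕ Fin m) F) (ht : t ^ n = 0)
    (hskew : t.transpose * Matrix.J (Fin m) F = -(Matrix.J (Fin m) F * t)) (a : TR F n) :
    (tphi t ht a).transpose * Matrix.J (Fin m) F = Matrix.J (Fin m) F * tphi t ht (tsig a) := by
  rw [tphi_tsig_eq_sum, tphi_eq_sum, Matrix.transpose_sum, Finset.sum_mul, Finset.mul_sum]
  apply Finset.sum_congr rfl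
  intro k _
  rw [Matrix.transpose_smul, Matrix.smul_mul, pow_transpose_mul_J t hskew, Matrix.mul_smul]

theorem J_mul_cancel (A B : Matrix (Fin m ⊕ Fin m) (Fin m ⊕ Fin m) F)
    (h : Matrix.J (Fin m) F * A = Matrix.J (Fin m) F * B) : A = B := by
  have h1 := congrArg (fun M => -(Matrix.J (Fin m) F) * M) h
  simp only [← Matrix.mul_assoc, Matrix.neg_mul, Matrix.J_squared, neg_neg, Matrix.one_mul] at h1
  exact h1

variable (u : Matrix.symplecticGroup (Fin m) F)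

theorem sp_mul_inv : (u : Matrix (Fin m ⊕ Fin m) (Fin m ⊕ Fin m) F) *
    ((u⁻¹ : Matrix.symplecticGroup (Fin m) F) : Matrix (Fin m ⊕ Fin m) (Fin m ⊕ Fin m) F) = 1 := by
  have h := congrArg Subtype.val (mul_inv_cancel u)
  exact h

theorem sp_inv_mul : ((u⁻¹ : Matrix.symplecticGroup (Fin m) F) :
    Matrix (Fin m ⊕ Fin m) (Fin m ⊕ Fin m) F) *
    (u : Matrix (Fin m ⊕ Fin m) (Fin m ⊕ Fin m) F) = 1 := by
  have h := congrArg Subtype.val (inv_mul_cancel u)
  exact h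

theorem sp_transpose_mul_J : (u : Matrix (Fin m ⊕ Fin m) (Fin m ⊕ Fin m) F).transpose *
    Matrix.J (Fin m) F = Matrix.J (Fin m) F *
    ((u⁻¹ : Matrix.symplecticGroup (Fin m) F) : Matrix (Fin m ⊕ Fin m) (Fin m ⊕ Fin m) F) := by
  have h := SymplecticGroup.mem_iff'.mp u.2
  calc (u : Matrix (Fin m ⊕ Fin m) (Fin m ⊕ Fin m) F).transpose * Matrix.J (Fin m) F
      = (u : Matrix (Fin m ⊕ Fin m) (Fin m ⊕ Fin m) F).transpose * Matrix.J (Fin m) F *
        ((u : Matrix (Fin m ⊕ Fin m) (Fin m ⊕ Fin m) F) *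
        ((u⁻¹ : Matrix.symplecticGroup (Fin m) F) : Matrix (Fin m ⊕ Fin m) (Fin m ⊕ Fin m) F)) := by
        rw [sp_mul_inv, Matrix.mul_one]
    _ = _ := by rw [← Matrix.mul_assoc, h]

/-- the skew generator `u - u⁻¹` -/
noncomputable def ut : Matrix (Fin m ⊕ Fin m) (Fin m ⊕ Fin m) F :=
  (u : Matrix (Fin m ⊕ Fin m) (Fin m ⊕ Fin m) F) -
    ((u⁻¹ : Matrix.symplecticGroup (Fin m) F) : Matrix (Fin m ⊕ Fin m) (Fin m ⊕ Fin m) F)

theorem ut_skew : (ut u).transpose * Matrix.J (Fin m) F = -(Matrix.J (Fin m) F * ut u) := by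
  unfold ut
  have h1 := sp_transpose_mul_J u
  have h2 := sp_transpose_mul_J u⁻¹
  rw [inv_inv] at h2
  rw [Matrix.transpose_sub, Matrix.sub_mul, h1, h2, Matrix.mul_sub]
  abel

theorem ut_eq : ut u = ((u : Matrix (Fin m ⊕ Fin m) (Fin m ⊕ Fin m) F) - 1) *
    (((u⁻¹ : Matrix.symplecticGroup (Fin m) F) : Matrix (Fin m ⊕ Fin m) (Fin m ⊕ Fin m) F) *
      ((u : Matrix (Fin m ⊕ Fin m) (Fin m ⊕ Fin m) F) + 1)) := by
  unfold ut
  have h1 := sp_mul_inv u
  have h2 := sp_inv_mul u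
  rw [← Matrix.mul_assoc, Matrix.sub_mul, h1, Matrix.one_mul, Matrix.sub_mul, Matrix.mul_add,
    Matrix.mul_add, Matrix.one_mul, Matrix.mul_one, Matrix.mul_one, h2]
  abel

theorem ut_commute_aux : Commute ((u : Matrix (Fin m ⊕ Fin m) (Fin m ⊕ Fin m) F) - 1)
    (((u⁻¹ : Matrix.symplecticGroup (Fin m) F) : Matrix (Fin m ⊕ Fin m) (Fin m ⊕ Fin m) F) *
      ((u : Matrix (Fin m ⊕ Fin m) (Fin m ⊕ Fin m) F) + 1)) := by
  have h1 := sp_mul_inv u
  have h2 := sp_inv_mul u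
  have hc : Commute (u : Matrix (Fin m ⊕ Fin m) (Fin m ⊕ Fin m) F)
      ((u⁻¹ : Matrix.symplecticGroup (Fin m) F) : Matrix (Fin m ⊕ Fin m) (Fin m ⊕ Fin m) F) := by
    rw [Commute, SemiconjBy, h1, h2]
  apply Commute.mul_right
  · exact (hc.sub_left (Commute.one_left _))
  · exact ((Commute.refl _).sub_left (Commute.one_left _)).add_right (Commute.one_right _)

theorem ut_pow (k : ℕ)
    (hnil : ((u : Matrix (Fin m ⊕ Fin m) (Fin m ⊕ Fin m) F) - 1) ^ k = 0) :
    (ut u) ^ k = 0 := by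
  rw [ut_eq, (ut_commute_aux u).mul_pow, hnil, zero_mul]

theorem isUnit_det_aux (h2 : (2 : F) ≠ 0) (k : ℕ)
    (hnil : ((u : Matrix (Fin m ⊕ Fin m) (Fin m ⊕ Fin m) F) - 1) ^ k = 0) :
    IsUnit (((u⁻¹ : Matrix.symplecticGroup (Fin m) F) : Matrix (Fin m ⊕ Fin m) (Fin m ⊕ Fin m) F) *
      ((u : Matrix (Fin m ⊕ Fin m) (Fin m ⊕ Fin m) F) + 1)).det := by
  rw [← Matrix.isUnit_iff_isUnit_det]
  apply IsUnit.mul
  · exact IsUnit.of_mul_eq_one _ (sp_inv_mul u)
  · have h : (u : Matrix (Fin m ⊕ Fin m) (Fin m ⊕ Fin m) F) + 1 =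
        algebraMap F (Matrix (Fin m ⊕ Fin m) (Fin m ⊕ Fin m) F) 2 +
          ((u : Matrix (Fin m ⊕ Fin m) (Fin m ⊕ Fin m) F) - 1) := by
      rw [map_ofNat]
      have : (2 : Matrix (Fin m ⊕ Fin m) (Fin m ⊕ Fin m) F) = 1 + 1 := by norm_num
      rw [this]
      abel
    rw [h]
    apply IsNilpotent.isUnit_add_left_of_commute ⟨k, hnil⟩
    · exact (isUnit_iff_ne_zero.mpr h2).map _
    · exact (Algebra.commutes _ _).symm

theorem ut_rank (h2 : (2 : F) ≠ 0) (k : ℕ)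
    (hnil : ((u : Matrix (Fin m ⊕ Fin m) (Fin m ⊕ Fin m) F) - 1) ^ k = 0) :
    (ut u).rank = ((u : Matrix (Fin m ⊕ Fin m) (Fin m ⊕ Fin m) F) - 1).rank := by
  rw [ut_eq, Matrix.rank_mul_eq_left_of_isUnit_det _ _ (isUnit_det_aux u h2 k hnil)]

theorem commute_ut_of_commute (M : Matrix (Fin m ⊕ Fin m) (Fin m ⊕ Fin m) F)
    (hM : Commute M (u : Matrix (Fin m ⊕ Fin m) (Fin m ⊕ Fin m) F)) : Commute M (ut u) := by
  have h1 := sp_mul_inv u
  have h2 := sp_inv_mul u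
  have hi : Commute M
      ((u⁻¹ : Matrix.symplecticGroup (Fin m) F) : Matrix (Fin m ⊕ Fin m) (Fin m ⊕ Fin m) F) := by
    rw [Commute, SemiconjBy]
    calc M * ((u⁻¹ : Matrix.symplecticGroup (Fin m) F) : Matrix (Fin m ⊕ Fin m) (Fin m ⊕ Fin m) F)
        = ((u⁻¹ : Matrix.symplecticGroup (Fin m) F) : Matrix (Fin m ⊕ Fin m) (Fin m ⊕ Fin m) F) *
          (u : Matrix (Fin m ⊕ Fin m) (Fin m ⊕ Fin m) F) * M *
          ((u⁻¹ : Matrix.symplecticGroup (Fin m) F) : Matrix (Fin m ⊕ Fin m) (Fin m ⊕ Fin m) F) := by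
          rw [h2, Matrix.one_mul]
      _ = ((u⁻¹ : Matrix.symplecticGroup (Fin m) F) : Matrix (Fin m ⊕ Fin m) (Fin m ⊕ Fin m) F) *
          (M * (u : Matrix (Fin m ⊕ Fin m) (Fin m ⊕ Fin m) F)) *
          ((u⁻¹ : Matrix.symplecticGroup (Fin m) F) : Matrix (Fin m ⊕ Fin m) (Fin m ⊕ Fin m) F) := by
          rw [hM.eq, Matrix.mul_assoc _ _ M]
      _ = _ := by
          rw [Matrix.mul_assoc, Matrix.mul_assoc, h1, Matrix.mul_one]
  exact hM.sub_right hi

/-- cyclic data of a regular unipotent symplectic matrix -/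
structure RegData (u : Matrix.symplecticGroup (Fin m) F) where
  e : Fin m ⊕ Fin m → F
  b : Basis (Fin (2 * m)) F (Fin m ⊕ Fin m → F)
  ht : (ut u) ^ (2 * m) = 0
  hb : ∀ i : Fin (2 * m), b i = ((ut u) ^ (i : ℕ)).mulVec e

theorem exists_regData (hm : 1 ≤ m) (h2 : (2 : F) ≠ 0)
    (hnil : ((u : Matrix (Fin m ⊕ Fin m) (Fin m ⊕ Fin m) F) - 1) ^ (2 * m) = 0)
    (hreg : ((u : Matrix (Fin m ⊕ Fin m) (Fin m ⊕ Fin m) F) - 1).rank = 2 * m - 1) :
    Nonempty (RegData u) := by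
  have ht := ut_pow u _ hnil
  have hr : (ut u).rank = 2 * m - 1 := by rw [ut_rank u h2 _ hnil, hreg]
  obtain ⟨e, b, hb⟩ := exists_cyclic_basis_gen (by simp; ring) (by omega) (ut u) ht hr
  exact ⟨⟨e, b, ht, hb⟩⟩

variable {u}

/-- the algebra map attached to regular data -/
noncomputable def RegData.phi (D : RegData u) :
    TR F (2 * m) →ₐ[F] Matrix (Fin m ⊕ Fin m) (Fin m ⊕ Fin m) F :=
  tphi (ut u) D.ht

theorem RegData.phi_injective (D : RegData u) : Function.Injective D.phi :=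
  tphi_injective (ut u) D.ht D.e D.b D.hb

theorem RegData.exists_phi_eq_of_commute_ut (D : RegData u)
    (M : Matrix (Fin m ⊕ Fin m) (Fin m ⊕ Fin m) F) (hM : Commute M (ut u)) :
    ∃ a, D.phi a = M :=
  exists_tphi_eq (ut u) D.ht D.e D.b D.hb M hM

theorem RegData.exists_phi_eq (D : RegData u)
    (M : Matrix (Fin m ⊕ Fin m) (Fin m ⊕ Fin m) F)
    (hM : Commute M (u : Matrix (Fin m ⊕ Fin m) (Fin m ⊕ Fin m) F)) :
    ∃ a, D.phi a = M :=
  D.exists_phi_eq_of_commute_ut M (commute_ut_of_commute u M hM)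

theorem RegData.commute_phi (D : RegData u) (a : TR F (2 * m)) :
    Commute (D.phi a) (u : Matrix (Fin m ⊕ Fin m) (Fin m ⊕ Fin m) F) := by
  obtain ⟨w, hw⟩ := D.exists_phi_eq (u : Matrix (Fin m ⊕ Fin m) (Fin m ⊕ Fin m) F) (Commute.refl _)
  rw [← hw, Commute, SemiconjBy, ← map_mul, ← map_mul, mul_comm a w]

theorem RegData.phi_transpose (D : RegData u) (a : TR F (2 * m)) :
    (D.phi a).transpose * Matrix.J (Fin m) F = Matrix.J (Fin m) F * D.phi (tsig a) :=
  tphi_transpose (ut u) D.ht (ut_skew u) a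

theorem RegData.phi_form (D : RegData u) (a b : TR F (2 * m)) :
    (D.phi a).transpose * Matrix.J (Fin m) F * D.phi b =
      Matrix.J (Fin m) F * D.phi (tsig a * b) := by
  rw [D.phi_transpose, Matrix.mul_assoc, ← map_mul]

theorem RegData.phi_mem_iff (D : RegData u) (a : TR F (2 * m)) :
    D.phi a ∈ Matrix.symplecticGroup (Fin m) F ↔ a * tsig a = 1 := by
  rw [SymplecticGroup.mem_iff', D.phi_form, mul_comm (tsig a) a]
  constructor
  · intro h
    apply D.phi_injective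
    rw [map_one]
    apply J_mul_cancel
    rw [h, Matrix.mul_one]
  · intro h
    rw [h, map_one, Matrix.mul_one]

theorem RegData.card_centralizer (D : RegData u) :
    Nat.card ↥(Subgroup.centralizer ({u} : Set ↥(Matrix.symplecticGroup (Fin m) F))) =
      Nat.card {a : TR F (2 * m) // a * tsig a = 1} := by
  symm
  let f : {a : TR F (2 * m) // a * tsig a = 1} →
      ↥(Subgroup.centralizer ({u} : Set ↥(Matrix.symplecticGroup (Fin m) F))) := fun a =>
    ⟨⟨D.phi a.1, (D.phi_mem_iff a.1).mpr a.2⟩, by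
      rw [Subgroup.mem_centralizer_iff]
      intro h hh
      rw [Set.mem_singleton_iff] at hh
      subst hh
      apply Subtype.ext
      exact (D.commute_phi a.1).eq.symm⟩
  apply Nat.card_congr
  apply Equiv.ofBijective f
  constructor
  · intro a a' h
    apply Subtype.ext
    apply D.phi_injective
    exact congrArg (fun g : ↥(Subgroup.centralizer ({u} : Set ↥(Matrix.symplecticGroup (Fin m) F))) =>
      (g.1.1 : Matrix (Fin m ⊕ Fin m) (Fin m ⊕ Fin m) F)) h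
  · intro g
    have hg := Subgroup.mem_centralizer_iff.mp g.2 u (Set.mem_singleton _)
    have hc : Commute (g.1.1 : Matrix (Fin m ⊕ Fin m) (Fin m ⊕ Fin m) F)
        (u : Matrix (Fin m ⊕ Fin m) (Fin m ⊕ Fin m) F) :=
      (congrArg Subtype.val hg).symm
    obtain ⟨a, ha⟩ := D.exists_phi_eq _ hc
    have ha' : a * tsig a = 1 := by
      rw [← D.phi_mem_iff, ha]
      exact g.1.2
    refine ⟨⟨a, ha'⟩, ?_⟩
    apply Subtype.ext
    apply Subtype.ext
    exact ha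

end Symp

end Cfsg.Agent.Lib.Helper49
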