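import Mathlib
import Cfsg.Agent.Lib.Helper49.TruncAlg
import Cfsg.Agent.Lib.Helper20.SympEmbed

set_option autoImplicit false

namespace Cfsg.Agent.Lib.Helper49

open Polynomial Module

section

variable {F : Type*} [Field F]

theorem finrank_ker_tchi {n : ℕ} (hn : 1 ≤ n) :
    finrank F (LinearMap.ker (tchi (F := F) hn).toLinearMap) = n - 1 := by
  have : Module.Finite F (TR F n) := Module.Finite.of_basis cb
  have h1 := LinearMap.finrank_range_add_finrank_ker (tchi (F := F) hn).toLinearMap
  have h2 : LinearMap.range (tchi (F := F) hn).toLinearMap = ⊤ := by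
    rw [LinearMap.range_eq_top]
    intro c
    refine ⟨algebraMap F (TR F n) c, ?_⟩
    change tchi hn (algebraMap F (TR F n) c) = c
    rw [AlgHom.commutes]
    rfl
  rw [h2, finrank_top, finrank_self, finrank_TR] at h1
  omega

theorem range_mulLeft_eq {n : ℕ} (hn : 1 ≤ n) (w v z : TR F n) (hwv : w - 1 = tx * v)
    (hvz : v * z = 1) :
    LinearMap.range (LinearMap.mulLeft F (w - 1)) = LinearMap.ker (tchi (F := F) hn).toLinearMap := by
  ext a
  rw [LinearMap.mem_range, LinearMap.mem_ker]
  constructor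
  · rintro ⟨b, rfl⟩
    change tchi hn ((w - 1) * b) = 0
    rw [hwv, map_mul, map_mul, tchi_tx, zero_mul, zero_mul]
  · intro h
    obtain ⟨b, rfl⟩ := exists_eq_tx_mul hn a h
    refine ⟨z * b, ?_⟩
    rw [LinearMap.mulLeft_apply, hwv]
    linear_combination (tx * b) * hvz

/-- existence of a regular unipotent element of `Sp_2m(F)` in odd characteristic -/
theorem exists_reg_unip_sp (m : ℕ) (hm : 1 ≤ m) (h2 : (2 : F) ≠ 0) :
    ∃ u : Matrix.symplecticGroup (Fin m) F,
      ((u : Matrix (Fin m ⊕ Fin m) (Fin m ⊕ Fin m) F) - 1) ^ (2 * m) = 0 ∧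
      ((u : Matrix (Fin m ⊕ Fin m) (Fin m ⊕ Fin m) F) - 1).rank = 2 * m - 1 := by
  have hn : 1 ≤ 2 * m := by omega
  have : Module.Finite F (TR F (2 * m)) := Module.Finite.of_basis cb
  obtain ⟨bb, hbb⟩ := Cfsg.Agent.Lib.Helper20.exists_symplectic_basis (tform (F := F) hn)
    (tform_isAlt m hm h2) (tform_nondegenerate hn) m finrank_TR
  obtain ⟨w, v, z, hw, hwv, hvz⟩ := exists_norm_one_reg (F := F) hn h2
  set L : TR F (2 * m) →ₗ[F] TR F (2 * m) := LinearMap.mulLeft F w with hL
  have hcomp : (tform (F := F) hn).comp L L = tform hn := by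
    ext a b
    simp only [LinearMap.BilinForm.comp_apply, hL, LinearMap.mulLeft_apply]
    exact tform_mul_mul hn w hw a b
  have hU := LinearMap.BilinForm.toMatrix_comp bb bb (tform (F := F) hn) L L
  rw [hcomp, hbb] at hU
  refine ⟨⟨LinearMap.toMatrix bb bb L, SymplecticGroup.mem_iff'.mpr hU.symm⟩, ?_, ?_⟩
  · have h1 : LinearMap.toMatrix bb bb L - 1 = LinearMap.toMatrix bb bb (LinearMap.mulLeft F (w - 1)) := by
      rw [← LinearMap.toMatrix_one bb, ← map_sub]
      congr 1
      ext a
      simp [hL, sub_mul]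
    change (LinearMap.toMatrix bb bb L - 1) ^ (2 * m) = 0
    rw [h1, LinearMap.toMatrix_pow]
    have h3 : (LinearMap.mulLeft F (w - 1)) ^ (2 * m) = 0 := by
      ext a
      rw [Module.End.pow_apply]
      have : ∀ k : ℕ, (LinearMap.mulLeft F (w - 1))^[k] a = (w - 1) ^ k * a := by
        intro k
        induction k with
        | zero => simp
        | succ k ih => rw [Function.iterate_succ_apply', ih, LinearMap.mulLeft_apply, pow_succ']; ring
      rw [this, hwv, mul_pow, tx_pow, zero_mul, zero_mul]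
      rfl
    rw [h3, map_zero]
  · have h1 : LinearMap.toMatrix bb bb L - 1 = LinearMap.toMatrix bb bb (LinearMap.mulLeft F (w - 1)) := by
      rw [← LinearMap.toMatrix_one bb, ← map_sub]
      congr 1
      ext a
      simp [hL, sub_mul]
    change (LinearMap.toMatrix bb bb L - 1).rank = 2 * m - 1
    rw [h1, Matrix.rank_eq_finrank_range_toLin _ bb bb, Matrix.toLin_toMatrix,
      range_mulLeft_eq hn w v z hwv hvz, finrank_ker_tchi hn]

end

end Cfsg.Agent.Lib.Helper49
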