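import Mathlib
import Cfsg.Agent.Lib.Helper49.SpRegUnip
import Cfsg.Agent.Lib.Helper49.SpRegUnipExist

set_option autoImplicit false

namespace Cfsg.Agent.Lib.Helper49

open Polynomial Module

section GLconj

variable {F : Type*} [Field F] {ι : Type*} [Fintype ι] [DecidableEq ι] {n : ℕ}

/-- regular unipotent matrices (general index) are conjugate under `GL` -/
theorem exists_conj_gen (hcard : Fintype.card ι = n) (hn : 1 ≤ n) (M M' : Matrix ι ι F)
    (h : (M - 1) ^ n = 0) (hr : (M - 1).rank = n - 1)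
    (h' : (M' - 1) ^ n = 0) (hr' : (M' - 1).rank = n - 1) :
    ∃ G Ginv : Matrix ι ι F, G * Ginv = 1 ∧ Ginv * G = 1 ∧ G * M = M' * G := by
  obtain ⟨e, b, hb⟩ := exists_cyclic_basis_gen hcard hn (M - 1) h hr
  obtain ⟨e', b', hb'⟩ := exists_cyclic_basis_gen hcard hn (M' - 1) h' hr'
  let gl : (ι → F) ≃ₗ[F] (ι → F) := b.equiv b' (Equiv.refl _)
  have hgl : ∀ i, gl (b i) = b' i := fun i => by simp [gl]
  have hN : ∀ i : Fin n, (M - 1).mulVec (b i) =
      if h : (i : ℕ) + 1 < n then b ⟨(i : ℕ) + 1, h⟩ else 0 := by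
    intro i
    rw [hb, Matrix.mulVec_mulVec, ← pow_succ']
    split_ifs with hi
    · rw [hb]
    · have : (i : ℕ) + 1 = n := by have := i.2; omega
      rw [this, h, Matrix.zero_mulVec]
  have hN' : ∀ i : Fin n, (M' - 1).mulVec (b' i) =
      if h : (i : ℕ) + 1 < n then b' ⟨(i : ℕ) + 1, h⟩ else 0 := by
    intro i
    rw [hb', Matrix.mulVec_mulVec, ← pow_succ']
    split_ifs with hi
    · rw [hb']
    · have : (i : ℕ) + 1 = n := by have := i.2; omega
      rw [this, h', Matrix.zero_mulVec]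
  let G : Matrix ι ι F := LinearMap.toMatrix' (gl : (ι → F) →ₗ[F] (ι → F))
  let Ginv : Matrix ι ι F := LinearMap.toMatrix' (gl.symm : (ι → F) →ₗ[F] (ι → F))
  have h1 : G * Ginv = 1 := by
    rw [← LinearMap.toMatrix'_comp]
    simp
  have h2 : Ginv * G = 1 := by
    rw [← LinearMap.toMatrix'_comp]
    simp
  refine ⟨G, Ginv, h1, h2, ?_⟩
  have hMN : M = 1 + (M - 1) := by abel
  have hMN' : M' = 1 + (M' - 1) := by abel
  rw [hMN, hMN', mul_add, add_mul, mul_one, one_mul]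
  congr 1
  apply Matrix.toLin'.injective
  apply b.ext
  intro i
  rw [Matrix.toLin'_apply, Matrix.toLin'_apply, ← Matrix.mulVec_mulVec, ← Matrix.mulVec_mulVec, hN]
  have hG : ∀ x, G.mulVec x = gl x := by
    intro x
    rw [← Matrix.toLin'_apply, Matrix.toLin'_toMatrix']
    rfl
  rw [hG, hG, hgl, hN']
  split_ifs with hi
  · exact hgl _
  · exact map_zero _

end GLconj

section Classes

variable {F : Type*} [Field F] {m : ℕ}

theorem isUnit_J : IsUnit (Matrix.J (Fin m) F) :=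
  IsUnit.of_mul_eq_one (-(Matrix.J (Fin m) F)) (by rw [Matrix.mul_neg, Matrix.J_squared, neg_neg])

variable {u : Matrix.symplecticGroup (Fin m) F}

theorem RegData.exists_form_param (hm : 1 ≤ m) (D : RegData u)
    (u' : Matrix.symplecticGroup (Fin m) F)
    (x xi : Matrix (Fin m ⊕ Fin m) (Fin m ⊕ Fin m) F) (hx : x * xi = 1) (hxi : xi * x = 1)
    (hconj : x * (u : Matrix (Fin m ⊕ Fin m) (Fin m ⊕ Fin m) F) =
      (u' : Matrix (Fin m ⊕ Fin m) (Fin m ⊕ Fin m) F) * x) :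
    ∃ α : TR F (2 * m), Matrix.J (Fin m) F * D.phi α = x.transpose * Matrix.J (Fin m) F * x ∧
      tsig α = α ∧ tchi (by omega : 1 ≤ 2 * m) α ≠ 0 := by
  obtain ⟨S, hS⟩ : ∃ S, S = x.transpose * Matrix.J (Fin m) F * x := ⟨_, rfl⟩
  rw [← hS]
  have h1 : (u : Matrix (Fin m ⊕ Fin m) (Fin m ⊕ Fin m) F).transpose * S *
      (u : Matrix (Fin m ⊕ Fin m) (Fin m ⊕ Fin m) F) = S := by
    have hu' := SymplecticGroup.mem_iff'.mp u'.2
    calc (u : Matrix (Fin m ⊕ Fin m) (Fin m ⊕ Fin m) F).transpose * S *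
          (u : Matrix (Fin m ⊕ Fin m) (Fin m ⊕ Fin m) F)
        = (x * (u : Matrix (Fin m ⊕ Fin m) (Fin m ⊕ Fin m) F)).transpose * Matrix.J (Fin m) F *
          (x * (u : Matrix (Fin m ⊕ Fin m) (Fin m ⊕ Fin m) F)) := by
          rw [hS, Matrix.transpose_mul]; simp only [Matrix.mul_assoc]
      _ = ((u' : Matrix (Fin m ⊕ Fin m) (Fin m ⊕ Fin m) F) * x).transpose * Matrix.J (Fin m) F *
          ((u' : Matrix (Fin m ⊕ Fin m) (Fin m ⊕ Fin m) F) * x) := by rw [hconj]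
      _ = x.transpose * ((u' : Matrix (Fin m ⊕ Fin m) (Fin m ⊕ Fin m) F).transpose *
          Matrix.J (Fin m) F * (u' : Matrix (Fin m ⊕ Fin m) (Fin m ⊕ Fin m) F)) * x := by
          rw [Matrix.transpose_mul]; simp only [Matrix.mul_assoc]
      _ = S := by rw [hu', hS]
  have h2 : S * (u : Matrix (Fin m ⊕ Fin m) (Fin m ⊕ Fin m) F) =
      ((u⁻¹ : Matrix.symplecticGroup (Fin m) F) :
        Matrix (Fin m ⊕ Fin m) (Fin m ⊕ Fin m) F).transpose * S := by
    calc S * (u : Matrix (Fin m ⊕ Fin m) (Fin m ⊕ Fin m) F)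
        = ((u : Matrix (Fin m ⊕ Fin m) (Fin m ⊕ Fin m) F) *
          ((u⁻¹ : Matrix.symplecticGroup (Fin m) F) :
            Matrix (Fin m ⊕ Fin m) (Fin m ⊕ Fin m) F)).transpose *
          (S * (u : Matrix (Fin m ⊕ Fin m) (Fin m ⊕ Fin m) F)) := by
          rw [sp_mul_inv, Matrix.transpose_one, Matrix.one_mul]
      _ = ((u⁻¹ : Matrix.symplecticGroup (Fin m) F) :
            Matrix (Fin m ⊕ Fin m) (Fin m ⊕ Fin m) F).transpose *
          ((u : Matrix (Fin m ⊕ Fin m) (Fin m ⊕ Fin m) F).transpose * S *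
            (u : Matrix (Fin m ⊕ Fin m) (Fin m ⊕ Fin m) F)) := by
          rw [Matrix.transpose_mul]; simp only [Matrix.mul_assoc]
      _ = _ := by rw [h1]
  have hJu : Matrix.J (Fin m) F * (u : Matrix (Fin m ⊕ Fin m) (Fin m ⊕ Fin m) F) =
      ((u⁻¹ : Matrix.symplecticGroup (Fin m) F) :
        Matrix (Fin m ⊕ Fin m) (Fin m ⊕ Fin m) F).transpose * Matrix.J (Fin m) F := by
    have := sp_transpose_mul_J u⁻¹
    rw [inv_inv] at this
    exact this.symm
  obtain ⟨A, hA⟩ : ∃ A, A = -(Matrix.J (Fin m) F) * S := ⟨_, rfl⟩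
  have hJA : Matrix.J (Fin m) F * A = S := by
    rw [hA, ← Matrix.mul_assoc, Matrix.mul_neg, Matrix.J_squared, neg_neg, Matrix.one_mul]
  have hcomm : Commute A (u : Matrix (Fin m ⊕ Fin m) (Fin m ⊕ Fin m) F) := by
    apply J_mul_cancel
    calc Matrix.J (Fin m) F * (A * (u : Matrix (Fin m ⊕ Fin m) (Fin m ⊕ Fin m) F))
        = S * (u : Matrix (Fin m ⊕ Fin m) (Fin m ⊕ Fin m) F) := by rw [← Matrix.mul_assoc, hJA]
      _ = ((u⁻¹ : Matrix.symplecticGroup (Fin m) F) :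
            Matrix (Fin m ⊕ Fin m) (Fin m ⊕ Fin m) F).transpose * (Matrix.J (Fin m) F * A) := by
          rw [h2, hJA]
      _ = _ := by rw [← Matrix.mul_assoc, ← hJu, Matrix.mul_assoc]
  obtain ⟨α, hα⟩ := D.exists_phi_eq A hcomm
  refine ⟨α, by rw [hα, hJA], ?_, ?_⟩
  · apply D.phi_injective
    apply J_mul_cancel
    rw [← D.phi_transpose, hα, hJA]
    have hSt : S.transpose = -S := by
      rw [hS]
      simp only [Matrix.transpose_mul, Matrix.transpose_transpose, Matrix.J_transpose,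
        Matrix.mul_neg, Matrix.neg_mul, Matrix.mul_assoc]
    rw [hA, Matrix.transpose_mul, hSt, Matrix.transpose_neg, Matrix.J_transpose, neg_neg]
    simp only [Matrix.neg_mul, Matrix.mul_assoc, Matrix.J_squared, Matrix.mul_neg, Matrix.mul_one,
      neg_neg]
  · intro h0
    have hnil := pow_eq_zero_of_tchi _ α h0
    have hA0 : A ^ (2 * m) = 0 := by rw [← hα, ← map_pow, hnil, map_zero]
    have hAu : IsUnit A := by
      rw [hA, hS]
      apply IsUnit.mul
      · exact (isUnit_J (F := F) (m := m)).neg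
      · apply IsUnit.mul
        · apply IsUnit.mul
          · apply IsUnit.of_mul_eq_one xi.transpose
            rw [← Matrix.transpose_mul, hxi, Matrix.transpose_one]
          · exact isUnit_J
        · exact IsUnit.of_mul_eq_one xi hx
    have hh := hAu.pow (2 * m)
    rw [hA0] at hh
    have : Nonempty (Fin m) := ⟨⟨0, hm⟩⟩
    exact not_isUnit_zero hh

theorem RegData.isConj_of_norm (D : RegData u)
    (u' u₁ : Matrix.symplecticGroup (Fin m) F)
    (x : Matrix (Fin m ⊕ Fin m) (Fin m ⊕ Fin m) F)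
    (hconj : x * (u : Matrix (Fin m ⊕ Fin m) (Fin m ⊕ Fin m) F) =
      (u' : Matrix (Fin m ⊕ Fin m) (Fin m ⊕ Fin m) F) * x)
    (α β : TR F (2 * m))
    (hα : Matrix.J (Fin m) F * D.phi α = x.transpose * Matrix.J (Fin m) F * x)
    (d : F) (hd : d ≠ 0) (hβ : tsig β * α * β = algebraMap F (TR F (2 * m)) d⁻¹)
    (x₁ : Matrix (Fin m ⊕ Fin m) (Fin m ⊕ Fin m) F)
    (hx₁J : x₁.transpose * Matrix.J (Fin m) F * x₁ = d • Matrix.J (Fin m) F)
    (hu₁ : x₁ * (u₁ : Matrix (Fin m ⊕ Fin m) (Fin m ⊕ Fin m) F) =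
      (u : Matrix (Fin m ⊕ Fin m) (Fin m ⊕ Fin m) F) * x₁) : IsConj u₁ u' := by
  set y := x * D.phi β * x₁ with hy
  have hyJ : y.transpose * Matrix.J (Fin m) F * y = Matrix.J (Fin m) F := by
    calc y.transpose * Matrix.J (Fin m) F * y
        = x₁.transpose * ((D.phi β).transpose * (x.transpose * Matrix.J (Fin m) F * x) *
            D.phi β) * x₁ := by
          rw [hy, Matrix.transpose_mul, Matrix.transpose_mul]; simp only [Matrix.mul_assoc]
      _ = x₁.transpose * ((D.phi β).transpose * Matrix.J (Fin m) F * D.phi (α * β)) * x₁ := by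
          rw [← hα, map_mul]; simp only [Matrix.mul_assoc]
      _ = x₁.transpose * (Matrix.J (Fin m) F * D.phi (tsig β * (α * β))) * x₁ := by
          rw [D.phi_form]
      _ = x₁.transpose * (Matrix.J (Fin m) F * (d⁻¹ • (1 : Matrix (Fin m ⊕ Fin m) (Fin m ⊕ Fin m) F))) * x₁ := by
          rw [← mul_assoc (tsig β) α β, hβ, AlgHom.commutes, Algebra.algebraMap_eq_smul_one]
      _ = d⁻¹ • (x₁.transpose * Matrix.J (Fin m) F * x₁) := by
          rw [Matrix.mul_smul, Matrix.mul_one, Matrix.mul_smul, Matrix.smul_mul]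
      _ = Matrix.J (Fin m) F := by rw [hx₁J, smul_smul, inv_mul_cancel₀ hd, one_smul]
  have hyu : y * (u₁ : Matrix (Fin m ⊕ Fin m) (Fin m ⊕ Fin m) F) =
      (u' : Matrix (Fin m ⊕ Fin m) (Fin m ⊕ Fin m) F) * y := by
    calc y * (u₁ : Matrix (Fin m ⊕ Fin m) (Fin m ⊕ Fin m) F)
        = x * D.phi β * (x₁ * (u₁ : Matrix (Fin m ⊕ Fin m) (Fin m ⊕ Fin m) F)) := by
          rw [hy]; simp only [Matrix.mul_assoc]
      _ = x * (D.phi β * (u : Matrix (Fin m ⊕ Fin m) (Fin m ⊕ Fin m) F)) * x₁ := by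
          rw [hu₁]; simp only [Matrix.mul_assoc]
      _ = (x * (u : Matrix (Fin m ⊕ Fin m) (Fin m ⊕ Fin m) F)) * D.phi β * x₁ := by
          rw [(D.commute_phi β).eq]; simp only [Matrix.mul_assoc]
      _ = _ := by rw [hconj, hy]; simp only [Matrix.mul_assoc]
  rw [isConj_iff]
  refine ⟨⟨y, SymplecticGroup.mem_iff'.mpr hyJ⟩, ?_⟩
  rw [mul_inv_eq_iff_eq_mul]
  apply Subtype.ext
  exact hyu

theorem RegData.not_isConj (hm : 1 ≤ m) (D : RegData u)
    (u₁ : Matrix.symplecticGroup (Fin m) F)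
    (x₁ : Matrix (Fin m ⊕ Fin m) (Fin m ⊕ Fin m) F) (d : F) (hd : ¬ IsSquare d)
    (hx₁J : x₁.transpose * Matrix.J (Fin m) F * x₁ = d • Matrix.J (Fin m) F)
    (hu₁ : x₁ * (u₁ : Matrix (Fin m ⊕ Fin m) (Fin m ⊕ Fin m) F) =
      (u : Matrix (Fin m ⊕ Fin m) (Fin m ⊕ Fin m) F) * x₁) : ¬ IsConj u u₁ := by
  intro h
  rw [isConj_iff] at h
  obtain ⟨s, hs⟩ := h
  have hs' : s * u = u₁ * s := by rw [← hs]; group
  have hs'' : (s : Matrix (Fin m ⊕ Fin m) (Fin m ⊕ Fin m) F) *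
      (u : Matrix (Fin m ⊕ Fin m) (Fin m ⊕ Fin m) F) =
      (u₁ : Matrix (Fin m ⊕ Fin m) (Fin m ⊕ Fin m) F) *
        (s : Matrix (Fin m ⊕ Fin m) (Fin m ⊕ Fin m) F) := congrArg Subtype.val hs'
  have hcomm : Commute (x₁ * (s : Matrix (Fin m ⊕ Fin m) (Fin m ⊕ Fin m) F))
      (u : Matrix (Fin m ⊕ Fin m) (Fin m ⊕ Fin m) F) := by
    rw [Commute, SemiconjBy, Matrix.mul_assoc, hs'', ← Matrix.mul_assoc, hu₁, Matrix.mul_assoc]
  obtain ⟨β, hβ⟩ := D.exists_phi_eq _ hcomm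
  have h1 : (x₁ * (s : Matrix (Fin m ⊕ Fin m) (Fin m ⊕ Fin m) F)).transpose *
      Matrix.J (Fin m) F * (x₁ * (s : Matrix (Fin m ⊕ Fin m) (Fin m ⊕ Fin m) F)) =
      d • Matrix.J (Fin m) F := by
    rw [Matrix.transpose_mul]
    calc (s : Matrix (Fin m ⊕ Fin m) (Fin m ⊕ Fin m) F).transpose * x₁.transpose *
          Matrix.J (Fin m) F * (x₁ * (s : Matrix (Fin m ⊕ Fin m) (Fin m ⊕ Fin m) F))
        = (s : Matrix (Fin m ⊕ Fin m) (Fin m ⊕ Fin m) F).transpose *
          (x₁.transpose * Matrix.J (Fin m) F * x₁) *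
          (s : Matrix (Fin m ⊕ Fin m) (Fin m ⊕ Fin m) F) := by simp only [Matrix.mul_assoc]
      _ = d • ((s : Matrix (Fin m ⊕ Fin m) (Fin m ⊕ Fin m) F).transpose * Matrix.J (Fin m) F *
          (s : Matrix (Fin m ⊕ Fin m) (Fin m ⊕ Fin m) F)) := by
          rw [hx₁J, Matrix.mul_smul, Matrix.smul_mul]
      _ = _ := by rw [SymplecticGroup.mem_iff'.mp s.2]
  rw [← hβ, D.phi_form] at h1
  have h2 : D.phi (tsig β * β) = D.phi (algebraMap F (TR F (2 * m)) d) := by
    apply J_mul_cancel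
    rw [h1, AlgHom.commutes, Algebra.algebraMap_eq_smul_one, Matrix.mul_smul, Matrix.mul_one]
  have h3 := D.phi_injective h2
  apply hd
  have h4 := congrArg (tchi (by omega : 1 ≤ 2 * m)) h3
  rw [map_mul, tchi_tsig, AlgHom.commutes] at h4
  exact ⟨tchi (by omega : 1 ≤ 2 * m) β, h4.symm⟩

/-- the similitude `diag(d, 1)` -/
def scl (m : ℕ) (d : F) : Matrix (Fin m ⊕ Fin m) (Fin m ⊕ Fin m) F :=
  Matrix.fromBlocks (d • (1 : Matrix (Fin m) (Fin m) F)) 0 0 1

theorem scl_mul (d d' : F) : scl m d * scl m d' = scl m (d * d') := by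
  unfold scl
  rw [Matrix.fromBlocks_multiply]
  simp [smul_smul, mul_comm d d']

theorem scl_one : scl m (1 : F) = 1 := by
  unfold scl
  rw [one_smul, Matrix.fromBlocks_one]

theorem scl_form (d : F) :
    (scl m d).transpose * Matrix.J (Fin m) F * scl m d = d • Matrix.J (Fin m) F := by
  unfold scl Matrix.J
  rw [Matrix.fromBlocks_transpose, Matrix.fromBlocks_multiply, Matrix.fromBlocks_multiply,
    Matrix.fromBlocks_smul]
  simp

theorem isSquare_mul_of_not [Fintype F] {a b : F} (ha : ¬ IsSquare a) (hb : ¬ IsSquare b) :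
    IsSquare (a * b) := by
  classical
  have ha0 : a ≠ 0 := fun h => ha (h ▸ IsSquare.zero)
  have hb0 : b ≠ 0 := fun h => hb (h ▸ IsSquare.zero)
  rw [← quadraticChar_one_iff_isSquare (mul_ne_zero ha0 hb0), map_mul,
    quadraticChar_neg_one_iff_not_isSquare.mpr ha, quadraticChar_neg_one_iff_not_isSquare.mpr hb]
  norm_num

/-- the regular unipotent elements of `Sp_2m(F)`, `F` finite of odd characteristic, form exactly
two conjugacy classes -/
theorem card_reg_unip_classes [Fintype F] (hm : 1 ≤ m) (h2 : (2 : F) ≠ 0) :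
    Nat.card {C : ConjClasses ↥(Matrix.symplecticGroup (Fin m) F) //
      ∃ u : Matrix.symplecticGroup (Fin m) F, ConjClasses.mk u = C ∧
        ((u : Matrix (Fin m ⊕ Fin m) (Fin m ⊕ Fin m) F) - 1) ^ (2 * m) = 0 ∧
        ((u : Matrix (Fin m ⊕ Fin m) (Fin m ⊕ Fin m) F) - 1).rank = 2 * m - 1} = 2 := by
  have hn : 1 ≤ 2 * m := by omega
  obtain ⟨u0, hnil0, hreg0⟩ := exists_reg_unip_sp (F := F) m hm h2
  obtain ⟨D⟩ := exists_regData u0 hm h2 hnil0 hreg0
  have hchar : ringChar F ≠ 2 := by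
    intro h
    apply h2
    have : ((2 : ℕ) : F) = 0 := by rw [← h]; exact CharP.cast_eq_zero F (ringChar F)
    exact_mod_cast this
  obtain ⟨c, hc⟩ := FiniteField.exists_nonsquare hchar
  have hc0 : c ≠ 0 := fun h => hc (h ▸ IsSquare.zero)
  have hs1 : scl m c * scl m c⁻¹ = 1 := by rw [scl_mul, mul_inv_cancel₀ hc0, scl_one]
  have hs2 : scl m c⁻¹ * scl m c = 1 := by rw [scl_mul, inv_mul_cancel₀ hc0, scl_one]
  -- the second representative
  have hu1mem : scl m c⁻¹ * (u0 : Matrix (Fin m ⊕ Fin m) (Fin m ⊕ Fin m) F) * scl m c ∈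
      Matrix.symplecticGroup (Fin m) F := by
    rw [SymplecticGroup.mem_iff']
    calc (scl m c⁻¹ * (u0 : Matrix (Fin m ⊕ Fin m) (Fin m ⊕ Fin m) F) * scl m c).transpose *
          Matrix.J (Fin m) F * (scl m c⁻¹ * (u0 : Matrix (Fin m ⊕ Fin m) (Fin m ⊕ Fin m) F) * scl m c)
        = (scl m c).transpose * ((u0 : Matrix (Fin m ⊕ Fin m) (Fin m ⊕ Fin m) F).transpose *
            ((scl m c⁻¹).transpose * Matrix.J (Fin m) F * scl m c⁻¹) *
            (u0 : Matrix (Fin m ⊕ Fin m) (Fin m ⊕ Fin m) F)) * scl m c := by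
          rw [Matrix.transpose_mul, Matrix.transpose_mul]; simp only [Matrix.mul_assoc]
      _ = c⁻¹ • ((scl m c).transpose * ((u0 : Matrix (Fin m ⊕ Fin m) (Fin m ⊕ Fin m) F).transpose *
            Matrix.J (Fin m) F * (u0 : Matrix (Fin m ⊕ Fin m) (Fin m ⊕ Fin m) F)) * scl m c) := by
          rw [scl_form]
          simp only [Matrix.mul_smul, Matrix.smul_mul]
      _ = Matrix.J (Fin m) F := by
          rw [SymplecticGroup.mem_iff'.mp u0.2, scl_form, smul_smul, inv_mul_cancel₀ hc0, one_smul]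
  set u1 : Matrix.symplecticGroup (Fin m) F :=
    ⟨scl m c⁻¹ * (u0 : Matrix (Fin m ⊕ Fin m) (Fin m ⊕ Fin m) F) * scl m c, hu1mem⟩ with hu1
  have hu1c : scl m c * (u1 : Matrix (Fin m ⊕ Fin m) (Fin m ⊕ Fin m) F) =
      (u0 : Matrix (Fin m ⊕ Fin m) (Fin m ⊕ Fin m) F) * scl m c := by
    change scl m c * (scl m c⁻¹ * (u0 : Matrix (Fin m ⊕ Fin m) (Fin m ⊕ Fin m) F) * scl m c) = _
    rw [← Matrix.mul_assoc, ← Matrix.mul_assoc, hs1, Matrix.one_mul]
  have hu1sub : (u1 : Matrix (Fin m ⊕ Fin m) (Fin m ⊕ Fin m) F) - 1 =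
      scl m c⁻¹ * ((u0 : Matrix (Fin m ⊕ Fin m) (Fin m ⊕ Fin m) F) - 1) * scl m c := by
    change scl m c⁻¹ * (u0 : Matrix (Fin m ⊕ Fin m) (Fin m ⊕ Fin m) F) * scl m c - 1 = _
    rw [Matrix.mul_sub, Matrix.sub_mul, Matrix.mul_one, hs2]
  have hnil1 : ((u1 : Matrix (Fin m ⊕ Fin m) (Fin m ⊕ Fin m) F) - 1) ^ (2 * m) = 0 := by
    have : ∀ k : ℕ, ((u1 : Matrix (Fin m ⊕ Fin m) (Fin m ⊕ Fin m) F) - 1) ^ k =
        scl m c⁻¹ * ((u0 : Matrix (Fin m ⊕ Fin m) (Fin m ⊕ Fin m) F) - 1) ^ k * scl m c := by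
      intro k
      induction k with
      | zero => rw [pow_zero, pow_zero, Matrix.mul_one, hs2]
      | succ k ih =>
        rw [pow_succ, ih, hu1sub, pow_succ]
        calc scl m c⁻¹ * ((u0 : Matrix (Fin m ⊕ Fin m) (Fin m ⊕ Fin m) F) - 1) ^ k * scl m c *
              (scl m c⁻¹ * ((u0 : Matrix (Fin m ⊕ Fin m) (Fin m ⊕ Fin m) F) - 1) * scl m c)
            = scl m c⁻¹ * ((u0 : Matrix (Fin m ⊕ Fin m) (Fin m ⊕ Fin m) F) - 1) ^ k *
              (scl m c * scl m c⁻¹) * (((u0 : Matrix (Fin m ⊕ Fin m) (Fin m ⊕ Fin m) F) - 1) *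
                scl m c) := by simp only [Matrix.mul_assoc]
          _ = _ := by rw [hs1, Matrix.mul_one]; simp only [Matrix.mul_assoc]
    rw [this, hnil0, Matrix.mul_zero, Matrix.zero_mul]
  have hreg1 : ((u1 : Matrix (Fin m ⊕ Fin m) (Fin m ⊕ Fin m) F) - 1).rank = 2 * m - 1 := by
    have hd1 : IsUnit (scl m c).det :=
      (Matrix.isUnit_iff_isUnit_det _).mp (IsUnit.of_mul_eq_one _ hs1)
    have hd2 : IsUnit (scl m c⁻¹).det :=
      (Matrix.isUnit_iff_isUnit_det _).mp (IsUnit.of_mul_eq_one _ hs2)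
    rw [hu1sub, Matrix.rank_mul_eq_left_of_isUnit_det _ _ hd1,
      Matrix.rank_mul_eq_right_of_isUnit_det _ _ hd2, hreg0]
  have hne : ¬ IsConj u0 u1 := D.not_isConj hm u1 (scl m c) c hc (scl_form c) hu1c
  -- every regular unipotent is conjugate to one of the two
  have hall : ∀ u' : Matrix.symplecticGroup (Fin m) F,
      ((u' : Matrix (Fin m ⊕ Fin m) (Fin m ⊕ Fin m) F) - 1) ^ (2 * m) = 0 →
      ((u' : Matrix (Fin m ⊕ Fin m) (Fin m ⊕ Fin m) F) - 1).rank = 2 * m - 1 →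
      IsConj u0 u' ∨ IsConj u1 u' := by
    intro u' hnil' hreg'
    obtain ⟨x, xi, hx, hxi, hconj⟩ := exists_conj_gen (by simp; ring) hn
      (u0 : Matrix (Fin m ⊕ Fin m) (Fin m ⊕ Fin m) F)
      (u' : Matrix (Fin m ⊕ Fin m) (Fin m ⊕ Fin m) F) hnil0 hreg0 hnil' hreg'
    obtain ⟨α, hα, hασ, hα0⟩ := D.exists_form_param hm u' x xi hx hxi hconj
    obtain ⟨α', hα'⟩ := exists_inv_of_tchi hn α hα0
    have hα'σ : tsig α' = α' := by
      have h1 : α * tsig α' = 1 := by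
        have := congrArg tsig hα'
        rw [map_mul, hασ, map_one] at this
        exact this
      calc tsig α' = (α' * α) * tsig α' := by rw [mul_comm α' α, hα', one_mul]
        _ = α' * (α * tsig α') := by ring
        _ = α' := by rw [h1, mul_one]
    have hα'chi : tchi hn α' = (tchi hn α)⁻¹ := by
      have := congrArg (tchi hn) hα'
      rw [map_mul, map_one] at this
      exact eq_inv_of_mul_eq_one_right this
    by_cases hsq : IsSquare (tchi hn α)
    · left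
      obtain ⟨β, hβ⟩ := exists_mul_tsig_eq hn h2 α' hα'σ (by rw [hα'chi]; exact hsq.inv)
        (by rw [hα'chi]; exact inv_ne_zero hα0)
      apply D.isConj_of_norm u' u0 x hconj α β hα 1 one_ne_zero _ 1
      · rw [Matrix.transpose_one, Matrix.one_mul, Matrix.mul_one, one_smul]
      · rw [Matrix.one_mul, Matrix.mul_one]
      · rw [inv_one, map_one]
        calc tsig β * α * β = (β * tsig β) * α := by ring
          _ = 1 := by rw [hβ, mul_comm α' α, hα']
    · right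
      have hsq' : IsSquare (tchi hn (α' * algebraMap F (TR F (2 * m)) c⁻¹)) := by
        rw [map_mul, hα'chi, AlgHom.commutes]
        change IsSquare ((tchi hn α)⁻¹ * c⁻¹)
        rw [← mul_inv]
        exact (isSquare_mul_of_not hsq hc).inv
      obtain ⟨β, hβ⟩ := exists_mul_tsig_eq hn h2 (α' * algebraMap F (TR F (2 * m)) c⁻¹)
        (by rw [map_mul, hα'σ, AlgHom.commutes]) hsq' (by
          rw [map_mul, hα'chi, AlgHom.commutes]
          exact mul_ne_zero (inv_ne_zero hα0) (inv_ne_zero hc0))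
      apply D.isConj_of_norm u' u1 x hconj α β hα c hc0 _ (scl m c) (scl_form c) hu1c
      calc tsig β * α * β = (β * tsig β) * α := by ring
        _ = (α * α') * algebraMap F (TR F (2 * m)) c⁻¹ := by rw [hβ]; ring
        _ = _ := by rw [hα', one_mul]
  rw [Nat.card_eq_two_iff]
  refine ⟨⟨ConjClasses.mk u0, u0, rfl, hnil0, hreg0⟩, ⟨ConjClasses.mk u1, u1, rfl, hnil1, hreg1⟩,
    ?_, ?_⟩
  · intro h
    apply hne
    exact ConjClasses.mk_eq_mk_iff_isConj.mp (congrArg Subtype.val h)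
  · rw [Set.eq_univ_iff_forall]
    rintro ⟨C, u', rfl, hnil', hreg'⟩
    rcases hall u' hnil' hreg' with h | h
    · left
      apply Subtype.ext
      exact (ConjClasses.mk_eq_mk_iff_isConj.mpr h).symm
    · right
      rw [Set.mem_singleton_iff]
      apply Subtype.ext
      exact (ConjClasses.mk_eq_mk_iff_isConj.mpr h).symm

end Classes

end Cfsg.Agent.Lib.Helper49
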