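import Mathlib
import Cfsg.Prelude.Def_JordanBlocks
import Cfsg.Agent.Lib.Helper49.ShiftMatrix
import Cfsg.Agent.Lib.Helper49.SpRegUnipClasses
import Cfsg.Agent.Lib.Helper49.PresAlt

set_option autoImplicit false

namespace Cfsg.Agent.Lib.Helper49

open Matrix Module

section Blocks

variable {F : Type*} [Field F]

theorem jordanBlock_eq (n : ℕ) : Cfsg.jordanBlock n F = 1 + shiftMat F n := by
  ext i j
  unfold Cfsg.jordanBlock shiftMat
  rw [Matrix.add_apply, Matrix.one_apply, Matrix.of_apply, Matrix.of_apply]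
  by_cases h : i = j
  · subst h
    simp
  · have : ¬ (i : ℕ) = j := fun h' => h (Fin.ext h')
    rw [if_neg this, if_neg h, zero_add]

theorem mul_shiftMat_apply {k : ℕ} (A : Matrix (Fin k) (Fin k) F) (i j : Fin k) :
    (A * shiftMat F k) i j = if h : (j : ℕ) + 1 < k then A i ⟨(j : ℕ) + 1, h⟩ else 0 := by
  rw [Matrix.mul_apply]
  unfold shiftMat
  simp only [Matrix.of_apply]
  split_ifs with h
  · rw [Finset.sum_eq_single (⟨(j : ℕ) + 1, h⟩ : Fin k)]
    · simp
    · intro l _ hl
      rw [if_neg, mul_zero]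
      intro h1
      apply hl
      exact Fin.ext h1
    · intro h1
      exact absurd (Finset.mem_univ _) h1
  · apply Finset.sum_eq_zero
    intro l _
    rw [if_neg, mul_zero]
    have := l.2
    omega

theorem shiftMat_transpose_mul_apply {k : ℕ} (A : Matrix (Fin k) (Fin k) F) (i j : Fin k) :
    ((shiftMat F k)ᵀ * A) i j = if h : (i : ℕ) + 1 < k then A ⟨(i : ℕ) + 1, h⟩ j else 0 := by
  rw [Matrix.mul_apply]
  unfold shiftMat
  simp only [Matrix.transpose_apply, Matrix.of_apply]
  split_ifs with h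
  · rw [Finset.sum_eq_single (⟨(i : ℕ) + 1, h⟩ : Fin k)]
    · simp
    · intro l _ hl
      rw [if_neg, zero_mul]
      intro h1
      apply hl
      exact Fin.ext h1
    · intro h1
      exact absurd (Finset.mem_univ _) h1
  · apply Finset.sum_eq_zero
    intro l _
    rw [if_neg, zero_mul]
    have := l.2
    omega

variable (F) in
/-- the exchange matrix -/
def exchMat (k : ℕ) : Matrix (Fin k) (Fin k) F :=
  Matrix.of fun i j => if (i : ℕ) + (j : ℕ) + 1 = k then 1 else 0

theorem exchMat_apply {k : ℕ} (i j : Fin k) :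
    exchMat F k i j = if (i : ℕ) + (j : ℕ) + 1 = k then 1 else 0 := rfl

theorem exchMat_transpose (k : ℕ) : (exchMat F k)ᵀ = exchMat F k := by
  ext i j
  rw [Matrix.transpose_apply, exchMat_apply, exchMat_apply]
  congr 1
  rw [add_comm (j : ℕ)]

theorem exchMat_mul_self (k : ℕ) : exchMat F k * exchMat F k = 1 := by
  ext i j
  rw [Matrix.mul_apply, Matrix.one_apply]
  have hlt : k - 1 - (i : ℕ) < k := by have := i.2; omega
  rw [Finset.sum_eq_single (⟨k - 1 - (i : ℕ), hlt⟩ : Fin k)]
  · rw [exchMat_apply, exchMat_apply, if_pos (by have := i.2; simp only; omega), one_mul]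
    by_cases h : i = j
    · subst h
      rw [if_pos rfl, if_pos]
      have := i.2
      simp only
      omega
    · rw [if_neg h, if_neg]
      intro h1
      apply h
      apply Fin.ext
      have := i.2
      simp only at h1
      omega
  · intro l _ hl
    rw [exchMat_apply, if_neg, zero_mul]
    intro h1
    apply hl
    apply Fin.ext
    simp only
    omega
  · intro h1
    exact absurd (Finset.mem_univ _) h1

theorem exchMat_mul_shiftMat (k : ℕ) :
    exchMat F k * shiftMat F k = (shiftMat F k)ᵀ * exchMat F k := by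
  ext i j
  rw [mul_shiftMat_apply, shiftMat_transpose_mul_apply]
  have := i.2
  have := j.2
  split_ifs with h1 h2 h2
  · rw [exchMat_apply, exchMat_apply]
    congr 1
    simp only
    apply propext
    constructor <;> intro h <;> omega
  · rw [exchMat_apply, if_neg]
    simp only
    omega
  · rw [exchMat_apply, if_neg]
    simp only
    omega
  · rfl

variable (F) in
/-- a regular unipotent symplectic matrix (for the form `hypMat (exchMat)`) -/
def spu (k : ℕ) : Matrix (Fin k ⊕ Fin k) (Fin k ⊕ Fin k) F :=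
  Matrix.fromBlocks 1 (-(shiftMat F k)) 1 (1 - shiftMat F k)

theorem spu_form (k : ℕ) :
    (spu F k)ᵀ * Matrix.fromBlocks 0 (exchMat F k) (-(exchMat F k)ᵀ) 0 * spu F k =
      Matrix.fromBlocks 0 (exchMat F k) (-(exchMat F k)ᵀ) 0 := by
  have hPN := exchMat_mul_shiftMat (F := F) k
  rw [exchMat_transpose]
  unfold spu
  rw [Matrix.fromBlocks_transpose, Matrix.fromBlocks_multiply, Matrix.fromBlocks_multiply]
  simp only [Matrix.transpose_one, Matrix.transpose_neg, Matrix.transpose_sub,
    Matrix.mul_zero, zero_add, add_zero, Matrix.one_mul, Matrix.mul_one, Matrix.neg_mul,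
    Matrix.mul_neg, neg_neg]
  congr 1
  · abel
  · rw [Matrix.mul_sub, Matrix.mul_one]
    abel
  · rw [Matrix.sub_mul, Matrix.one_mul]
    abel
  · have e1 : (1 - (shiftMat F k)ᵀ) * exchMat F k * shiftMat F k =
        (shiftMat F k)ᵀ * exchMat F k - (shiftMat F k)ᵀ * ((shiftMat F k)ᵀ * exchMat F k) := by
      rw [Matrix.mul_assoc, hPN, Matrix.sub_mul, Matrix.one_mul]
    have e2 : (shiftMat F k)ᵀ * exchMat F k * (1 - shiftMat F k) =
        (shiftMat F k)ᵀ * exchMat F k - (shiftMat F k)ᵀ * ((shiftMat F k)ᵀ * exchMat F k) := by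
      rw [Matrix.mul_sub, Matrix.mul_one, Matrix.mul_assoc, hPN]
    rw [e1, e2]
    abel

theorem spu_sub_one (k : ℕ) :
    spu F k - 1 = Matrix.fromBlocks 0 (-(shiftMat F k)) 1 (-(shiftMat F k)) := by
  unfold spu
  ext (i | i) (j | j)
  · simp [Matrix.sub_apply, Matrix.one_apply]
  · simp [Matrix.sub_apply]
  · simp [Matrix.sub_apply]
  · simp only [Matrix.sub_apply, Matrix.one_apply, Matrix.fromBlocks_apply₂₂, Matrix.neg_apply,
      Sum.inr.injEq]
    ring

theorem spu_sub_one_pow (k : ℕ) : (spu F k - 1) ^ (2 * k) = 0 := by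
  have hsq : (spu F k - 1) ^ 2 =
      -(Matrix.fromBlocks (shiftMat F k) 0 0 (shiftMat F k) * spu F k) := by
    rw [pow_two, spu_sub_one]
    unfold spu
    rw [Matrix.fromBlocks_multiply, Matrix.fromBlocks_multiply, Matrix.fromBlocks_neg]
    simp only [Matrix.zero_mul, Matrix.mul_zero, zero_add, add_zero, Matrix.mul_one,
      Matrix.one_mul, Matrix.neg_mul, Matrix.mul_neg, neg_neg, neg_zero]
    congr 1
    rw [Matrix.mul_sub, Matrix.mul_one]
    abel
  have hc : Commute (Matrix.fromBlocks (shiftMat F k) 0 0 (shiftMat F k)) (spu F k) := by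
    unfold spu
    show _ * _ = _ * _
    rw [Matrix.fromBlocks_multiply, Matrix.fromBlocks_multiply]
    simp only [Matrix.zero_mul, Matrix.mul_zero, zero_add, add_zero, Matrix.mul_one,
      Matrix.one_mul, Matrix.neg_mul, Matrix.mul_neg, neg_zero]
    rw [Matrix.mul_sub, Matrix.sub_mul, Matrix.mul_one, Matrix.one_mul]
  rw [pow_mul, hsq, neg_pow, hc.mul_pow, Matrix.fromBlocks_diagonal_pow, shiftMat_pow_self,
    Matrix.fromBlocks_zero, zero_mul, mul_zero]

theorem shiftMat_mulVec_single_last {k : ℕ} (hk : 1 ≤ k) :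
    (shiftMat F k) *ᵥ (Pi.single (⟨k - 1, by omega⟩ : Fin k) (1 : F)) = 0 := by
  funext i
  rw [shiftMat_mulVec]
  split_ifs with hi
  · unfold extVec
    have hlt : (i : ℕ) - 1 < k := by have := i.2; omega
    rw [dif_pos hlt, Pi.single_apply, if_neg]
    · rfl
    · intro h
      have := congrArg Fin.val h
      simp only at this
      have := i.2
      omega
  · rfl

theorem eq_zero_of_shiftMat_mulVec_eq_zero {k : ℕ} (hk : 1 ≤ k) (w : Fin k → F)
    (hw : (shiftMat F k) *ᵥ w = 0) (hlast : w ⟨k - 1, by omega⟩ = 0) : w = 0 := by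
  funext j
  by_cases hj : (j : ℕ) + 1 < k
  · have := congrFun hw ⟨(j : ℕ) + 1, hj⟩
    rw [shiftMat_mulVec] at this
    simp only [Nat.add_sub_cancel, Nat.succ_pos, if_true] at this
    rw [extVec_val] at this
    simpa using this
  · have hjn : j = ⟨k - 1, by omega⟩ := by
      apply Fin.ext
      have := j.2
      simp only
      omega
    rw [hjn]
    exact hlast

theorem spu_sub_one_rank (k : ℕ) (hk : 1 ≤ k) : (spu F k - 1).rank = 2 * k - 1 := by
  classical
  have h1 := LinearMap.finrank_range_add_finrank_ker (Matrix.toLin' (spu F k - 1))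
  have h2 : finrank F (LinearMap.range (Matrix.toLin' (spu F k - 1))) = (spu F k - 1).rank := by
    rw [Matrix.rank, Matrix.toLin'_apply']
  simp only [finrank_fintype_fun_eq_card, Fintype.card_sum, Fintype.card_fin] at h1
  have hlast : k - 1 < k := by omega
  have hmv : ∀ v : Fin k ⊕ Fin k → F, (spu F k - 1) *ᵥ v =
      Sum.elim (-((shiftMat F k) *ᵥ (v ∘ Sum.inr)))
        (v ∘ Sum.inl - (shiftMat F k) *ᵥ (v ∘ Sum.inr)) := by
    intro v
    rw [spu_sub_one, Matrix.fromBlocks_mulVec, Matrix.zero_mulVec, zero_add, Matrix.one_mulVec,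
      Matrix.neg_mulVec, sub_eq_add_neg]
  have hle : finrank F (LinearMap.ker (Matrix.toLin' (spu F k - 1))) ≤ 1 := by
    let π : LinearMap.ker (Matrix.toLin' (spu F k - 1)) →ₗ[F] F :=
      (LinearMap.proj (Sum.inr (⟨k - 1, hlast⟩ : Fin k))).comp
        (LinearMap.ker (Matrix.toLin' (spu F k - 1))).subtype
    have hπ : Function.Injective π := by
      rw [← LinearMap.ker_eq_bot, LinearMap.ker_eq_bot']
      rintro ⟨v, hv⟩ hv0
      apply Subtype.ext
      change v = 0
      rw [LinearMap.mem_ker, Matrix.toLin'_apply, hmv] at hv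
      have hv1 : (shiftMat F k) *ᵥ (v ∘ Sum.inr) = 0 := by
        funext i
        have := congrFun hv (Sum.inl i)
        simpa using this
      have hv2 : v ∘ Sum.inr = 0 :=
        eq_zero_of_shiftMat_mulVec_eq_zero hk _ hv1 hv0
      have hv3 : v ∘ Sum.inl = 0 := by
        funext i
        have := congrFun hv (Sum.inr i)
        rw [hv2] at this
        simpa using this
      funext i
      cases i with
      | inl i => exact congrFun hv3 i
      | inr i => exact congrFun hv2 i
    have := LinearMap.finrank_le_finrank_of_injective hπ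
    simpa using this
  have hge : 1 ≤ finrank F (LinearMap.ker (Matrix.toLin' (spu F k - 1))) := by
    rw [Nat.one_le_iff_ne_zero, Ne, Submodule.finrank_eq_zero]
    intro hbot
    have hmem : (Sum.elim (0 : Fin k → F) (Pi.single (⟨k - 1, hlast⟩ : Fin k) (1 : F))) ∈
        LinearMap.ker (Matrix.toLin' (spu F k - 1)) := by
      rw [LinearMap.mem_ker, Matrix.toLin'_apply, hmv]
      have e1 : (Sum.elim (0 : Fin k → F) (Pi.single (⟨k - 1, hlast⟩ : Fin k) (1 : F))) ∘ Sum.inr =
          Pi.single (⟨k - 1, hlast⟩ : Fin k) (1 : F) := rfl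
      have e2 : (Sum.elim (0 : Fin k → F) (Pi.single (⟨k - 1, hlast⟩ : Fin k) (1 : F))) ∘ Sum.inl =
          0 := rfl
      rw [e1, e2, shiftMat_mulVec_single_last hk, neg_zero, sub_zero]
      funext i
      cases i <;> rfl
    rw [hbot, Submodule.mem_bot] at hmem
    have := congrFun hmem (Sum.inr ⟨k - 1, hlast⟩)
    simp at this
  rw [← h2]
  omega

theorem presAlt_spu (k : ℕ) : PresAlt (spu F k) :=
  PresAlt.of_matrix (Matrix.fromBlocks 0 (exchMat F k) (-(exchMat F k)ᵀ) 0)
    (hypMat_alt (exchMat F k)) (hypMat_det (exchMat F k) (exchMat F k) (exchMat_mul_self k)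
      (exchMat_mul_self k)) (spu_form k)

/-- even Jordan blocks preserve a nondegenerate alternating form -/
theorem presAlt_jordanBlock_even (k : ℕ) (hk : 1 ≤ k) : PresAlt (Cfsg.jordanBlock (2 * k) F) := by
  let e₀ : Fin (2 * k) ≃ Fin k ⊕ Fin k := (finCongr (two_mul k)).trans finSumFinEquiv.symm
  have hcard : Fintype.card (Fin k ⊕ Fin k) = 2 * k := by
    rw [Fintype.card_sum, Fintype.card_fin]; ring
  have hM' : Matrix.reindex e₀ e₀ (Cfsg.jordanBlock (2 * k) F) - 1 =
      Matrix.reindex e₀ e₀ (shiftMat F (2 * k)) := by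
    rw [jordanBlock_eq]
    ext i j
    simp [Matrix.sub_apply, Matrix.add_apply, Matrix.one_apply]
  have h1 : (Matrix.reindex e₀ e₀ (Cfsg.jordanBlock (2 * k) F) - 1) ^ (2 * k) = 0 := by
    rw [hM', ← Matrix.reindexAlgEquiv_apply F F, ← map_pow, shiftMat_pow_self, map_zero]
  have h2 : (Matrix.reindex e₀ e₀ (Cfsg.jordanBlock (2 * k) F) - 1).rank = 2 * k - 1 := by
    rw [hM', Matrix.rank_reindex, shiftMat_rank (by omega)]
  obtain ⟨G, Ginv, hG1, hG2, hG⟩ := exists_conj_gen hcard (by omega) (spu F k)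
    (Matrix.reindex e₀ e₀ (Cfsg.jordanBlock (2 * k) F)) (spu_sub_one_pow k)
    (spu_sub_one_rank k hk) h1 h2
  have h3 := PresAlt.conj G Ginv hG1 hG2 hG (presAlt_spu k)
  have h4 := h3.reindex e₀.symm
  have h5 : Matrix.reindex e₀.symm e₀.symm (Matrix.reindex e₀ e₀ (Cfsg.jordanBlock (2 * k) F)) =
      Cfsg.jordanBlock (2 * k) F := by
    ext i j
    simp
  rw [h5] at h4
  exact h4

/-- a Jordan block is similar to its inverse transpose -/
theorem exists_pairing_jordanBlock (j : ℕ) (hj : 1 ≤ j) :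
    ∃ H H' : Matrix (Fin j) (Fin j) F, H * H' = 1 ∧ H' * H = 1 ∧
      (Cfsg.jordanBlock j F)ᵀ * H * Cfsg.jordanBlock j F = H := by
  rw [jordanBlock_eq]
  set S := shiftMat F j with hS
  set J := 1 + S with hJ
  have hreg : IsRegUnip J := isRegUnip_one_add_shift hj
  have hdet : IsUnit J.det := by
    rw [hreg.det_eq_one]
    exact isUnit_one
  have hiJ : J⁻¹ * J = 1 := Matrix.nonsing_inv_mul _ hdet
  have hJi : J * J⁻¹ = 1 := Matrix.mul_nonsing_inv _ hdet
  have hJS : J * S = S * J := by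
    rw [hJ, add_mul, mul_add, one_mul, mul_one]
  have hcomm : Commute J⁻¹ S := by
    show J⁻¹ * S = S * J⁻¹
    calc J⁻¹ * S = J⁻¹ * S * (J * J⁻¹) := by rw [hJi, mul_one]
      _ = J⁻¹ * (S * J) * J⁻¹ := by simp only [mul_assoc]
      _ = J⁻¹ * (J * S) * J⁻¹ := by rw [hJS]
      _ = (J⁻¹ * J) * S * J⁻¹ := by simp only [mul_assoc]
      _ = S * J⁻¹ := by rw [hiJ, one_mul]
  have hsub : J⁻¹ - 1 = (-J⁻¹) * S := by
    have : J⁻¹ - 1 = J⁻¹ - J⁻¹ * J := by rw [hiJ]
    rw [this, hJ, mul_add, mul_one, neg_mul]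
    abel
  have hreg' : IsRegUnip (J⁻¹)ᵀ := by
    constructor
    · have : (J⁻¹)ᵀ - 1 = (J⁻¹ - 1)ᵀ := by
        rw [Matrix.transpose_sub, Matrix.transpose_one]
      rw [this, ← Matrix.transpose_pow, hsub, neg_mul, neg_pow, hcomm.mul_pow, hS,
        shiftMat_pow_self, mul_zero, mul_zero, Matrix.transpose_zero]
    · have : (J⁻¹)ᵀ - 1 = (J⁻¹ - 1)ᵀ := by
        rw [Matrix.transpose_sub, Matrix.transpose_one]
      rw [this, Matrix.rank_transpose, hsub, Matrix.rank_mul_eq_right_of_isUnit_det]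
      · exact shiftMat_rank hj
      · rw [Matrix.det_neg]
        apply IsUnit.mul
        · exact (isUnit_one.neg).pow _
        · rw [Matrix.det_nonsing_inv, hreg.det_eq_one, Ring.inverse_one]
          exact isUnit_one
  obtain ⟨g, hg⟩ := hreg.exists_conj hj hreg'
  refine ⟨(g : Matrix (Fin j) (Fin j) F), ((g⁻¹ : GL (Fin j) F) : Matrix (Fin j) (Fin j) F), ?_, ?_, ?_⟩
  · rw [← Units.val_mul, mul_inv_cancel]; rfl
  · rw [← Units.val_mul, inv_mul_cancel]; rfl
  · rw [mul_assoc, hg, ← mul_assoc, ← Matrix.transpose_mul, hiJ, Matrix.transpose_one, one_mul]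

theorem presAlt_jordanBlock_of_even (n : ℕ) (hn : Even n) (h1 : 1 ≤ n) :
    PresAlt (Cfsg.jordanBlock n F) := by
  obtain ⟨k, rfl⟩ := hn
  rw [← two_mul]
  exact presAlt_jordanBlock_even k (by omega)

theorem exists_pairing_jordanBlock' (a b : ℕ) (hab : a = b) (ha : 1 ≤ a) :
    ∃ (H : Matrix (Fin a) (Fin b) F) (H' : Matrix (Fin b) (Fin a) F), H * H' = 1 ∧ H' * H = 1 ∧
      (Cfsg.jordanBlock a F)ᵀ * H * Cfsg.jordanBlock b F = H := by
  subst hab
  exact exists_pairing_jordanBlock a ha

end Blocks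

end Cfsg.Agent.Lib.Helper49
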