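import Mathlib
import Cfsg.Prelude.Def_JordanBlocks
import Cfsg.Agent.Lib.Helper49.UnipSpBlocks

set_option autoImplicit false

namespace Cfsg.Agent.Lib.Helper49

open Matrix Module

section Suff

variable {F : Type*} [Field F] {ι : Type*} [DecidableEq ι] (d : ι → ℕ)

variable (F) in
/-- Jordan type matrix over the sub-index type of a finset -/
def jtmS (S : Finset ι) : Matrix (Σ k : {k // k ∈ S}, Fin (d k.1)) (Σ k : {k // k ∈ S}, Fin (d k.1)) F :=
  Matrix.blockDiagonal' fun k : {k // k ∈ S} => Cfsg.jordanBlock (d k.1) F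

theorem jtmS_apply (S : Finset ι) (x y : Σ k : {k // k ∈ S}, Fin (d k.1)) :
    jtmS F d S x y = if h : x.1.1 = y.1.1 then
      Cfsg.jordanBlock (d x.1.1) F x.2 (Fin.cast (by rw [h]) y.2) else 0 := by
  obtain ⟨⟨k, hk⟩, i⟩ := x
  obtain ⟨⟨l, hl⟩, j⟩ := y
  unfold jtmS
  by_cases h : k = l
  · subst h
    rw [dif_pos rfl]
    exact Matrix.blockDiagonal'_apply_eq _ _ _ _
  · rw [dif_neg h]
    apply Matrix.blockDiagonal'_apply_ne
    intro h1
    exact h (congrArg Subtype.val h1)

/-- inverse of the splitting map, in curried form -/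
def splitInv (S₁ S₂ : Finset ι) (k : ι) (hk : k ∈ S₁ ∪ S₂) (i : Fin (d k)) :
    (Σ k : {k // k ∈ S₁}, Fin (d k.1)) ⊕ (Σ k : {k // k ∈ S₂}, Fin (d k.1)) :=
  if h₁ : k ∈ S₁ then Sum.inl ⟨⟨k, h₁⟩, i⟩
    else Sum.inr ⟨⟨k, (Finset.mem_union.mp hk).resolve_left h₁⟩, i⟩

theorem splitInv_pos (S₁ S₂ : Finset ι) (k : ι) (hk : k ∈ S₁ ∪ S₂) (i : Fin (d k)) (h₁ : k ∈ S₁) :
    splitInv d S₁ S₂ k hk i = Sum.inl ⟨⟨k, h₁⟩, i⟩ := dif_pos h₁

theorem splitInv_neg (S₁ S₂ : Finset ι) (k : ι) (hk : k ∈ S₁ ∪ S₂) (i : Fin (d k)) (h₁ : k ∉ S₁) :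
    splitInv d S₁ S₂ k hk i = Sum.inr ⟨⟨k, (Finset.mem_union.mp hk).resolve_left h₁⟩, i⟩ :=
  dif_neg h₁

/-- splitting the index type along a disjoint union -/
def splitEquiv (S₁ S₂ : Finset ι) (h : Disjoint S₁ S₂) :
    (Σ k : {k // k ∈ S₁}, Fin (d k.1)) ⊕ (Σ k : {k // k ∈ S₂}, Fin (d k.1)) ≃
      Σ k : {k // k ∈ S₁ ∪ S₂}, Fin (d k.1) where
  toFun := Sum.elim (fun x => ⟨⟨x.1.1, Finset.mem_union_left _ x.1.2⟩, x.2⟩)
    (fun x => ⟨⟨x.1.1, Finset.mem_union_right _ x.1.2⟩, x.2⟩)
  invFun x := splitInv d S₁ S₂ x.1.1 x.1.2 x.2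
  left_inv := by
    rintro (⟨⟨k, hk⟩, i⟩ | ⟨⟨k, hk⟩, i⟩)
    · exact splitInv_pos d S₁ S₂ k _ i hk
    · have hk1 : k ∉ S₁ := Finset.disjoint_right.mp h hk
      exact splitInv_neg d S₁ S₂ k _ i hk1
  right_inv := by
    rintro ⟨⟨k, hk⟩, i⟩
    by_cases h₁ : k ∈ S₁
    · show Sum.elim _ _ (splitInv d S₁ S₂ k hk i) = _
      rw [splitInv_pos d S₁ S₂ k hk i h₁]
      rfl
    · show Sum.elim _ _ (splitInv d S₁ S₂ k hk i) = _
      rw [splitInv_neg d S₁ S₂ k hk i h₁]
      rfl

theorem jtmS_union (S₁ S₂ : Finset ι) (h : Disjoint S₁ S₂) :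
    jtmS F d (S₁ ∪ S₂) = Matrix.reindex (splitEquiv d S₁ S₂ h) (splitEquiv d S₁ S₂ h)
      (Matrix.fromBlocks (jtmS F d S₁) 0 0 (jtmS F d S₂)) := by
  ext x y
  obtain ⟨a, rfl⟩ := (splitEquiv d S₁ S₂ h).surjective x
  obtain ⟨b, rfl⟩ := (splitEquiv d S₁ S₂ h).surjective y
  rw [Matrix.reindex_apply, Matrix.submatrix_apply, Equiv.symm_apply_apply,
    Equiv.symm_apply_apply, jtmS_apply]
  rcases a with ⟨⟨k, hk⟩, i⟩ | ⟨⟨k, hk⟩, i⟩ <;> rcases b with ⟨⟨l, hl⟩, j⟩ | ⟨⟨l, hl⟩, j⟩
  · rw [Matrix.fromBlocks_apply₁₁, jtmS_apply]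
    rfl
  · rw [Matrix.fromBlocks_apply₁₂]
    apply dif_neg
    intro h1
    have : k = l := h1
    subst this
    exact Finset.disjoint_left.mp h hk hl
  · rw [Matrix.fromBlocks_apply₂₁]
    apply dif_neg
    intro h1
    have : k = l := h1
    subst this
    exact Finset.disjoint_left.mp h hl hk
  · rw [Matrix.fromBlocks_apply₂₂, jtmS_apply]
    rfl

/-- index type over a singleton -/
def singEquiv (k₀ : ι) : (Σ k : {k // k ∈ ({k₀} : Finset ι)}, Fin (d k.1)) ≃ Fin (d k₀) where
  toFun x := Fin.cast (by rw [Finset.mem_singleton.mp x.1.2]) x.2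
  invFun i := ⟨⟨k₀, Finset.mem_singleton_self k₀⟩, i⟩
  left_inv := by
    rintro ⟨⟨k, hk⟩, i⟩
    obtain rfl := Finset.mem_singleton.mp hk
    rfl
  right_inv := by
    intro i
    rfl

theorem jtmS_singleton (k₀ : ι) :
    jtmS F d {k₀} = Matrix.reindex (singEquiv d k₀).symm (singEquiv d k₀).symm
      (Cfsg.jordanBlock (d k₀) F) := by
  ext x y
  obtain ⟨i, rfl⟩ := (singEquiv d k₀).symm.surjective x
  obtain ⟨j, rfl⟩ := (singEquiv d k₀).symm.surjective y
  rw [Matrix.reindex_apply, Matrix.submatrix_apply, Equiv.symm_symm, Equiv.apply_symm_apply,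
    Equiv.apply_symm_apply, jtmS_apply]
  exact dif_pos rfl

theorem presAlt_jtmS_union (S₁ S₂ : Finset ι) (h : Disjoint S₁ S₂)
    (hP : PresAlt (Matrix.fromBlocks (jtmS F d S₁) 0 0 (jtmS F d S₂))) :
    PresAlt (jtmS F d (S₁ ∪ S₂)) := by
  rw [jtmS_union d S₁ S₂ h]
  exact hP.reindex _

theorem presAlt_jtmS_singleton (k₀ : ι) (h1 : 1 ≤ d k₀) (he : Even (d k₀)) :
    PresAlt (jtmS F d {k₀}) := by
  rw [jtmS_singleton]
  exact (presAlt_jordanBlock_of_even (d k₀) he h1).reindex _

theorem presAlt_jtmS_pair (k₀ k₁ : ι) (hne : k₀ ≠ k₁) (h1 : 1 ≤ d k₀) (he : d k₀ = d k₁) :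
    PresAlt (jtmS F d ({k₀} ∪ {k₁})) := by
  apply presAlt_jtmS_union d {k₀} {k₁} (Finset.disjoint_singleton.mpr hne)
  obtain ⟨H, H', hH1, hH2, hH⟩ := exists_pairing_jordanBlock' (F := F) (d k₀) (d k₁) he h1
  rw [jtmS_singleton, jtmS_singleton]
  apply PresAlt.hyp (Matrix.reindex (singEquiv d k₀).symm (singEquiv d k₁).symm H)
    (Matrix.reindex (singEquiv d k₁).symm (singEquiv d k₀).symm H')
  · simp only [Matrix.reindex_apply, Equiv.symm_symm]
    rw [Matrix.submatrix_mul_equiv, hH1, Matrix.submatrix_one_equiv]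
  · simp only [Matrix.reindex_apply, Equiv.symm_symm]
    rw [Matrix.submatrix_mul_equiv, hH2, Matrix.submatrix_one_equiv]
  · simp only [Matrix.reindex_apply, Equiv.symm_symm]
    rw [Matrix.transpose_submatrix, Matrix.submatrix_mul_equiv, Matrix.submatrix_mul_equiv, hH]

theorem isEmpty_index_empty : IsEmpty (Σ k : {k // k ∈ (∅ : Finset ι)}, Fin (d k.1)) :=
  ⟨fun x => absurd x.1.2 (Finset.notMem_empty _)⟩

theorem presAlt_jtmS (hd : ∀ k, 1 ≤ d k) : ∀ (n : ℕ) (S : Finset ι), S.card = n →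
    (∀ j, Odd j → Even (S.filter (fun k => d k = j)).card) → PresAlt (jtmS F d S) := by
  intro n
  induction n using Nat.strong_induction_on with
  | _ n ih =>
    intro S hS hpar
    rcases S.eq_empty_or_nonempty with hemp | ⟨k₀, hk₀⟩
    · subst hemp
      haveI := isEmpty_index_empty d
      exact presAlt_of_isEmpty _
    · rcases Nat.even_or_odd (d k₀) with hev | hodd
      · -- split off an even block
        have hSeq : {k₀} ∪ S.erase k₀ = S := by
          rw [← Finset.insert_eq, Finset.insert_erase hk₀]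
        have hdisj : Disjoint ({k₀} : Finset ι) (S.erase k₀) := by
          rw [Finset.disjoint_singleton_left]
          exact Finset.notMem_erase k₀ S
        have hcard : (S.erase k₀).card = n - 1 := by
          rw [Finset.card_erase_of_mem hk₀, hS]
        have hn : 0 < n := by
          rw [← hS]
          exact Finset.card_pos.mpr ⟨k₀, hk₀⟩
        have hpar' : ∀ j, Odd j → Even ((S.erase k₀).filter (fun k => d k = j)).card := by
          intro j hj
          rw [Finset.filter_erase, Finset.erase_eq_of_notMem]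
          · exact hpar j hj
          · intro hmem
            have := (Finset.mem_filter.mp hmem).2
            rw [this] at hev
            exact (Nat.not_even_iff_odd.mpr hj) hev
        have hrec := ih (n - 1) (by omega) (S.erase k₀) hcard hpar'
        rw [← hSeq]
        apply presAlt_jtmS_union d _ _ hdisj
        exact PresAlt.sum (presAlt_jtmS_singleton d k₀ (hd k₀) hev) hrec
      · -- split off a pair of odd blocks
        have hT := hpar (d k₀) hodd
        have hk₀T : k₀ ∈ S.filter (fun k => d k = d k₀) := Finset.mem_filter.mpr ⟨hk₀, rfl⟩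
        have hTcard : 1 < (S.filter (fun k => d k = d k₀)).card := by
          have hpos : 0 < (S.filter (fun k => d k = d k₀)).card := Finset.card_pos.mpr ⟨k₀, hk₀T⟩
          obtain ⟨r, hr⟩ := hT
          omega
        obtain ⟨k₁, hk₁T, hk₁ne⟩ := Finset.exists_mem_ne hTcard k₀
        have hk₁S : k₁ ∈ S := (Finset.mem_filter.mp hk₁T).1
        have hdk₁ : d k₁ = d k₀ := (Finset.mem_filter.mp hk₁T).2
        have hk₁S' : k₁ ∈ S.erase k₀ := Finset.mem_erase.mpr ⟨hk₁ne, hk₁S⟩
        have hSeq : ({k₀} ∪ {k₁}) ∪ (S.erase k₀).erase k₁ = S := by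
          rw [Finset.union_assoc, ← Finset.insert_eq k₁, Finset.insert_erase hk₁S',
            ← Finset.insert_eq, Finset.insert_erase hk₀]
        have hdisj : Disjoint (({k₀} : Finset ι) ∪ {k₁}) ((S.erase k₀).erase k₁) := by
          rw [Finset.disjoint_union_left, Finset.disjoint_singleton_left,
            Finset.disjoint_singleton_left]
          constructor
          · intro hmem
            exact Finset.notMem_erase k₀ S (Finset.mem_of_mem_erase hmem)
          · exact Finset.notMem_erase k₁ _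
        have hcard : ((S.erase k₀).erase k₁).card = n - 2 := by
          rw [Finset.card_erase_of_mem hk₁S', Finset.card_erase_of_mem hk₀, hS]
          omega
        have hn : 2 ≤ n := by
          rw [← hS]
          calc 2 ≤ (S.filter (fun k => d k = d k₀)).card := hTcard
            _ ≤ S.card := Finset.card_filter_le _ _
        have hpar' : ∀ j, Odd j →
            Even (((S.erase k₀).erase k₁).filter (fun k => d k = j)).card := by
          intro j hj
          rw [Finset.filter_erase, Finset.filter_erase]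
          by_cases hjj : d k₀ = j
          · subst hjj
            have h1 : k₁ ∈ (S.filter (fun k => d k = d k₀)).erase k₀ :=
              Finset.mem_erase.mpr ⟨hk₁ne, hk₁T⟩
            rw [Finset.card_erase_of_mem h1, Finset.card_erase_of_mem hk₀T]
            obtain ⟨r, hr⟩ := hT
            rw [hr]
            exact ⟨r - 1, by omega⟩
          · rw [Finset.erase_eq_of_notMem, Finset.erase_eq_of_notMem]
            · exact hpar j hj
            · intro hmem
              exact hjj (Finset.mem_filter.mp hmem).2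
            · intro hmem
              have := (Finset.mem_filter.mp (Finset.mem_of_mem_erase hmem)).2
              exact hjj (hdk₁ ▸ this)
        have hrec := ih (n - 2) (by omega) ((S.erase k₀).erase k₁) hcard hpar'
        rw [← hSeq]
        apply presAlt_jtmS_union d _ _ hdisj
        exact PresAlt.sum (presAlt_jtmS_pair d k₀ k₁ (Ne.symm hk₁ne) (hd k₀) hdk₁.symm) hrec

end Suff

end Cfsg.Agent.Lib.Helper49
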