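import Mathlib
import Cfsg.Prelude.Def_JordanBlocks
import Cfsg.Agent.Lib.Helper49.UnipSpSuff
import Cfsg.Agent.Lib.Helper49.UnipSpNec
import Cfsg.Agent.Lib.Helper20.SympEmbed

set_option autoImplicit false

namespace Cfsg.Agent.Lib.Helper49

open Matrix Module

section Main

variable {F : Type*} [Field F] {t : ℕ} (d : Fin t → ℕ)

/-- identification of the index types -/
def univEquiv : (Σ k : {k // k ∈ (Finset.univ : Finset (Fin t))}, Fin (d k.1)) ≃
    Σ k : Fin t, Fin (d k) where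
  toFun x := ⟨x.1.1, x.2⟩
  invFun y := ⟨⟨y.1, Finset.mem_univ _⟩, y.2⟩
  left_inv x := rfl
  right_inv y := rfl

theorem jordanTypeMatrix_apply (x y : Σ k : Fin t, Fin (d k)) :
    Cfsg.jordanTypeMatrix d F x y = if h : x.1 = y.1 then
      Cfsg.jordanBlock (d x.1) F x.2 (Fin.cast (by rw [h]) y.2) else 0 := by
  obtain ⟨k, i⟩ := x
  obtain ⟨l, j⟩ := y
  unfold Cfsg.jordanTypeMatrix
  by_cases h : k = l
  · subst h
    rw [dif_pos rfl]
    exact Matrix.blockDiagonal'_apply_eq _ _ _ _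
  · rw [dif_neg h]
    exact Matrix.blockDiagonal'_apply_ne _ _ _ h

theorem jordanTypeMatrix_eq :
    Cfsg.jordanTypeMatrix d F = Matrix.reindex (univEquiv d) (univEquiv d) (jtmS F d Finset.univ) := by
  ext x y
  rw [Matrix.reindex_apply, Matrix.submatrix_apply, jordanTypeMatrix_apply, jtmS_apply]
  rfl

theorem presAlt_jordanTypeMatrix_of_parity (hd : ∀ k, 1 ≤ d k)
    (hpar : ∀ j : ℕ, Odd j → Even (Finset.univ.filter (fun k : Fin t => d k = j)).card) :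
    PresAlt (Cfsg.jordanTypeMatrix d F) := by
  rw [jordanTypeMatrix_eq]
  exact (presAlt_jtmS d hd _ Finset.univ rfl hpar).reindex _

theorem parity_of_presAlt_jordanTypeMatrix (hd : ∀ k, 1 ≤ d k)
    (h : PresAlt (Cfsg.jordanTypeMatrix d F)) :
    ∀ j : ℕ, Odd j → Even (Finset.univ.filter (fun k : Fin t => d k = j)).card := by
  obtain ⟨B, hA, hN, hinv⟩ := h
  have hU : UInv B (jnil F d) := by
    intro x y
    have e : ∀ z : JI d → F, z + jnil F d z = Cfsg.jordanTypeMatrix d F *ᵥ z := by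
      intro z
      unfold jnil jnilM
      rw [Matrix.toLin'_apply, Matrix.sub_mulVec, Matrix.one_mulVec]
      abel
    rw [e, e]
    exact hinv x y
  intro j hj
  have := even_card_of_odd d hd B hA hN hU j hj
  rw [Fintype.card_subtype] at this
  exact this

end Main

section Trans

variable {F : Type*} [Field F] {m : ℕ} {I : Type*} [Fintype I] [DecidableEq I]

theorem presAlt_of_mem_symplecticGroup (A : Matrix (Fin m ⊕ Fin m) (Fin m ⊕ Fin m) F)
    (hA : A ∈ Matrix.symplecticGroup (Fin m) F) : PresAlt A := by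
  have hJ : Matrix.J (Fin m) F =
      Matrix.fromBlocks 0 (-1 : Matrix (Fin m) (Fin m) F) (-(-1 : Matrix (Fin m) (Fin m) F)ᵀ) 0 := by
    unfold Matrix.J
    rw [Matrix.transpose_neg, Matrix.transpose_one, neg_neg]
  apply PresAlt.of_matrix (Matrix.J (Fin m) F)
  · intro x
    rw [hJ]
    exact hypMat_alt _ x
  · rw [hJ]
    apply hypMat_det (-1) (-1) <;> simp
  · exact SymplecticGroup.mem_iff'.mp hA

theorem presAlt_of_isConj (U : Matrix I I F) (e : I ≃ (Fin m ⊕ Fin m))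
    (A : Matrix.symplecticGroup (Fin m) F)
    (h : IsConj (Matrix.reindex e e U) (A : Matrix (Fin m ⊕ Fin m) (Fin m ⊕ Fin m) F)) :
    PresAlt U := by
  obtain ⟨c, hc⟩ := h
  obtain ⟨C, hC⟩ : ∃ C : Matrix (Fin m ⊕ Fin m) (Fin m ⊕ Fin m) F, C = ↑c := ⟨_, rfl⟩
  obtain ⟨Ci, hCi⟩ : ∃ Ci : Matrix (Fin m ⊕ Fin m) (Fin m ⊕ Fin m) F, Ci = ↑c⁻¹ := ⟨_, rfl⟩
  have hc' : C * Matrix.reindex e e U =
      (A : Matrix (Fin m ⊕ Fin m) (Fin m ⊕ Fin m) F) * C := by
    rw [hC]; exact hc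
  have h1 : Ci * C = 1 := by
    rw [hC, hCi, ← Units.val_mul, inv_mul_cancel]; rfl
  have h2 : C * Ci = 1 := by
    rw [hC, hCi, ← Units.val_mul, mul_inv_cancel]; rfl
  have h3 : Ci * (A : Matrix (Fin m ⊕ Fin m) (Fin m ⊕ Fin m) F) = Matrix.reindex e e U * Ci := by
    calc Ci * (A : Matrix (Fin m ⊕ Fin m) (Fin m ⊕ Fin m) F)
        = Ci * ((A : Matrix (Fin m ⊕ Fin m) (Fin m ⊕ Fin m) F) * C) * Ci := by
          rw [mul_assoc, mul_assoc, h2, mul_one]
      _ = Matrix.reindex e e U * Ci := by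
          rw [← hc', ← mul_assoc, h1, one_mul]
  have h4 := PresAlt.conj _ _ h1 h2 h3 (presAlt_of_mem_symplecticGroup _ A.2)
  have h5 := h4.reindex e.symm
  have h6 : Matrix.reindex e.symm e.symm (Matrix.reindex e e U) = U := by
    ext i j
    simp
  rw [h6] at h5
  exact h5

theorem exists_isConj_of_presAlt (U : Matrix I I F) (hcard : Fintype.card I = 2 * m)
    (h : PresAlt U) :
    ∃ e : I ≃ (Fin m ⊕ Fin m), ∃ A : Matrix.symplecticGroup (Fin m) F,
      IsConj (Matrix.reindex e e U) (A : Matrix (Fin m ⊕ Fin m) (Fin m ⊕ Fin m) F) := by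
  obtain ⟨B, hA, hN, hinv⟩ := h
  have hfin : finrank F (I → F) = 2 * m := by
    rw [Module.finrank_fintype_fun_eq_card, hcard]
  obtain ⟨b, hb⟩ := Cfsg.Agent.Lib.Helper20.exists_symplectic_basis B hA hN m hfin
  have hc2 : Fintype.card I = Fintype.card (Fin m ⊕ Fin m) := by
    rw [hcard, Fintype.card_sum, Fintype.card_fin]; ring
  let e : I ≃ (Fin m ⊕ Fin m) := Fintype.equivOfCardEq hc2
  let Ul : (I → F) →ₗ[F] (I → F) := Matrix.toLin' U
  let A : Matrix (Fin m ⊕ Fin m) (Fin m ⊕ Fin m) F := LinearMap.toMatrix b b Ul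
  have hcomp : B.comp Ul Ul = B := by
    apply LinearMap.ext
    intro x
    apply LinearMap.ext
    intro y
    show B (Matrix.toLin' U x) (Matrix.toLin' U y) = B x y
    rw [Matrix.toLin'_apply, Matrix.toLin'_apply]
    exact hinv x y
  have hAsp : A ∈ Matrix.symplecticGroup (Fin m) F := by
    rw [SymplecticGroup.mem_iff']
    have := LinearMap.BilinForm.toMatrix_comp b b B Ul Ul
    rw [hcomp, hb] at this
    exact this.symm
  refine ⟨e, ⟨A, hAsp⟩, ?_⟩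
  let φ : (I → F) ≃ₗ[F] (Fin m ⊕ Fin m → F) := b.equivFun
  let ψ : (Fin m ⊕ Fin m → F) ≃ₗ[F] (I → F) := LinearEquiv.funCongrLeft F F e
  let c : Matrix (Fin m ⊕ Fin m) (Fin m ⊕ Fin m) F :=
    LinearMap.toMatrix' ((ψ.trans φ : (Fin m ⊕ Fin m → F) ≃ₗ[F] (Fin m ⊕ Fin m → F)) :
      (Fin m ⊕ Fin m → F) →ₗ[F] (Fin m ⊕ Fin m → F))
  let c' : Matrix (Fin m ⊕ Fin m) (Fin m ⊕ Fin m) F :=
    LinearMap.toMatrix' (((ψ.trans φ).symm : (Fin m ⊕ Fin m → F) ≃ₗ[F] (Fin m ⊕ Fin m → F)) :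
      (Fin m ⊕ Fin m → F) →ₗ[F] (Fin m ⊕ Fin m → F))
  have hcc' : c * c' = 1 := by
    have : ((ψ.trans φ : (Fin m ⊕ Fin m → F) ≃ₗ[F] (Fin m ⊕ Fin m → F)) :
        (Fin m ⊕ Fin m → F) →ₗ[F] (Fin m ⊕ Fin m → F)) ∘ₗ
        (((ψ.trans φ).symm : (Fin m ⊕ Fin m → F) ≃ₗ[F] (Fin m ⊕ Fin m → F)) :
        (Fin m ⊕ Fin m → F) →ₗ[F] (Fin m ⊕ Fin m → F)) = LinearMap.id :=
      LinearMap.ext (fun x => (ψ.trans φ).apply_symm_apply x)
    rw [← LinearMap.toMatrix'_comp, this, LinearMap.toMatrix'_id]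
  have hc'c : c' * c = 1 := by
    have : (((ψ.trans φ).symm : (Fin m ⊕ Fin m → F) ≃ₗ[F] (Fin m ⊕ Fin m → F)) :
        (Fin m ⊕ Fin m → F) →ₗ[F] (Fin m ⊕ Fin m → F)) ∘ₗ
        ((ψ.trans φ : (Fin m ⊕ Fin m → F) ≃ₗ[F] (Fin m ⊕ Fin m → F)) :
        (Fin m ⊕ Fin m → F) →ₗ[F] (Fin m ⊕ Fin m → F)) = LinearMap.id :=
      LinearMap.ext (fun x => (ψ.trans φ).symm_apply_apply x)
    rw [← LinearMap.toMatrix'_comp, this, LinearMap.toMatrix'_id]
  have hcmv : ∀ x, c *ᵥ x = φ (ψ x) := by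
    intro x
    rw [← Matrix.toLin'_apply, Matrix.toLin'_toMatrix']
    rfl
  refine ⟨⟨c, c', hcc', hc'c⟩, ?_⟩
  show c * Matrix.reindex e e U = A * c
  apply Matrix.toLin'.injective
  apply LinearMap.ext
  intro x
  rw [Matrix.toLin'_apply, Matrix.toLin'_apply, ← Matrix.mulVec_mulVec, ← Matrix.mulVec_mulVec,
    hcmv, hcmv]
  have h1 : ψ (Matrix.reindex e e U *ᵥ x) = U *ᵥ ψ x := by
    rw [Matrix.reindex_apply, Matrix.submatrix_mulVec_equiv]
    funext i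
    simp [ψ, LinearEquiv.funCongrLeft_apply, LinearMap.funLeft_apply, Function.comp_def]
    rfl
  rw [h1]
  have h2 := LinearMap.toMatrix_mulVec_repr b b Ul (ψ x)
  exact h2.symm

end Trans

end Cfsg.Agent.Lib.Helper49
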