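import Mathlib
import Cfsg.Agent.Lib.Helper49.SpDet
import Cfsg.Agent.Lib.Helper49.SemisimpleCharpoly
import Cfsg.Agent.Lib.Helper49.SimilarTranspose
import Cfsg.Agent.Lib.Helper49.UnipSpMain

set_option autoImplicit false

namespace Cfsg.Agent.Lib.Helper49

open Matrix Polynomial

section Palin

variable {F : Type*} [Field F] {m : ℕ}

/-- the characteristic polynomial of the inverse of a symplectic matrix -/
theorem charpoly_inv_of_sp (g : Matrix.symplecticGroup (Fin m) F) :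
    ((g⁻¹ : Matrix.symplecticGroup (Fin m) F) : Matrix (Fin m ⊕ Fin m) (Fin m ⊕ Fin m) F).charpoly
      = (g : Matrix (Fin m ⊕ Fin m) (Fin m ⊕ Fin m) F).charpoly := by
  rw [SymplecticGroup.coe_inv, Matrix.charpoly_mul_comm, ← Matrix.mul_assoc, Matrix.mul_neg,
    Matrix.J_squared, neg_neg, Matrix.one_mul, Matrix.charpoly_transpose]

/-- the characteristic polynomial of a symplectic matrix is self-reciprocal -/
theorem charpoly_reverse_of_sp (g : Matrix.symplecticGroup (Fin m) F) :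
    (g : Matrix (Fin m ⊕ Fin m) (Fin m ⊕ Fin m) F).charpoly.reverse
      = (g : Matrix (Fin m ⊕ Fin m) (Fin m ⊕ Fin m) F).charpoly := by
  set M : Matrix (Fin m ⊕ Fin m) (Fin m ⊕ Fin m) F := ↑g with hM
  set N : Matrix (Fin m ⊕ Fin m) (Fin m ⊕ Fin m) F :=
    ((g⁻¹ : Matrix.symplecticGroup (Fin m) F) : Matrix (Fin m ⊕ Fin m) (Fin m ⊕ Fin m) F) with hN
  have hMN : M * N = 1 := by
    rw [hM, hN, ← Submonoid.coe_mul, mul_inv_cancel]; rfl
  have hdet : M.det = 1 := det_eq_one_of_mem_symplecticGroup g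
  rw [Matrix.reverse_charpoly, Matrix.charpolyRev]
  have h1 : (1 - (X : F[X]) • M.map C) = M.map C * (-(Matrix.charmatrix N)) := by
    have h2 : M.map (C : F → F[X]) * N.map C = 1 := by
      rw [← Matrix.map_mul, hMN, Matrix.map_one _ C_0 C_1]
    rw [Matrix.charmatrix, neg_sub, Matrix.mul_sub, RingHom.mapMatrix_apply, h2]
    congr 1
    rw [Matrix.scalar_apply, ← Matrix.smul_one_eq_diagonal, Matrix.mul_smul, Matrix.mul_one]
  rw [h1, Matrix.det_mul, Matrix.det_neg, ← Matrix.charpoly]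
  have h3 : (M.map (C : F → F[X])).det = 1 := by
    have := (RingHom.map_det (C : F →+* F[X]) M).symm
    rw [RingHom.mapMatrix_apply] at this
    rw [this, hdet, map_one]
  have h4 : Fintype.card (Fin m ⊕ Fin m) = 2 * m := by
    rw [Fintype.card_sum, Fintype.card_fin]; ring
  rw [h3, h4, pow_mul, neg_one_sq, one_pow, one_mul, one_mul, hN, charpoly_inv_of_sp]

theorem charpoly_coeff_symm_of_sp (g : Matrix.symplecticGroup (Fin m) F) (i : ℕ) (hi : i ≤ 2 * m) :
    (g : Matrix (Fin m ⊕ Fin m) (Fin m ⊕ Fin m) F).charpoly.coeff i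
      = (g : Matrix (Fin m ⊕ Fin m) (Fin m ⊕ Fin m) F).charpoly.coeff (2 * m - i) := by
  have hnd : (g : Matrix (Fin m ⊕ Fin m) (Fin m ⊕ Fin m) F).charpoly.natDegree = 2 * m := by
    rw [Matrix.charpoly_natDegree_eq_dim, Fintype.card_sum, Fintype.card_fin]; ring
  conv_lhs => rw [← charpoly_reverse_of_sp]
  rw [Polynomial.coeff_reverse, hnd, Polynomial.revAt_le hi]

/-- a self-reciprocal characteristic polynomial of a symplectic matrix is determined by its
coefficients of index `1, …, m` -/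
theorem charpoly_eq_of_coeff_eq (g g' : Matrix.symplecticGroup (Fin m) F)
    (h : ∀ i : Fin m, (g : Matrix (Fin m ⊕ Fin m) (Fin m ⊕ Fin m) F).charpoly.coeff (i + 1)
      = (g' : Matrix (Fin m ⊕ Fin m) (Fin m ⊕ Fin m) F).charpoly.coeff (i + 1)) :
    (g : Matrix (Fin m ⊕ Fin m) (Fin m ⊕ Fin m) F).charpoly
      = (g' : Matrix (Fin m ⊕ Fin m) (Fin m ⊕ Fin m) F).charpoly := by
  have hnd : ∀ x : Matrix.symplecticGroup (Fin m) F,
      (x : Matrix (Fin m ⊕ Fin m) (Fin m ⊕ Fin m) F).charpoly.natDegree = 2 * m := by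
    intro x
    rw [Matrix.charpoly_natDegree_eq_dim, Fintype.card_sum, Fintype.card_fin]; ring
  have hlow : ∀ k : ℕ, 1 ≤ k → k ≤ m →
      (g : Matrix (Fin m ⊕ Fin m) (Fin m ⊕ Fin m) F).charpoly.coeff k
      = (g' : Matrix (Fin m ⊕ Fin m) (Fin m ⊕ Fin m) F).charpoly.coeff k := by
    intro k hk1 hkm
    have := h ⟨k - 1, by omega⟩
    simp only at this
    rwa [Nat.sub_add_cancel hk1] at this
  ext k
  rcases Nat.lt_or_ge (2 * m) k with hk | hk
  · rw [Polynomial.coeff_eq_zero_of_natDegree_lt (by rw [hnd]; exact hk),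
      Polynomial.coeff_eq_zero_of_natDegree_lt (by rw [hnd]; exact hk)]
  rcases Nat.eq_or_lt_of_le hk with hk2 | hk2
  · have e1 := (Matrix.charpoly_monic (g : Matrix (Fin m ⊕ Fin m) (Fin m ⊕ Fin m) F)).coeff_natDegree
    have e2 := (Matrix.charpoly_monic (g' : Matrix (Fin m ⊕ Fin m) (Fin m ⊕ Fin m) F)).coeff_natDegree
    rw [hnd] at e1 e2
    rw [hk2, e1, e2]
  rcases Nat.eq_zero_or_pos k with hk0 | hk0
  · have e1 := (Matrix.charpoly_monic (g : Matrix (Fin m ⊕ Fin m) (Fin m ⊕ Fin m) F)).coeff_natDegree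
    have e2 := (Matrix.charpoly_monic (g' : Matrix (Fin m ⊕ Fin m) (Fin m ⊕ Fin m) F)).coeff_natDegree
    rw [hnd] at e1 e2
    rw [hk0, charpoly_coeff_symm_of_sp g 0 (Nat.zero_le _),
      charpoly_coeff_symm_of_sp g' 0 (Nat.zero_le _), Nat.sub_zero, e1, e2]
  rcases Nat.lt_or_ge m k with hkm | hkm
  · rw [charpoly_coeff_symm_of_sp g k hk, charpoly_coeff_symm_of_sp g' k hk]
    exact hlow _ (by omega) (by omega)
  · exact hlow k hk0 hkm

end Palin

section Exist

variable {F : Type*} [Field F] {n : ℕ}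

theorem exists_matrix_of_monic (h : F[X]) (hm : h.Monic) (hd : h.natDegree = n) :
    ∃ C : Matrix (Fin n) (Fin n) F, C.charpoly = h := by
  have h0 : h ≠ 0 := hm.ne_zero
  haveI : Module.Finite F (AdjoinRoot h) := hm.finite_adjoinRoot
  have hfr : Module.finrank F (AdjoinRoot h) = n := by
    rw [(AdjoinRoot.powerBasis h0).finrank, AdjoinRoot.powerBasis_dim, hd]
  obtain ⟨g, -, hg⟩ := exists_matrix_of_operator' (LinearMap.mulLeft F (AdjoinRoot.root h)) n hfr
  exact ⟨g, by rw [hg, charpoly_mulLeft_root h hm h0]⟩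

/-- the block matrix `[[0, -1], [1, C]]` -/
def blockU {K : Type*} [Field K] (C : Matrix (Fin n) (Fin n) K) :
    Matrix (Fin n ⊕ Fin n) (Fin n ⊕ Fin n) K :=
  Matrix.fromBlocks (0 : Matrix (Fin n) (Fin n) K) (-1) 1 C

theorem presAlt_block (C : Matrix (Fin n) (Fin n) F) :
    PresAlt (blockU C) := by
  unfold blockU
  obtain ⟨S, hSu, hSs, hSC⟩ := exists_symm_intertwiner C
  obtain ⟨S', hS1, hS2⟩ : ∃ S' : Matrix (Fin n) (Fin n) F, S * S' = 1 ∧ S' * S = 1 := by
    obtain ⟨u, hu⟩ := hSu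
    refine ⟨↑u⁻¹, ?_, ?_⟩
    · rw [← hu, ← Units.val_mul, mul_inv_cancel]; rfl
    · rw [← hu, ← Units.val_mul, inv_mul_cancel]; rfl
  apply PresAlt.of_matrix (Matrix.fromBlocks 0 (-S) (-(-S)ᵀ) 0) (hypMat_alt _)
    (hypMat_det (-S) (-S') (by rw [neg_mul_neg, hS1]) (by rw [neg_mul_neg, hS2]))
  rw [Matrix.fromBlocks_transpose, Matrix.fromBlocks_multiply, Matrix.fromBlocks_multiply]
  simp only [Matrix.transpose_zero, Matrix.transpose_one, Matrix.transpose_neg, Matrix.zero_mul,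
    Matrix.mul_zero, zero_add, add_zero, Matrix.mul_neg, Matrix.neg_mul, neg_zero, neg_neg,
    Matrix.one_mul, Matrix.mul_one, hSs]
  rw [hSC]
  congr 1
  abel

theorem charpoly_block_eval {K : Type*} [Field K] (C : Matrix (Fin n) (Fin n) K) (t : K)
    (ht : t ≠ 0) :
    (blockU C).charpoly.eval t = t ^ n * C.charpoly.eval (t + t⁻¹) := by
  unfold blockU
  rw [Matrix.eval_charpoly, Matrix.eval_charpoly]
  have e : Matrix.scalar (Fin n ⊕ Fin n) t -
      Matrix.fromBlocks (0 : Matrix (Fin n) (Fin n) K) (-1) 1 C =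
      Matrix.fromBlocks (t • (1 : Matrix (Fin n) (Fin n) K)) 1 (-1) (t • 1 - C) := by
    rw [Matrix.scalar_apply, ← Matrix.smul_one_eq_diagonal, ← Matrix.fromBlocks_one,
      Matrix.fromBlocks_smul, sub_eq_add_neg, Matrix.fromBlocks_neg, Matrix.fromBlocks_add]
    simp [sub_eq_add_neg]
  rw [e]
  let _ : Invertible (t • (1 : Matrix (Fin n) (Fin n) K)) :=
    ⟨t⁻¹ • 1, by rw [Matrix.smul_mul, Matrix.mul_smul, Matrix.one_mul, smul_smul, inv_mul_cancel₀ ht,
      one_smul], by rw [Matrix.smul_mul, Matrix.mul_smul, Matrix.one_mul, smul_smul,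
      mul_inv_cancel₀ ht, one_smul]⟩
  rw [Matrix.det_fromBlocks₁₁]
  have e2 : ⅟(t • (1 : Matrix (Fin n) (Fin n) K)) = t⁻¹ • 1 := rfl
  rw [e2, Matrix.det_smul, Matrix.det_one, mul_one, Fintype.card_fin]
  congr 2
  rw [Matrix.scalar_apply, ← Matrix.smul_one_eq_diagonal, Matrix.neg_mul, Matrix.one_mul,
    Matrix.mul_one, sub_neg_eq_add, add_smul]
  abel

theorem charpoly_block_injective (C C' : Matrix (Fin n) (Fin n) F)
    (h : (blockU C).charpoly = (blockU C').charpoly) :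
    C.charpoly = C'.charpoly := by
  set K := AlgebraicClosure F
  set φ : F →+* K := algebraMap F K with hφ
  have hmap : ∀ D : Matrix (Fin n) (Fin n) F,
      (blockU D).map φ = blockU (D.map φ) := by
    intro D
    unfold blockU
    rw [Matrix.fromBlocks_map]
    congr 1
    · exact Matrix.map_zero _ (map_zero φ)
    · ext i j
      simp [Matrix.one_apply]
    · exact Matrix.map_one _ (map_zero φ) (map_one φ)
  have h1 : (blockU (C.map φ)).charpoly = (blockU (C'.map φ)).charpoly := by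
    rw [← hmap, ← hmap, Matrix.charpoly_map, Matrix.charpoly_map, h]
  have hex : ∀ μ : K, ∃ t : K, t ≠ 0 ∧ t + t⁻¹ = μ := by
    intro μ
    have hdeg : (Polynomial.C (1 : K) * X ^ 2 + Polynomial.C (-μ) * X + Polynomial.C 1).degree ≠ 0 := by
      rw [Polynomial.degree_quadratic one_ne_zero]
      decide
    obtain ⟨t, ht⟩ := IsAlgClosed.exists_root _ hdeg
    rw [Polynomial.IsRoot.def] at ht
    simp only [Polynomial.eval_add, Polynomial.eval_mul, Polynomial.eval_C, Polynomial.eval_pow,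
      Polynomial.eval_X] at ht
    have ht0 : t ≠ 0 := by
      rintro rfl
      simp at ht
    refine ⟨t, ht0, ?_⟩
    apply mul_left_cancel₀ ht0
    rw [mul_add, mul_inv_cancel₀ ht0]
    linear_combination ht
  have h2 : (C.map φ).charpoly = (C'.map φ).charpoly := by
    apply Polynomial.funext
    intro μ
    obtain ⟨t, ht0, htμ⟩ := hex μ
    have e1 := charpoly_block_eval (C.map φ) t ht0
    have e2 := charpoly_block_eval (C'.map φ) t ht0
    rw [h1, e2, htμ] at e1
    exact (mul_left_cancel₀ (pow_ne_zero n ht0) e1).symm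
  rw [Matrix.charpoly_map, Matrix.charpoly_map] at h2
  exact Polynomial.map_injective φ φ.injective h2

end Exist

section Fin

variable {F : Type*} [Field F] [Fintype F] {n : ℕ}

theorem charpoly_pow_card_pow (M : Matrix (Fin n ⊕ Fin n) (Fin n ⊕ Fin n) F) (a : ℕ) :
    (M ^ (Fintype.card F ^ a)).charpoly = M.charpoly := by
  induction a with
  | zero => rw [pow_zero, pow_one]
  | succ a ih => rw [pow_succ, pow_mul, FiniteField.Matrix.charpoly_pow_card, ih]

theorem charpoly_eq_of_isConj_matrix {ι : Type*} [Fintype ι] [DecidableEq ι]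
    (A B : Matrix ι ι F) (h : IsConj A B) : A.charpoly = B.charpoly := by
  obtain ⟨c, hc⟩ := h
  have : B = (c : Matrix ι ι F) * A * ((c⁻¹ : (Matrix ι ι F)ˣ) : Matrix ι ι F) := by
    have h1 : (c : Matrix ι ι F) * A = B * c := hc
    rw [h1, mul_assoc, Units.mul_inv, mul_one]
  rw [this, mul_assoc, Matrix.charpoly_mul_comm, mul_assoc, Units.inv_mul, mul_one]

omit [Fintype F] in
theorem charpoly_eq_of_isConj_sp (g g' : Matrix.symplecticGroup (Fin n) F) (h : IsConj g g') :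
    (g : Matrix (Fin n ⊕ Fin n) (Fin n ⊕ Fin n) F).charpoly =
      (g' : Matrix (Fin n ⊕ Fin n) (Fin n ⊕ Fin n) F).charpoly := by
  obtain ⟨c, hc⟩ := isConj_iff.mp h
  have h1 : (g' : Matrix (Fin n ⊕ Fin n) (Fin n ⊕ Fin n) F) =
      (c : Matrix (Fin n ⊕ Fin n) (Fin n ⊕ Fin n) F) *
        ((g : Matrix (Fin n ⊕ Fin n) (Fin n ⊕ Fin n) F) *
          ((c⁻¹ : Matrix.symplecticGroup (Fin n) F) : Matrix (Fin n ⊕ Fin n) (Fin n ⊕ Fin n) F)) := by
    rw [← hc, Submonoid.coe_mul, Submonoid.coe_mul, mul_assoc]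
  have h2 : ((c⁻¹ : Matrix.symplecticGroup (Fin n) F) : Matrix (Fin n ⊕ Fin n) (Fin n ⊕ Fin n) F) *
      (c : Matrix (Fin n ⊕ Fin n) (Fin n ⊕ Fin n) F) = 1 := by
    rw [← Submonoid.coe_mul, inv_mul_cancel]; rfl
  rw [h1, Matrix.charpoly_mul_comm, mul_assoc, h2, mul_one]

/-- existence of a symplectic matrix of order prime to `p` with the characteristic polynomial
of `blockU C` -/
theorem exists_sp_semisimple (p : ℕ) [Fact p.Prime] [CharP F p] (C : Matrix (Fin n) (Fin n) F) :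
    ∃ g : Matrix.symplecticGroup (Fin n) F, (orderOf g).Coprime p ∧
      (g : Matrix (Fin n ⊕ Fin n) (Fin n ⊕ Fin n) F).charpoly = (blockU C).charpoly := by
  classical
  have hp : p.Prime := Fact.out
  have hcard : Fintype.card (Fin n ⊕ Fin n) = 2 * n := by
    rw [Fintype.card_sum, Fintype.card_fin]; ring
  obtain ⟨e, A₀, hconj⟩ := exists_isConj_of_presAlt (blockU C) hcard (presAlt_block C)
  have hch : (A₀ : Matrix (Fin n ⊕ Fin n) (Fin n ⊕ Fin n) F).charpoly = (blockU C).charpoly := by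
    rw [← charpoly_eq_of_isConj_matrix _ _ hconj, Matrix.charpoly_reindex]
  have ho : orderOf A₀ ≠ 0 := (orderOf_pos A₀).ne'
  obtain ⟨a, m', hm', hom⟩ := Nat.exists_eq_pow_mul_and_not_dvd ho p hp.ne_one
  have hpq : p ∣ Fintype.card F := by
    rw [← CharP.cast_eq_zero_iff F p]
    exact Nat.cast_card_eq_zero F
  refine ⟨A₀ ^ (Fintype.card F ^ a), ?_, ?_⟩
  · have h1 : (A₀ ^ (Fintype.card F ^ a)) ^ m' = 1 := by
      rw [← pow_mul]
      apply orderOf_dvd_iff_pow_eq_one.mp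
      rw [hom]
      exact Nat.mul_dvd_mul (pow_dvd_pow_of_dvd hpq a) (dvd_refl _)
    have h2 : orderOf (A₀ ^ (Fintype.card F ^ a)) ∣ m' := orderOf_dvd_of_pow_eq_one h1
    have h3 : m'.Coprime p := ((Nat.Prime.coprime_iff_not_dvd hp).mpr hm').symm
    exact Nat.Coprime.coprime_dvd_left h2 h3
  · rw [SubmonoidClass.coe_pow, charpoly_pow_card_pow, hch]

end Fin

end Cfsg.Agent.Lib.Helper49
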