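import Mathlib
import Cfsg.Agent.Lib.Helper49.SpSemiExist

set_option autoImplicit false

namespace Cfsg.Agent.Lib.Helper49

open Matrix Polynomial

section Palin2

variable {F : Type*} [Field F] {m : ℕ}

/-- a monic self-reciprocal polynomial of degree `2m` is determined by its coefficients of index
`1, …, m` -/
theorem palin_eq_of_coeff_eq (f f' : F[X]) (hf : f.Monic) (hf' : f'.Monic)
    (hd : f.natDegree = 2 * m) (hd' : f'.natDegree = 2 * m)
    (hr : f.reverse = f) (hr' : f'.reverse = f')
    (h : ∀ i : Fin m, f.coeff (i + 1) = f'.coeff (i + 1)) : f = f' := by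
  have hsym : ∀ g : F[X], g.natDegree = 2 * m → g.reverse = g → ∀ k, k ≤ 2 * m →
      g.coeff k = g.coeff (2 * m - k) := by
    intro g hgd hgr k hk
    conv_lhs => rw [← hgr]
    rw [Polynomial.coeff_reverse, hgd, Polynomial.revAt_le hk]
  have hlow : ∀ k : ℕ, 1 ≤ k → k ≤ m → f.coeff k = f'.coeff k := by
    intro k hk1 hkm
    have := h ⟨k - 1, by omega⟩
    simp only at this
    rwa [Nat.sub_add_cancel hk1] at this
  ext k
  rcases Nat.lt_or_ge (2 * m) k with hk | hk
  · rw [Polynomial.coeff_eq_zero_of_natDegree_lt (by rw [hd]; exact hk),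
      Polynomial.coeff_eq_zero_of_natDegree_lt (by rw [hd']; exact hk)]
  have e1 := hf.coeff_natDegree
  have e2 := hf'.coeff_natDegree
  rw [hd] at e1
  rw [hd'] at e2
  rcases Nat.eq_or_lt_of_le hk with hk2 | hk2
  · rw [hk2, e1, e2]
  rcases Nat.eq_zero_or_pos k with hk0 | hk0
  · rw [hk0, hsym f hd hr 0 (Nat.zero_le _), hsym f' hd' hr' 0 (Nat.zero_le _), Nat.sub_zero, e1, e2]
  rcases Nat.lt_or_ge m k with hkm | hkm
  · rw [hsym f hd hr k hk, hsym f' hd' hr' k hk]
    exact hlow _ (by omega) (by omega)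
  · exact hlow k hk0 hkm

end Palin2

section Surj

variable {F : Type*} [Field F] [Fintype F] {m : ℕ}

/-- every monic self-reciprocal polynomial of degree `2m` over a finite field is the
characteristic polynomial of a symplectic matrix of order prime to the characteristic -/
theorem exists_sp_of_palindromic (p : ℕ) [Fact p.Prime] [CharP F p] (f : F[X]) (hf : f.Monic)
    (hd : f.natDegree = 2 * m) (hr : f.reverse = f) :
    ∃ g : Matrix.symplecticGroup (Fin m) F, (orderOf g).Coprime p ∧
      (g : Matrix (Fin m ⊕ Fin m) (Fin m ⊕ Fin m) F).charpoly = f := by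
  classical
  let Pal := {f : F[X] // f.Monic ∧ f.natDegree = 2 * m ∧ f.reverse = f}
  let Mon := { h : F[X] // h.Monic ∧ h.natDegree = m }
  have hcardfun : Nat.card (Fin m → F) = Fintype.card F ^ m := by
    rw [Nat.card_eq_fintype_card, Fintype.card_fun, Fintype.card_fin]
  have hinjPal : Function.Injective (fun f : Pal => fun i : Fin m => f.1.coeff (i + 1)) := by
    intro f f' hff
    apply Subtype.ext
    exact palin_eq_of_coeff_eq f.1 f'.1 f.2.1 f'.2.1 f.2.2.1 f'.2.2.1 f.2.2.2 f'.2.2.2
      (fun i => congrFun hff i)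
  haveI : Finite Pal := Finite.of_injective _ hinjPal
  have hPal : Nat.card Pal ≤ Fintype.card F ^ m := by
    rw [← hcardfun]
    exact Nat.card_le_card_of_injective _ hinjPal
  have hMon : Nat.card Mon = Fintype.card F ^ m := by
    rw [Nat.card_congr ((Polynomial.monicEquivDegreeLT m).trans
      (Polynomial.degreeLTEquiv F m).toEquiv), hcardfun]
  have key : ∀ h : Mon,
      ∃ g : ↥(Matrix.symplecticGroup (Fin m) F), ∃ C : Matrix (Fin m) (Fin m) F,
        C.charpoly = h.1 ∧ (orderOf g).Coprime p ∧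
        (g : Matrix (Fin m ⊕ Fin m) (Fin m ⊕ Fin m) F).charpoly = (blockU C).charpoly := by
    intro h
    obtain ⟨C, hC⟩ := exists_matrix_of_monic h.1 h.2.1 h.2.2
    obtain ⟨g, hg1, hg2⟩ := exists_sp_semisimple p C
    exact ⟨g, C, hC, hg1, hg2⟩
  choose gf Cf hC hcop hch using key
  have hdeg : ∀ g : ↥(Matrix.symplecticGroup (Fin m) F),
      (g : Matrix (Fin m ⊕ Fin m) (Fin m ⊕ Fin m) F).charpoly.natDegree = 2 * m := by
    intro g
    rw [Matrix.charpoly_natDegree_eq_dim, Fintype.card_sum, Fintype.card_fin]; ring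
  let Φ : Mon → Pal := fun h =>
    ⟨(gf h : Matrix (Fin m ⊕ Fin m) (Fin m ⊕ Fin m) F).charpoly,
      Matrix.charpoly_monic _, hdeg _, charpoly_reverse_of_sp _⟩
  have hΦ : Function.Injective Φ := by
    intro h h' hh
    have h2 : (gf h : Matrix (Fin m ⊕ Fin m) (Fin m ⊕ Fin m) F).charpoly =
        (gf h' : Matrix (Fin m ⊕ Fin m) (Fin m ⊕ Fin m) F).charpoly := congrArg Subtype.val hh
    rw [hch, hch] at h2
    have h3 := charpoly_block_injective _ _ h2
    rw [hC, hC] at h3
    exact Subtype.ext h3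
  have hbij : Function.Bijective Φ :=
    Function.Injective.bijective_of_nat_card_le hΦ (by rw [hMon]; exact hPal)
  obtain ⟨h, hh⟩ := hbij.2 ⟨f, hf, hd, hr⟩
  refine ⟨gf h, hcop h, ?_⟩
  exact congrArg Subtype.val hh

end Surj

end Cfsg.Agent.Lib.Helper49
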