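import Mathlib
import Cfsg.Agent.Lib.Helper49.PrimeOrderGL
import Cfsg.Agent.Lib.Helper49.SemisimpleCharpoly
import Cfsg.Agent.Lib.Helper49.SpPalin
import Cfsg.Agent.Lib.Helper49.SpSemiConj

set_option autoImplicit false

namespace Cfsg.Agent.Lib.Helper49

open Polynomial

section Model

variable {F : Type*} [Field F]

/-- transport of an operator on an `n`-dimensional space to a matrix, with kernel dimensions and
characteristic polynomial -/
theorem exists_matrix_of_operator'' {M : Type*} [AddCommGroup M] [Module F M]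
    [FiniteDimensional F M] (T : M →ₗ[F] M) (ι : Type*) [Fintype ι] [DecidableEq ι]
    (hn : Module.finrank F M = Fintype.card ι) :
    ∃ g : Matrix ι ι F, (∀ s : F[X], aeval T s = 0 → aeval g s = 0) ∧
      (∀ P : F[X], kdim (Matrix.toLin' g) P = kdim T P) ∧ g.charpoly = T.charpoly := by
  have hfr : Module.finrank F M = Module.finrank F (ι → F) := by
    rw [hn, Module.finrank_fintype_fun_eq_card]
  let e : M ≃ₗ[F] (ι → F) := LinearEquiv.ofFinrankEq _ _ hfr
  let ψ : (ι → F) →ₗ[F] (ι → F) := e.conj T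
  have he : ∀ v, e (T v) = ψ (e v) := by
    intro v
    change e (T v) = e (T (e.symm (e v)))
    rw [LinearEquiv.symm_apply_apply]
  refine ⟨LinearMap.toMatrix' ψ, ?_, ?_, ?_⟩
  · intro s hs
    have h1 : aeval ψ s = 0 := by
      apply LinearMap.ext
      intro w
      have := aeval_intertwine T ψ (e : M →ₗ[F] (ι → F)) he s (e.symm w)
      rw [LinearEquiv.coe_coe, LinearEquiv.apply_symm_apply, hs, LinearMap.zero_apply, map_zero] at this
      rw [← this]; rfl
    have h2 : LinearMap.toMatrix' ψ = LinearMap.toMatrixAlgEquiv' ψ := rfl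
    rw [h2, aeval_algHom_apply, h1, map_zero]
  · intro P
    rw [Matrix.toLin'_toMatrix']
    exact (kdim_conj T ψ e he P).symm
  · rw [← LinearMap.toMatrix_eq_toMatrix', LinearMap.charpoly_toMatrix]
    exact LinearEquiv.charpoly_conj e T

theorem FactorData.exists_model [Finite F] {r i : ℕ} {PP : Finset F[X]} (D : FactorData F r i PP)
    (hmon : ∀ P ∈ PP, P.Monic) (κ : Type*) [Fintype κ] [DecidableEq κ]
    (n : ℕ) (hκ : Fintype.card κ = n) (a : PP → ℕ) (ha : i * ∑ P, a P ≤ n) :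
    ∃ G : Matrix κ κ F, G ^ r = 1 ∧
      (∀ P : PP, kdim (Matrix.toLin' G) (P : F[X]) = i * a P) ∧
      G.charpoly = (X - 1) ^ (n - i * ∑ P, a P) * ∏ P : PP, (P : F[X]) ^ a P := by
  classical
  set m₀ := n - i * ∑ P, a P with hm₀
  let ι := Fin m₀ ⊕ (Σ P : PP, Fin (a P))
  let Q₀ : ι → F[X] := Sum.elim (fun _ => (X - 1 : F[X])) (fun x => (x.1 : F[X]))
  let eι : ι ≃ Fin (Fintype.card ι) := Fintype.equivFin ι
  let Q : Fin (Fintype.card ι) → F[X] := fun j => Q₀ (eι.symm j)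
  have hQ₀ : ∀ j, Irreducible (Q₀ j) := by
    rintro (j | ⟨P, k⟩)
    · exact irreducible_X_sub_one
    · exact D.irr P P.2
  have hQ : ∀ j, Irreducible (Q j) := fun j => hQ₀ _
  have hQ₀m : ∀ j, (Q₀ j).Monic := by
    rintro (j | ⟨P, k⟩)
    · have : (X - 1 : F[X]) = X - C 1 := by rw [C_1]
      show (X - 1 : F[X]).Monic
      rw [this]; exact monic_X_sub_C 1
    · exact hmon P P.2
  have hQm : ∀ j, (Q j).Monic := fun j => hQ₀m _
  have hdeg1 : (X - 1 : F[X]).natDegree = 1 := by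
    have : (X - 1 : F[X]) = X - C 1 := by rw [C_1]
    rw [this, natDegree_X_sub_C]
  have hsumeq : ∀ f : F[X] → ℕ, ∑ j, f (Q j) = ∑ x, f (Q₀ x) := by
    intro f
    exact Fintype.sum_equiv eι.symm _ _ (fun j => rfl)
  have hsum : ∑ j, (Q j).natDegree = n := by
    rw [hsumeq (fun P => P.natDegree), Fintype.sum_sum_type, Fintype.sum_sigma]
    simp only [Q₀, Sum.elim_inl, Sum.elim_inr, hdeg1, Finset.sum_const, Finset.card_univ,
      Fintype.card_fin, smul_eq_mul, mul_one]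
    have : ∀ P : PP, a P * (P : F[X]).natDegree = a P * i := fun P => by rw [D.deg P P.2]
    rw [Finset.sum_congr rfl (fun P _ => this P), ← Finset.sum_mul]
    rw [hm₀, mul_comm (∑ P, a P) i]
    omega
  haveI := finiteDimensional_model Q hQ
  haveI : ∀ j, Module.Finite F (AdjoinRoot (Q j)) := fun j => (hQm j).finite_adjoinRoot
  obtain ⟨G, hG1, hG2, hG3⟩ :=
    exists_matrix_of_operator'' (modelOp Q) κ (by rw [finrank_model Q hQ, hsum, hκ])
  have hGr : aeval G (X ^ r - 1 : F[X]) = 0 := by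
    apply hG1
    apply aeval_modelOp_eq_zero
    intro j
    show Q₀ (eι.symm j) ∣ _
    rcases eι.symm j with (j | ⟨P, k⟩)
    · rw [← D.prod]; exact dvd_mul_right _ _
    · rw [← D.prod]
      exact dvd_mul_of_dvd_right (Finset.dvd_prod_of_mem _ P.2) _
  have hGr' : G ^ r = 1 := by
    rw [map_sub, map_pow, aeval_X, map_one] at hGr
    exact sub_eq_zero.mp hGr
  refine ⟨G, hGr', ?_, ?_⟩
  · intro P₀
    rw [hG2, kdim_modelOp Q hQ]
    have := hsumeq (fun P => if P ∣ (P₀ : F[X]) then P.natDegree else 0)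
    rw [this, Fintype.sum_sum_type, Fintype.sum_sigma]
    have h1 : ∀ j : Fin m₀, (if Q₀ (Sum.inl j) ∣ (P₀ : F[X]) then (Q₀ (Sum.inl j)).natDegree else 0) = 0 := by
      intro j
      rw [if_neg]
      exact D.X_sub_one_not_dvd P₀.2
    have h2 : ∀ (P : PP) (k : Fin (a P)),
        (if Q₀ (Sum.inr ⟨P, k⟩) ∣ (P₀ : F[X]) then (Q₀ (Sum.inr ⟨P, k⟩)).natDegree else 0) =
          if P = P₀ then i else 0 := by
      intro P k
      by_cases hPP : P = P₀
      · subst hPP
        rw [if_pos rfl, if_pos (show Q₀ (Sum.inr ⟨P, k⟩) ∣ (P : F[X]) from dvd_rfl)]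
        exact D.deg P P.2
      · rw [if_neg hPP, if_neg]
        exact D.not_dvd_of_ne P.2 P₀.2 (fun h => hPP (Subtype.ext h))
    rw [Finset.sum_congr rfl (fun j _ => h1 j), Finset.sum_const_zero, zero_add]
    rw [Finset.sum_congr rfl (fun P _ => Finset.sum_congr rfl (fun k _ => h2 P k))]
    simp only [Finset.sum_const, Finset.card_univ, Fintype.card_fin, smul_eq_mul]
    rw [Finset.sum_eq_single P₀]
    · rw [if_pos rfl, mul_comm]
    · intro P _ hP
      rw [if_neg hP, mul_zero]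
    · intro h
      exact absurd (Finset.mem_univ _) h
  · rw [hG3, charpoly_modelOp Q hQ hQm]
    have h1 : ∏ j, Q j = ∏ x, Q₀ x := Fintype.prod_equiv eι.symm _ _ (fun j => rfl)
    rw [h1, Fintype.prod_sum_type, Fintype.prod_sigma]
    simp only [Q₀, Sum.elim_inl, Sum.elim_inr, Finset.prod_const, Finset.card_univ,
      Fintype.card_fin]

end Model

section SpSide

variable {F : Type*} [Field F]

theorem aeval_toLin'_of_pow_eq_one {ι : Type*} [Fintype ι] [DecidableEq ι] (A : Matrix ι ι F)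
    (r : ℕ) (h : A ^ r = 1) : aeval (Matrix.toLin' A) (X ^ r - 1 : F[X]) = 0 := by
  rw [map_sub, map_pow, aeval_X, map_one, ← Matrix.toLin'_pow, h, Matrix.toLin'_one]
  exact sub_self _

theorem sp_coe_pow_eq_one {m : ℕ} (g : Matrix.symplecticGroup (Fin m) F) (r : ℕ) (h : g ^ r = 1) :
    (g : Matrix (Fin m ⊕ Fin m) (Fin m ⊕ Fin m) F) ^ r = 1 := by
  have h1 := congrArg (fun y : ↥(Matrix.symplecticGroup (Fin m) F) =>
    (y : Matrix (Fin m ⊕ Fin m) (Fin m ⊕ Fin m) F)) h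
  simpa only [SubmonoidClass.coe_pow, OneMemClass.coe_one] using h1

/-- symplectic elements of order dividing `r` with the same kernel dimensions are conjugate in the
symplectic group -/
theorem FactorData.sp_isConj [Finite F] {r i : ℕ} {PP : Finset F[X]} (D : FactorData F r i PP)
    (hrF : (r : F) ≠ 0) {m : ℕ} (g g' : Matrix.symplecticGroup (Fin m) F)
    (hg : g ^ r = 1) (hg' : g' ^ r = 1)
    (hk : ∀ P ∈ PP, kdim (Matrix.toLin' (g : Matrix (Fin m ⊕ Fin m) (Fin m ⊕ Fin m) F)) P =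
      kdim (Matrix.toLin' (g' : Matrix (Fin m ⊕ Fin m) (Fin m ⊕ Fin m) F)) P) : IsConj g g' := by
  classical
  obtain ⟨e, he⟩ := D.exists_equiv _ _
    (aeval_toLin'_of_pow_eq_one _ r (sp_coe_pow_eq_one g r hg))
    (aeval_toLin'_of_pow_eq_one _ r (sp_coe_pow_eq_one g' r hg')) rfl hk
  set x : Matrix (Fin m ⊕ Fin m) (Fin m ⊕ Fin m) F :=
    LinearMap.toMatrix' (e : (Fin m ⊕ Fin m → F) →ₗ[F] (Fin m ⊕ Fin m → F)) with hx
  have h1 : x * LinearMap.toMatrix' (e.symm : (Fin m ⊕ Fin m → F) →ₗ[F] (Fin m ⊕ Fin m → F)) = 1 := by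
    rw [hx, ← LinearMap.toMatrix'_comp, ← LinearMap.toMatrix'_id]
    congr 1
    apply LinearMap.ext
    intro v
    simp
  have hxu : IsUnit x.det := by
    rw [← Matrix.isUnit_iff_isUnit_det]
    exact IsUnit.of_mul_eq_one _ h1
  apply sp_conj_of_matrix_conj g g' r hrF hg x hxu
  conv_lhs => rw [← LinearMap.toMatrix'_toLin' (g : Matrix (Fin m ⊕ Fin m) (Fin m ⊕ Fin m) F)]
  conv_rhs => rw [← LinearMap.toMatrix'_toLin' (g' : Matrix (Fin m ⊕ Fin m) (Fin m ⊕ Fin m) F)]
  rw [hx, ← LinearMap.toMatrix'_comp, ← LinearMap.toMatrix'_comp]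
  congr 1
  apply LinearMap.ext
  intro v
  exact he v

/-- a symplectic matrix of order prime to `p` with the characteristic polynomial of a matrix `G`
with `G ^ r = 1` has order dividing `r` and the same kernel dimensions as `G` -/
theorem sp_transfer [Fintype F] (p : ℕ) [Fact p.Prime] [CharP F p] {m r : ℕ} (hrF : (r : F) ≠ 0)
    (g : Matrix.symplecticGroup (Fin m) F) (hg : (orderOf g).Coprime p)
    (G : Matrix (Fin m ⊕ Fin m) (Fin m ⊕ Fin m) F) (hG : G ^ r = 1)
    (hc : (g : Matrix (Fin m ⊕ Fin m) (Fin m ⊕ Fin m) F).charpoly = G.charpoly) :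
    g ^ r = 1 ∧ ∀ P : F[X],
      kdim (Matrix.toLin' (g : Matrix (Fin m ⊕ Fin m) (Fin m ⊕ Fin m) F)) P =
        kdim (Matrix.toLin' G) P := by
  classical
  have hp : p.Prime := Fact.out
  set K := orderOf g with hK
  have hKF : ((K : ℕ) : F) ≠ 0 := by
    rw [Ne, CharP.cast_eq_zero_iff F p]
    intro hdvd
    have := Nat.Coprime.eq_one_of_dvd hg.symm hdvd
    exact hp.one_lt.ne' this
  have hKrF : ((K * r : ℕ) : F) ≠ 0 := by
    rw [Nat.cast_mul]
    exact mul_ne_zero hKF hrF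
  have hs : Squarefree (X ^ (K * r) - C (1 : F)) :=
    (separable_X_pow_sub_C (1 : F) hKrF one_ne_zero).squarefree
  have hgK : (g : Matrix (Fin m ⊕ Fin m) (Fin m ⊕ Fin m) F) ^ (K * r) = 1 := by
    rw [pow_mul, sp_coe_pow_eq_one g K (pow_orderOf_eq_one g), one_pow]
  have hGK : G ^ (K * r) = 1 := by
    rw [mul_comm, pow_mul, hG, one_pow]
  have hφ : aeval (Matrix.toLin' (g : Matrix (Fin m ⊕ Fin m) (Fin m ⊕ Fin m) F))
      (X ^ (K * r) - C (1 : F)) = 0 := by
    rw [C_1]; exact aeval_toLin'_of_pow_eq_one _ _ hgK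
  have hψ : aeval (Matrix.toLin' G) (X ^ (K * r) - C (1 : F)) = 0 := by
    rw [C_1]; exact aeval_toLin'_of_pow_eq_one _ _ hGK
  obtain ⟨e, he⟩ := exists_equiv_of_charpoly_eq _ _ _ hs hφ hψ
    (by rw [Matrix.charpoly_toLin', Matrix.charpoly_toLin', hc])
  refine ⟨?_, fun P => kdim_conj _ _ e he P⟩
  have hpow : ∀ k : ℕ, ∀ v, e ((Matrix.toLin' (g : Matrix (Fin m ⊕ Fin m) (Fin m ⊕ Fin m) F) ^ k) v) =
      (Matrix.toLin' G ^ k) (e v) := by
    intro k
    induction k with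
    | zero => intro v; simp
    | succ k ih =>
      intro v
      rw [pow_succ', pow_succ', Module.End.mul_apply, Module.End.mul_apply, he, ih]
  have h1 : Matrix.toLin' (g : Matrix (Fin m ⊕ Fin m) (Fin m ⊕ Fin m) F) ^ r = 1 := by
    apply LinearMap.ext
    intro v
    apply e.injective
    rw [hpow, ← Matrix.toLin'_pow, hG, Matrix.toLin'_one]
    rfl
  have h1' : Matrix.toLin' ((g : Matrix (Fin m ⊕ Fin m) (Fin m ⊕ Fin m) F) ^ r) =
      Matrix.toLin' (1 : Matrix (Fin m ⊕ Fin m) (Fin m ⊕ Fin m) F) := by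
    rw [Matrix.toLin'_pow, h1, Matrix.toLin'_one]; rfl
  have h2 := Matrix.toLin'.injective h1'
  apply Subtype.ext
  rw [SubmonoidClass.coe_pow, h2]
  rfl

/-- realisation of a profile of kernel dimensions inside the symplectic group, provided the
expected characteristic polynomial is self-reciprocal -/
theorem FactorData.exists_sp_realize [Fintype F] (p : ℕ) [Fact p.Prime] [CharP F p]
    {r i : ℕ} {PP : Finset F[X]} (D : FactorData F r i PP) (hmon : ∀ P ∈ PP, P.Monic)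
    (hrF : (r : F) ≠ 0) (m : ℕ) (a : PP → ℕ) (ha : i * ∑ P, a P ≤ 2 * m)
    (hpal : ((X - 1 : F[X]) ^ (2 * m - i * ∑ P, a P) * ∏ P : PP, (P : F[X]) ^ a P).reverse =
      (X - 1 : F[X]) ^ (2 * m - i * ∑ P, a P) * ∏ P : PP, (P : F[X]) ^ a P) :
    ∃ g : Matrix.symplecticGroup (Fin m) F, g ^ r = 1 ∧
      ∀ P : PP, kdim (Matrix.toLin' (g : Matrix (Fin m ⊕ Fin m) (Fin m ⊕ Fin m) F)) (P : F[X]) =
        i * a P := by
  classical
  have hcard : Fintype.card (Fin m ⊕ Fin m) = 2 * m := by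
    rw [Fintype.card_sum, Fintype.card_fin]; ring
  obtain ⟨G, hG1, hG2, hG3⟩ := D.exists_model hmon (Fin m ⊕ Fin m) (2 * m) hcard a ha
  have hf : ((X - 1 : F[X]) ^ (2 * m - i * ∑ P, a P) * ∏ P : PP, (P : F[X]) ^ a P).Monic := by
    rw [← hG3]; exact Matrix.charpoly_monic G
  have hd : ((X - 1 : F[X]) ^ (2 * m - i * ∑ P, a P) * ∏ P : PP, (P : F[X]) ^ a P).natDegree =
      2 * m := by
    rw [← hG3, Matrix.charpoly_natDegree_eq_dim, hcard]
  obtain ⟨g, hg1, hg2⟩ := exists_sp_of_palindromic p _ hf hd hpal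
  obtain ⟨h1, h2⟩ := sp_transfer p hrF g hg1 G hG1 (by rw [hg2, hG3])
  exact ⟨g, h1, fun P => by rw [h2, hG2]⟩

end SpSide

end Cfsg.Agent.Lib.Helper49
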