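import Mathlib
import Cfsg.Agent.Lib.Helper49.PrimeOrderGL

set_option autoImplicit false

namespace Cfsg.Agent.Lib.Helper49

open Polynomial

section Star

variable {F : Type*} [Field F]

/-- the minimal polynomial of the inverse of the root of `P` in `F[X]/(P)` -/
noncomputable def starP (P : F[X]) [Fact (Irreducible P)] : F[X] :=
  minpoly F (AdjoinRoot.root P)⁻¹

variable (P : F[X]) [hPi : Fact (Irreducible P)]

theorem finite_adjoinRoot_of_irreducible : Module.Finite F (AdjoinRoot P) :=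
  (AdjoinRoot.powerBasis hPi.out.ne_zero).finite

theorem isIntegral_adjoinRoot (x : AdjoinRoot P) : IsIntegral F x := by
  haveI := finite_adjoinRoot_of_irreducible P
  exact Algebra.IsIntegral.isIntegral x

theorem starP_monic : (starP P).Monic :=
  minpoly.monic (isIntegral_adjoinRoot P _)

theorem starP_irreducible : Irreducible (starP P) :=
  minpoly.irreducible (isIntegral_adjoinRoot P _)

theorem aeval_root_inv_starP : aeval (AdjoinRoot.root P)⁻¹ (starP P) = 0 :=
  minpoly.aeval F _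

variable {P}

theorem root_pow_eq_one {r : ℕ} (h : P ∣ (X ^ r - 1 : F[X])) : (AdjoinRoot.root P) ^ r = 1 := by
  have h1 : AdjoinRoot.mk P (X ^ r - 1) = 0 := AdjoinRoot.mk_eq_zero.mpr h
  rw [map_sub, map_pow, AdjoinRoot.mk_X, map_one] at h1
  exact sub_eq_zero.mp h1

theorem root_ne_one (h : ¬ (P ∣ (X - 1 : F[X]))) : AdjoinRoot.root P ≠ 1 := by
  intro h1
  apply h
  rw [← AdjoinRoot.mk_eq_zero, map_sub, AdjoinRoot.mk_X, map_one, h1, sub_self]

theorem root_ne_zero' {r : ℕ} (hr : 0 < r) (h : P ∣ (X ^ r - 1 : F[X])) : AdjoinRoot.root P ≠ 0 := by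
  intro h0
  have := root_pow_eq_one h
  rw [h0, zero_pow hr.ne'] at this
  exact zero_ne_one this

theorem root_inv_eq_pow {r : ℕ} (hr : 0 < r) (h : P ∣ (X ^ r - 1 : F[X])) :
    (AdjoinRoot.root P)⁻¹ = (AdjoinRoot.root P) ^ (r - 1) := by
  have h0 := root_ne_zero' hr h
  have h1 := root_pow_eq_one h
  apply inv_eq_of_mul_eq_one_right
  rw [← pow_succ', Nat.sub_add_cancel hr, h1]

theorem starP_dvd {r : ℕ} (h : P ∣ (X ^ r - 1 : F[X])) : starP P ∣ (X ^ r - 1 : F[X]) := by
  apply minpoly.dvd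
  rw [map_sub, map_pow, aeval_X, map_one, inv_pow, root_pow_eq_one h, inv_one, sub_self]

theorem starP_not_dvd_X_sub_one (h : ¬ (P ∣ (X - 1 : F[X]))) : ¬ (starP P ∣ (X - 1 : F[X])) := by
  intro hd
  have h1 : aeval (AdjoinRoot.root P)⁻¹ (X - 1 : F[X]) = 0 := by
    obtain ⟨Q, hQ⟩ := hd
    rw [hQ, map_mul, aeval_root_inv_starP, zero_mul]
  rw [map_sub, aeval_X, map_one, sub_eq_zero, inv_eq_one] at h1
  exact root_ne_one h h1

/-- `P` divides `P*(X^(r-1))` -/
theorem dvd_starP_comp {r : ℕ} (hr : 0 < r) (h : P ∣ (X ^ r - 1 : F[X])) :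
    P ∣ (starP P).comp (X ^ (r - 1)) := by
  rw [← AdjoinRoot.mk_eq_zero, ← AdjoinRoot.aeval_eq, aeval_comp, map_pow, aeval_X,
    ← root_inv_eq_pow hr h]
  exact aeval_root_inv_starP P

/-- the star operation is an involution on monic irreducible polynomials -/
theorem starP_starP (hm : P.Monic) [Fact (Irreducible (starP P))] : starP (starP P) = P := by
  have h0 : eval₂ (↑(Algebra.ofId F (AdjoinRoot P)) : F →+* AdjoinRoot P)
      (AdjoinRoot.root P)⁻¹ (starP P) = 0 := aeval_root_inv_starP P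
  let f : AdjoinRoot (starP P) →ₐ[F] AdjoinRoot P :=
    AdjoinRoot.liftAlgHom (starP P) (Algebra.ofId F (AdjoinRoot P)) (AdjoinRoot.root P)⁻¹ h0
  have hf : f (AdjoinRoot.root (starP P)) = (AdjoinRoot.root P)⁻¹ :=
    AdjoinRoot.liftAlgHom_root _ _ _ _
  have hinj : Function.Injective f := (f : AdjoinRoot (starP P) →+* AdjoinRoot P).injective
  have h1 := minpoly.algHom_eq f hinj (AdjoinRoot.root (starP P))⁻¹
  rw [map_inv₀, hf, inv_inv, AdjoinRoot.minpoly_root hPi.out.ne_zero, hm.leadingCoeff, inv_one,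
    C_1, mul_one] at h1
  exact h1.symm

theorem pow_pred_pow_pred' {M : Type*} [Monoid M] (x : M) {r : ℕ} (hr : 2 ≤ r) (h : x ^ r = 1) :
    (x ^ (r - 1)) ^ (r - 1) = x := by
  obtain ⟨k, rfl⟩ : ∃ k, r = k + 2 := ⟨r - 2, by omega⟩
  rw [← pow_mul]
  have : (k + 2 - 1) * (k + 2 - 1) = (k + 2) * k + 1 := by
    have : k + 2 - 1 = k + 1 := by omega
    rw [this]; ring
  rw [this, pow_succ, pow_mul, h, one_pow, one_mul]

/-- kernel dimensions of the inverse of an operator of order dividing `r` -/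
theorem kdim_pow_pred_eq {V : Type*} [AddCommGroup V] [Module F V] (φ : V →ₗ[F] V) {r : ℕ}
    (hr : 2 ≤ r) (hφ : φ ^ r = 1) (hm : P.Monic) (h : P ∣ (X ^ r - 1 : F[X])) :
    kdim (φ ^ (r - 1)) P = kdim φ (starP P) := by
  haveI : Fact (Irreducible (starP P)) := ⟨starP_irreducible P⟩
  have hr0 : 0 < r := by omega
  have h1 := dvd_starP_comp hr0 h
  have h2 := dvd_starP_comp hr0 (starP_dvd h)
  rw [starP_starP hm] at h2
  have hker : LinearMap.ker (aeval (φ ^ (r - 1)) P) = LinearMap.ker (aeval φ (starP P)) := by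
    apply le_antisymm
    · have := ker_aeval_le_of_dvd (φ ^ (r - 1)) h1
      rwa [aeval_comp, map_pow, aeval_X, pow_pred_pow_pred' φ hr hφ] at this
    · have := ker_aeval_le_of_dvd φ h2
      rwa [aeval_comp, map_pow, aeval_X] at this
  unfold kdim
  rw [hker]

/-- the reverse of `P` is a constant multiple of `starP P` -/
theorem reverse_eq_C_mul_starP (hm : P.Monic) (hdeg : (starP P).natDegree = P.natDegree) {r : ℕ}
    (hr : 0 < r) (h : P ∣ (X ^ r - 1 : F[X])) :
    P.reverse = C (P.coeff 0) * starP P ∧ P.coeff 0 * (starP P).coeff 0 = 1 := by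
  have hα0 := root_ne_zero' hr h
  letI : Invertible (AdjoinRoot.root P) := invertibleOfNonzero hα0
  have h1 : aeval (AdjoinRoot.root P)⁻¹ P.reverse = 0 := by
    have := (eval₂_reverse_eq_zero_iff (algebraMap F (AdjoinRoot P)) (AdjoinRoot.root P) P).mpr
      (by rw [← aeval_def, AdjoinRoot.aeval_eq, AdjoinRoot.mk_self])
    rw [invOf_eq_inv] at this
    exact this
  obtain ⟨Q, hQ⟩ : starP P ∣ P.reverse := minpoly.dvd F _ h1
  have hrev0 : P.reverse ≠ 0 := by
    rw [Ne, reverse_eq_zero]; exact hm.ne_zero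
  have hQ0 : Q ≠ 0 := by
    rintro rfl
    rw [mul_zero] at hQ
    exact hrev0 hQ
  have hdQ : Q.natDegree = 0 := by
    have h2 := reverse_natDegree_le P
    rw [hQ, natDegree_mul (starP_monic P).ne_zero hQ0, hdeg] at h2
    omega
  obtain ⟨c, hc⟩ : ∃ c, Q = C c := ⟨Q.coeff 0, eq_C_of_natDegree_eq_zero hdQ⟩
  rw [hc] at hQ
  have hci : c = P.coeff 0 := by
    have h2 := congrArg (fun f : F[X] => f.coeff P.natDegree) hQ
    simp only [coeff_mul_C] at h2
    rw [coeff_reverse, revAt_le le_rfl, Nat.sub_self, ← hdeg, (starP_monic P).coeff_natDegree,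
      one_mul] at h2
    exact h2.symm
  have hc0 : P.coeff 0 * (starP P).coeff 0 = 1 := by
    have h2 := congrArg (fun f : F[X] => f.coeff 0) hQ
    simp only [coeff_mul_C] at h2
    rw [coeff_zero_reverse, hm.leadingCoeff, hci] at h2
    rw [mul_comm]; exact h2.symm
  refine ⟨?_, hc0⟩
  rw [hQ, hci, mul_comm]

/-- a monic irreducible factor of `X^r - 1` equal to its own star is self-reciprocal -/
theorem reverse_eq_self_of_starP_eq (hm : P.Monic) (hstar : starP P = P) {r : ℕ}
    (hr : 0 < r) (h : P ∣ (X ^ r - 1 : F[X])) (h1 : ¬ ((X - 1 : F[X]) ∣ P)) : P.reverse = P := by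
  obtain ⟨e1, e2⟩ := reverse_eq_C_mul_starP hm (by rw [hstar]) hr h
  rw [hstar] at e1 e2
  rcases mul_self_eq_one_iff.mp e2 with hc | hc
  · rw [e1, hc, C_1, one_mul]
  · by_cases h11 : (-1 : F) = 1
    · rw [e1, hc, h11, C_1, one_mul]
    · exfalso
      apply h1
      have h2 : P.reverse.eval 1 = P.eval 1 := by
        letI : Invertible (1 : F) := invertibleOne
        have := eval₂_reverse_mul_pow (RingHom.id F) (1 : F) P
        rw [invOf_one, one_pow, mul_one] at this
        exact this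
      rw [e1, hc, eval_mul, eval_C, neg_one_mul] at h2
      have h3 : (2 : F) * P.eval 1 = 0 := by linear_combination -h2
      have h4 : (2 : F) ≠ 0 := by
        intro h20
        apply h11
        linear_combination -h20
      have h5 : P.eval 1 = 0 := by
        rcases mul_eq_zero.mp h3 with h | h
        · exact absurd h h4
        · exact h
      have h6 : (X - C (1 : F)) ∣ P := dvd_iff_isRoot.mpr h5
      rwa [C_1] at h6

/-- `P * starP P` is self-reciprocal -/
theorem reverse_mul_starP (hm : P.Monic) (hdeg : (starP P).natDegree = P.natDegree) {r : ℕ}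
    (hr : 0 < r) (h : P ∣ (X ^ r - 1 : F[X])) : (P * starP P).reverse = P * starP P := by
  haveI : Fact (Irreducible (starP P)) := ⟨starP_irreducible P⟩
  obtain ⟨e1, e2⟩ := reverse_eq_C_mul_starP hm hdeg hr h
  obtain ⟨e3, -⟩ := reverse_eq_C_mul_starP (starP_monic P)
    (by rw [starP_starP hm, hdeg]) hr (starP_dvd h)
  rw [starP_starP hm] at e3
  rw [reverse_mul_of_domain, e1, e3]
  calc C (P.coeff 0) * starP P * (C ((starP P).coeff 0) * P)
      = C (P.coeff 0 * (starP P).coeff 0) * (P * starP P) := by rw [C_mul]; ring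
    _ = P * starP P := by rw [e2, C_1, one_mul]

end Star

section FiniteStar

variable {F : Type*} [Field F] [Fintype F]

theorem aeval_pow_card_pow {A : Type*} [CommRing A] [Algebra F A] (P : F[X]) (x : A) (k : ℕ) :
    aeval (x ^ (Fintype.card F ^ k)) P = (aeval x P) ^ (Fintype.card F ^ k) := by
  induction k generalizing x with
  | zero => simp
  | succ k ih =>
    rw [pow_succ, pow_mul, pow_mul, ← ih, ← expand_aeval, FiniteField.expand_card, map_pow]

variable {P : F[X]} [hPi : Fact (Irreducible P)]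

/-- if the order of `q` modulo `r` is even then the factors of `X^r - 1` are self-dual -/
theorem starP_eq_self_of_even (hm : P.Monic) {r i : ℕ} [Fact r.Prime]
    (hi : i = orderOf ((Fintype.card F : ℕ) : ZMod r)) (hi0 : 0 < i) (hev : Even i)
    (h : P ∣ (X ^ r - 1 : F[X])) : starP P = P := by
  have hr : r.Prime := Fact.out
  obtain ⟨j, hj⟩ := hev
  have hj0 : 0 < j := by omega
  set y : ZMod r := ((Fintype.card F : ℕ) : ZMod r) ^ j with hy
  have hy2 : y * y = 1 := by
    rw [hy, ← pow_add, ← hj, hi]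
    exact pow_orderOf_eq_one _
  have hy1 : y ≠ 1 := by
    rw [hy]
    apply pow_ne_one_of_lt_orderOf hj0.ne'
    rw [← hi]; omega
  have hyn : y = -1 := by
    rcases mul_self_eq_one_iff.mp hy2 with h1 | h1
    · exact absurd h1 hy1
    · exact h1
  have hdvd : r ∣ Fintype.card F ^ j + 1 := by
    rw [← ZMod.natCast_eq_zero_iff, Nat.cast_add, Nat.cast_pow, Nat.cast_one, ← hy, hyn]
    ring
  have hα := root_pow_eq_one h
  have hα0 := root_ne_zero' hr.pos h
  have h1 : (AdjoinRoot.root P) ^ (Fintype.card F ^ j + 1) = 1 := by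
    obtain ⟨c, hc⟩ := hdvd
    rw [hc, pow_mul, hα, one_pow]
  have h2 : (AdjoinRoot.root P)⁻¹ = (AdjoinRoot.root P) ^ (Fintype.card F ^ j) := by
    apply inv_eq_of_mul_eq_one_right
    rw [← pow_succ']
    exact h1
  have h3 : aeval (AdjoinRoot.root P)⁻¹ P = 0 := by
    rw [h2, aeval_pow_card_pow, AdjoinRoot.aeval_eq, AdjoinRoot.mk_self, zero_pow]
    exact (pow_pos Fintype.card_pos j).ne'
  have h4 : starP P ∣ P := minpoly.dvd F _ h3
  have h5 : Associated (starP P) P := (starP_irreducible P).associated_of_dvd hPi.out h4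
  exact eq_of_monic_of_associated (starP_monic P) hm h5

/-- an irreducible factor of odd degree of `X^r - 1`, `r` odd, is not self-dual -/
theorem starP_ne_self_of_odd {r : ℕ} (hr0 : 0 < r) (hr : Odd r)
    (hodd : Odd P.natDegree) (h : P ∣ (X ^ r - 1 : F[X])) (h1 : ¬ (P ∣ (X - 1 : F[X]))) :
    starP P ≠ P := by
  intro hstar
  haveI := finite_adjoinRoot_of_irreducible P
  haveI : Finite (AdjoinRoot P) := Module.finite_of_finite F
  have hα := root_pow_eq_one h
  have hα0 := root_ne_zero' hr0 h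
  have hα1 := root_ne_one h1
  have h0 : eval₂ (↑(Algebra.ofId F (AdjoinRoot P)) : F →+* AdjoinRoot P)
      (AdjoinRoot.root P)⁻¹ P = 0 := by
    have := aeval_root_inv_starP P
    rw [hstar] at this
    exact this
  let σ : AdjoinRoot P →ₐ[F] AdjoinRoot P :=
    AdjoinRoot.liftAlgHom P (Algebra.ofId F (AdjoinRoot P)) (AdjoinRoot.root P)⁻¹ h0
  have hσ : σ (AdjoinRoot.root P) = (AdjoinRoot.root P)⁻¹ := AdjoinRoot.liftAlgHom_root _ _ _ _
  have hσσ : σ.comp σ = AlgHom.id F (AdjoinRoot P) := by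
    apply AdjoinRoot.algHom_ext
    rw [AlgHom.comp_apply, hσ, map_inv₀, hσ, inv_inv]
    rfl
  let τ : AdjoinRoot P ≃ₐ[F] AdjoinRoot P := AlgEquiv.ofAlgHom σ σ hσσ hσσ
  have hτ2 : τ ^ 2 = 1 := by
    apply AlgEquiv.ext
    intro x
    have := congrArg (fun f : AdjoinRoot P →ₐ[F] AdjoinRoot P => f x) hσσ
    rw [pow_two]
    exact this
  have hτ1 : τ ≠ 1 := by
    intro h1'
    have h2 : τ (AdjoinRoot.root P) = AdjoinRoot.root P := by rw [h1']; rfl
    have h3 : (AdjoinRoot.root P)⁻¹ = AdjoinRoot.root P := hσ.symm.trans h2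
    have h4 : (AdjoinRoot.root P) ^ 2 = 1 := by
      rw [pow_two]
      nth_rewrite 1 [← h3]
      exact inv_mul_cancel₀ hα0
    obtain ⟨k, hk⟩ := hr
    have h5 : (AdjoinRoot.root P) ^ r = AdjoinRoot.root P := by
      rw [hk, pow_succ, pow_mul, h4, one_pow, one_mul]
    rw [hα] at h5
    exact hα1 h5.symm
  have hord : orderOf τ = 2 := orderOf_eq_prime hτ2 hτ1
  have hdvd : 2 ∣ Nat.card (AdjoinRoot P ≃ₐ[F] AdjoinRoot P) := by
    rw [← hord]; exact orderOf_dvd_natCard τ
  rw [IsGalois.card_aut_eq_finrank, (AdjoinRoot.powerBasis hPi.out.ne_zero).finrank,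
    AdjoinRoot.powerBasis_dim] at hdvd
  exact (Nat.not_even_iff_odd.mpr hodd) (even_iff_two_dvd.mpr hdvd)

end FiniteStar

end Cfsg.Agent.Lib.Helper49
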