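import Mathlib

set_option autoImplicit false

namespace Cfsg.Agent.Lib.Helper49

section Transversal

variable {α : Type*} [Fintype α]

/-- an injective numbering of a finite type -/
noncomputable def enc (x : α) : ℕ := (Fintype.equivFin α x : ℕ)

theorem enc_injective : Function.Injective (enc : α → ℕ) := by
  intro x y h
  exact (Fintype.equivFin α).injective (Fin.ext h)

variable (σ : α → α)

/-- a transversal for a fixed-point-free involution -/
abbrev Transv : Type _ := {x : α // enc x < enc (σ x)}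

variable {σ}

theorem transv_other (hσ : ∀ x, σ (σ x) = x) (hne : ∀ x, σ x ≠ x) (x : α)
    (h : ¬ enc x < enc (σ x)) : enc (σ x) < enc (σ (σ x)) := by
  rw [hσ]
  have h1 : enc (σ x) ≠ enc x := fun h2 => hne x (enc_injective h2)
  omega

/-- inverse of the covering map -/
noncomputable def transvInv (hσ : ∀ x, σ (σ x) = x) (hne : ∀ x, σ x ≠ x) (x : α) :
    Transv σ ⊕ Transv σ :=
  if h : enc x < enc (σ x) then Sum.inl ⟨x, h⟩ else Sum.inr ⟨σ x, transv_other hσ hne x h⟩

theorem transvInv_pos (hσ : ∀ x, σ (σ x) = x) (hne : ∀ x, σ x ≠ x) (x : α)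
    (h : enc x < enc (σ x)) : transvInv hσ hne x = Sum.inl ⟨x, h⟩ := by
  unfold transvInv
  rw [dif_pos h]

theorem transvInv_neg (hσ : ∀ x, σ (σ x) = x) (hne : ∀ x, σ x ≠ x) (x : α)
    (h : ¬ enc x < enc (σ x)) :
    transvInv hσ hne x = Sum.inr ⟨σ x, transv_other hσ hne x h⟩ := by
  unfold transvInv
  rw [dif_neg h]

/-- the two copies of the transversal cover the whole set -/
noncomputable def transvEquiv (hσ : ∀ x, σ (σ x) = x) (hne : ∀ x, σ x ≠ x) :
    Transv σ ⊕ Transv σ ≃ α where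
  toFun := Sum.elim (fun Q => Q.1) (fun Q => σ Q.1)
  invFun := transvInv hσ hne
  left_inv := by
    rintro (Q | Q)
    · show transvInv hσ hne Q.1 = Sum.inl Q
      rw [transvInv_pos hσ hne Q.1 Q.2]
    · show transvInv hσ hne (σ Q.1) = Sum.inr Q
      have h : ¬ enc (σ Q.1) < enc (σ (σ Q.1)) := by
        rw [hσ]
        have := Q.2
        omega
      rw [transvInv_neg hσ hne _ h]
      congr 1
      exact Subtype.ext (hσ Q.1)
  right_inv := by
    intro x
    by_cases h : enc x < enc (σ x)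
    · rw [transvInv_pos hσ hne x h]; rfl
    · rw [transvInv_neg hσ hne x h]
      exact hσ x

theorem transvEquiv_inl (hσ : ∀ x, σ (σ x) = x) (hne : ∀ x, σ x ≠ x) (Q : Transv σ) :
    transvEquiv hσ hne (Sum.inl Q) = Q.1 := rfl

theorem transvEquiv_inr (hσ : ∀ x, σ (σ x) = x) (hne : ∀ x, σ x ≠ x) (Q : Transv σ) :
    transvEquiv hσ hne (Sum.inr Q) = σ Q.1 := rfl

theorem card_transv (hσ : ∀ x, σ (σ x) = x) (hne : ∀ x, σ x ≠ x) :
    Fintype.card α = 2 * Fintype.card (Transv σ) := by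
  have := Fintype.card_congr (transvEquiv hσ hne)
  rw [Fintype.card_sum] at this
  omega

theorem sum_transv {M : Type*} [AddCommMonoid M] (hσ : ∀ x, σ (σ x) = x) (hne : ∀ x, σ x ≠ x)
    (h : α → M) : ∑ x, h x = ∑ Q : Transv σ, (h Q.1 + h (σ Q.1)) := by
  rw [← Equiv.sum_comp (transvEquiv hσ hne) h, Fintype.sum_sum_type, Finset.sum_add_distrib]
  rfl

theorem prod_transv {M : Type*} [CommMonoid M] (hσ : ∀ x, σ (σ x) = x) (hne : ∀ x, σ x ≠ x)
    (h : α → M) : ∏ x, h x = ∏ Q : Transv σ, (h Q.1 * h (σ Q.1)) := by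
  rw [← Equiv.prod_comp (transvEquiv hσ hne) h, Fintype.prod_sum_type, Finset.prod_mul_distrib]
  rfl

end Transversal

end Cfsg.Agent.Lib.Helper49
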