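import Mathlib
import Cfsg.Agent.Lib.Helper49.PrimeOrderSp
import Cfsg.Agent.Lib.Helper49.RecipFactor
import Cfsg.Agent.Lib.Helper49.Transversal

set_option autoImplicit false

namespace Cfsg.Agent.Lib.Helper49

open Polynomial

section StarPP

variable {F : Type*} [Field F] {r i : ℕ} {PP : Finset F[X]}

theorem FactorData.dvd_of_mem (D : FactorData F r i PP) {P : F[X]} (hP : P ∈ PP) :
    P ∣ (X ^ r - 1 : F[X]) := by
  rw [← D.prod]
  exact dvd_mul_of_dvd_right (Finset.dvd_prod_of_mem _ hP) _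

theorem FactorData.not_dvd_X_sub_one (D : FactorData F r i PP) {P : F[X]} (hP : P ∈ PP) :
    ¬ (P ∣ (X - 1 : F[X])) := by
  intro h
  exact (D.irr P hP).not_isUnit ((D.cop1 P hP).symm.isUnit_of_dvd' dvd_rfl h)

theorem FactorData.starP_mem (D : FactorData F r i PP) (hmon : ∀ P ∈ PP, P.Monic)
    {P : F[X]} (hP : P ∈ PP) [Fact (Irreducible P)] : starP P ∈ PP := by
  rcases D.irreducible_dvd (starP_irreducible P) (starP_dvd (D.dvd_of_mem hP)) with h | ⟨P', hP', h⟩
  · exact absurd h.dvd (starP_not_dvd_X_sub_one (D.not_dvd_X_sub_one hP))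
  · rw [eq_of_monic_of_associated (starP_monic P) (hmon P' hP') h]
    exact hP'

/-- the star involution on the set of factors -/
noncomputable def FactorData.star (D : FactorData F r i PP) (hmon : ∀ P ∈ PP, P.Monic) (P : PP) :
    PP :=
  ⟨@starP F _ P.1 ⟨D.irr P.1 P.2⟩, @FactorData.starP_mem F _ r i PP D hmon P.1 P.2 ⟨D.irr P.1 P.2⟩⟩

theorem FactorData.star_val (D : FactorData F r i PP) (hmon : ∀ P ∈ PP, P.Monic) (P : PP) :
    ((D.star hmon P : PP) : F[X]) = @starP F _ P.1 ⟨D.irr P.1 P.2⟩ := rfl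

theorem FactorData.star_star (D : FactorData F r i PP) (hmon : ∀ P ∈ PP, P.Monic) (P : PP) :
    D.star hmon (D.star hmon P) = P := by
  apply Subtype.ext
  rw [D.star_val, ]
  haveI : Fact (Irreducible P.1) := ⟨D.irr P.1 P.2⟩
  haveI : Fact (Irreducible (starP P.1)) := ⟨starP_irreducible P.1⟩
  exact starP_starP (hmon P.1 P.2)

/-- the kernel dimensions of a symplectic element of order dividing `r` are star-invariant -/
theorem FactorData.kdim_star_sp [Finite F] (D : FactorData F r i PP) (hmon : ∀ P ∈ PP, P.Monic)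
    (hr : 2 ≤ r) {m : ℕ} (g : Matrix.symplecticGroup (Fin m) F) (hg : g ^ r = 1) (P : PP) :
    kdim (Matrix.toLin' (g : Matrix (Fin m ⊕ Fin m) (Fin m ⊕ Fin m) F)) (D.star hmon P : F[X]) =
      kdim (Matrix.toLin' (g : Matrix (Fin m ⊕ Fin m) (Fin m ⊕ Fin m) F)) (P : F[X]) := by
  classical
  haveI : Fact (Irreducible P.1) := ⟨D.irr P.1 P.2⟩
  set φ := Matrix.toLin' (g : Matrix (Fin m ⊕ Fin m) (Fin m ⊕ Fin m) F) with hφ
  have hgr := sp_coe_pow_eq_one g r hg
  have hφr : φ ^ r = 1 := by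
    rw [hφ, ← Matrix.toLin'_pow, hgr, Matrix.toLin'_one]; rfl
  have h1 := kdim_pow_pred_eq (P := P.1) φ hr hφr (hmon P.1 P.2) (D.dvd_of_mem P.2)
  rw [D.star_val, ← h1]
  have hinv : g⁻¹ = g ^ (r - 1) := by
    apply inv_eq_of_mul_eq_one_right
    rw [← pow_succ', Nat.sub_add_cancel (by omega), hg]
  have h2 : φ ^ (r - 1) = Matrix.toLin'
      ((g⁻¹ : Matrix.symplecticGroup (Fin m) F) : Matrix (Fin m ⊕ Fin m) (Fin m ⊕ Fin m) F) := by
    rw [hinv, SubmonoidClass.coe_pow, Matrix.toLin'_pow]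
  rw [h2]
  have hginv : (g⁻¹) ^ r = 1 := by rw [inv_pow, hg, inv_one]
  obtain ⟨e, he⟩ := exists_equiv_of_charpoly_eq
    (Matrix.toLin' ((g⁻¹ : Matrix.symplecticGroup (Fin m) F) :
      Matrix (Fin m ⊕ Fin m) (Fin m ⊕ Fin m) F)) φ _ D.sqf
    (aeval_toLin'_of_pow_eq_one _ r (sp_coe_pow_eq_one _ r hginv))
    (aeval_toLin'_of_pow_eq_one _ r hgr)
    (by rw [Matrix.charpoly_toLin', hφ, Matrix.charpoly_toLin', charpoly_inv_of_sp])
  exact kdim_conj _ _ e he _

end StarPP

section PalinLemmas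

variable {F : Type*} [Field F]

theorem rev_one : (1 : F[X]).reverse = 1 := by
  have := reverse_C (1 : F)
  rwa [C_1] at this

theorem rev_X : (X : F[X]).reverse = 1 := by
  have := reverse_X_mul (1 : F[X])
  rwa [mul_one, rev_one] at this

theorem rev_X_sub_one : (X - 1 : F[X]).reverse = 1 - X := by
  have h : (X - 1 : F[X]) = X + C (-1) := by simp [sub_eq_add_neg]
  rw [h, reverse_add_C, rev_X, natDegree_X, pow_one]
  simp
  ring

theorem palin_mul {f g : F[X]} (hf : f.reverse = f) (hg : g.reverse = g) :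
    (f * g).reverse = f * g := by
  rw [reverse_mul_of_domain, hf, hg]

theorem palin_pow {f : F[X]} (hf : f.reverse = f) (k : ℕ) : (f ^ k).reverse = f ^ k := by
  induction k with
  | zero => rw [pow_zero, rev_one]
  | succ k ih => rw [pow_succ, palin_mul ih hf]

theorem palin_prod {ι : Type*} (s : Finset ι) (f : ι → F[X]) (h : ∀ x ∈ s, (f x).reverse = f x) :
    (∏ x ∈ s, f x).reverse = ∏ x ∈ s, f x := by
  classical
  induction s using Finset.induction_on with
  | empty => rw [Finset.prod_empty, rev_one]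
  | insert x s hx ih =>
    rw [Finset.prod_insert hx]
    exact palin_mul (h x (Finset.mem_insert_self _ _))
      (ih (fun y hy => h y (Finset.mem_insert_of_mem hy)))

theorem palin_X_sub_one_sq : ((X - 1 : F[X]) ^ 2).reverse = (X - 1 : F[X]) ^ 2 := by
  rw [pow_two, reverse_mul_of_domain, rev_X_sub_one]
  ring

theorem palin_X_sub_one_even {e : ℕ} (he : Even e) : ((X - 1 : F[X]) ^ e).reverse = (X - 1 : F[X]) ^ e := by
  obtain ⟨k, rfl⟩ := he
  rw [← two_mul, pow_mul]
  exact palin_pow palin_X_sub_one_sq k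

end PalinLemmas

section SpInv

variable {F : Type*} [Field F] [Finite F] {r i : ℕ} {PP : Finset F[X]}

theorem FactorData.sp_sum_le (D : FactorData F r i PP) {m : ℕ}
    (g : Matrix.symplecticGroup (Fin m) F) (hg : g ^ r = 1) :
    ∑ P : PP, kdim (Matrix.toLin' (g : Matrix (Fin m ⊕ Fin m) (Fin m ⊕ Fin m) F)) (P : F[X]) ≤
      2 * m := by
  have h1 := D.finrank_eq _ (aeval_toLin'_of_pow_eq_one _ r (sp_coe_pow_eq_one g r hg))
  rw [Module.finrank_fintype_fun_eq_card, Fintype.card_sum, Fintype.card_fin] at h1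
  have h3 : ∑ P : PP, kdim (Matrix.toLin' (g : Matrix (Fin m ⊕ Fin m) (Fin m ⊕ Fin m) F)) (P : F[X]) =
      ∑ P ∈ PP, kdim (Matrix.toLin' (g : Matrix (Fin m ⊕ Fin m) (Fin m ⊕ Fin m) F)) P :=
    Finset.sum_coe_sort PP
      (fun P => kdim (Matrix.toLin' (g : Matrix (Fin m ⊕ Fin m) (Fin m ⊕ Fin m) F)) P)
  omega

theorem FactorData.sp_eq_one_iff (D : FactorData F r i PP) {m : ℕ}
    (g : Matrix.symplecticGroup (Fin m) F) (hg : g ^ r = 1) :
    g = 1 ↔ ∀ P : PP,
      kdim (Matrix.toLin' (g : Matrix (Fin m ⊕ Fin m) (Fin m ⊕ Fin m) F)) (P : F[X]) = 0 := by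
  have h0 : g = 1 ↔ (g : Matrix (Fin m ⊕ Fin m) (Fin m ⊕ Fin m) F) = 1 := by
    constructor
    · rintro rfl; rfl
    · intro h; exact Subtype.ext h
  rw [h0, ← Matrix.toLin'.injective.eq_iff, Matrix.toLin'_one]
  have := D.eq_one_iff (Matrix.toLin' (g : Matrix (Fin m ⊕ Fin m) (Fin m ⊕ Fin m) F))
    (aeval_toLin'_of_pow_eq_one _ r (sp_coe_pow_eq_one g r hg))
  have h1 : (LinearMap.id : (Fin m ⊕ Fin m → F) →ₗ[F] (Fin m ⊕ Fin m → F)) = 1 := rfl
  rw [h1, this]
  exact ⟨fun h P => h P P.2, fun h P hP => h ⟨P, hP⟩⟩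

end SpInv

section CountEven

variable {F : Type*} [Field F] [Fintype F] {r i : ℕ} {PP : Finset F[X]}

theorem FactorData.card_classes_sp_even (p : ℕ) [Fact p.Prime] [CharP F p]
    (D : FactorData F r i PP) (hmon : ∀ P ∈ PP, P.Monic) (hr : r.Prime) (hrF : (r : F) ≠ 0)
    (hi : i = orderOf ((Fintype.card F : ℕ) : ZMod r)) (hev : Even i) (m : ℕ) :
    Nat.card {C : ConjClasses (Matrix.symplecticGroup (Fin m) F) //
      ∃ g : Matrix.symplecticGroup (Fin m) F, ConjClasses.mk g = C ∧ orderOf g = r} =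
      Nat.choose (2 * m / i + PP.card) PP.card - 1 := by
  classical
  haveI : Fact r.Prime := ⟨hr⟩
  let S := {C : ConjClasses (Matrix.symplecticGroup (Fin m) F) //
      ∃ g : Matrix.symplecticGroup (Fin m) F, ConjClasses.mk g = C ∧ orderOf g = r}
  let T := {a : PP → ℕ // ∑ P, a P ≤ 2 * m / i ∧ a ≠ 0}
  have hex : ∀ C : S, ∃ g : Matrix.symplecticGroup (Fin m) F,
      ConjClasses.mk g = C.1 ∧ orderOf g = r := fun C => C.2
  choose rep hrep hord using hex
  have hpow : ∀ C : S, (rep C) ^ r = 1 := fun C => by rw [← hord C]; exact pow_orderOf_eq_one _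
  let κ : Matrix.symplecticGroup (Fin m) F → PP → ℕ := fun g P =>
    kdim (Matrix.toLin' (g : Matrix (Fin m ⊕ Fin m) (Fin m ⊕ Fin m) F)) (P : F[X])
  have hκdvd : ∀ g P, i ∣ κ g P := fun g P => D.dvd_kdim _ P.2
  have hi1 := D.hi
  have hκsum : ∀ g : Matrix.symplecticGroup (Fin m) F, g ^ r = 1 → i * ∑ P, κ g P / i ≤ 2 * m := by
    intro g hg
    rw [Finset.mul_sum]
    have h2 : ∑ P : PP, i * (κ g P / i) = ∑ P : PP, κ g P :=
      Finset.sum_congr rfl (fun P _ => Nat.mul_div_cancel' (hκdvd g P))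
    rw [h2]
    exact D.sp_sum_le g hg
  have hT : ∀ C : S, ∑ P, κ (rep C) P / i ≤ 2 * m / i ∧ (fun P => κ (rep C) P / i) ≠ 0 := by
    intro C
    refine ⟨(Nat.le_div_iff_mul_le hi1).mpr (by rw [mul_comm]; exact hκsum _ (hpow C)), ?_⟩
    intro h0
    have h1 : rep C = 1 := by
      rw [D.sp_eq_one_iff _ (hpow C)]
      intro P
      have := congrFun h0 P
      simp only [Pi.zero_apply] at this
      obtain ⟨c, hc⟩ := hκdvd (rep C) P
      rw [hc, Nat.mul_div_cancel_left _ hi1] at this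
      show κ (rep C) P = 0
      rw [hc, this, mul_zero]
    have h2 := hord C
    rw [h1, orderOf_one] at h2
    exact hr.one_lt.ne h2
  let f : S → T := fun C => ⟨fun P => κ (rep C) P / i, hT C⟩
  have hPrev : ∀ P : PP, (P : F[X]).reverse = (P : F[X]) := by
    intro P
    haveI : Fact (Irreducible P.1) := ⟨D.irr P.1 P.2⟩
    apply reverse_eq_self_of_starP_eq (hmon P.1 P.2)
      (starP_eq_self_of_even (hmon P.1 P.2) hi (by omega) hev (D.dvd_of_mem P.2)) hr.pos
      (D.dvd_of_mem P.2) (D.X_sub_one_not_dvd P.2)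
  have hbij : Function.Bijective f := by
    constructor
    · intro C C' h
      have h0 : (fun P => κ (rep C) P / i) = (fun P => κ (rep C') P / i) := congrArg Subtype.val h
      have h1 : ∀ P ∈ PP,
          kdim (Matrix.toLin' ((rep C) : Matrix (Fin m ⊕ Fin m) (Fin m ⊕ Fin m) F)) P =
          kdim (Matrix.toLin' ((rep C') : Matrix (Fin m ⊕ Fin m) (Fin m ⊕ Fin m) F)) P := by
        intro P hP
        have := congrFun h0 ⟨P, hP⟩
        beta_reduce at this
        have e1 := Nat.mul_div_cancel' (hκdvd (rep C) ⟨P, hP⟩)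
        have e2 := Nat.mul_div_cancel' (hκdvd (rep C') ⟨P, hP⟩)
        rw [this] at e1
        exact e1.symm.trans e2
      apply Subtype.ext
      rw [← hrep C, ← hrep C']
      exact ConjClasses.mk_eq_mk_iff_isConj.mpr (D.sp_isConj hrF _ _ (hpow C) (hpow C') h1)
    · rintro ⟨a, ha1, ha2⟩
      have ha1' : i * ∑ P, a P ≤ 2 * m := by
        rw [mul_comm]; exact (Nat.le_div_iff_mul_le hi1).mp ha1
      have hpal : ((X - 1 : F[X]) ^ (2 * m - i * ∑ P, a P) * ∏ P : PP, (P : F[X]) ^ a P).reverse =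
          (X - 1 : F[X]) ^ (2 * m - i * ∑ P, a P) * ∏ P : PP, (P : F[X]) ^ a P := by
        apply palin_mul
        · apply palin_X_sub_one_even
          obtain ⟨j, hj⟩ := hev
          rw [hj]
          exact ⟨m - j * ∑ P, a P, by
            have : (j + j) * ∑ P, a P ≤ 2 * m := by rw [← hj]; exact ha1'
            have h3 : (j + j) * ∑ P, a P = 2 * (j * ∑ P, a P) := by ring
            omega⟩
        · apply palin_prod
          intro P _
          exact palin_pow (hPrev P) _
      obtain ⟨g, hg, hκ⟩ := D.exists_sp_realize p hmon hrF m a ha1' hpal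
      have hg1 : g ≠ 1 := by
        intro h1
        apply ha2
        funext P
        have := (D.sp_eq_one_iff g hg).mp h1 P
        rw [hκ P] at this
        rcases Nat.mul_eq_zero.mp this with h | h
        · omega
        · exact h
      have hgr : orderOf g = r := orderOf_eq_prime hg hg1
      let C : S := ⟨ConjClasses.mk g, g, rfl, hgr⟩
      refine ⟨C, ?_⟩
      apply Subtype.ext
      funext P
      have h1 : IsConj (rep C) g := ConjClasses.mk_eq_mk_iff_isConj.mp (hrep C)
      have h2 : κ (rep C) P = κ g P := by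
        have hch := charpoly_eq_of_isConj_sp _ _ h1
        obtain ⟨e, he⟩ := exists_equiv_of_charpoly_eq
          (Matrix.toLin' ((rep C) : Matrix (Fin m ⊕ Fin m) (Fin m ⊕ Fin m) F))
          (Matrix.toLin' (g : Matrix (Fin m ⊕ Fin m) (Fin m ⊕ Fin m) F)) _ D.sqf
          (aeval_toLin'_of_pow_eq_one _ r (sp_coe_pow_eq_one _ r (hpow C)))
          (aeval_toLin'_of_pow_eq_one _ r (sp_coe_pow_eq_one _ r hg))
          (by rw [Matrix.charpoly_toLin', Matrix.charpoly_toLin', hch])
        exact kdim_conj _ _ e he _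
      have h3 : κ g P = i * a P := hκ P
      change κ (rep C) P / i = a P
      rw [h2, h3, Nat.mul_div_cancel_left _ hi1]
  rw [Nat.card_eq_of_bijective f hbij, card_sumLe_ne_zero, Fintype.card_coe]

end CountEven

section CountOdd

variable {F : Type*} [Field F] [Fintype F] {r i : ℕ} {PP : Finset F[X]}

theorem FactorData.star_ne (D : FactorData F r i PP) (hmon : ∀ P ∈ PP, P.Monic) (hr : r.Prime)
    (hr2 : r ≠ 2) (hodd : Odd i) (P : PP) : D.star hmon P ≠ P := by
  haveI : Fact (Irreducible P.1) := ⟨D.irr P.1 P.2⟩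
  intro h
  have h1 := congrArg Subtype.val h
  rw [D.star_val] at h1
  exact starP_ne_self_of_odd hr.pos (hr.odd_of_ne_two hr2) (by rw [D.deg P.1 P.2]; exact hodd)
    (D.dvd_of_mem P.2) (D.not_dvd_X_sub_one P.2) h1

theorem FactorData.card_classes_sp_odd (p : ℕ) [Fact p.Prime] [CharP F p]
    (D : FactorData F r i PP) (hmon : ∀ P ∈ PP, P.Monic) (hr : r.Prime) (hr2 : r ≠ 2)
    (hrF : (r : F) ≠ 0) (hodd : Odd i) (m : ℕ) :
    Nat.card {C : ConjClasses (Matrix.symplecticGroup (Fin m) F) //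
      ∃ g : Matrix.symplecticGroup (Fin m) F, ConjClasses.mk g = C ∧ orderOf g = r} =
      Nat.choose (m / i + PP.card / 2) (PP.card / 2) - 1 := by
  classical
  haveI : Fact r.Prime := ⟨hr⟩
  have hσ : ∀ P : PP, D.star hmon (D.star hmon P) = P := D.star_star hmon
  have hne : ∀ P : PP, D.star hmon P ≠ P := D.star_ne hmon hr hr2 hodd
  let R := Transv (D.star hmon)
  let S := {C : ConjClasses (Matrix.symplecticGroup (Fin m) F) //
      ∃ g : Matrix.symplecticGroup (Fin m) F, ConjClasses.mk g = C ∧ orderOf g = r}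
  let T := {a : R → ℕ // ∑ Q, a Q ≤ m / i ∧ a ≠ 0}
  have hex : ∀ C : S, ∃ g : Matrix.symplecticGroup (Fin m) F,
      ConjClasses.mk g = C.1 ∧ orderOf g = r := fun C => C.2
  choose rep hrep hord using hex
  have hpow : ∀ C : S, (rep C) ^ r = 1 := fun C => by rw [← hord C]; exact pow_orderOf_eq_one _
  let κ : Matrix.symplecticGroup (Fin m) F → PP → ℕ := fun g P =>
    kdim (Matrix.toLin' (g : Matrix (Fin m ⊕ Fin m) (Fin m ⊕ Fin m) F)) (P : F[X])
  have hκdvd : ∀ g P, i ∣ κ g P := fun g P => D.dvd_kdim _ P.2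
  have hi1 := D.hi
  have hκstar : ∀ g : Matrix.symplecticGroup (Fin m) F, g ^ r = 1 → ∀ P,
      κ g (D.star hmon P) = κ g P := fun g hg P => D.kdim_star_sp hmon hr.two_le g hg P
  have hκsum : ∀ g : Matrix.symplecticGroup (Fin m) F, g ^ r = 1 →
      i * ∑ Q : R, κ g Q.1 / i ≤ m := by
    intro g hg
    rw [Finset.mul_sum]
    have h2 : ∑ Q : R, i * (κ g Q.1 / i) = ∑ Q : R, κ g Q.1 :=
      Finset.sum_congr rfl (fun Q _ => Nat.mul_div_cancel' (hκdvd g Q.1))
    rw [h2]
    have h3 := D.sp_sum_le g hg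
    have h4 := sum_transv hσ hne (fun P => κ g P)
    have h5 : ∑ Q : R, (κ g Q.1 + κ g (D.star hmon Q.1)) = 2 * ∑ Q : R, κ g Q.1 := by
      rw [Finset.mul_sum]
      apply Finset.sum_congr rfl
      intro Q _
      rw [hκstar g hg]; ring
    have h6 : ∑ P : PP, κ g P ≤ 2 * m := h3
    rw [h4, h5] at h6
    omega
  have hzero : ∀ g : Matrix.symplecticGroup (Fin m) F, g ^ r = 1 →
      (∀ Q : R, κ g Q.1 = 0) → g = 1 := by
    intro g hg h0
    rw [D.sp_eq_one_iff g hg]
    intro P
    have h1 := (transvEquiv hσ hne).apply_symm_apply P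
    rcases hx : (transvEquiv hσ hne).symm P with Q | Q
    · rw [hx, transvEquiv_inl] at h1
      rw [← h1]; exact h0 Q
    · rw [hx, transvEquiv_inr] at h1
      rw [← h1]
      show κ g (D.star hmon Q.1) = 0
      rw [hκstar g hg]; exact h0 Q
  have hT : ∀ C : S, ∑ Q : R, κ (rep C) Q.1 / i ≤ m / i ∧ (fun Q : R => κ (rep C) Q.1 / i) ≠ 0 := by
    intro C
    refine ⟨(Nat.le_div_iff_mul_le hi1).mpr (by rw [mul_comm]; exact hκsum _ (hpow C)), ?_⟩
    intro h0
    have h1 : rep C = 1 := by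
      apply hzero _ (hpow C)
      intro Q
      have := congrFun h0 Q
      simp only [Pi.zero_apply] at this
      obtain ⟨c, hc⟩ := hκdvd (rep C) Q.1
      rw [hc, Nat.mul_div_cancel_left _ hi1] at this
      rw [hc, this, mul_zero]
    have h2 := hord C
    rw [h1, orderOf_one] at h2
    exact hr.one_lt.ne h2
  let f : S → T := fun C => ⟨fun Q => κ (rep C) Q.1 / i, hT C⟩
  have hbij : Function.Bijective f := by
    constructor
    · intro C C' h
      have h0 : (fun Q : R => κ (rep C) Q.1 / i) = (fun Q : R => κ (rep C') Q.1 / i) :=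
        congrArg Subtype.val h
      have hR : ∀ Q : R, κ (rep C) Q.1 = κ (rep C') Q.1 := by
        intro Q
        have := congrFun h0 Q
        beta_reduce at this
        have e1 := Nat.mul_div_cancel' (hκdvd (rep C) Q.1)
        have e2 := Nat.mul_div_cancel' (hκdvd (rep C') Q.1)
        rw [this] at e1
        exact e1.symm.trans e2
      have h1 : ∀ P ∈ PP,
          kdim (Matrix.toLin' ((rep C) : Matrix (Fin m ⊕ Fin m) (Fin m ⊕ Fin m) F)) P =
          kdim (Matrix.toLin' ((rep C') : Matrix (Fin m ⊕ Fin m) (Fin m ⊕ Fin m) F)) P := by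
        intro P hP
        show κ (rep C) ⟨P, hP⟩ = κ (rep C') ⟨P, hP⟩
        have h1 := (transvEquiv hσ hne).apply_symm_apply ⟨P, hP⟩
        rcases hx : (transvEquiv hσ hne).symm ⟨P, hP⟩ with Q | Q
        · rw [hx, transvEquiv_inl] at h1
          rw [← h1]; exact hR Q
        · rw [hx, transvEquiv_inr] at h1
          rw [← h1, hκstar _ (hpow C), hκstar _ (hpow C')]; exact hR Q
      apply Subtype.ext
      rw [← hrep C, ← hrep C']
      exact ConjClasses.mk_eq_mk_iff_isConj.mpr (D.sp_isConj hrF _ _ (hpow C) (hpow C') h1)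
    · rintro ⟨a, ha1, ha2⟩
      let a' : PP → ℕ := fun P => Sum.elim a a ((transvEquiv hσ hne).symm P)
      have ha'1 : ∀ Q : R, a' Q.1 = a Q := by
        intro Q
        show Sum.elim a a ((transvEquiv hσ hne).symm Q.1) = a Q
        rw [← transvEquiv_inl hσ hne Q, Equiv.symm_apply_apply]; rfl
      have ha'2 : ∀ Q : R, a' (D.star hmon Q.1) = a Q := by
        intro Q
        show Sum.elim a a ((transvEquiv hσ hne).symm (D.star hmon Q.1)) = a Q
        rw [← transvEquiv_inr hσ hne Q, Equiv.symm_apply_apply]; rfl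
      have hsum' : ∑ P, a' P = 2 * ∑ Q : R, a Q := by
        rw [sum_transv hσ hne a', Finset.mul_sum]
        apply Finset.sum_congr rfl
        intro Q _
        rw [ha'1, ha'2]; ring
      have ha1' : i * ∑ P, a' P ≤ 2 * m := by
        have := (Nat.le_div_iff_mul_le hi1).mp ha1
        rw [hsum']
        calc i * (2 * ∑ Q : R, a Q) = 2 * ((∑ Q : R, a Q) * i) := by ring
          _ ≤ 2 * m := Nat.mul_le_mul_left 2 this
      have hpal : ((X - 1 : F[X]) ^ (2 * m - i * ∑ P, a' P) * ∏ P : PP, (P : F[X]) ^ a' P).reverse =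
          (X - 1 : F[X]) ^ (2 * m - i * ∑ P, a' P) * ∏ P : PP, (P : F[X]) ^ a' P := by
        apply palin_mul
        · apply palin_X_sub_one_even
          rw [hsum']
          exact ⟨m - i * ∑ Q : R, a Q, by
            have : i * (2 * ∑ Q : R, a Q) ≤ 2 * m := by rw [← hsum']; exact ha1'
            have h3 : i * (2 * ∑ Q : R, a Q) = 2 * (i * ∑ Q : R, a Q) := by ring
            omega⟩
        · rw [prod_transv hσ hne (fun P : PP => (P : F[X]) ^ a' P)]
          apply palin_prod
          intro Q _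
          rw [ha'1, ha'2, ← mul_pow]
          apply palin_pow
          haveI : Fact (Irreducible Q.1.1) := ⟨D.irr Q.1.1 Q.1.2⟩
          rw [D.star_val]
          apply reverse_mul_starP (hmon Q.1.1 Q.1.2) _ hr.pos (D.dvd_of_mem Q.1.2)
          rw [D.deg _ (D.starP_mem hmon Q.1.2), D.deg _ Q.1.2]
      obtain ⟨g, hg, hκ⟩ := D.exists_sp_realize p hmon hrF m a' ha1' hpal
      have hg1 : g ≠ 1 := by
        intro h1
        apply ha2
        funext Q
        have := (D.sp_eq_one_iff g hg).mp h1 Q.1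
        rw [hκ Q.1, ha'1] at this
        rcases Nat.mul_eq_zero.mp this with h | h
        · omega
        · exact h
      have hgr : orderOf g = r := orderOf_eq_prime hg hg1
      let C : S := ⟨ConjClasses.mk g, g, rfl, hgr⟩
      refine ⟨C, ?_⟩
      apply Subtype.ext
      funext Q
      have h1 : IsConj (rep C) g := ConjClasses.mk_eq_mk_iff_isConj.mp (hrep C)
      have h2 : κ (rep C) Q.1 = κ g Q.1 := by
        have hch := charpoly_eq_of_isConj_sp _ _ h1
        obtain ⟨e, he⟩ := exists_equiv_of_charpoly_eq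
          (Matrix.toLin' ((rep C) : Matrix (Fin m ⊕ Fin m) (Fin m ⊕ Fin m) F))
          (Matrix.toLin' (g : Matrix (Fin m ⊕ Fin m) (Fin m ⊕ Fin m) F)) _ D.sqf
          (aeval_toLin'_of_pow_eq_one _ r (sp_coe_pow_eq_one _ r (hpow C)))
          (aeval_toLin'_of_pow_eq_one _ r (sp_coe_pow_eq_one _ r hg))
          (by rw [Matrix.charpoly_toLin', Matrix.charpoly_toLin', hch])
        exact kdim_conj _ _ e he _
      have h3 : κ g Q.1 = i * a Q := by
        show kdim _ _ = _
        rw [hκ Q.1, ha'1]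
      change κ (rep C) Q.1 / i = a Q
      rw [h2, h3, Nat.mul_div_cancel_left _ hi1]
  have hcardR : Fintype.card R = PP.card / 2 := by
    have h1 : Fintype.card PP = 2 * Fintype.card R := card_transv hσ hne
    rw [Fintype.card_coe] at h1
    omega
  rw [Nat.card_eq_of_bijective f hbij, card_sumLe_ne_zero, hcardR]

end CountOdd

end Cfsg.Agent.Lib.Helper49
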