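import Mathlib
import Cfsg.Prelude.Def_GeometricClasses

set_option autoImplicit false
open scoped MatrixGroups

namespace Cfsg.Agent.Lib.Helper49

section SG

variable {F : Type*} [Field F] {n : ℕ}

/-- an invertible matrix all of whose entries lie in the subfield comes from the subfield -/
theorem mem_range_map_of_entries (F₀ : Subfield F) (A : GL (Fin n) F)
    (h : ∀ i j, (A : Matrix (Fin n) (Fin n) F) i j ∈ F₀) :
    A ∈ (Matrix.GeneralLinearGroup.map (F₀.subtype : F₀ →+* F)).range := by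
  let A₀ : Matrix (Fin n) (Fin n) F₀ := fun i j => ⟨(A : Matrix (Fin n) (Fin n) F) i j, h i j⟩
  have hmap : A₀.map F₀.subtype = (A : Matrix (Fin n) (Fin n) F) := by
    ext i j; rfl
  have hdet : A₀.det ≠ 0 := by
    intro h0
    have h1 : (A : Matrix (Fin n) (Fin n) F).det = 0 := by
      rw [← hmap]
      have := RingHom.map_det (F₀.subtype : F₀ →+* F) A₀
      rw [h0, map_zero] at this
      exact this.symm
    have h2 : IsUnit (A : Matrix (Fin n) (Fin n) F).det :=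
      (Matrix.isUnit_iff_isUnit_det _).mp A.isUnit
    rw [h1] at h2
    exact not_isUnit_zero h2
  exact ⟨Matrix.GeneralLinearGroup.mkOfDetNeZero A₀ hdet, Units.ext hmap⟩

theorem entries_of_mem_range_map (F₀ : Subfield F) (A : GL (Fin n) F)
    (h : A ∈ (Matrix.GeneralLinearGroup.map (F₀.subtype : F₀ →+* F)).range) (i j : Fin n) :
    (A : Matrix (Fin n) (Fin n) F) i j ∈ F₀ := by
  obtain ⟨A₀, rfl⟩ := h
  exact ((A₀ : Matrix (Fin n) (Fin n) F₀) i j).2

/-- membership in the subfield subgroup (with trivial change of basis) -/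
theorem mem_subfieldSubgroup_one_iff (F₀ : Subfield F) (y : GL (Fin n) F) :
    y ∈ Cfsg.Geo.subfieldSubgroup F₀ (1 : GL (Fin n) F) ↔
      ∃ A : GL (Fin n) F, A ∈ (Matrix.GeneralLinearGroup.map (F₀.subtype : F₀ →+* F)).range ∧ ∃ c : Fˣ,
        (y : Matrix (Fin n) (Fin n) F) = (c : F) • (A : Matrix (Fin n) (Fin n) F) := by
  have h1 : Cfsg.Geo.subfieldSubgroup F₀ (1 : GL (Fin n) F) =
      (Matrix.GeneralLinearGroup.map (F₀.subtype : F₀ →+* F)).range ⊔ Cfsg.Geo.scalars (Fin n) F := by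
    ext x
    simp [Cfsg.Geo.subfieldSubgroup, Subgroup.mem_map]
  rw [h1, Subgroup.mem_sup_of_normal_right]
  constructor
  · rintro ⟨A, hA, z, hz, rfl⟩
    obtain ⟨c, hc⟩ := (Cfsg.Geo.mem_scalars_iff z).mp hz
    refine ⟨A, hA, c, ?_⟩
    rw [Units.val_mul, hc, Matrix.mul_smul, Matrix.mul_one]
  · rintro ⟨A, hA, c, hc⟩
    have hcu : IsUnit ((c : F) • (1 : Matrix (Fin n) (Fin n) F)) := by
      refine ⟨⟨(c : F) • 1, ((c⁻¹ : Fˣ) : F) • 1, ?_, ?_⟩, rfl⟩
      · rw [Matrix.smul_mul, Matrix.mul_smul, Matrix.one_mul, smul_smul, Units.mul_inv, one_smul]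
      · rw [Matrix.smul_mul, Matrix.mul_smul, Matrix.one_mul, smul_smul, Units.inv_mul, one_smul]
    refine ⟨A, hA, hcu.unit, (Cfsg.Geo.mem_scalars_iff _).mpr ⟨c, rfl⟩, ?_⟩
    apply Units.ext
    rw [Units.val_mul, hc]
    change (A : Matrix (Fin n) (Fin n) F) * ((c : F) • 1) = _
    rw [Matrix.mul_smul, Matrix.mul_one]

theorem exists_gl_det {K : Type*} [Field K] (hn : 0 < n) (a : Kˣ) :
    ∃ g : GL (Fin n) K, (g : Matrix (Fin n) (Fin n) K).det = a := by
  classical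
  let v : Fin n → K := Function.update (fun _ => 1) ⟨0, hn⟩ (a : K)
  have hdet : (Matrix.diagonal v).det = a := by
    rw [Matrix.det_diagonal, Finset.prod_eq_single (⟨0, hn⟩ : Fin n)]
    · simp [v]
    · intro b _ hb
      simp [v, Function.update_of_ne hb]
    · intro h; exact absurd (Finset.mem_univ _) h
  exact ⟨Matrix.GeneralLinearGroup.mkOfDetNeZero (Matrix.diagonal v)
    (by rw [hdet]; exact a.ne_zero), hdet⟩

end SG

section FF

variable {F : Type*} [Field F] [Fintype F]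

theorem subfield_pow_card_sub_one (F₀ : Subfield F) {q₀ : ℕ} (hF₀ : Nat.card ↥F₀ = q₀)
    {a : F} (ha : a ∈ F₀) (ha0 : a ≠ 0) : a ^ (q₀ - 1) = 1 := by
  classical
  letI : Fintype ↥F₀ := Fintype.ofFinite _
  have h1 : (⟨a, ha⟩ : ↥F₀) ≠ 0 := by
    intro h; exact ha0 (congrArg Subtype.val h)
  have h2 := FiniteField.pow_card_sub_one_eq_one (⟨a, ha⟩ : ↥F₀) h1
  rw [← Nat.card_eq_fintype_card, hF₀] at h2
  have h3 := congrArg (Subtype.val : ↥F₀ → F) h2
  simpa using h3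

/-- for a quadratic extension of finite fields of odd order, the subfield consists of squares -/
theorem subfield_isSquare (hF : ringChar F ≠ 2) (F₀ : Subfield F) {q₀ : ℕ} (hF₀ : Nat.card ↥F₀ = q₀)
    (hcard : Fintype.card F = q₀ ^ 2) {a : F} (ha : a ∈ F₀) : IsSquare a := by
  rcases eq_or_ne a 0 with rfl | ha0
  · exact ⟨0, by simp⟩
  rw [FiniteField.isSquare_iff hF ha0, hcard]
  have hodd : Odd (q₀ ^ 2) := by
    rw [← hcard]
    exact Nat.odd_iff.mpr (FiniteField.odd_card_of_char_ne_two hF)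
  have hq₀ : Odd q₀ := Nat.Odd.of_mul_right (by rwa [sq] at hodd)
  obtain ⟨j, hj⟩ := hq₀
  have h1 : q₀ ^ 2 / 2 = (q₀ - 1) * (j + 1) := by
    subst hj
    have : (2 * j + 1) ^ 2 = 2 * ((2 * j + 1 - 1) * (j + 1)) + 1 := by
      simp only [Nat.add_sub_cancel]; ring
    rw [this]; omega
  rw [h1, pow_mul, subfield_pow_card_sub_one F₀ hF₀ ha ha0, one_pow]

theorem geom_sum_odd (q₀ k : ℕ) (hq₀ : Odd q₀) :
    ∃ S : ℕ, q₀ ^ k = (q₀ - 1) * S + 1 ∧ (S % 2 = k % 2) := by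
  induction k with
  | zero => exact ⟨0, by simp⟩
  | succ k ih =>
    obtain ⟨S, hS, hpar⟩ := ih
    refine ⟨q₀ * S + 1, ?_, ?_⟩
    · obtain ⟨j, rfl⟩ := hq₀
      rw [pow_succ, hS]
      simp only [Nat.add_sub_cancel]
      ring
    · obtain ⟨j, rfl⟩ := hq₀
      have : (2 * j + 1) * S % 2 = S % 2 := by
        rw [Nat.mul_mod]; simp
      omega

/-- in an extension of odd degree of finite fields of odd order, some element of the subfield
is a non-square of the big field -/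
theorem exists_subfield_nonsquare (hF : ringChar F ≠ 2) (F₀ : Subfield F) {q₀ k : ℕ}
    (hF₀ : Nat.card ↥F₀ = q₀) (hcard : Fintype.card F = q₀ ^ k) (hk : Odd k) :
    ∃ ε : F, ε ∈ F₀ ∧ ε ≠ 0 ∧ ¬ IsSquare ε := by
  classical
  letI : Fintype ↥F₀ := Fintype.ofFinite _
  have h2F : (2 : F) ≠ 0 := Ring.two_ne_zero hF
  have hF₀c : ringChar ↥F₀ ≠ 2 := by
    intro h
    have h1 : ((ringChar ↥F₀ : ℕ) : ↥F₀) = 0 := ringChar.Nat.cast_ringChar
    rw [h] at h1
    have h2 : (F₀.subtype : ↥F₀ →+* F) ((2 : ℕ) : ↥F₀) = 0 := by rw [h1, map_zero]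
    rw [map_natCast] at h2
    apply h2F
    exact_mod_cast h2
  obtain ⟨e, he⟩ := FiniteField.exists_nonsquare hF₀c
  have he0 : e ≠ 0 := by
    rintro rfl
    exact he ⟨0, by simp⟩
  have hodd : Odd (q₀ ^ k) := by
    rw [← hcard]
    exact Nat.odd_iff.mpr (FiniteField.odd_card_of_char_ne_two hF)
  have hq₀ : Odd q₀ := by
    have hk0 : k ≠ 0 := by
      rintro rfl; exact absurd hk (by decide)
    exact (Nat.odd_pow_iff hk0).mp hodd
  have hdich := FiniteField.pow_dichotomy hF₀c he0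
  have hne1 : ¬ e ^ (Fintype.card ↥F₀ / 2) = 1 := by
    rw [← FiniteField.isSquare_iff hF₀c he0]; exact he
  have hm1 : e ^ (Fintype.card ↥F₀ / 2) = -1 := hdich.resolve_left hne1
  rw [← Nat.card_eq_fintype_card, hF₀] at hm1
  have hm1F : (e : F) ^ (q₀ / 2) = -1 := by
    have := congrArg (Subtype.val : ↥F₀ → F) hm1
    simpa using this
  obtain ⟨S, hS, hpar⟩ := geom_sum_odd q₀ k hq₀
  have hSodd : Odd S := by
    rw [Nat.odd_iff, hpar, ← Nat.odd_iff]; exact hk
  have heF0 : (e : F) ≠ 0 := by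
    intro h; exact he0 (Subtype.ext h)
  refine ⟨(e : F), e.2, heF0, ?_⟩
  rw [FiniteField.isSquare_iff hF heF0, hcard]
  have h1 : q₀ ^ k / 2 = (q₀ / 2) * S := by
    obtain ⟨j, hj⟩ := hq₀
    rw [hS]
    subst hj
    have e1 : (2 * j + 1) / 2 = j := by omega
    rw [e1]
    simp only [Nat.add_sub_cancel]
    have : 2 * j * S + 1 = 2 * (j * S) + 1 := by ring
    rw [this]; omega
  rw [h1, pow_mul, hm1F, hSodd.neg_one_pow]
  intro h
  have : (2 : F) = 0 := by
    have h3 : (1 : F) + 1 = 0 := by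
      nth_rewrite 1 [← h]; simp
    rw [← h3]; norm_num
  exact h2F this

theorem exists_sq_mul_subfield (hF : ringChar F ≠ 2) (F₀ : Subfield F) {q₀ k : ℕ}
    (hF₀ : Nat.card ↥F₀ = q₀) (hcard : Fintype.card F = q₀ ^ k) (hk : Odd k) (δ : F) (hδ : δ ≠ 0) :
    ∃ a ε : F, ε ∈ F₀ ∧ ε ≠ 0 ∧ a ≠ 0 ∧ δ = a ^ 2 * ε := by
  by_cases hsq : IsSquare δ
  · obtain ⟨a, ha⟩ := hsq
    refine ⟨a, 1, F₀.one_mem, one_ne_zero, ?_, by rw [ha]; ring⟩
    rintro rfl
    apply hδ; rw [ha]; simp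
  · obtain ⟨ε, hε, hε0, hεsq⟩ := exists_subfield_nonsquare hF F₀ hF₀ hcard hk
    have h1 : δ ^ (Fintype.card F / 2) = -1 :=
      (FiniteField.pow_dichotomy hF hδ).resolve_left (by rwa [← FiniteField.isSquare_iff hF hδ])
    have h2 : ε ^ (Fintype.card F / 2) = -1 :=
      (FiniteField.pow_dichotomy hF hε0).resolve_left (by rwa [← FiniteField.isSquare_iff hF hε0])
    have h3 : IsSquare (δ / ε) := by
      rw [FiniteField.isSquare_iff hF (div_ne_zero hδ hε0), div_pow, h1, h2]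
      simp
    obtain ⟨a, ha⟩ := h3
    refine ⟨a, ε, hε, hε0, ?_, ?_⟩
    · rintro rfl
      have : δ / ε = 0 := by rw [ha]; simp
      exact (div_ne_zero hδ hε0) this
    · rw [sq, ← ha, div_mul_cancel₀ _ hε0]

end FF

end Cfsg.Agent.Lib.Helper49
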