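/-
K-SLU pack (S5982, architect helper49): `SL_n(q)`, `q = q₀²`, versus the similarity group of a
nondegenerate unitary form.  Shared definitions and transport between an abstract unitary form `f`
and the standard form `Cfsg.hermForm n F q₀`.
-/
import Mathlib
import Cfsg.Prelude.Def_Classical
import Cfsg.Prelude.Def_GeometricClasses

set_option autoImplicit false

namespace Cfsg.Agent.Lib.Helper49.SLU

open Matrix

variable {F : Type*} [Field F] {n : ℕ}

/-- the similarity group of the standard hermitian form -/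
abbrev CUh (n : ℕ) (F : Type*) [Field F] (q₀ : ℕ) : Subgroup (GL (Fin n) F) :=
  Cfsg.Geo.similarityGroup (Cfsg.hermForm n F q₀)

/-- **eigenvalue pairing** for diagonal elements with entries in the fixed field of `a ↦ a ^ q₀`:
if a `GL`-conjugate of `diag(d)` lies in the similarity group of the standard hermitian form then,
for some nonzero `c`, the multiplicities of `α` and `c / α` among the entries of `d` agree -/
def DiagPairing [DecidableEq F] (n q₀ : ℕ) : Prop :=
  ∀ (x g : GL (Fin n) F) (d : Fin n → F), (∀ k, d k ^ q₀ = d k) →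
    (x : Matrix (Fin n) (Fin n) F) = Matrix.diagonal d → g⁻¹ * x * g ∈ CUh n F q₀ →
    ∃ c : F, c ≠ 0 ∧ ∀ α : F, α ≠ 0 →
      (Finset.univ.filter fun k : Fin n => d k = c / α).card =
        (Finset.univ.filter fun k : Fin n => d k = α).card

/-- a conjugate in the similarity group of `f` gives a conjugate in that of `h` when
`f (B u) (B v) = h u v` -/
theorem conj_mem_of_comp (f h : (Fin n → F) → (Fin n → F) → F) (B : GL (Fin n) F)
    (hB : ∀ u v, f ((B : Matrix (Fin n) (Fin n) F) *ᵥ u) ((B : Matrix (Fin n) (Fin n) F) *ᵥ v) =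
      h u v) (y : GL (Fin n) F) (hy : y ∈ Cfsg.Geo.similarityGroup f) :
    B⁻¹ * y * B ∈ Cfsg.Geo.similarityGroup h := by
  obtain ⟨c, hc⟩ := hy
  refine ⟨c, fun u v => ?_⟩
  have e : ∀ w : Fin n → F, ((B⁻¹ * y * B : GL (Fin n) F) : Matrix (Fin n) (Fin n) F) *ᵥ w =
      ((B⁻¹ : GL (Fin n) F) : Matrix (Fin n) (Fin n) F) *ᵥ
        ((y : Matrix (Fin n) (Fin n) F) *ᵥ ((B : Matrix (Fin n) (Fin n) F) *ᵥ w)) := by
    intro w
    rw [Units.val_mul, Units.val_mul, ← Matrix.mulVec_mulVec, ← Matrix.mulVec_mulVec]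
  have e2 : ∀ w : Fin n → F, (B : Matrix (Fin n) (Fin n) F) *ᵥ
      (((B⁻¹ : GL (Fin n) F) : Matrix (Fin n) (Fin n) F) *ᵥ w) = w := by
    intro w
    rw [Matrix.mulVec_mulVec, ← Units.val_mul, mul_inv_cancel, Units.val_one, Matrix.one_mulVec]
  rw [← hB, e, e, e2, e2, hc, hB]

/-- conversely -/
theorem conj_mem_of_comp' (f h : (Fin n → F) → (Fin n → F) → F) (B : GL (Fin n) F)
    (hB : ∀ u v, f ((B : Matrix (Fin n) (Fin n) F) *ᵥ u) ((B : Matrix (Fin n) (Fin n) F) *ᵥ v) =
      h u v) (y : GL (Fin n) F) (hy : y ∈ Cfsg.Geo.similarityGroup h) :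
    B * y * B⁻¹ ∈ Cfsg.Geo.similarityGroup f := by
  obtain ⟨c, hc⟩ := hy
  refine ⟨c, fun u v => ?_⟩
  have e : ∀ w : Fin n → F, ((B * y * B⁻¹ : GL (Fin n) F) : Matrix (Fin n) (Fin n) F) *ᵥ w =
      (B : Matrix (Fin n) (Fin n) F) *ᵥ
        ((y : Matrix (Fin n) (Fin n) F) *ᵥ
          (((B⁻¹ : GL (Fin n) F) : Matrix (Fin n) (Fin n) F) *ᵥ w)) := by
    intro w
    rw [Units.val_mul, Units.val_mul, ← Matrix.mulVec_mulVec, ← Matrix.mulVec_mulVec]
  have e2 : ∀ w : Fin n → F, (B : Matrix (Fin n) (Fin n) F) *ᵥ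
      (((B⁻¹ : GL (Fin n) F) : Matrix (Fin n) (Fin n) F) *ᵥ w) = w := by
    intro w
    rw [Matrix.mulVec_mulVec, ← Units.val_mul, mul_inv_cancel, Units.val_one, Matrix.one_mulVec]
  rw [e, e, hB, hc, ← hB, e2, e2]

/-- the similarity group of `f` is the conjugate of that of `h` -/
theorem similarityGroup_eq_map (f h : (Fin n → F) → (Fin n → F) → F) (B : GL (Fin n) F)
    (hB : ∀ u v, f ((B : Matrix (Fin n) (Fin n) F) *ᵥ u) ((B : Matrix (Fin n) (Fin n) F) *ᵥ v) =
      h u v) :
    Cfsg.Geo.similarityGroup f =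
      (Cfsg.Geo.similarityGroup h).map (MulAut.conj B).toMonoidHom := by
  ext y
  rw [Subgroup.mem_map]
  constructor
  · intro hy
    refine ⟨B⁻¹ * y * B, conj_mem_of_comp f h B hB y hy, ?_⟩
    change B * (B⁻¹ * y * B) * B⁻¹ = y
    group
  · rintro ⟨w, hw, rfl⟩
    exact conj_mem_of_comp' f h B hB w hw

/-- the relative index in a normal subgroup is invariant under conjugation -/
theorem relIndex_conj {G : Type*} [Group G] (H N : Subgroup G) [N.Normal] (b : G) :
    (H.map (MulAut.conj b).toMonoidHom).relIndex N = H.relIndex N := by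
  have hN : N.map (MulAut.conj b).toMonoidHom = N := by
    ext y
    rw [Subgroup.mem_map]
    constructor
    · rintro ⟨w, hw, rfl⟩
      exact Subgroup.Normal.conj_mem inferInstance w hw b
    · intro hy
      refine ⟨b⁻¹ * y * b, ?_, ?_⟩
      · have := Subgroup.Normal.conj_mem (inferInstance : N.Normal) y hy b⁻¹
        rwa [inv_inv] at this
      · change b * (b⁻¹ * y * b) * b⁻¹ = y
        group
  conv_lhs => rw [← hN]
  exact Subgroup.relIndex_map_map_of_injective H N (MulAut.conj b).injective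

end Cfsg.Agent.Lib.Helper49.SLU
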