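import Cfsg.Agent.Lib.Helper49.SubfieldUnip
import Cfsg.Agent.Lib.Helper49.SemisimpleConj

set_option autoImplicit false
open scoped MatrixGroups

namespace Cfsg.Agent.Lib.Helper49

open Module

section SI

universe u

variable {F : Type u} [Field F] {n : ℕ}

/-- elements `x` with `x ^ p` scalar are conjugate into the subfield subgroup, given a solution of
the block scaling problem -/
theorem conj_into_subfield_of_scaling (p : ℕ) [Fact p.Prime] (F₀ : Subfield F) [Finite F] [CharP F p]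
    (hn : 2 ≤ n)
    (hscale : ∀ (t : ℕ) (d : Fin t → ℕ), (∀ k, 1 ≤ d k) → (∀ k, d k ≤ p) → (∃ k₀, 2 ≤ d k₀) →
      ∑ k, d k = n → ∀ δ : F, δ ≠ 0 →
        ∃ w : Fin t → Fˣ, ∃ ε : F, ε ∈ F₀ ∧ ε ≠ 0 ∧ (∏ k, ((w k : Fˣ) : F) ^ d k) * ε = δ)
    (x : Matrix.SpecialLinearGroup (Fin n) F) (z : F)
    (hxp : ((x ^ p : Matrix.SpecialLinearGroup (Fin n) F) : Matrix (Fin n) (Fin n) F) =
      z • (1 : Matrix (Fin n) (Fin n) F))
    (hxns : ∀ z : F, (x : Matrix (Fin n) (Fin n) F) ≠ z • (1 : Matrix (Fin n) (Fin n) F)) :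
    ∃ P : Matrix.SpecialLinearGroup (Fin n) F, P⁻¹ * x * P ∈ subfieldSL F₀ n := by
  classical
  haveI : Nonempty (Fin n) := ⟨⟨0, by omega⟩⟩
  have hp0 : p ≠ 0 := (Fact.out : p.Prime).ne_zero
  -- p-th root of z
  have hinj : Function.Injective (frobenius F p) := frobenius_inj F p
  have hsurj : Function.Surjective (frobenius F p) := Finite.surjective_of_injective hinj
  obtain ⟨l, hl⟩ := hsurj z
  rw [frobenius_def] at hl
  rw [Matrix.SpecialLinearGroup.coe_pow] at hxp
  have hl0 : l ≠ 0 := by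
    rintro rfl
    have hz : z = 0 := by rw [← hl]; simp [hp0]
    have h1 : ((x : Matrix (Fin n) (Fin n) F) ^ p).det = 0 := by
      rw [hxp, hz, zero_smul, Matrix.det_zero]
    rw [Matrix.det_pow, x.det_coe, one_pow] at h1
    exact one_ne_zero h1
  -- the unipotent part
  have hudet : (l⁻¹ • (x : Matrix (Fin n) (Fin n) F)).det ≠ 0 := by
    rw [Matrix.det_smul, x.det_coe, mul_one]
    exact pow_ne_zero _ (inv_ne_zero hl0)
  let u : GL (Fin n) F := Matrix.GeneralLinearGroup.mkOfDetNeZero _ hudet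
  have hu : (u : Matrix (Fin n) (Fin n) F) = l⁻¹ • (x : Matrix (Fin n) (Fin n) F) := rfl
  have hxu : (x : Matrix (Fin n) (Fin n) F) = l • (u : Matrix (Fin n) (Fin n) F) := by
    rw [hu, smul_smul, mul_inv_cancel₀ hl0, one_smul]
  have hup : u ^ p = 1 := by
    apply Units.ext
    rw [Units.val_pow_eq_pow_val, hu, _root_.smul_pow, hxp, smul_smul, inv_pow, hl,
      inv_mul_cancel₀, one_smul]
    · rfl
    · rw [← hl]; exact pow_ne_zero _ hl0
  have hup' : ((u : Matrix (Fin n) (Fin n) F) - 1) ^ p = 0 := by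
    have := (pow_char_pow_eq_one_iff p u 1).mp (by rwa [pow_one])
    rwa [pow_one] at this
  obtain ⟨μ, hμ⟩ := exists_hasType u p hup'
  have hpartsp := (hμ.pow_eq_zero_iff p).mp hup'
  have hparts1 : ¬ ∀ a ∈ μ.parts, a ≤ 1 := by
    intro h
    have h1 := (hμ.pow_eq_zero_iff 1).mpr h
    rw [pow_one, sub_eq_zero] at h1
    apply hxns l
    rw [hxu, h1]
  -- standard representative over the subfield
  obtain ⟨u₀, -, hu₀⟩ := exists_of_partition (F := ↥F₀) μ
  have hu₀F : HasType (Matrix.GeneralLinearGroup.map (F₀.subtype : F₀ →+* F) u₀) μ :=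
    hu₀.map (F₀.subtype : F₀ →+* F)
  obtain ⟨G, hG⟩ := _root_.isConj_iff.mp ((hu₀F.isConj_iff hμ).mpr rfl)
  obtain ⟨t, d, b, hd, hb, hdμ⟩ := hμ
  have hmem : ∀ k, d k ∈ μ.parts := by
    intro k
    rw [← hdμ]
    exact Multiset.mem_map_of_mem d (Finset.mem_univ_val k)
  have hle : ∀ k, d k ≤ p := fun k => hpartsp _ (hmem k)
  have hk₀ : ∃ k₀, 2 ≤ d k₀ := by
    by_contra hcon
    push Not at hcon
    apply hparts1
    intro a ha
    rw [← hdμ] at ha
    obtain ⟨k, _, rfl⟩ := Multiset.mem_map.mp ha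
    have := hcon k
    omega
  have hGdet : (G : Matrix (Fin n) (Fin n) F).det ≠ 0 := by
    have h2 : IsUnit (G : Matrix (Fin n) (Fin n) F).det :=
      (Matrix.isUnit_iff_isUnit_det _).mp G.isUnit
    exact h2.ne_zero
  obtain ⟨w, ε, hε, hε0, hwε⟩ := hscale t d hd hle hk₀ (sum_eq_of_basis d b)
    ((G : Matrix (Fin n) (Fin n) F).det)⁻¹ (inv_ne_zero hGdet)
  obtain ⟨c, hc, hcdet⟩ := exists_commute_det hb w
  have hε₀ : (⟨ε, hε⟩ : ↥F₀) ≠ 0 := by
    intro h; exact hε0 (congrArg Subtype.val h)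
  obtain ⟨h₀, hh₀⟩ := exists_gl_det (K := ↥F₀) (n := n) (by omega) (Units.mk0 _ hε₀)
  set h : GL (Fin n) F := Matrix.GeneralLinearGroup.map (F₀.subtype : F₀ →+* F) h₀ with hh
  have hhdet : (h : Matrix (Fin n) (Fin n) F).det = ε := by
    rw [hh, det_glMap, hh₀]
    rfl
  let P : GL (Fin n) F := c * G * h
  have hPdet : (P : Matrix (Fin n) (Fin n) F).det = 1 := by
    change ((c * G * h : GL (Fin n) F) : Matrix (Fin n) (Fin n) F).det = 1
    rw [Units.val_mul, Units.val_mul, Matrix.det_mul, Matrix.det_mul, hcdet, hhdet]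
    have : (∏ k, ((w k : Fˣ) : F) ^ d k) * (G : Matrix (Fin n) (Fin n) F).det * ε =
        ((∏ k, ((w k : Fˣ) : F) ^ d k) * ε) * (G : Matrix (Fin n) (Fin n) F).det := by ring
    rw [this, hwε, inv_mul_cancel₀ hGdet]
  let PS : Matrix.SpecialLinearGroup (Fin n) F := ⟨(P : Matrix (Fin n) (Fin n) F), hPdet⟩
  have hPS : Matrix.SpecialLinearGroup.toGL PS = P := Units.ext rfl
  refine ⟨PS, ?_⟩
  rw [Subgroup.mem_comap, mem_subfieldSubgroup_one_iff]
  refine ⟨Matrix.GeneralLinearGroup.map (F₀.subtype : F₀ →+* F) (h₀⁻¹ * u₀ * h₀), ⟨_, rfl⟩,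
    Units.mk0 l hl0, ?_⟩
  rw [map_mul, map_mul, map_inv, hPS]
  have e1 : c⁻¹ * u * c = u := by
    rw [mul_assoc, ← hc, ← mul_assoc, inv_mul_cancel, one_mul]
  have e2 : G⁻¹ * u * G = Matrix.GeneralLinearGroup.map (F₀.subtype : F₀ →+* F) u₀ := by
    rw [← hG]; group
  have e3 : P⁻¹ * u * P = Matrix.GeneralLinearGroup.map (F₀.subtype : F₀ →+* F) (h₀⁻¹ * u₀ * h₀) := by
    have : P⁻¹ * u * P = h⁻¹ * (G⁻¹ * (c⁻¹ * u * c) * G) * h := by
      change (c * G * h)⁻¹ * u * (c * G * h) = _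
      group
    rw [this, e1, e2, map_mul, map_mul, map_inv]
  rw [← e3]
  rw [Units.val_mul, Units.val_mul, Units.val_mul, Units.val_mul, Units.val_mk0]
  have hx' : ((Matrix.SpecialLinearGroup.toGL x : GL (Fin n) F) : Matrix (Fin n) (Fin n) F) =
      l • (u : Matrix (Fin n) (Fin n) F) := hxu
  rw [hx', Matrix.mul_smul, Matrix.smul_mul]
  rfl

/-- characteristic 2: every element with scalar square is conjugate into the subfield subgroup -/
theorem conj_into_subfield_two (F₀ : Subfield F) [Finite F] [CharP F 2] (hn : 2 ≤ n)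
    (x : Matrix.SpecialLinearGroup (Fin n) F) (z : F)
    (hx2 : ((x ^ 2 : Matrix.SpecialLinearGroup (Fin n) F) : Matrix (Fin n) (Fin n) F) =
      z • (1 : Matrix (Fin n) (Fin n) F))
    (hxns : ∀ z : F, (x : Matrix (Fin n) (Fin n) F) ≠ z • (1 : Matrix (Fin n) (Fin n) F)) :
    ∃ P : Matrix.SpecialLinearGroup (Fin n) F, P⁻¹ * x * P ∈ subfieldSL F₀ n := by
  classical
  haveI : Fact (Nat.Prime 2) := ⟨Nat.prime_two⟩
  apply conj_into_subfield_of_scaling 2 F₀ hn _ x z hx2 hxns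
  intro t d hd hle hk₀ _ δ hδ
  by_cases h1 : ∃ k, d k = 1
  · obtain ⟨k, hk⟩ := h1
    refine ⟨Pi.mulSingle k (Units.mk0 δ hδ), 1, F₀.one_mem, one_ne_zero, ?_⟩
    rw [prod_pow_mulSingle, hk, pow_one, mul_one, Units.val_mk0]
  · push Not at h1
    obtain ⟨k₀, hk₀⟩ := hk₀
    have hk2 : d k₀ = 2 := le_antisymm (hle k₀) hk₀
    have hinj : Function.Injective (frobenius F 2) := frobenius_inj F 2
    have hsurj : Function.Surjective (frobenius F 2) := Finite.surjective_of_injective hinj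
    obtain ⟨a, ha⟩ := hsurj δ
    rw [frobenius_def] at ha
    have ha0 : a ≠ 0 := by
      rintro rfl
      apply hδ; rw [← ha]; simp
    refine ⟨Pi.mulSingle k₀ (Units.mk0 a ha0), 1, F₀.one_mem, one_ne_zero, ?_⟩
    rw [prod_pow_mulSingle, hk2, Units.val_mk0, ha, mul_one]

/-- an involution in odd characteristic is diagonalised by a matrix of determinant one -/
theorem exists_sl_conj_diag (h2 : (2 : F) ≠ 0) (hn : 0 < n) (s : Matrix (Fin n) (Fin n) F)
    (hs : s * s = 1) :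
    ∃ (P : Matrix (Fin n) (Fin n) F) (ε : Fin n → F), P.det = 1 ∧ (∀ i, ε i = 1 ∨ ε i = -1) ∧
      s * P = P * Matrix.diagonal ε := by
  classical
  set S : (Fin n → F) →ₗ[F] (Fin n → F) := Matrix.toLin' s with hS
  have hSS : ∀ v, S (S v) = v := by
    intro v
    have : S ∘ₗ S = LinearMap.id := by
      rw [hS, ← Matrix.toLin'_mul, hs, Matrix.toLin'_one]
    exact LinearMap.congr_fun this v
  set Ep : Submodule F (Fin n → F) := LinearMap.ker (S - LinearMap.id) with hEp
  set Em : Submodule F (Fin n → F) := LinearMap.ker (S + LinearMap.id) with hEm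
  have hmemp : ∀ v, v ∈ Ep ↔ S v = v := by
    intro v
    rw [hEp, LinearMap.mem_ker, LinearMap.sub_apply, LinearMap.id_apply, sub_eq_zero]
  have hmemm : ∀ v, v ∈ Em ↔ S v = -v := by
    intro v
    rw [hEm, LinearMap.mem_ker, LinearMap.add_apply, LinearMap.id_apply, add_eq_zero_iff_eq_neg]
  have hc : IsCompl Ep Em := by
    constructor
    · rw [Submodule.disjoint_def]
      intro v hvp hvm
      rw [hmemp] at hvp
      rw [hmemm] at hvm
      have h3 : (2 : F) • v = 0 := by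
        rw [two_smul]
        nth_rewrite 1 [← hvp]
        rw [hvm]; simp
      exact (smul_eq_zero.mp h3).resolve_left h2
    · rw [codisjoint_iff, eq_top_iff]
      intro v _
      rw [Submodule.mem_sup]
      refine ⟨(2 : F)⁻¹ • (v + S v), ?_, (2 : F)⁻¹ • (v - S v), ?_, ?_⟩
      · rw [hmemp, map_smul, map_add, hSS, add_comm]
      · rw [hmemm, map_smul, map_sub, hSS, ← smul_neg, neg_sub]
      · rw [← smul_add]
        have : v + S v + (v - S v) = (2 : F) • v := by rw [two_smul]; abel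
        rw [this, smul_smul, inv_mul_cancel₀ h2, one_smul]
  let bp := Module.finBasis F Ep
  let bm := Module.finBasis F Em
  let bb : Basis (Fin (finrank F Ep) ⊕ Fin (finrank F Em)) F (Fin n → F) :=
    (bp.prod bm).map (Submodule.prodEquivOfIsCompl Ep Em hc)
  have hbl : ∀ i, bb (Sum.inl i) = (bp i : Fin n → F) := by
    intro i
    simp [bb, Submodule.coe_prodEquivOfIsCompl']
  have hbr : ∀ i, bb (Sum.inr i) = (bm i : Fin n → F) := by
    intro i
    simp [bb, Submodule.coe_prodEquivOfIsCompl']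
  have hcard : Fintype.card (Fin (finrank F Ep) ⊕ Fin (finrank F Em)) = n := by
    rw [← Module.finrank_eq_card_basis bb, Module.finrank_fintype_fun_eq_card, Fintype.card_fin]
  let e : Fin (finrank F Ep) ⊕ Fin (finrank F Em) ≃ Fin n := Fintype.equivFinOfCardEq hcard
  let bn : Basis (Fin n) F (Fin n → F) := bb.reindex e
  let ε : Fin n → F := fun i => Sum.elim (fun _ => (1 : F)) (fun _ => (-1 : F)) (e.symm i)
  have hε : ∀ i, ε i = 1 ∨ ε i = -1 := by
    intro i
    change Sum.elim (fun _ => (1 : F)) (fun _ => (-1 : F)) (e.symm i) = 1 ∨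
      Sum.elim (fun _ => (1 : F)) (fun _ => (-1 : F)) (e.symm i) = -1
    rcases e.symm i with j | j
    · left; rfl
    · right; rfl
  have hSbn : ∀ i, S (bn i) = ε i • bn i := by
    intro i
    change S (bb.reindex e i) = Sum.elim (fun _ => (1 : F)) (fun _ => (-1 : F)) (e.symm i) • bb.reindex e i
    rw [Basis.reindex_apply]
    rcases e.symm i with j | j
    · rw [hbl, Sum.elim_inl, one_smul]
      exact (hmemp _).mp (bp j).2
    · rw [hbr, Sum.elim_inr, neg_one_smul]
      exact (hmemm _).mp (bm j).2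
  set G : Matrix (Fin n) (Fin n) F := (Pi.basisFun F (Fin n)).toMatrix bn with hG
  have hGapp : ∀ j i, G j i = bn i j := by
    intro j i
    rw [hG, Basis.toMatrix_apply, Pi.basisFun_repr]
  have hsG : s * G = G * Matrix.diagonal ε := by
    ext j i
    rw [Matrix.mul_diagonal, hGapp]
    have h1 : (s * G) j i = (S (bn i)) j := by
      rw [hS, Matrix.toLin'_apply, Matrix.mul_apply, Matrix.mulVec, dotProduct]
      apply Finset.sum_congr rfl
      intro k _
      rw [hGapp]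
    rw [h1, hSbn, Pi.smul_apply, smul_eq_mul, mul_comm]
  have hGdet : G.det ≠ 0 := by
    have h1 : G * bn.toMatrix (Pi.basisFun F (Fin n)) = 1 := Basis.toMatrix_mul_toMatrix_flip _ _
    have h3 := congrArg Matrix.det h1
    rw [Matrix.det_mul, Matrix.det_one] at h3
    intro h0
    rw [h0, zero_mul] at h3
    exact zero_ne_one h3
  let dv : Fin n → F := Function.update (fun _ => (1 : F)) ⟨0, hn⟩ (G.det)⁻¹
  have hdvdet : (Matrix.diagonal dv).det = (G.det)⁻¹ := by
    rw [Matrix.det_diagonal, Finset.prod_eq_single (⟨0, hn⟩ : Fin n)]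
    · simp [dv]
    · intro b _ hb
      simp [dv, Function.update_of_ne hb]
    · intro h; exact absurd (Finset.mem_univ _) h
  refine ⟨G * Matrix.diagonal dv, ε, ?_, hε, ?_⟩
  · rw [Matrix.det_mul, hdvdet, mul_inv_cancel₀ hGdet]
  · rw [← mul_assoc, hsG, mul_assoc, mul_assoc, Matrix.diagonal_mul_diagonal,
      Matrix.diagonal_mul_diagonal]
    congr 2
    funext i
    exact mul_comm _ _

/-- an element of `SL_n(F)` whose square is the scalar `l ^ 2` is conjugate into the subfield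
subgroup (odd characteristic) -/
theorem conj_into_subfield_of_sq (h2 : (2 : F) ≠ 0) (F₀ : Subfield F) (hn : 0 < n)
    (x : Matrix.SpecialLinearGroup (Fin n) F) (l : F)
    (hx2 : ((x ^ 2 : Matrix.SpecialLinearGroup (Fin n) F) : Matrix (Fin n) (Fin n) F) =
      (l ^ 2) • (1 : Matrix (Fin n) (Fin n) F)) :
    ∃ P : Matrix.SpecialLinearGroup (Fin n) F, P⁻¹ * x * P ∈ subfieldSL F₀ n := by
  classical
  have : Nonempty (Fin n) := ⟨⟨0, hn⟩⟩
  rw [Matrix.SpecialLinearGroup.coe_pow] at hx2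
  have hl0 : l ≠ 0 := by
    rintro rfl
    have h1 : ((x : Matrix (Fin n) (Fin n) F) ^ 2).det = 0 := by
      rw [hx2]; simp
    rw [Matrix.det_pow, x.det_coe, one_pow] at h1
    exact one_ne_zero h1
  have hs : (l⁻¹ • (x : Matrix (Fin n) (Fin n) F)) * (l⁻¹ • (x : Matrix (Fin n) (Fin n) F)) = 1 := by
    have hxx : (x : Matrix (Fin n) (Fin n) F) * (x : Matrix (Fin n) (Fin n) F) =
        (l ^ 2) • (1 : Matrix (Fin n) (Fin n) F) := by
      rw [← pow_two]; exact hx2
    rw [Matrix.smul_mul, Matrix.mul_smul, smul_smul, hxx, smul_smul]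
    have : l⁻¹ * l⁻¹ * l ^ 2 = 1 := by field_simp
    rw [this, one_smul]
  obtain ⟨P, ε, hPdet, hε, hsP⟩ := exists_sl_conj_diag h2 hn _ hs
  let PS : Matrix.SpecialLinearGroup (Fin n) F := ⟨P, hPdet⟩
  refine ⟨PS, ?_⟩
  rw [Subgroup.mem_comap, mem_subfieldSubgroup_one_iff]
  have hεdet : (Matrix.diagonal ε).det ≠ 0 := by
    rw [Matrix.det_diagonal]
    apply Finset.prod_ne_zero_iff.mpr
    intro i _
    rcases hε i with h | h <;> rw [h] <;> simp
  let D : GL (Fin n) F := Matrix.GeneralLinearGroup.mkOfDetNeZero (Matrix.diagonal ε) hεdet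
  have hDmem : D ∈ (Matrix.GeneralLinearGroup.map (F₀.subtype : F₀ →+* F)).range := by
    apply mem_range_map_of_entries
    intro i j
    change Matrix.diagonal ε i j ∈ F₀
    rw [Matrix.diagonal_apply]
    split_ifs
    · rcases hε i with h | h <;> rw [h]
      · exact F₀.one_mem
      · exact F₀.neg_mem F₀.one_mem
    · exact F₀.zero_mem
  refine ⟨D, hDmem, Units.mk0 l hl0, ?_⟩
  rw [Units.val_mk0]
  -- compute the conjugate
  have hxP : (x : Matrix (Fin n) (Fin n) F) * P = P * (l • Matrix.diagonal ε) := by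
    have : (x : Matrix (Fin n) (Fin n) F) = l • (l⁻¹ • (x : Matrix (Fin n) (Fin n) F)) := by
      rw [smul_smul, mul_inv_cancel₀ hl0, one_smul]
    rw [this, Matrix.smul_mul, hsP, Matrix.mul_smul]
  have hinv : ((PS⁻¹ : Matrix.SpecialLinearGroup (Fin n) F) : Matrix (Fin n) (Fin n) F) * P = 1 := by
    have h := congrArg (fun g : Matrix.SpecialLinearGroup (Fin n) F => (g : Matrix (Fin n) (Fin n) F))
      (inv_mul_cancel PS)
    simp only [Matrix.SpecialLinearGroup.coe_mul, Matrix.SpecialLinearGroup.coe_one] at h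
    exact h
  change ((PS⁻¹ * x * PS : Matrix.SpecialLinearGroup (Fin n) F) : Matrix (Fin n) (Fin n) F) = _
  rw [Matrix.SpecialLinearGroup.coe_mul, Matrix.SpecialLinearGroup.coe_mul]
  change ((PS⁻¹ : Matrix.SpecialLinearGroup (Fin n) F) : Matrix (Fin n) (Fin n) F) *
    (x : Matrix (Fin n) (Fin n) F) * P = l • Matrix.diagonal ε
  rw [mul_assoc, hxP, ← mul_assoc, hinv, one_mul]

/-- if the subfield consists of squares, an element whose square is a non-square scalar has no
conjugate in the subfield subgroup -/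
theorem not_conj_of_nonsquare (F₀ : Subfield F) (hn : 0 < n) (hsq : ∀ a ∈ F₀, IsSquare a)
    (x : Matrix.SpecialLinearGroup (Fin n) F) (z : F) (hz : ¬ IsSquare z)
    (hx2 : ((x ^ 2 : Matrix.SpecialLinearGroup (Fin n) F) : Matrix (Fin n) (Fin n) F) =
      z • (1 : Matrix (Fin n) (Fin n) F))
    (P : Matrix.SpecialLinearGroup (Fin n) F) : P⁻¹ * x * P ∉ subfieldSL F₀ n := by
  classical
  intro hP
  rw [Subgroup.mem_comap, mem_subfieldSubgroup_one_iff] at hP
  obtain ⟨A, ⟨A₀, rfl⟩, c, hc⟩ := hP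
  have hy2 : ((P⁻¹ * x * P) ^ 2 : Matrix.SpecialLinearGroup (Fin n) F) = P⁻¹ * x ^ 2 * P := by
    have : P⁻¹ * x * P = P⁻¹ * x * P⁻¹⁻¹ := by rw [inv_inv]
    rw [this, conj_pow, inv_inv]
  have hy2' : (((P⁻¹ * x * P) ^ 2 : Matrix.SpecialLinearGroup (Fin n) F) :
      Matrix (Fin n) (Fin n) F) = z • (1 : Matrix (Fin n) (Fin n) F) := by
    rw [hy2, Matrix.SpecialLinearGroup.coe_mul, Matrix.SpecialLinearGroup.coe_mul, hx2,
      Matrix.mul_smul, Matrix.smul_mul, Matrix.mul_one, ← Matrix.SpecialLinearGroup.coe_mul,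
      inv_mul_cancel, Matrix.SpecialLinearGroup.coe_one]
  rw [Matrix.SpecialLinearGroup.coe_pow] at hy2'
  have hc' : ((P⁻¹ * x * P : Matrix.SpecialLinearGroup (Fin n) F) : Matrix (Fin n) (Fin n) F) =
      (c : F) • ((Matrix.GeneralLinearGroup.map (F₀.subtype : F₀ →+* F) A₀ : GL (Fin n) F) :
        Matrix (Fin n) (Fin n) F) := hc
  rw [hc', _root_.smul_pow] at hy2'
  have h2 : ((Matrix.GeneralLinearGroup.map (F₀.subtype : F₀ →+* F) A₀ : GL (Fin n) F) :
      Matrix (Fin n) (Fin n) F) ^ 2 =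
      ((A₀ : Matrix (Fin n) (Fin n) F₀) ^ 2).map (F₀.subtype : F₀ →+* F) := by
    change ((F₀.subtype : F₀ →+* F).mapMatrix (A₀ : Matrix (Fin n) (Fin n) F₀)) ^ 2 = _
    rw [← map_pow]
    rfl
  rw [h2] at hy2'
  have h3 := congrFun (congrFun hy2' ⟨0, hn⟩) ⟨0, hn⟩
  rw [Matrix.smul_apply, Matrix.smul_apply, Matrix.one_apply_eq, smul_eq_mul, smul_eq_mul, mul_one,
    Matrix.map_apply] at h3
  obtain ⟨r, hr⟩ := hsq _ (Subtype.mem (((A₀ : Matrix (Fin n) (Fin n) F₀) ^ 2) ⟨0, hn⟩ ⟨0, hn⟩))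
  apply hz
  refine ⟨(c : F) * r, ?_⟩
  rw [← h3]
  change (c : F) ^ 2 * ((((A₀ : Matrix (Fin n) (Fin n) F₀) ^ 2) ⟨0, hn⟩ ⟨0, hn⟩ : ↥F₀) : F) = _
  rw [hr]; ring

/-- the model matrix with square `z` -/
def sqModel (m : ℕ) (z : F) : Matrix (Fin m ⊕ Fin m) (Fin m ⊕ Fin m) F :=
  Matrix.fromBlocks 1 ((z - 1) • 1) 1 (-1)

theorem sqModel_mul_self (m : ℕ) (z : F) :
    sqModel m z * sqModel m z = z • (1 : Matrix (Fin m ⊕ Fin m) (Fin m ⊕ Fin m) F) := by
  rw [sqModel, Matrix.fromBlocks_multiply, ← Matrix.fromBlocks_one, Matrix.fromBlocks_smul]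
  congr 1
  · rw [Matrix.one_mul, Matrix.mul_one, sub_smul, one_smul]; abel
  · rw [Matrix.one_mul, Matrix.mul_neg, Matrix.mul_one, smul_zero]; abel
  · rw [Matrix.one_mul, Matrix.neg_mul, Matrix.one_mul, smul_zero]; abel
  · rw [Matrix.one_mul, Matrix.neg_mul, Matrix.mul_neg, Matrix.one_mul, neg_neg, sub_smul, one_smul]
    abel

theorem det_sqModel (m : ℕ) (z : F) : (sqModel m z).det = (-z) ^ m := by
  rw [sqModel, Matrix.det_fromBlocks_one₁₁, Matrix.one_mul]
  have : (-1 : Matrix (Fin m) (Fin m) F) - (z - 1) • 1 = (-z) • (1 : Matrix (Fin m) (Fin m) F) := by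
    rw [sub_smul, one_smul, neg_smul]; abel
  rw [this, Matrix.det_smul, Matrix.det_one, mul_one, Fintype.card_fin]

/-- an element of `SL_{2m}(F)` with square `z`, when `(-z)^m = 1` -/
theorem exists_sq_eq {m : ℕ} (hn : n = m + m) (hm : 0 < m) (z : F) (hz : (-z) ^ m = 1) :
    ∃ x : Matrix.SpecialLinearGroup (Fin n) F,
      ((x ^ 2 : Matrix.SpecialLinearGroup (Fin n) F) : Matrix (Fin n) (Fin n) F) =
        z • (1 : Matrix (Fin n) (Fin n) F) ∧
      ∀ c : F, (x : Matrix (Fin n) (Fin n) F) ≠ c • (1 : Matrix (Fin n) (Fin n) F) := by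
  classical
  let e : Fin m ⊕ Fin m ≃ Fin n := finSumFinEquiv.trans (finCongr hn.symm)
  let X : Matrix (Fin n) (Fin n) F := Matrix.reindex e e (sqModel m z)
  have hXdet : X.det = 1 := by
    rw [Matrix.det_reindex_self, det_sqModel, hz]
  let xs : Matrix.SpecialLinearGroup (Fin n) F := ⟨X, hXdet⟩
  refine ⟨xs, ?_, ?_⟩
  · rw [Matrix.SpecialLinearGroup.coe_pow]
    change X ^ 2 = _
    rw [pow_two]
    change Matrix.reindex e e (sqModel m z) * Matrix.reindex e e (sqModel m z) = _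
    rw [Matrix.reindex_apply, Matrix.submatrix_mul_equiv, sqModel_mul_self]
    ext i j
    rw [Matrix.submatrix_apply, Matrix.smul_apply, Matrix.smul_apply, Matrix.one_apply,
      Matrix.one_apply]
    simp only [e.symm.injective.eq_iff]
  · intro c hc
    change X = c • 1 at hc
    have h1 := congrFun (congrFun hc (e (Sum.inr ⟨0, hm⟩))) (e (Sum.inl ⟨0, hm⟩))
    have h2 : X (e (Sum.inr ⟨0, hm⟩)) (e (Sum.inl ⟨0, hm⟩)) = 1 := by
      change Matrix.reindex e e (sqModel m z) (e (Sum.inr ⟨0, hm⟩)) (e (Sum.inl ⟨0, hm⟩)) = 1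
      rw [Matrix.reindex_apply, Matrix.submatrix_apply, Equiv.symm_apply_apply,
        Equiv.symm_apply_apply, sqModel, Matrix.fromBlocks_apply₂₁, Matrix.one_apply_eq]
    rw [h2, Matrix.smul_apply, Matrix.one_apply_ne (by
      intro h; exact absurd (e.injective h) (by simp)), smul_zero] at h1
    exact one_ne_zero h1

open Polynomial in
/-- determinant of a matrix whose square is a non-square scalar -/
theorem det_of_sq_eq_nonsquare (x : Matrix (Fin n) (Fin n) F) (z : F) (hz : ¬ IsSquare z)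
    (hx : x * x = z • (1 : Matrix (Fin n) (Fin n) F)) : ∃ m, n = m + m ∧ x.det = (-z) ^ m := by
  classical
  have hirr : Irreducible (X ^ 2 - C z : F[X]) := by
    apply X_pow_sub_C_irreducible_of_prime Nat.prime_two
    intro b hb
    exact hz ⟨b, by rw [← hb, pow_two]⟩
  have haev : aeval x (X ^ 2 - C z : F[X]) = 0 := by
    rw [map_sub, map_pow, aeval_X, aeval_C, pow_two, hx, Algebra.algebraMap_eq_smul_one, sub_self]
  have hdvd := charpoly_dvd_pow_of_aeval_eq_zero x _ haev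
  obtain ⟨j, -, hj⟩ := (dvd_prime_pow hirr.prime _).mp hdvd
  have hmonic : (X ^ 2 - C z : F[X]).Monic := monic_X_pow_sub_C z (by norm_num)
  have hcp : x.charpoly = (X ^ 2 - C z : F[X]) ^ j :=
    eq_of_monic_of_associated (Matrix.charpoly_monic x) (hmonic.pow j) hj
  have hdeg := Matrix.charpoly_natDegree_eq_dim x
  rw [hcp, natDegree_pow, natDegree_X_pow_sub_C, Fintype.card_fin] at hdeg
  refine ⟨j, by omega, ?_⟩
  rw [Matrix.det_eq_sign_charpoly_coeff, hcp, Fintype.card_fin, coeff_zero_eq_eval_zero, eval_pow,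
    eval_sub, eval_pow, eval_X, eval_C]
  have hn2 : n = 2 * j := by omega
  rw [hn2, pow_mul]
  simp

end SI

section Arith

variable {F : Type*} [Field F] [Fintype F]

/-- existence of a non-square `z` with `(-z)^m = 1` -/
theorem exists_nonsquare_neg_pow_eq_one (hF : ringChar F ≠ 2) (hm1 : IsSquare (-1 : F)) (m : ℕ)
    (hm : m ≠ 0) (h : padicValNat 2 (Fintype.card F - 1) ≤ padicValNat 2 m) :
    ∃ z : F, ¬ IsSquare z ∧ (-z) ^ m = 1 := by
  classical
  have hodd : Fintype.card F % 2 = 1 := FiniteField.odd_card_of_char_ne_two hF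
  have hq1 : Fintype.card F - 1 ≠ 0 := by
    have : 1 < Fintype.card F := Fintype.one_lt_card
    omega
  obtain ⟨g, hg⟩ := IsCyclic.exists_generator (α := Fˣ)
  have hord : orderOf g = Fintype.card F - 1 := by
    rw [orderOf_eq_card_of_forall_mem_zpowers hg, Nat.card_eq_fintype_card, Fintype.card_units]
  set v := padicValNat 2 (Fintype.card F - 1) with hv
  obtain ⟨o, ho⟩ : 2 ^ v ∣ Fintype.card F - 1 := pow_padicValNat_dvd
  have hoodd : ¬ 2 ∣ o := by
    intro h2
    obtain ⟨o', rfl⟩ := h2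
    have : 2 ^ (v + 1) ∣ Fintype.card F - 1 := ⟨o', by rw [ho, pow_succ]; ring⟩
    have := (padicValNat_dvd_iff_le hq1).mp this
    omega
  have h2vm : 2 ^ v ∣ m := (padicValNat_dvd_iff_le hm).mpr h
  set w : Fˣ := g ^ o with hw
  have hwm : w ^ m = 1 := by
    obtain ⟨m', rfl⟩ := h2vm
    rw [hw, ← pow_mul, ← mul_assoc, mul_comm o, ← ho, pow_mul, ← hord, pow_orderOf_eq_one, one_pow]
  have hwns : ¬ IsSquare (w : F) := by
    rw [FiniteField.isSquare_iff hF w.ne_zero]
    intro h1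
    have h2 : w ^ (Fintype.card F / 2) = 1 := by
      apply Units.ext
      rw [Units.val_pow_eq_pow_val, h1, Units.val_one]
    rw [hw, ← pow_mul] at h2
    have h3 := orderOf_dvd_of_pow_eq_one h2
    rw [hord] at h3
    have h4 : Fintype.card F - 1 = 2 * (Fintype.card F / 2) := by omega
    rw [h4] at h3
    have h5 : 0 < Fintype.card F / 2 := by omega
    have h6 : 2 ∣ o := (Nat.mul_dvd_mul_iff_right h5).mp h3
    exact hoodd h6
  refine ⟨-(w : F), ?_, ?_⟩
  · intro hsq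
    apply hwns
    have : (w : F) = (-1) * (-(w : F)) := by ring
    rw [this]
    exact hm1.mul hsq
  · rw [neg_neg, ← Units.val_pow_eq_pow_val, hwm, Units.val_one]

/-- no non-square `w` has `w^m = 1` when `v₂(m) < v₂(q-1)` -/
theorem not_nonsquare_pow_eq_one (hF : ringChar F ≠ 2) (m : ℕ) (hm : m ≠ 0)
    (h : padicValNat 2 m < padicValNat 2 (Fintype.card F - 1)) (w : F) (hw : ¬ IsSquare w)
    (hwm : w ^ m = 1) : False := by
  classical
  have hodd : Fintype.card F % 2 = 1 := FiniteField.odd_card_of_char_ne_two hF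
  have hw0 : w ≠ 0 := by
    rintro rfl
    rw [zero_pow hm] at hwm
    exact zero_ne_one hwm
  have h2F : (2 : F) ≠ 0 := Ring.two_ne_zero hF
  have hwh : w ^ (Fintype.card F / 2) = -1 :=
    (FiniteField.pow_dichotomy hF hw0).resolve_left (by rwa [← FiniteField.isSquare_iff hF hw0])
  set hh := Fintype.card F / 2 with hhh
  have h4 : Fintype.card F - 1 = 2 * hh := by omega
  have hh0 : hh ≠ 0 := by
    have : 1 < Fintype.card F := Fintype.one_lt_card
    omega
  have hvh : padicValNat 2 m ≤ padicValNat 2 hh := by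
    rw [h4, padicValNat.mul (by norm_num) hh0, padicValNat_self] at h
    omega
  obtain ⟨a, ha⟩ : ∃ a, a = padicValNat 2 m := ⟨_, rfl⟩
  obtain ⟨o, ho⟩ : 2 ^ a ∣ m := by rw [ha]; exact pow_padicValNat_dvd
  have hoodd : Odd o := by
    rw [← Nat.not_even_iff_odd, even_iff_two_dvd]
    intro h2
    obtain ⟨o', rfl⟩ := h2
    have : 2 ^ (a + 1) ∣ m := ⟨o', by rw [pow_succ, ho]; ring⟩
    have := (padicValNat_dvd_iff_le hm).mp this
    omega
  have hdvd : m ∣ hh * o := by
    have h1 : 2 ^ a ∣ hh := by rw [ha]; exact (padicValNat_dvd_iff_le hh0).mpr hvh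
    obtain ⟨c, hc⟩ := h1
    exact ⟨c, by rw [hc, ho]; ring⟩
  obtain ⟨c, hc⟩ := hdvd
  have h5 : w ^ (hh * o) = 1 := by rw [hc, pow_mul, hwm, one_pow]
  rw [pow_mul, hwh, hoodd.neg_one_pow] at h5
  apply h2F
  have : (1 : F) + 1 = 0 := by
    nth_rewrite 1 [← h5]; simp
  rw [← this]; norm_num

end Arith

end Cfsg.Agent.Lib.Helper49
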