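import Cfsg.Agent.Lib.Helper49.SimAlt
import Cfsg.Agent.Lib.Helper49.SubfieldInvol
import Cfsg.Agent.Lib.Helper49.UnipSpMain

set_option autoImplicit false
open scoped MatrixGroups

namespace Cfsg.Agent.Lib.Helper49

open Matrix Module

section Adjust

variable {F : Type*} [Field F] {n : ℕ}

/-- the subgroup of `SL_n(F)` of similarities of determinant one -/
abbrev simSL (f : (Fin n → F) → (Fin n → F) → F) : Subgroup (Matrix.SpecialLinearGroup (Fin n) F) :=
  (Cfsg.Geo.similarityGroup f).comap
    (Matrix.SpecialLinearGroup.toGL : Matrix.SpecialLinearGroup (Fin n) F →* GL (Fin n) F)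

/-- `SL`-conjugacy into the similarity group from `GL`-conjugacy and a centraliser with all
determinants -/
theorem exists_sl_conj_mem_sim (f : (Fin n → F) → (Fin n → F) → F)
    (x : Matrix.SpecialLinearGroup (Fin n) F) (g : GL (Fin n) F)
    (hg : g⁻¹ * Matrix.SpecialLinearGroup.toGL x * g ∈ Cfsg.Geo.similarityGroup f)
    (hcent : ∀ δ : F, δ ≠ 0 → ∃ c : GL (Fin n) F,
      c * Matrix.SpecialLinearGroup.toGL x = Matrix.SpecialLinearGroup.toGL x * c ∧
        (c : Matrix (Fin n) (Fin n) F).det = δ) :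
    ∃ P : Matrix.SpecialLinearGroup (Fin n) F, P⁻¹ * x * P ∈ simSL f := by
  have hgdet : (g : Matrix (Fin n) (Fin n) F).det ≠ 0 := by
    have h2 : IsUnit (g : Matrix (Fin n) (Fin n) F).det :=
      (Matrix.isUnit_iff_isUnit_det _).mp g.isUnit
    exact h2.ne_zero
  obtain ⟨c, hc, hcdet⟩ := hcent _ (inv_ne_zero hgdet)
  have hPdet : ((c * g : GL (Fin n) F) : Matrix (Fin n) (Fin n) F).det = 1 := by
    rw [Units.val_mul, Matrix.det_mul, hcdet, inv_mul_cancel₀ hgdet]
  let PS : Matrix.SpecialLinearGroup (Fin n) F :=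
    ⟨((c * g : GL (Fin n) F) : Matrix (Fin n) (Fin n) F), hPdet⟩
  have hPS : Matrix.SpecialLinearGroup.toGL PS = c * g := Units.ext rfl
  refine ⟨PS, ?_⟩
  rw [Subgroup.mem_comap, map_mul, map_mul, map_inv, hPS]
  have e1 : c⁻¹ * Matrix.SpecialLinearGroup.toGL x * c = Matrix.SpecialLinearGroup.toGL x := by
    rw [mul_assoc, ← hc, ← mul_assoc, inv_mul_cancel, one_mul]
  have e2 : (c * g)⁻¹ * Matrix.SpecialLinearGroup.toGL x * (c * g) =
      g⁻¹ * (c⁻¹ * Matrix.SpecialLinearGroup.toGL x * c) * g := by group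
  rw [e2, e1]
  exact hg

/-- a scalar multiple of a matrix has the same centraliser -/
theorem commute_smul_of_commute (l : F) (c : GL (Fin n) F) (x : Matrix.SpecialLinearGroup (Fin n) F)
    (u : Matrix (Fin n) (Fin n) F) (hxu : (x : Matrix (Fin n) (Fin n) F) = l • u)
    (hcu : (c : Matrix (Fin n) (Fin n) F) * u = u * (c : Matrix (Fin n) (Fin n) F)) :
    c * Matrix.SpecialLinearGroup.toGL x = Matrix.SpecialLinearGroup.toGL x * c := by
  apply Units.ext
  rw [Units.val_mul, Units.val_mul]
  change (c : Matrix (Fin n) (Fin n) F) * (x : Matrix (Fin n) (Fin n) F) =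
    (x : Matrix (Fin n) (Fin n) F) * (c : Matrix (Fin n) (Fin n) F)
  rw [hxu, Matrix.mul_smul, Matrix.smul_mul, hcu]

end Adjust

section TypeU

universe u

variable {F : Type u} [Field F] {n : ℕ}

/-- a unipotent matrix whose odd Jordan blocks come in pairs preserves a symplectic form -/
theorem presAlt_of_jordanBasis {g : GL (Fin n) F} {t : ℕ} {d : Fin t → ℕ}
    {b : Basis ((k : Fin t) × Fin (d k)) F (Fin n → F)}
    (hb : IsJordanBasis (nilOf g) d b) (hd : ∀ k, 1 ≤ d k)
    (hpar : ∀ j : ℕ, Odd j → Even (Finset.univ.filter (fun k : Fin t => d k = j)).card) :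
    PresAlt (g : Matrix (Fin n) (Fin n) F) := by
  classical
  have h1 : PresAlt (Cfsg.jordanTypeMatrix d F) := presAlt_jordanTypeMatrix_of_parity d hd hpar
  obtain ⟨Φ, hΦ⟩ := exists_intertwiner (jnil_isJordanBasis (F := F) d) hb (Equiv.refl _)
    (fun k => rfl)
  apply PresAlt.transport Φ _ h1
  intro x
  have e1 : Cfsg.jordanTypeMatrix d F *ᵥ x = x + jnil F d x := by
    unfold jnil jnilM
    rw [Matrix.toLin'_apply, Matrix.sub_mulVec, Matrix.one_mulVec]
    abel
  have e2 : (g : Matrix (Fin n) (Fin n) F) *ᵥ Φ x = Φ x + nilOf g (Φ x) := by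
    unfold nilOf
    rw [Matrix.toLin'_apply, Matrix.sub_mulVec, Matrix.one_mulVec]
    abel
  rw [e1, e2, map_add, hΦ]

theorem exists_block_scaling_two [Finite F] [CharP F 2] {t : ℕ} (d : Fin t → ℕ)
    (hle : ∀ k, d k ≤ 2) (hd : ∀ k, 1 ≤ d k) (k₀ : Fin t) (δ : F) (hδ : δ ≠ 0) :
    ∃ w : Fin t → Fˣ, (∏ k, ((w k : Fˣ) : F) ^ d k) = δ := by
  classical
  by_cases h1 : ∃ k, d k = 1
  · obtain ⟨k, hk⟩ := h1
    refine ⟨Pi.mulSingle k (Units.mk0 δ hδ), ?_⟩
    rw [prod_pow_mulSingle, hk, pow_one, Units.val_mk0]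
  · push Not at h1
    have hk2 : d k₀ = 2 := by
      have := hle k₀; have := hd k₀; have := h1 k₀; omega
    have hinj : Function.Injective (frobenius F 2) := frobenius_inj F 2
    have hsurj : Function.Surjective (frobenius F 2) := Finite.surjective_of_injective hinj
    obtain ⟨a, ha⟩ := hsurj δ
    rw [frobenius_def] at ha
    have ha0 : a ≠ 0 := by
      rintro rfl
      apply hδ; rw [← ha]; simp
    refine ⟨Pi.mulSingle k₀ (Units.mk0 a ha0), ?_⟩
    rw [prod_pow_mulSingle, hk2, Units.val_mk0, ha]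

/-- characteristic 2: every element with scalar square is conjugate into the similarity group -/
theorem conj_sim_char_two [Finite F] [CharP F 2] (f : (Fin n → F) → (Fin n → F) → F)
    (hf : Cfsg.Geo.IsSymplecticForm f) (m : ℕ) (hn : n = 2 * m) (hn0 : 0 < n)
    (x : Matrix.SpecialLinearGroup (Fin n) F) (z : F)
    (hx2 : ((x ^ 2 : Matrix.SpecialLinearGroup (Fin n) F) : Matrix (Fin n) (Fin n) F) =
      z • (1 : Matrix (Fin n) (Fin n) F)) :
    ∃ P : Matrix.SpecialLinearGroup (Fin n) F, P⁻¹ * x * P ∈ simSL f := by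
  classical
  haveI : Fact (Nat.Prime 2) := ⟨Nat.prime_two⟩
  haveI : Nonempty (Fin n) := ⟨⟨0, hn0⟩⟩
  have hinj : Function.Injective (frobenius F 2) := frobenius_inj F 2
  have hsurj : Function.Surjective (frobenius F 2) := Finite.surjective_of_injective hinj
  obtain ⟨l, hl⟩ := hsurj z
  rw [frobenius_def] at hl
  rw [Matrix.SpecialLinearGroup.coe_pow] at hx2
  have hl0 : l ≠ 0 := by
    rintro rfl
    have hz : z = 0 := by rw [← hl]; simp
    have h1 : ((x : Matrix (Fin n) (Fin n) F) ^ 2).det = 0 := by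
      rw [hx2, hz, zero_smul, Matrix.det_zero]
    rw [Matrix.det_pow, x.det_coe, one_pow] at h1
    exact one_ne_zero h1
  have hudet : (l⁻¹ • (x : Matrix (Fin n) (Fin n) F)).det ≠ 0 := by
    rw [Matrix.det_smul, x.det_coe, mul_one]
    exact pow_ne_zero _ (inv_ne_zero hl0)
  let u : GL (Fin n) F := Matrix.GeneralLinearGroup.mkOfDetNeZero _ hudet
  have hu : (u : Matrix (Fin n) (Fin n) F) = l⁻¹ • (x : Matrix (Fin n) (Fin n) F) := rfl
  have hxu : (x : Matrix (Fin n) (Fin n) F) = l • (u : Matrix (Fin n) (Fin n) F) := by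
    rw [hu, smul_smul, mul_inv_cancel₀ hl0, one_smul]
  have hup : u ^ 2 = 1 := by
    apply Units.ext
    rw [Units.val_pow_eq_pow_val, hu, _root_.smul_pow, hx2, smul_smul, inv_pow, hl,
      inv_mul_cancel₀, one_smul]
    · rfl
    · rw [← hl]; exact pow_ne_zero _ hl0
  have hup' : ((u : Matrix (Fin n) (Fin n) F) - 1) ^ 2 = 0 := by
    have := (pow_char_pow_eq_one_iff 2 u 1).mp (by rwa [pow_one])
    rwa [pow_one] at this
  obtain ⟨μ, hμ⟩ := exists_hasType u 2 hup'
  have hparts := (hμ.pow_eq_zero_iff 2).mp hup'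
  obtain ⟨t, d, b, hd, hb, hdμ⟩ := hμ
  have hle : ∀ k, d k ≤ 2 := by
    intro k
    apply hparts
    rw [← hdμ]
    exact Multiset.mem_map_of_mem d (Finset.mem_univ_val k)
  have hsum := sum_eq_of_basis d b
  -- parity of the number of blocks of size one
  have hpar : ∀ j : ℕ, Odd j → Even (Finset.univ.filter (fun k : Fin t => d k = j)).card := by
    intro j hj
    by_cases hj1 : j = 1
    · subst hj1
      have h1 : (∑ k, d k) % 2 = (Finset.univ.filter (fun k : Fin t => d k = 1)).card % 2 := by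
        rw [Finset.card_filter, Finset.sum_nat_mod]
        congr 1
        apply Finset.sum_congr rfl
        intro k _
        have := hle k; have := hd k
        split_ifs with h
        · rw [h]
        · have : d k = 2 := by omega
          rw [this]
      rw [hsum, hn] at h1
      rw [Nat.even_iff]
      omega
    · have : (Finset.univ.filter (fun k : Fin t => d k = j)) = ∅ := by
        apply Finset.filter_eq_empty_iff.mpr
        intro k _ hk
        have := hle k; have := hd k
        rcases hj with ⟨r, hr⟩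
        omega
      rw [this, Finset.card_empty]
      exact Even.zero
  have hpres : PresAlt (u : Matrix (Fin n) (Fin n) F) := presAlt_of_jordanBasis hb hd hpar
  have hsim : SimAlt ((Matrix.SpecialLinearGroup.toGL x : GL (Fin n) F) : Matrix (Fin n) (Fin n) F) := by
    change SimAlt (x : Matrix (Fin n) (Fin n) F)
    rw [hxu]
    exact hpres.simAlt.smul l
  obtain ⟨g, hg⟩ := SimAlt.exists_conj_mem_sim f hf m hn hn0 _ hsim
  apply exists_sl_conj_mem_sim f x g hg
  intro δ hδ
  have ht : 0 < t := by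
    by_contra h0
    have : t = 0 := by omega
    subst this
    simp at hsum
    omega
  obtain ⟨w, hw⟩ := exists_block_scaling_two d hle hd ⟨0, ht⟩ δ hδ
  obtain ⟨c, hc, hcdet⟩ := exists_commute_det hb w
  refine ⟨c, ?_, by rw [hcdet, hw]⟩
  apply commute_smul_of_commute l c x _ hxu
  have := congrArg (fun y : GL (Fin n) F => (y : Matrix (Fin n) (Fin n) F)) hc
  simpa [Units.val_mul] using this

end TypeU

section TypeS

variable {F : Type*} [Field F] {n : ℕ}

theorem card_fiber_bool {ι : Type*} [Fintype ι] [DecidableEq ι] (p : ι → Prop) [DecidablePred p]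
    (j : ℕ) :
    (Finset.univ.filter fun i => (if p i then 1 else 0 : ℕ) = j).card =
      if j = 1 then (Finset.univ.filter p).card
      else if j = 0 then Fintype.card ι - (Finset.univ.filter p).card else 0 := by
  by_cases h1 : j = 1
  · subst h1
    rw [if_pos rfl]
    congr 1
    apply Finset.filter_congr
    intro i _
    by_cases hp : p i <;> simp [hp]
  · rw [if_neg h1]
    by_cases h0 : j = 0
    · subst h0
      rw [if_pos rfl]
      have h3 := Finset.card_filter_add_card_filter_not (s := (Finset.univ : Finset ι)) p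
      rw [Finset.card_univ] at h3
      have h4 : (Finset.univ.filter fun i => (if p i then 1 else 0 : ℕ) = 0) =
          Finset.univ.filter fun i => ¬ p i := by
        apply Finset.filter_congr
        intro i _
        by_cases hp : p i <;> simp [hp]
      rw [h4]
      omega
    · rw [if_neg h0]
      rw [Finset.card_eq_zero]
      apply Finset.filter_eq_empty_iff.mpr
      intro i _
      by_cases hp : p i
      · rw [if_pos hp]; exact fun h => h1 h.symm
      · rw [if_neg hp]; exact fun h => h0 h.symm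

/-- a `±1` diagonal matrix with an even number of `-1`s (in even dimension) preserves a symplectic
form -/
theorem simAlt_diagonal_pm [DecidableEq F] (h2 : (2 : F) ≠ 0) (m : ℕ) (hn : n = 2 * m) (ε : Fin n → F)
    (hε : ∀ i, ε i = 1 ∨ ε i = -1)
    (hb : Even (Finset.univ.filter (fun i => ε i = -1)).card) : SimAlt (Matrix.diagonal ε) := by
  have h1ne : (1 : F) ≠ -1 := by
    intro h
    apply h2
    have : (1 : F) + 1 = 0 := by nth_rewrite 1 [h]; simp
    rw [← this]; norm_num
  have key : ∀ (c : Prop) [Decidable c] (e : Prop) [Decidable e],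
      (if c then 1 else 0 : ℕ) = (if e then 1 else 0) → (c ↔ e) := by
    intro c _ e _ h
    by_cases hc : c <;> by_cases he : e <;> simp [hc, he] at h ⊢
  -- the numbers of `+1`s and `-1`s
  have hab : (Finset.univ.filter (fun i => ε i = 1)).card +
      (Finset.univ.filter (fun i => ε i = -1)).card = n := by
    have h3 := Finset.card_filter_add_card_filter_not (s := (Finset.univ : Finset (Fin n)))
      (fun i => ε i = 1)
    rw [Finset.card_univ, Fintype.card_fin] at h3
    have h4 : (Finset.univ.filter fun i => ¬ ε i = 1) = Finset.univ.filter fun i => ε i = -1 := by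
      apply Finset.filter_congr
      intro i _
      rcases hε i with h | h
      · simp [h, h1ne]
      · simp [h, h1ne.symm]
    rw [h4] at h3
    exact h3
  obtain ⟨b', hb'⟩ := hb
  obtain ⟨a', ha'⟩ : ∃ a', (Finset.univ.filter (fun i => ε i = 1)).card = a' + a' := by
    refine ⟨m - b', ?_⟩
    omega
  have ha'm : a' ≤ m := by omega
  let ε' : Fin m → F := fun i => if (i : ℕ) < a' then 1 else -1
  let d : Fin n → ℕ := fun i => if ε i = 1 then 1 else 0
  let d' : Fin m ⊕ Fin m → ℕ := fun y => if (Sum.elim (fun i : Fin m => (i : ℕ)) (fun i : Fin m => (i : ℕ)) y) < a' then 1 else 0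
  have hfib : ∀ j, (Finset.univ.filter fun k => d k = j).card =
      (Finset.univ.filter fun k => d' k = j).card := by
    intro j
    rw [card_fiber_bool (fun i => ε i = 1) j,
      card_fiber_bool (fun y : Fin m ⊕ Fin m =>
        (Sum.elim (fun i : Fin m => (i : ℕ)) (fun i : Fin m => (i : ℕ)) y) < a') j]
    have hc1 : (Finset.univ.filter fun y : Fin m ⊕ Fin m =>
        (Sum.elim (fun i : Fin m => (i : ℕ)) (fun i : Fin m => (i : ℕ)) y) < a').card = a' + a' := by
      rw [Finset.card_filter, Fintype.sum_sum_type]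
      change (∑ a₁ : Fin m, if (a₁ : ℕ) < a' then 1 else 0) +
        (∑ a₂ : Fin m, if (a₂ : ℕ) < a' then 1 else 0) = a' + a'
      rw [← Finset.card_filter, Fin.card_filter_val_lt, min_eq_right ha'm]
    rw [hc1, ha', Fintype.card_fin, Fintype.card_sum, Fintype.card_fin, hn]
    congr 2
    ring_nf
  obtain ⟨σ, hσ⟩ := exists_equiv_of_card_fibers_eq d d' hfib
  -- the model
  have hD₀ : SimAlt (Matrix.fromBlocks (Matrix.diagonal ε') 0 0 (Matrix.diagonal ε')) := by
    apply simAlt_of_J _ 1
    have hEE : Matrix.diagonal ε' * Matrix.diagonal ε' = (1 : Matrix (Fin m) (Fin m) F) := by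
      rw [Matrix.diagonal_mul_diagonal, ← Matrix.diagonal_one]
      congr 1
      funext i
      change (if (i : ℕ) < a' then (1 : F) else -1) * (if (i : ℕ) < a' then (1 : F) else -1) = 1
      split_ifs <;> simp
    rw [Matrix.fromBlocks_transpose, Matrix.transpose_zero, Matrix.diagonal_transpose]
    unfold Matrix.J
    rw [Matrix.fromBlocks_multiply, Matrix.fromBlocks_multiply]
    simp only [Matrix.mul_zero, Matrix.zero_mul, add_zero, zero_add, Matrix.mul_neg, Matrix.mul_one,
      Matrix.neg_mul, hEE, one_smul, neg_zero]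
  have hD : Matrix.diagonal ε = Matrix.reindex σ.symm σ.symm
      (Matrix.fromBlocks (Matrix.diagonal ε') 0 0 (Matrix.diagonal ε')) := by
    rw [Matrix.fromBlocks_diagonal]
    ext i j
    rw [Matrix.reindex_apply, Matrix.submatrix_apply, Equiv.symm_symm, Matrix.diagonal_apply,
      Matrix.diagonal_apply]
    by_cases hij : i = j
    · subst hij
      rw [if_pos rfl, if_pos rfl]
      have h5 := key _ _ (hσ i)
      rcases hy : σ i with y | y
      · rw [hy] at h5
        change ((y : ℕ) < a') ↔ ε i = 1 at h5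
        change ε i = if (y : ℕ) < a' then (1 : F) else -1
        by_cases hlt : (y : ℕ) < a'
        · rw [if_pos hlt]; exact h5.mp hlt
        · rw [if_neg hlt]
          rcases hε i with h | h
          · exact absurd (h5.mpr h) hlt
          · exact h
      · rw [hy] at h5
        change ((y : ℕ) < a') ↔ ε i = 1 at h5
        change ε i = if (y : ℕ) < a' then (1 : F) else -1
        by_cases hlt : (y : ℕ) < a'
        · rw [if_pos hlt]; exact h5.mp hlt
        · rw [if_neg hlt]
          rcases hε i with h | h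
          · exact absurd (h5.mpr h) hlt
          · exact h
    · rw [if_neg hij, if_neg (fun h => hij (σ.injective h))]
  rw [hD]
  exact hD₀.reindex _

/-- odd characteristic, square scalar: conjugate into the similarity group when `-1` is not an
`n`-th power -/
theorem conj_sim_of_sq (h2 : (2 : F) ≠ 0) (f : (Fin n → F) → (Fin n → F) → F)
    (hf : Cfsg.Geo.IsSymplecticForm f) (m : ℕ) (hn : n = 2 * m) (hn0 : 0 < n)
    (x : Matrix.SpecialLinearGroup (Fin n) F) (l : F)
    (hx2 : ((x ^ 2 : Matrix.SpecialLinearGroup (Fin n) F) : Matrix (Fin n) (Fin n) F) =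
      (l ^ 2) • (1 : Matrix (Fin n) (Fin n) F))
    (hnp : ∀ a : F, a ^ n ≠ -1) :
    ∃ P : Matrix.SpecialLinearGroup (Fin n) F, P⁻¹ * x * P ∈ simSL f := by
  classical
  have : Nonempty (Fin n) := ⟨⟨0, hn0⟩⟩
  rw [Matrix.SpecialLinearGroup.coe_pow] at hx2
  have hl0 : l ≠ 0 := by
    rintro rfl
    have h1 : ((x : Matrix (Fin n) (Fin n) F) ^ 2).det = 0 := by
      rw [hx2]; simp
    rw [Matrix.det_pow, x.det_coe, one_pow] at h1
    exact one_ne_zero h1
  set s : Matrix (Fin n) (Fin n) F := l⁻¹ • (x : Matrix (Fin n) (Fin n) F) with hs_def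
  have hxs : (x : Matrix (Fin n) (Fin n) F) = l • s := by
    rw [hs_def, smul_smul, mul_inv_cancel₀ hl0, one_smul]
  have hs : s * s = 1 := by
    have hxx : (x : Matrix (Fin n) (Fin n) F) * (x : Matrix (Fin n) (Fin n) F) =
        (l ^ 2) • (1 : Matrix (Fin n) (Fin n) F) := by
      rw [← pow_two]; exact hx2
    rw [hs_def, Matrix.smul_mul, Matrix.mul_smul, smul_smul, hxx, smul_smul]
    have : l⁻¹ * l⁻¹ * l ^ 2 = 1 := by field_simp
    rw [this, one_smul]
  obtain ⟨P, ε, hPdet, hε, hsP⟩ := exists_sl_conj_diag h2 hn0 s hs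
  have hPP : P * P⁻¹ = 1 := Matrix.mul_nonsing_inv P (by rw [hPdet]; exact isUnit_one)
  have hPP' : P⁻¹ * P = 1 := Matrix.nonsing_inv_mul P (by rw [hPdet]; exact isUnit_one)
  have hsPD : s = P * Matrix.diagonal ε * P⁻¹ := by
    rw [← hsP, mul_assoc, hPP, mul_one]
  -- the number of `-1`s is even
  have hsdet : s.det = ∏ i, ε i := by
    rw [hsPD, Matrix.det_mul, Matrix.det_mul, Matrix.det_diagonal, hPdet, one_mul]
    have : P.det * (P⁻¹).det = 1 := by rw [← Matrix.det_mul, hPP, Matrix.det_one]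
    rw [hPdet, one_mul] at this
    rw [this, mul_one]
  have hsdet' : s.det = (l⁻¹) ^ n := by
    rw [hs_def, Matrix.det_smul, x.det_coe, mul_one, Fintype.card_fin]
  have hprod : ∏ i, ε i = (-1 : F) ^ (Finset.univ.filter (fun i => ε i = -1)).card := by
    have h1 : ∀ i, ε i = if ε i = -1 then (-1 : F) else 1 := by
      intro i
      rcases hε i with h | h
      · rw [h]
        by_cases h' : (1 : F) = -1
        · rw [if_pos h']; exact h'
        · rw [if_neg h']
      · rw [h]; simp
    rw [Finset.prod_congr rfl (fun i _ => h1 i), Finset.prod_ite, Finset.prod_const,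
      Finset.prod_const_one, mul_one]
  have hbeven : Even (Finset.univ.filter (fun i => ε i = -1)).card := by
    by_contra hodd
    rw [Nat.not_even_iff_odd] at hodd
    rw [hodd.neg_one_pow] at hprod
    exact hnp l⁻¹ (by rw [← hsdet', hsdet, hprod])
  have hsimD : SimAlt (Matrix.diagonal ε) := simAlt_diagonal_pm h2 m hn ε hε hbeven
  have hsims : SimAlt s := by
    apply SimAlt.conj P P⁻¹ hPP hPP' _ hsimD
    exact hsP.symm
  have hsim : SimAlt ((Matrix.SpecialLinearGroup.toGL x : GL (Fin n) F) : Matrix (Fin n) (Fin n) F) := by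
    change SimAlt (x : Matrix (Fin n) (Fin n) F)
    rw [hxs]
    exact hsims.smul l
  obtain ⟨g, hg⟩ := SimAlt.exists_conj_mem_sim f hf m hn hn0 _ hsim
  apply exists_sl_conj_mem_sim f x g hg
  intro δ hδ
  let dv : Fin n → F := Function.update (fun _ => (1 : F)) ⟨0, hn0⟩ δ
  have hdvdet : (Matrix.diagonal dv).det = δ := by
    rw [Matrix.det_diagonal, Finset.prod_eq_single (⟨0, hn0⟩ : Fin n)]
    · simp [dv]
    · intro b _ hb
      simp [dv, Function.update_of_ne hb]
    · intro h; exact absurd (Finset.mem_univ _) h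
  have hcdet : (P * Matrix.diagonal dv * P⁻¹).det = δ := by
    rw [Matrix.det_mul, Matrix.det_mul, hdvdet, hPdet, one_mul]
    have : P.det * (P⁻¹).det = 1 := by rw [← Matrix.det_mul, hPP, Matrix.det_one]
    rw [hPdet, one_mul] at this
    rw [this, mul_one]
  let c : GL (Fin n) F := Matrix.GeneralLinearGroup.mkOfDetNeZero (P * Matrix.diagonal dv * P⁻¹)
    (by rw [hcdet]; exact hδ)
  refine ⟨c, ?_, hcdet⟩
  apply commute_smul_of_commute l c x s hxs
  change P * Matrix.diagonal dv * P⁻¹ * s = s * (P * Matrix.diagonal dv * P⁻¹)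
  rw [hsPD]
  have e1 : P * Matrix.diagonal dv * P⁻¹ * (P * Matrix.diagonal ε * P⁻¹) =
      P * (Matrix.diagonal dv * Matrix.diagonal ε) * P⁻¹ := by
    simp only [mul_assoc]
    rw [← mul_assoc P⁻¹ P, hPP', one_mul]
  have e2 : P * Matrix.diagonal ε * P⁻¹ * (P * Matrix.diagonal dv * P⁻¹) =
      P * (Matrix.diagonal ε * Matrix.diagonal dv) * P⁻¹ := by
    simp only [mul_assoc]
    rw [← mul_assoc P⁻¹ P, hPP', one_mul]
  rw [e1, e2, Matrix.diagonal_mul_diagonal, Matrix.diagonal_mul_diagonal]
  congr 3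
  funext i
  exact mul_comm _ _

end TypeS

section TypeN

variable {F : Type*} [Field F] {n : ℕ}

/-- block matrices with diagonal blocks -/
def db {m : ℕ} (a b c d : Fin m → F) : Matrix (Fin m ⊕ Fin m) (Fin m ⊕ Fin m) F :=
  Matrix.fromBlocks (Matrix.diagonal a) (Matrix.diagonal b) (Matrix.diagonal c) (Matrix.diagonal d)

theorem db_mul {m : ℕ} (a b c d a' b' c' d' : Fin m → F) :
    db a b c d * db a' b' c' d' =
      db (a * a' + b * c') (a * b' + b * d') (c * a' + d * c') (c * b' + d * d') := by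
  unfold db
  rw [Matrix.fromBlocks_multiply]
  simp only [Matrix.diagonal_mul_diagonal, Matrix.diagonal_add]
  rfl

theorem db_transpose {m : ℕ} (a b c d : Fin m → F) : (db a b c d)ᵀ = db a c b d := by
  unfold db
  rw [Matrix.fromBlocks_transpose]
  simp only [Matrix.diagonal_transpose]

theorem smul_db {m : ℕ} (k : F) (a b c d : Fin m → F) :
    k • db a b c d = db (k • a) (k • b) (k • c) (k • d) := by
  unfold db
  rw [Matrix.fromBlocks_smul]
  simp only [Matrix.diagonal_smul]

theorem J_eq_db (m : ℕ) : Matrix.J (Fin m) F = db 0 (-1) 1 0 := by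
  unfold db Matrix.J
  congr 1 <;> ext i j <;> by_cases hij : i = j <;>
    simp [Matrix.diagonal_apply, Matrix.one_apply, Matrix.neg_apply, hij]

theorem sqModel_eq_db (m : ℕ) (z : F) : sqModel m z = db 1 (fun _ => z - 1) 1 (-1) := by
  unfold db sqModel
  congr 1 <;> ext i j <;> by_cases hij : i = j <;>
    simp [Matrix.diagonal_apply, Matrix.one_apply, Matrix.neg_apply, Matrix.smul_apply, hij]

theorem det_db {m : ℕ} (a b c d : Fin m → F) :
    (db a b c d).det = ∏ i, (a i * d i - b i * c i) := by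
  classical
  let e₂ : Fin 2 × Fin m ≃ Fin m ⊕ Fin m :=
    { toFun := fun p => if p.1 = 0 then Sum.inl p.2 else Sum.inr p.2
      invFun := Sum.elim (fun i => (0, i)) (fun i => (1, i))
      left_inv := by
        rintro ⟨j, i⟩
        fin_cases j <;> simp
      right_inv := by
        rintro (i | i) <;> simp }
  have h1 : db a b c d = Matrix.reindex e₂ e₂
      (Matrix.blockDiagonal fun i : Fin m => !![a i, b i; c i, d i]) := by
    unfold db
    ext (i | i) (j | j)
    · rw [Matrix.reindex_apply, Matrix.submatrix_apply, Matrix.fromBlocks_apply₁₁]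
      change _ = Matrix.blockDiagonal _ ((0 : Fin 2), i) ((0 : Fin 2), j)
      rw [Matrix.blockDiagonal_apply, Matrix.diagonal_apply]
      simp
    · rw [Matrix.reindex_apply, Matrix.submatrix_apply, Matrix.fromBlocks_apply₁₂]
      change _ = Matrix.blockDiagonal _ ((0 : Fin 2), i) ((1 : Fin 2), j)
      rw [Matrix.blockDiagonal_apply, Matrix.diagonal_apply]
      simp
    · rw [Matrix.reindex_apply, Matrix.submatrix_apply, Matrix.fromBlocks_apply₂₁]
      change _ = Matrix.blockDiagonal _ ((1 : Fin 2), i) ((0 : Fin 2), j)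
      rw [Matrix.blockDiagonal_apply, Matrix.diagonal_apply]
      simp
    · rw [Matrix.reindex_apply, Matrix.submatrix_apply, Matrix.fromBlocks_apply₂₂]
      change _ = Matrix.blockDiagonal _ ((1 : Fin 2), i) ((1 : Fin 2), j)
      rw [Matrix.blockDiagonal_apply, Matrix.diagonal_apply]
      simp
  rw [h1, Matrix.det_reindex_self, Matrix.det_blockDiagonal]
  apply Finset.prod_congr rfl
  intro i _
  rw [Matrix.det_fin_two_of]

theorem simAlt_sqModel (m : ℕ) (z : F) : SimAlt (sqModel m z) := by
  apply simAlt_of_J _ (-z)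
  rw [sqModel_eq_db, J_eq_db, db_transpose, db_mul, db_mul, smul_db]
  congr 1 <;> funext i <;> simp <;> ring

open Polynomial in
theorem aeval_toLin'_sq_sub (A : Matrix (Fin n) (Fin n) F) (z : F)
    (hA : A * A = z • (1 : Matrix (Fin n) (Fin n) F)) :
    aeval (Matrix.toLin' A) (X ^ 2 - C z : F[X]) = 0 := by
  rw [map_sub, map_pow, aeval_X, aeval_C, pow_two, Module.End.mul_eq_comp, ← Matrix.toLin'_mul, hA,
    Algebra.algebraMap_eq_smul_one, map_smul, Matrix.toLin'_one]
  exact sub_self _

/-- odd characteristic, non-square scalar: always conjugate into the similarity group -/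
theorem conj_sim_of_nonsquare [Fintype F] (hF : ringChar F ≠ 2)
    (f : (Fin n → F) → (Fin n → F) → F)
    (hf : Cfsg.Geo.IsSymplecticForm f) (m : ℕ) (hn : n = 2 * m) (hn0 : 0 < n)
    (x : Matrix.SpecialLinearGroup (Fin n) F) (z : F) (hz : ¬ IsSquare z)
    (hx2 : ((x ^ 2 : Matrix.SpecialLinearGroup (Fin n) F) : Matrix (Fin n) (Fin n) F) =
      z • (1 : Matrix (Fin n) (Fin n) F)) :
    ∃ P : Matrix.SpecialLinearGroup (Fin n) F, P⁻¹ * x * P ∈ simSL f := by
  classical
  have hm0 : 0 < m := by omega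
  rw [Matrix.SpecialLinearGroup.coe_pow, pow_two] at hx2
  have hz0 : z ≠ 0 := by
    rintro rfl; exact hz ⟨0, by simp⟩
  let e : Fin m ⊕ Fin m ≃ Fin n := finSumFinEquiv.trans (finCongr (by omega))
  set X₀ : Matrix (Fin n) (Fin n) F := Matrix.reindex e e (sqModel m z) with hX₀
  have hX₀2 : X₀ * X₀ = z • (1 : Matrix (Fin n) (Fin n) F) := by
    rw [hX₀, Matrix.reindex_apply, Matrix.submatrix_mul_equiv, sqModel_mul_self]
    ext i j
    rw [Matrix.submatrix_apply, Matrix.smul_apply, Matrix.smul_apply, Matrix.one_apply,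
      Matrix.one_apply]
    simp only [e.symm.injective.eq_iff]
  have hirr : Irreducible (Polynomial.X ^ 2 - Polynomial.C z : Polynomial F) := by
    apply X_pow_sub_C_irreducible_of_prime Nat.prime_two
    intro b hb
    exact hz ⟨b, by rw [← hb, pow_two]⟩
  obtain ⟨φ, hφ⟩ := exists_equiv_of_irreducible (Matrix.toLin' (x : Matrix (Fin n) (Fin n) F))
    (Matrix.toLin' X₀) _ hirr (aeval_toLin'_sq_sub _ z hx2) (aeval_toLin'_sq_sub _ z hX₀2) rfl
  let G : Matrix (Fin n) (Fin n) F := LinearMap.toMatrix' (φ : (Fin n → F) →ₗ[F] (Fin n → F))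
  let G' : Matrix (Fin n) (Fin n) F := LinearMap.toMatrix' (φ.symm : (Fin n → F) →ₗ[F] (Fin n → F))
  have hGG' : G * G' = 1 := by
    rw [← LinearMap.toMatrix'_comp]; simp
  have hG'G : G' * G = 1 := by
    rw [← LinearMap.toMatrix'_comp]; simp
  have hGx : G * (x : Matrix (Fin n) (Fin n) F) = X₀ * G := by
    apply Matrix.toLin'.injective
    apply LinearMap.ext
    intro v
    rw [Matrix.toLin'_mul, Matrix.toLin'_mul, LinearMap.comp_apply, LinearMap.comp_apply]
    have e1 : Matrix.toLin' G = (φ : (Fin n → F) →ₗ[F] (Fin n → F)) := Matrix.toLin'_toMatrix' _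
    rw [e1]
    exact hφ v
  have hG'X : G' * X₀ = (x : Matrix (Fin n) (Fin n) F) * G' := by
    calc G' * X₀ = G' * (X₀ * G) * G' := by rw [mul_assoc, mul_assoc, hGG', mul_one]
      _ = G' * (G * (x : Matrix (Fin n) (Fin n) F)) * G' := by rw [hGx]
      _ = (x : Matrix (Fin n) (Fin n) F) * G' := by rw [← mul_assoc, hG'G, one_mul]
  have hsimX₀ : SimAlt X₀ := (simAlt_sqModel m z).reindex e
  have hsim : SimAlt ((Matrix.SpecialLinearGroup.toGL x : GL (Fin n) F) : Matrix (Fin n) (Fin n) F) := by
    change SimAlt (x : Matrix (Fin n) (Fin n) F)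
    exact SimAlt.conj G' G hG'G hGG' hG'X hsimX₀
  obtain ⟨g, hg⟩ := SimAlt.exists_conj_mem_sim f hf m hn hn0 _ hsim
  apply exists_sl_conj_mem_sim f x g hg
  intro δ hδ
  -- the norm form is surjective
  have hodd : Fintype.card F % 2 = 1 := FiniteField.odd_card_of_char_ne_two hF
  obtain ⟨a₀, b₀, hab⟩ := FiniteField.exists_root_sum_quadratic
    (f := (Polynomial.X ^ 2 : Polynomial F))
    (g := Polynomial.C (-z) * Polynomial.X ^ 2 + Polynomial.C (-δ))
    (Polynomial.degree_X_pow 2)
    (by
      rw [Polynomial.degree_add_C, Polynomial.degree_C_mul_X_pow 2 (neg_ne_zero.mpr hz0)]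
      · rfl
      · rw [Polynomial.degree_C_mul_X_pow 2 (neg_ne_zero.mpr hz0)]; norm_num)
    hodd
  simp only [Polynomial.eval_pow, Polynomial.eval_X, Polynomial.eval_add, Polynomial.eval_mul,
    Polynomial.eval_C] at hab
  have hab' : a₀ ^ 2 - z * b₀ ^ 2 = δ := by linear_combination hab
  let av : Fin m → F := Function.update (fun _ => (1 : F)) ⟨0, hm0⟩ a₀
  let bv : Fin m → F := Function.update (fun _ => (0 : F)) ⟨0, hm0⟩ b₀
  set C₀ : Matrix (Fin m ⊕ Fin m) (Fin m ⊕ Fin m) F :=
    db (av + bv) ((z - 1) • bv) bv (av - bv) with hC₀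
  have hC₀det : C₀.det = δ := by
    rw [hC₀, det_db, Finset.prod_eq_single (⟨0, hm0⟩ : Fin m)]
    · simp only [Pi.add_apply, Pi.sub_apply, Pi.smul_apply, smul_eq_mul, av, bv,
        Function.update_self]
      rw [← hab']; ring
    · intro i _ hi
      simp only [Pi.add_apply, Pi.sub_apply, Pi.smul_apply, smul_eq_mul, av, bv,
        Function.update_of_ne hi]
      ring
    · intro h; exact absurd (Finset.mem_univ _) h
  have hC₀comm : C₀ * sqModel m z = sqModel m z * C₀ := by
    rw [hC₀, sqModel_eq_db, db_mul, db_mul]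
    congr 1 <;> funext i <;> simp <;> ring
  set Cn : Matrix (Fin n) (Fin n) F := Matrix.reindex e e C₀ with hCn
  have hCndet : Cn.det = δ := by rw [hCn, Matrix.det_reindex_self, hC₀det]
  have hCncomm : Cn * X₀ = X₀ * Cn := by
    rw [hCn, hX₀, Matrix.reindex_apply, Matrix.reindex_apply, Matrix.submatrix_mul_equiv,
      Matrix.submatrix_mul_equiv, hC₀comm]
  have hcdet : (G' * Cn * G).det = δ := by
    rw [Matrix.det_mul, Matrix.det_mul, hCndet]
    have : G'.det * G.det = 1 := by rw [← Matrix.det_mul, hG'G, Matrix.det_one]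
    calc G'.det * δ * G.det = (G'.det * G.det) * δ := by ring
      _ = δ := by rw [this, one_mul]
  let c : GL (Fin n) F := Matrix.GeneralLinearGroup.mkOfDetNeZero (G' * Cn * G)
    (by rw [hcdet]; exact hδ)
  refine ⟨c, ?_, hcdet⟩
  apply commute_smul_of_commute 1 c x (x : Matrix (Fin n) (Fin n) F) (one_smul _ _).symm
  change G' * Cn * G * (x : Matrix (Fin n) (Fin n) F) = (x : Matrix (Fin n) (Fin n) F) * (G' * Cn * G)
  calc G' * Cn * G * (x : Matrix (Fin n) (Fin n) F)
      = G' * Cn * (G * (x : Matrix (Fin n) (Fin n) F)) := by rw [mul_assoc]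
    _ = G' * (Cn * X₀) * G := by rw [hGx]; simp only [mul_assoc]
    _ = G' * X₀ * Cn * G := by rw [hCncomm]; simp only [mul_assoc]
    _ = (x : Matrix (Fin n) (Fin n) F) * (G' * Cn * G) := by rw [hG'X]; simp only [mul_assoc]

end TypeN

end Cfsg.Agent.Lib.Helper49
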