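/-
K-SylTwo-A8a (keystone 292814, architect helper6, S2928): on 8 points a normal quasisimple subgroup `K` of `M`
with `C_M(K) ≤ K` and `64 ∣ |M|` is transitive.
-/
import Mathlib
import Cfsg.Prelude.Def_Local
import Cfsg.Agent.Lib.Helper06.SylAlt.Defs
import Cfsg.Agent.Lib.Helper06.SylTwo.Defs
import Cfsg.Agent.Lib.Helper06.SylAlt.P4
import Cfsg.Agent.Lib.Helper64.MarggrafC

set_option autoImplicit false
set_option linter.unusedSectionVars false

namespace Cfsg.Agent.Lib.Helper49.SylTwo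

open Equiv Equiv.Perm MulAction
open Cfsg.Agent.Lib.Helper06.SylAlt Cfsg.Agent.Lib.Helper06.SylTwo

variable {M β : Type*} [Group M] [Finite M] [MulAction M β] [FaithfulSMul M β] [Fintype β] [DecidableEq β]

/-- a perfect subgroup fixes pointwise every invariant set with at most four elements -/
theorem fix_of_perfect_smul (K : Subgroup M) (hperf : ⁅K, K⁆ = K) (Δ : Set β)
    (hΔ : ∀ k ∈ K, ∀ x ∈ Δ, k • x ∈ Δ) (hc : Δ.ncard ≤ 4) : ∀ k ∈ K, ∀ x ∈ Δ, k • x = x := by
  classical
  set φ : M →* Perm β := MulAction.toPermHom M β with hφ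
  have hperf' : ⁅K.map φ, K.map φ⁆ = K.map φ := by
    rw [← Subgroup.map_commutator, hperf]
  intro k hk x hx
  exact fix_of_perfect_of_ncard_le_four (K.map φ) hperf' Δ
    (by
      rintro _ ⟨k', hk', rfl⟩ y hy
      exact hΔ k' hk' y hy) hc (φ k) ⟨k, hk, rfl⟩ x hx

/-- **K-SylTwo-A8a.** -/
theorem a8_isPretransitive (h8 : Fintype.card β = 8) (K : Subgroup M) [K.Normal]
    (hq : Cfsg.IsQuasisimple ↥K) (hcent : Subgroup.centralizer (K : Set M) ≤ K) (h64 : 64 ∣ Nat.card M) :
    IsPretransitive ↥K β := by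
  classical
  have hperf : ⁅K, K⁆ = K := Subgroup.isPerfect_iff.mp hq.1
  -- `K` is nontrivial
  have hKnt : Nontrivial ↥K := by
    by_contra hK
    rw [not_nontrivial_iff_subsingleton] at hK
    have hs : IsSimpleGroup (↥K ⧸ Subgroup.center ↥K) := hq.2
    have : Subsingleton (↥K ⧸ Subgroup.center ↥K) := Quotient.instSubsingletonQuotient _
    exact not_subsingleton _ this
  obtain ⟨⟨k₀, hk₀⟩, hk₀1⟩ := exists_ne (1 : ↥K)
  have hk₀1' : k₀ ≠ 1 := fun h => hk₀1 (Subtype.ext h)
  obtain ⟨x₀, hx₀⟩ : ∃ x : β, k₀ • x ≠ x := by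
    by_contra h
    push Not at h
    exact hk₀1' (FaithfulSMul.eq_of_smul_eq_smul (α := β) (fun b => by rw [h b, one_smul]))
  -- the orbit of `x₀`
  set O : Set β := {y | ∃ k ∈ K, k • x₀ = y} with hO
  have hx₀O : x₀ ∈ O := ⟨1, K.one_mem, one_smul _ _⟩
  have hOinv : ∀ k ∈ K, ∀ y ∈ O, k • y ∈ O := by
    rintro k hk _ ⟨k', hk', rfl⟩
    exact ⟨k * k', K.mul_mem hk hk', mul_smul _ _ _⟩
  have hOcinv : ∀ k ∈ K, ∀ y ∈ Oᶜ, k • y ∈ Oᶜ := by
    intro k hk y hy hky
    apply hy
    have := hOinv k⁻¹ (K.inv_mem hk) _ hky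
    rwa [inv_smul_smul] at this
  have hO5 : 5 ≤ O.ncard := by
    by_contra h
    push Not at h
    exact hx₀ (fix_of_perfect_smul K hperf O hOinv (by omega) k₀ hk₀ x₀ hx₀O)
  by_contra hnt
  -- `O` is not everything
  have hOne : O ≠ Set.univ := by
    intro hOu
    apply hnt
    refine ⟨fun x y => ?_⟩
    have hx : x ∈ O := hOu ▸ Set.mem_univ x
    have hy : y ∈ O := hOu ▸ Set.mem_univ y
    obtain ⟨a, ha, rfl⟩ := hx
    obtain ⟨b, hb, rfl⟩ := hy
    refine ⟨⟨b * a⁻¹, K.mul_mem hb (K.inv_mem ha)⟩, ?_⟩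
    show (b * a⁻¹) • a • x₀ = b • x₀
    rw [mul_smul, inv_smul_smul]
  have hcardc : O.ncard + Oᶜ.ncard = 8 := by
    rw [Set.ncard_add_ncard_compl, Nat.card_eq_fintype_card, h8]
  have hO7 : O.ncard ≤ 7 := by
    by_contra h
    push Not at h
    apply hOne
    have h0 : Oᶜ.ncard = 0 := by omega
    rw [Set.ncard_eq_zero] at h0
    exact Set.compl_empty_iff.mp h0
  -- `K` fixes the complement of `O` pointwise
  have hfixc : ∀ k ∈ K, ∀ y ∈ Oᶜ, k • y = y :=
    fix_of_perfect_smul K hperf Oᶜ hOcinv (by omega)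
  -- `M` preserves `O`
  have hMO : ∀ m : M, ∀ z ∈ O, m • z ∈ O := by
    intro m z hz
    by_contra hmz
    -- then `K` fixes `z`
    have hfz : ∀ k ∈ K, k • z = z := by
      intro k hk
      have hk' : m * k * m⁻¹ ∈ K := ‹K.Normal›.conj_mem k hk m
      have h1 := hfixc _ hk' (m • z) hmz
      rw [mul_smul, mul_smul, inv_smul_smul] at h1
      exact smul_left_cancel m h1
    -- so `O = {z}`
    obtain ⟨a, ha, rfl⟩ := hz
    have hO1 : O ⊆ {a • x₀} := by
      rintro _ ⟨b, hb, rfl⟩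
      have := hfz (b * a⁻¹) (K.mul_mem hb (K.inv_mem ha))
      rw [mul_smul, inv_smul_smul] at this
      rw [Set.mem_singleton_iff, this]
    have := Set.ncard_le_ncard hO1 (Set.finite_singleton _)
    rw [Set.ncard_singleton] at this
    omega
  have hMOc : ∀ m : M, ∀ z ∈ Oᶜ, m • z ∈ Oᶜ := by
    intro m z hz hmz
    apply hz
    have := hMO m⁻¹ _ hmz
    rwa [inv_smul_smul] at this
  -- the action of `M` on `O`
  let ψ : M →* Perm ↥O :=
    { toFun := fun m =>
        { toFun := fun z => ⟨m • (z : β), hMO m z z.2⟩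
          invFun := fun z => ⟨m⁻¹ • (z : β), hMO m⁻¹ z z.2⟩
          left_inv := fun z => Subtype.ext (inv_smul_smul m (z : β))
          right_inv := fun z => Subtype.ext (smul_inv_smul m (z : β)) }
      map_one' := by
        ext z
        show (1 : M) • (z : β) = z
        exact one_smul _ _
      map_mul' := fun m m' => by
        ext z
        show (m * m') • (z : β) = m • m' • (z : β)
        exact mul_smul _ _ _ }
  have hψinj : Function.Injective ψ := by
    rw [injective_iff_map_eq_one]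
    intro m hm
    have hmO : ∀ z ∈ O, m • z = z := by
      intro z hz
      have := congrArg (fun f : Perm ↥O => ((f ⟨z, hz⟩ : ↥O) : β)) hm
      exact this
    have hmK : m ∈ K := by
      apply hcent
      rw [Subgroup.mem_centralizer_iff]
      intro k hk
      apply FaithfulSMul.eq_of_smul_eq_smul (α := β)
      intro b
      by_cases hb : b ∈ O
      · rw [mul_smul, mul_smul, hmO b hb, hmO _ (hOinv k hk b hb)]
      · rw [mul_smul, mul_smul, hfixc k hk b hb, hfixc k hk _ (hMOc m b hb)]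
    apply FaithfulSMul.eq_of_smul_eq_smul (α := β)
    intro b
    rw [one_smul]
    by_cases hb : b ∈ O
    · exact hmO b hb
    · exact hfixc m hmK b hb
  have hdvd : Nat.card M ∣ Nat.card (Perm ↥O) := Subgroup.card_dvd_of_injective ψ hψinj
  have hcardO : Nat.card ↥O = O.ncard := (Set.ncard_eq_toFinset_card' O ▸ by
    rw [Nat.card_eq_fintype_card, Set.toFinset_card])
  have hperm : Nat.card (Perm ↥O) = (O.ncard).factorial := by
    rw [Nat.card_eq_fintype_card, Fintype.card_perm, ← Nat.card_eq_fintype_card, hcardO]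
  rw [hperm] at hdvd
  have h7 : (O.ncard).factorial ∣ Nat.factorial 7 := Nat.factorial_dvd_factorial hO7
  have : 64 ∣ Nat.factorial 7 := h64.trans (hdvd.trans h7)
  revert this
  decide

end Cfsg.Agent.Lib.Helper49.SylTwo
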