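/-
K-SylTwo-A8b (keystone 292815, architect helper6, S2928): on 8 points a perfect transitive group is primitive.
-/
import Mathlib
import Cfsg.Prelude.Def_Local
import Cfsg.Agent.Lib.Helper06.SylAlt.Defs
import Cfsg.Agent.Lib.Helper06.SylTwo.Defs
import Cfsg.Agent.Lib.Helper06.SylAlt.P4
import Cfsg.Agent.Lib.Helper64.MarggrafC

set_option autoImplicit false
set_option linter.unusedSectionVars false

namespace Cfsg.Agent.Lib.Helper49.SylTwo

open Equiv Equiv.Perm MulAction
open scoped Pointwise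
open Cfsg.Agent.Lib.Helper06.SylAlt Cfsg.Agent.Lib.Helper06.SylTwo

/-- a perfect subgroup fixes pointwise every invariant set with at most four elements (any action on a finite
type) -/
theorem fix_of_perfect_smul_gen {G γ : Type*} [Group G] [MulAction G γ] [Finite γ] (K : Subgroup G)
    (hperf : ⁅K, K⁆ = K) (Δ : Set γ) (hΔ : ∀ k ∈ K, ∀ x ∈ Δ, k • x ∈ Δ) (hc : Δ.ncard ≤ 4) :
    ∀ k ∈ K, ∀ x ∈ Δ, k • x = x := by
  classical
  have := Fintype.ofFinite γ
  set φ : G →* Perm γ := MulAction.toPermHom G γ with hφ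
  have hperf' : ⁅K.map φ, K.map φ⁆ = K.map φ := by
    rw [← Subgroup.map_commutator, hperf]
  intro k hk x hx
  exact fix_of_perfect_of_ncard_le_four (K.map φ) hperf' Δ
    (by
      rintro _ ⟨k', hk', rfl⟩ y hy
      exact hΔ k' hk' y hy) hc (φ k) ⟨k, hk, rfl⟩ x hx

variable {M β : Type*} [Group M] [Finite M] [MulAction M β] [FaithfulSMul M β] [Fintype β] [DecidableEq β]

/-- **K-SylTwo-A8b.** -/
theorem a8_isPreprimitive (h8 : Fintype.card β = 8) (K : Subgroup M) (hperf : ⁅K, K⁆ = K)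
    (htr : IsPretransitive ↥K β) : IsPreprimitive ↥K β := by
  classical
  refine { toIsPretransitive := htr, isTrivialBlock_of_isBlock := ?_ }
  intro B hB
  by_contra htriv
  unfold IsTrivialBlock at htriv
  push Not at htriv
  obtain ⟨hBns, hBu⟩ := htriv
  have hBne : B.Nonempty := hBns.nonempty
  have hmul := hB.ncard_block_mul_ncard_orbit_eq hBne
  rw [Nat.card_eq_fintype_card, h8] at hmul
  have h2 : 2 ≤ B.ncard := by
    have := Set.one_lt_ncard_iff_nontrivial.mpr hBns
    omega
  have h4 : (orbit ↥K B).ncard ≤ 4 := by nlinarith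
  -- `K` fixes every translate of `B`
  have hfix : ∀ k : ↥K, k • B = B := by
    intro k
    have := fix_of_perfect_smul_gen (G := M) (γ := Set β) K hperf (orbit ↥K B)
      (by
        rintro k' hk' _ ⟨k'', rfl⟩
        exact ⟨⟨k', hk'⟩ * k'', by
          show (⟨k', hk'⟩ * k'' : ↥K) • B = k' • (k'' • B)
          rw [mul_smul]
          rfl⟩) h4 (k : M) k.2 B (mem_orbit_self B)
    exact this
  obtain ⟨x, hx⟩ := hBne
  obtain ⟨y, hy⟩ : ∃ y, y ∉ B := (Set.ne_univ_iff_exists_notMem B).mp hBu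
  obtain ⟨k, hk⟩ := htr.exists_smul_eq x y
  have hmem : y ∈ k • B := hk ▸ Set.smul_mem_smul_set hx
  rw [hfix k] at hmem
  exact hy hmem

end Cfsg.Agent.Lib.Helper49.SylTwo
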