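import Mathlib
import Cfsg.Agent.Lib.Helper49.Transversal
import Cfsg.Agent.Lib.Helper49.StarsBars

set_option autoImplicit false

namespace Cfsg.Agent.Lib.Helper49

section ClassProfile

variable {G : Type*} [Group G] {ι : Type*} [Fintype ι]

/-- classes of elements of prime order `r` correspond to the realisable nonzero profiles -/
theorem card_classes_eq_card_profiles (r : ℕ) (hr : r.Prime) (i : ℕ) (hi : 1 ≤ i)
    (κ : G → ι → ℕ)
    (h1 : ∀ g : G, g ^ r = 1 → ∀ x, i ∣ κ g x)
    (h3 : ∀ g : G, g ^ r = 1 → (g = 1 ↔ ∀ x, κ g x = 0))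
    (h4 : ∀ g g' : G, g ^ r = 1 → g' ^ r = 1 → κ g = κ g' → IsConj g g')
    (h5 : ∀ g g' : G, IsConj g g' → κ g = κ g') :
    Nat.card {C : ConjClasses G // ∃ g : G, ConjClasses.mk g = C ∧ orderOf g = r} =
      Nat.card {a : ι → ℕ // a ≠ 0 ∧ ∃ g : G, g ^ r = 1 ∧ ∀ x, κ g x = i * a x} := by
  classical
  haveI : Fact r.Prime := ⟨hr⟩
  let S := {C : ConjClasses G // ∃ g : G, ConjClasses.mk g = C ∧ orderOf g = r}
  let T := {a : ι → ℕ // a ≠ 0 ∧ ∃ g : G, g ^ r = 1 ∧ ∀ x, κ g x = i * a x}
  have hex : ∀ C : S, ∃ g : G, ConjClasses.mk g = C.1 ∧ orderOf g = r := fun C => C.2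
  choose rep hrep hord using hex
  have hpow : ∀ C : S, (rep C) ^ r = 1 := fun C => by rw [← hord C]; exact pow_orderOf_eq_one _
  have hT : ∀ C : S, (fun x => κ (rep C) x / i) ≠ 0 ∧
      ∃ g : G, g ^ r = 1 ∧ ∀ x, κ g x = i * (κ (rep C) x / i) := by
    intro C
    refine ⟨?_, rep C, hpow C, fun x => (Nat.mul_div_cancel' (h1 _ (hpow C) x)).symm⟩
    intro h0
    have h1' : rep C = 1 := by
      rw [h3 _ (hpow C)]
      intro x
      have := congrFun h0 x
      simp only [Pi.zero_apply] at this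
      obtain ⟨c, hc⟩ := h1 (rep C) (hpow C) x
      rw [hc, Nat.mul_div_cancel_left _ hi] at this
      rw [hc, this, mul_zero]
    have h2 := hord C
    rw [h1', orderOf_one] at h2
    exact hr.one_lt.ne h2
  let f : S → T := fun C => ⟨fun x => κ (rep C) x / i, hT C⟩
  have hbij : Function.Bijective f := by
    constructor
    · intro C C' h
      have h0 : (fun x => κ (rep C) x / i) = (fun x => κ (rep C') x / i) := congrArg Subtype.val h
      have hk : κ (rep C) = κ (rep C') := by
        funext x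
        have := congrFun h0 x
        beta_reduce at this
        have e1 := Nat.mul_div_cancel' (h1 _ (hpow C) x)
        have e2 := Nat.mul_div_cancel' (h1 _ (hpow C') x)
        rw [this] at e1
        exact e1.symm.trans e2
      apply Subtype.ext
      rw [← hrep C, ← hrep C']
      exact ConjClasses.mk_eq_mk_iff_isConj.mpr (h4 _ _ (hpow C) (hpow C') hk)
    · rintro ⟨a, ha0, g, hg, hκ⟩
      have hg1 : g ≠ 1 := by
        intro hg1
        apply ha0
        funext x
        have := (h3 g hg).mp hg1 x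
        rw [hκ x] at this
        rcases Nat.mul_eq_zero.mp this with h | h
        · omega
        · exact h
      have hgr : orderOf g = r := orderOf_eq_prime hg hg1
      let C : S := ⟨ConjClasses.mk g, g, rfl, hgr⟩
      refine ⟨C, ?_⟩
      apply Subtype.ext
      funext x
      have hc : IsConj (rep C) g := ConjClasses.mk_eq_mk_iff_isConj.mp (hrep C)
      have h2 : κ (rep C) x = κ g x := congrFun (h5 _ _ hc) x
      change κ (rep C) x / i = a x
      rw [h2, hκ x, Nat.mul_div_cancel_left _ hi]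
  exact Nat.card_eq_of_bijective f hbij

end ClassProfile

section Counts

variable {ι : Type*} [Fintype ι]

theorem card_profiles_bound (i : ℕ) (hi : 1 ≤ i) (N : ℕ) :
    Nat.card {a : ι → ℕ // a ≠ 0 ∧ i * ∑ x, a x ≤ N} =
      Nat.choose (N / i + Fintype.card ι) (Fintype.card ι) - 1 := by
  rw [← card_sumLe_ne_zero]
  apply Nat.card_congr
  apply Equiv.subtypeEquivRight
  intro a
  rw [Nat.le_div_iff_mul_le hi, mul_comm]
  exact and_comm

variable {σ : ι → ι}

theorem card_profiles_star (hσ : ∀ x, σ (σ x) = x) (hne : ∀ x, σ x ≠ x) (i : ℕ) (hi : 1 ≤ i)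
    (N : ℕ) :
    Nat.card {a : ι → ℕ // a ≠ 0 ∧ (∀ x, a (σ x) = a x) ∧ i * ∑ x, a x ≤ N} =
      Nat.choose (N / (2 * i) + Fintype.card ι / 2) (Fintype.card ι / 2) - 1 := by
  classical
  have hcard : Fintype.card (Transv σ) = Fintype.card ι / 2 := by
    have := card_transv hσ hne
    omega
  rw [← hcard, ← card_profiles_bound (ι := Transv σ) (2 * i) (by omega) N]
  apply Nat.card_congr
  refine
    { toFun := fun a => ⟨fun Q => a.1 Q.1, ?_, ?_⟩
      invFun := fun b => ⟨fun x => Sum.elim b.1 b.1 ((transvEquiv hσ hne).symm x), ?_, ?_, ?_⟩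
      left_inv := ?_
      right_inv := ?_ }
  · intro h0
    apply a.2.1
    funext x
    have h1 := (transvEquiv hσ hne).apply_symm_apply x
    rcases hx : (transvEquiv hσ hne).symm x with Q | Q
    · rw [hx, transvEquiv_inl] at h1
      rw [← h1]; exact congrFun h0 Q
    · rw [hx, transvEquiv_inr] at h1
      rw [← h1, a.2.2.1]; exact congrFun h0 Q
  · have h1 := sum_transv hσ hne a.1
    have h2 : ∑ Q : Transv σ, (a.1 Q.1 + a.1 (σ Q.1)) = 2 * ∑ Q : Transv σ, a.1 Q.1 := by
      rw [Finset.mul_sum]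
      apply Finset.sum_congr rfl
      intro Q _
      rw [a.2.2.1]; ring
    have h3 := a.2.2.2
    rw [h1, h2] at h3
    calc 2 * i * ∑ Q : Transv σ, a.1 Q.1 = i * (2 * ∑ Q : Transv σ, a.1 Q.1) := by ring
      _ ≤ N := h3
  · intro h0
    apply b.2.1
    funext Q
    have := congrFun h0 Q.1
    simp only [Pi.zero_apply] at this
    rw [← transvEquiv_inl hσ hne Q, Equiv.symm_apply_apply] at this
    exact this
  · intro x
    have h1 := (transvEquiv hσ hne).apply_symm_apply x
    rcases hx : (transvEquiv hσ hne).symm x with Q | Q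
    · rw [hx, transvEquiv_inl] at h1
      rw [← h1, ← transvEquiv_inr hσ hne Q, ← transvEquiv_inl hσ hne Q]
      beta_reduce
      rw [Equiv.symm_apply_apply, Equiv.symm_apply_apply]
      rfl
    · rw [hx, transvEquiv_inr] at h1
      rw [← h1, hσ, ← transvEquiv_inr hσ hne Q, ← transvEquiv_inl hσ hne Q]
      beta_reduce
      rw [Equiv.symm_apply_apply, Equiv.symm_apply_apply]
      rfl
  · have h1 : ∑ x, Sum.elim b.1 b.1 ((transvEquiv hσ hne).symm x) = 2 * ∑ Q : Transv σ, b.1 Q := by
      rw [Equiv.sum_comp (transvEquiv hσ hne).symm (Sum.elim b.1 b.1), Fintype.sum_sum_type]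
      simp only [Sum.elim_inl, Sum.elim_inr]
      ring
    rw [h1]
    calc i * (2 * ∑ Q : Transv σ, b.1 Q) = 2 * i * ∑ Q : Transv σ, b.1 Q := by ring
      _ ≤ N := b.2.2
  · intro a
    apply Subtype.ext
    funext x
    show Sum.elim (fun Q : Transv σ => a.1 Q.1) (fun Q : Transv σ => a.1 Q.1)
      ((transvEquiv hσ hne).symm x) = a.1 x
    have h1 := (transvEquiv hσ hne).apply_symm_apply x
    rcases hx : (transvEquiv hσ hne).symm x with Q | Q
    · rw [hx, transvEquiv_inl] at h1
      rw [← h1]; rfl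
    · rw [hx, transvEquiv_inr] at h1
      rw [← h1, a.2.2.1]; rfl
  · intro b
    apply Subtype.ext
    funext Q
    show Sum.elim b.1 b.1 ((transvEquiv hσ hne).symm Q.1) = b.1 Q
    rw [← transvEquiv_inl hσ hne Q, Equiv.symm_apply_apply]
    rfl

end Counts

end Cfsg.Agent.Lib.Helper49
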