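import Mathlib
import Cfsg.Agent.Lib.Helper49.SpSemiMain
import Cfsg.Agent.Lib.Helper43.WittQuad

set_option autoImplicit false

universe u

namespace Cfsg.Agent.Lib.Helper49

open Polynomial Module

section OrthCore

variable {F : Type*} [Field F] {V : Type u} [AddCommGroup V] [Module F V]

/-- for an `a`-invariant quadratic form, `Q (a y - y) = - β (a y - y, y)` -/
theorem quad_sub_one (Q : QuadraticForm F V) (a : V →ₗ[F] V) (ha : ∀ v, Q (a v) = Q v) (y : V) :
    Q (a y - y) = - QuadraticMap.polarBilin Q (a y - y) y := by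
  have h1 := Cfsg.Agent.Lib.Helper43.Q_add Q (a y - y) y
  rw [sub_add_cancel, ha] at h1
  linear_combination -h1

theorem polar_formInv (Q : QuadraticForm F V) (a : V →ₗ[F] V) (ha : ∀ v, Q (a v) = Q v) :
    FormInv (QuadraticMap.polarBilin Q) a :=
  fun u v => Cfsg.Agent.Lib.Helper43.polar_of_isometry Q a ha u v

variable [Finite F] [FiniteDimensional F V]

/-- for a semisimple isometry `a` of odd order of two quadratic forms, there is an operator
commuting with `a` which maps `Q₂` to `Q₁` on the range of `a - 1` -/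
theorem exists_isometry_on_range (k : ℕ) (hk : (k : F) ≠ 0) (hodd : Odd k) (a : V →ₗ[F] V)
    (hak : a ^ k = 1) (Q₁ Q₂ : QuadraticForm F V)
    (hN₁ : (QuadraticMap.polarBilin Q₁).Nondegenerate)
    (hN₂ : (QuadraticMap.polarBilin Q₂).Nondegenerate)
    (h₁ : ∀ v, Q₁ (a v) = Q₁ v) (h₂ : ∀ v, Q₂ (a v) = Q₂ v) :
    ∃ ψ : V →ₗ[F] V, (∀ v, ψ (a v) = a (ψ v)) ∧
      (∀ w ∈ LinearMap.range (a - 1), Q₁ (ψ w) = Q₂ w) ∧
      (∀ w ∈ LinearMap.range (a - 1), ψ w ∈ LinearMap.range (a - 1)) ∧
      (∀ w ∈ LinearMap.range (a - 1), ψ w = 0 → w = 0) := by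
  classical
  obtain ⟨k', rfl⟩ : ∃ k', k = k' + 1 := by
    obtain ⟨j, hj⟩ := hodd
    exact ⟨2 * j, hj⟩
  -- the inverse of `a`
  set a' : V →ₗ[F] V := a ^ k' with ha'
  have haa' : ∀ v, a (a' v) = v := by
    intro v
    have : a * a' = 1 := by rw [ha', ← pow_succ', hak]
    exact congrArg (fun φ : Module.End F V => φ v) this
  have ha'a : ∀ v, a' (a v) = v := by
    intro v
    have : a' * a = 1 := by rw [ha', ← pow_succ, hak]
    exact congrArg (fun φ : Module.End F V => φ v) this
  have hT : (a - 1 : Module.End F V) = aeval a (X - 1 : F[X]) := by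
    rw [map_sub, aeval_X, map_one]
  have hsq : Squarefree (X ^ (k' + 1) - C (1 : F)) :=
    (separable_X_pow_sub_C (1 : F) hk one_ne_zero).squarefree
  have hsa : aeval a (X ^ (k' + 1) - C (1 : F)) = 0 := by
    rw [map_sub, map_pow, aeval_X, aeval_C, hak, map_one, sub_self]
  have hc : IsCompl (LinearMap.ker (a - 1)) (LinearMap.range (a - 1)) := by
    rw [hT]
    exact isCompl_ker_range_aeval a _ hsq hsa _
  set U := LinearMap.ker (a - 1) with hUdef
  set W := LinearMap.range (a - 1) with hWdef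
  have hmemU : ∀ v, v ∈ U ↔ a v = v := by
    intro v
    rw [hUdef, LinearMap.mem_ker, LinearMap.sub_apply, Module.End.one_apply, sub_eq_zero]
  have hW : ∀ v ∈ W, a v ∈ W := by
    rintro _ ⟨y, rfl⟩
    refine ⟨a y, ?_⟩
    simp only [LinearMap.sub_apply, Module.End.one_apply, map_sub]
  have hW' : ∀ v ∈ W, a' v ∈ W := by
    rintro _ ⟨y, rfl⟩
    refine ⟨a' y, ?_⟩
    simp only [LinearMap.sub_apply, Module.End.one_apply, map_sub, haa', ha'a]
  have hUa : ∀ v ∈ U, a v ∈ U := by
    intro v hv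
    rw [hmemU] at hv ⊢
    rw [hv, hv]
  -- forms
  set β₁ := QuadraticMap.polarBilin Q₁ with hβ₁
  set β₂ := QuadraticMap.polarBilin Q₂ with hβ₂
  have hI₁ : FormInv β₁ a := polar_formInv Q₁ a h₁
  have hI₂ : FormInv β₂ a := polar_formInv Q₂ a h₂
  have hsymm₁ : ∀ x y, β₁ x y = β₁ y x := Cfsg.Agent.Lib.Helper43.polar_symm Q₁
  have hsymm₂ : ∀ x y, β₂ x y = β₂ y x := Cfsg.Agent.Lib.Helper43.polar_symm Q₂
  have horth : ∀ (β : LinearMap.BilinForm F V), FormInv β a → ∀ w ∈ W, ∀ u ∈ U, β w u = 0 := by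
    intro β hI w hw u hu
    obtain ⟨y, rfl⟩ := hw
    rw [hmemU] at hu
    simp only [LinearMap.sub_apply, Module.End.one_apply, map_sub]
    nth_rewrite 1 [← hu]
    rw [hI, sub_self]
  have hNW₁ : (LinearMap.BilinForm.restrict β₁ W).Nondegenerate :=
    restrict_nondegenerate β₁ hN₁ W U hc.symm (horth β₁ hI₁)
  have hNW₂ : (LinearMap.BilinForm.restrict β₂ W).Nondegenerate :=
    restrict_nondegenerate β₂ hN₂ W U hc.symm (horth β₂ hI₂)
  -- the operator `c = a - a⁻¹` on `W`
  set c : V →ₗ[F] V := a - a' with hcdef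
  have hcW : ∀ v ∈ W, c v ∈ W := by
    intro v hv
    rw [hcdef, LinearMap.sub_apply]
    exact W.sub_mem (hW v hv) (hW' v hv)
  have hca : ∀ v, c (a v) = a (c v) := by
    intro v
    simp only [hcdef, LinearMap.sub_apply, map_sub, haa', ha'a]
  have hcinj : ∀ w ∈ W, c w = 0 → w = 0 := by
    intro w hw hcw
    -- `a (a w) = w`
    have h1 : a (a w) = w := by
      have h2 := congrArg a hcw
      rw [hcdef, LinearMap.sub_apply, map_sub, haa', map_zero] at h2
      exact sub_eq_zero.mp h2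
    -- then `a w + w ∈ U ∩ W`
    have h3 : a w + w ∈ U := by
      rw [hmemU, map_add, h1, add_comm]
    have h4 : a w + w ∈ W := W.add_mem (hW w hw) hw
    have h5 : a w + w = 0 := by
      have := hc.disjoint.le_bot (Submodule.mem_inf.mpr ⟨h3, h4⟩)
      exact (Submodule.mem_bot F).mp this
    have h6 : a w = -w := eq_neg_of_add_eq_zero_left h5
    -- powers
    have hpow : ∀ n : ℕ, (a ^ n) w = (-1 : F) ^ n • w := by
      intro n
      induction n with
      | zero => simp
      | succ n ih =>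
        rw [pow_succ, Module.End.mul_apply, h6, map_neg, ih, pow_succ]
        simp
    have h7 := hpow (k' + 1)
    rw [hak, Module.End.one_apply, hodd.neg_one_pow, neg_one_smul] at h7
    -- `w = -w`, so `a w = w` and `w ∈ U ∩ W`
    have h8 : a w = w := by rw [h6]; exact h7.symm
    have h9 : w ∈ U := (hmemU w).mpr h8
    have := hc.disjoint.le_bot (Submodule.mem_inf.mpr ⟨h9, hw⟩)
    exact (Submodule.mem_bot F).mp this
  set cW : W →ₗ[F] W := c.restrict hcW with hcWdef
  have hcWinj : Function.Injective cW := by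
    rw [← LinearMap.ker_eq_bot, LinearMap.ker_eq_bot']
    intro w hw0
    apply Subtype.ext
    apply hcinj w.1 w.2
    have := congrArg Subtype.val hw0
    simpa [hcWdef] using this
  have hcWsurj : Function.Surjective cW := LinearMap.injective_iff_surjective.mp hcWinj
  set aW : W →ₗ[F] W := a.restrict hW with haWdef
  have haWk : aW ^ (k' + 1) = 1 := restrict_pow_eq_one a _ hak W hW
  -- alternating forms on `W`
  let ω₁ : LinearMap.BilinForm F W := (LinearMap.BilinForm.restrict β₁ W).compLeft cW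
  let ω₂ : LinearMap.BilinForm F W := (LinearMap.BilinForm.restrict β₂ W).compLeft cW
  have hω₁ : ∀ u v : W, ω₁ u v = β₁ (c u) v := fun u v => rfl
  have hω₂ : ∀ u v : W, ω₂ u v = β₂ (c u) v := fun u v => rfl
  have halt : ∀ (β : LinearMap.BilinForm F V), FormInv β a → (∀ x y, β x y = β y x) →
      ∀ u : V, β (c u) u = 0 := by
    intro β hI hs u
    rw [hcdef, LinearMap.sub_apply, map_sub, LinearMap.sub_apply]
    have : β (a' u) u = β (a u) u := by
      rw [← hI (a' u) u, haa', hs]
    rw [this, sub_self]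
  have hA₁ : ω₁.IsAlt := fun u => by rw [hω₁]; exact halt β₁ hI₁ hsymm₁ u
  have hA₂ : ω₂.IsAlt := fun u => by rw [hω₂]; exact halt β₂ hI₂ hsymm₂ u
  have hnd : ∀ (β : LinearMap.BilinForm F V), (LinearMap.BilinForm.restrict β W).Nondegenerate →
      ((LinearMap.BilinForm.restrict β W).compLeft cW).Nondegenerate := by
    intro β hN
    apply LinearMap.BilinForm.Nondegenerate.ofSeparatingLeft
    intro u hu
    apply hcWinj
    rw [map_zero]
    apply hN.1
    intro v
    exact hu v
  have hNω₁ : ω₁.Nondegenerate := hnd β₁ hNW₁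
  have hNω₂ : ω₂.Nondegenerate := hnd β₂ hNW₂
  have hIω₁ : FormInv ω₁ aW := by
    intro u v
    rw [hω₁, hω₁]
    show β₁ (c (a u)) (a v) = β₁ (c u) v
    rw [hca, hI₁]
  have hIω₂ : FormInv ω₂ aW := by
    intro u v
    rw [hω₂, hω₂]
    show β₂ (c (a u)) (a v) = β₂ (c u) v
    rw [hca, hI₂]
  obtain ⟨b₀, hb₀a, hb₀ω⟩ := exists_isometry_semisimple (k' + 1) hk aW haWk ω₁ ω₂
    hA₁ hNω₁ hIω₁ hA₂ hNω₂ hIω₂
  -- `b₀` commutes with `c`
  have hb₀a' : ∀ v : W, (b₀ v : V) = a (b₀ ⟨a' v, hW' v v.2⟩) := by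
    intro v
    have := hb₀a ⟨a' v, hW' v v.2⟩
    have h2 : aW ⟨a' v, hW' v v.2⟩ = v := Subtype.ext (haa' v)
    rw [h2] at this
    rw [this]; rfl
  have hb₀c : ∀ v : W, b₀ (cW v) = cW (b₀ v) := by
    intro v
    apply Subtype.ext
    have e1 : (cW (b₀ v) : V) = a (b₀ v) - a' (b₀ v) := rfl
    have e2 : cW v = aW v - ⟨a' v, hW' v v.2⟩ := by
      apply Subtype.ext; rfl
    rw [e1, e2, map_sub, hb₀a]
    have e3 : (b₀ v : V) = a (b₀ ⟨a' v, hW' v v.2⟩) := hb₀a' v
    have e4 : a' (b₀ v : V) = (b₀ ⟨a' v, hW' v v.2⟩ : V) := by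
      rw [e3, ha'a]
    rw [e4]; rfl
  -- `b₀` is an isometry of the symmetric forms
  have hb₀β : ∀ z v : W, β₁ (b₀ z) (b₀ v) = β₂ z v := by
    intro z v
    obtain ⟨z', rfl⟩ := hcWsurj z
    rw [hb₀c]
    exact hb₀ω z' v
  -- `W = (a - 1) W`
  have hWW : ∀ w : W, ∃ y : W, (w : V) = a y - y := by
    intro w
    obtain ⟨y, hy⟩ := w.2
    have hy' := Submodule.projection_add_projection_eq_self hc y
    refine ⟨⟨Submodule.projection W U hc.symm y, Submodule.projection_apply_mem hc.symm y⟩, ?_⟩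
    have hu : a (Submodule.projection U W hc y) = Submodule.projection U W hc y :=
      (hmemU _).mp (Submodule.projection_apply_mem hc y)
    rw [← hy]
    nth_rewrite 1 [← hy']
    simp only [LinearMap.sub_apply, Module.End.one_apply, map_add]
    rw [hu]; abel
  have hb₀Q : ∀ w : W, Q₁ (b₀ w) = Q₂ w := by
    intro w
    obtain ⟨y, hy⟩ := hWW w
    have e1 : (b₀ w : V) = a (b₀ y) - b₀ y := by
      have : w = aW y - y := Subtype.ext hy
      rw [this, map_sub, hb₀a]; rfl
    rw [e1, quad_sub_one Q₁ a h₁, hy, quad_sub_one Q₂ a h₂]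
    congr 1
    have e2 : a (b₀ y : V) - b₀ y = (b₀ (aW y - y) : V) := by
      rw [map_sub, hb₀a]; rfl
    rw [e2]
    exact hb₀β (aW y - y) y
  -- extension to `V`
  let ψ : V →ₗ[F] V := W.subtype ∘ₗ b₀ ∘ₗ W.projectionOnto U hc.symm
  have hψW : ∀ w : W, ψ w = b₀ w := by
    intro w
    show (b₀ (W.projectionOnto U hc.symm w) : V) = b₀ w
    congr 2
    apply Subtype.ext
    exact Submodule.projection_apply_of_mem_left hc.symm w.2
  refine ⟨ψ, ?_, ?_, ?_, ?_⟩
  · intro v
    show (b₀ (W.projectionOnto U hc.symm (a v)) : V) = a (b₀ (W.projectionOnto U hc.symm v))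
    have h1 : W.projectionOnto U hc.symm (a v) = aW (W.projectionOnto U hc.symm v) := by
      apply Subtype.ext
      exact projection_comm hc.symm a hW hUa v
    rw [h1, hb₀a]; rfl
  · intro w hw
    have := hψW ⟨w, hw⟩
    simp only at this
    rw [this]
    exact hb₀Q ⟨w, hw⟩
  · intro w hw
    have := hψW ⟨w, hw⟩
    simp only at this
    rw [this]
    exact (b₀ ⟨w, hw⟩).2
  · intro w hw h0
    have := hψW ⟨w, hw⟩
    simp only at this
    rw [this] at h0
    have h1 : b₀ ⟨w, hw⟩ = 0 := Subtype.ext h0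
    have h2 : (⟨w, hw⟩ : W) = 0 := by
      apply hNω₂.1
      intro v
      rw [← hb₀ω, h1, map_zero, LinearMap.zero_apply]
    exact congrArg Subtype.val h2

/-- semisimple isometries of odd order of a quadratic form that are conjugate under a linear
equivalence are conjugate under an isometry -/
theorem exists_orth_conj (k : ℕ) (hk : (k : F) ≠ 0) (hodd : Odd k) (a b' : V →ₗ[F] V)
    (hak : a ^ k = 1) (Q : QuadraticForm F V) (hN : (QuadraticMap.polarBilin Q).Nondegenerate)
    (ha : ∀ v, Q (a v) = Q v) (hb : ∀ v, Q (b' v) = Q v) (x : V ≃ₗ[F] V)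
    (hx : ∀ v, x (a v) = b' (x v)) :
    ∃ g : V ≃ₗ[F] V, (∀ v, Q (g v) = Q v) ∧ ∀ v, g (b' v) = a (g v) := by
  classical
  have hxs : ∀ v, x.symm (b' v) = a (x.symm v) := by
    intro v
    apply x.injective
    rw [hx, x.apply_symm_apply, x.apply_symm_apply]
  -- `b'` has order dividing `k`
  have hbk : b' ^ k = 1 := by
    have hpow : ∀ n : ℕ, ∀ v, x ((a ^ n) v) = (b' ^ n) (x v) := by
      intro n
      induction n with
      | zero => intro v; simp
      | succ n ih =>
        intro v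
        rw [pow_succ', pow_succ', Module.End.mul_apply, Module.End.mul_apply, hx, ih]
    apply LinearMap.ext
    intro v
    have := hpow k (x.symm v)
    rw [hak, x.apply_symm_apply, Module.End.one_apply, x.apply_symm_apply] at this
    rw [← this]; rfl
  -- the second form
  let Q₂ : QuadraticForm F V := Q.comp (x : V →ₗ[F] V)
  have hQ₂ : ∀ v, Q₂ v = Q (x v) := fun v => rfl
  have hβ₂ : ∀ u v, QuadraticMap.polarBilin Q₂ u v = QuadraticMap.polarBilin Q (x u) (x v) := by
    intro u v
    rw [QuadraticMap.polarBilin_apply_apply, QuadraticMap.polarBilin_apply_apply,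
      QuadraticMap.polar, QuadraticMap.polar, hQ₂, hQ₂, hQ₂, map_add]
  have hN₂ : (QuadraticMap.polarBilin Q₂).Nondegenerate := by
    apply LinearMap.BilinForm.Nondegenerate.ofSeparatingLeft
    intro u hu
    have : x u = 0 := by
      apply hN.1
      intro z
      have := hu (x.symm z)
      rwa [hβ₂, x.apply_symm_apply] at this
    exact x.map_eq_zero_iff.mp this
  have h₂ : ∀ v, Q₂ (a v) = Q₂ v := by
    intro v
    rw [hQ₂, hQ₂, hx, hb]
  obtain ⟨ψ, hψa, hψQ, hψW, hψinj⟩ := exists_isometry_on_range k hk hodd a hak Q Q₂ hN hN₂ ha h₂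
  set W := LinearMap.range (a - 1) with hWdef
  set WB := LinearMap.range (b' - 1) with hWBdef
  have hWB : ∀ u ∈ WB, x.symm u ∈ W := by
    rintro _ ⟨y, rfl⟩
    refine ⟨x.symm y, ?_⟩
    simp only [LinearMap.sub_apply, Module.End.one_apply, map_sub, hxs]
  have hWx : ∀ w ∈ W, x w ∈ WB := by
    rintro _ ⟨y, rfl⟩
    refine ⟨x y, ?_⟩
    simp only [LinearMap.sub_apply, Module.End.one_apply, map_sub, hx]
  let f : V →ₗ[F] V := ψ ∘ₗ (x.symm : V →ₗ[F] V)
  have hf : ∀ v, f v = ψ (x.symm v) := fun v => rfl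
  obtain ⟨g, hgQ, hgf⟩ := Cfsg.Agent.Lib.Helper43.witt_quad_aux Q hN _ WB rfl f
    (by
      intro u hu
      rw [hf, hψQ _ (hWB u hu), hQ₂, x.apply_symm_apply])
    (by
      intro u hu h0
      rw [hf] at h0
      have := hψinj _ (hWB u hu) h0
      exact x.symm.map_eq_zero_iff.mp this)
  refine ⟨g, hgQ, ?_⟩
  -- inverse of `a`
  obtain ⟨k', rfl⟩ : ∃ k', k = k' + 1 := by
    obtain ⟨j, hj⟩ := hodd
    exact ⟨2 * j, hj⟩
  set a' : V →ₗ[F] V := a ^ k' with ha'
  have haa' : ∀ v, a (a' v) = v := by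
    intro v
    have : a * a' = 1 := by rw [ha', ← pow_succ', hak]
    exact congrArg (fun φ : Module.End F V => φ v) this
  have hIa : FormInv (QuadraticMap.polarBilin Q) a := polar_formInv Q a ha
  have hIb : FormInv (QuadraticMap.polarBilin Q) b' := polar_formInv Q b' hb
  have hIg : ∀ u v, QuadraticMap.polarBilin Q (g u) (g v) = QuadraticMap.polarBilin Q u v :=
    fun u v => Cfsg.Agent.Lib.Helper43.polar_of_isometry Q (g : V →ₗ[F] V) hgQ u v
  -- `ψ` maps `W` onto `W`
  have hψsurj : ∀ w ∈ W, ∃ w₀ ∈ W, ψ w₀ = w := by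
    let ψW : W →ₗ[F] W := ψ.restrict hψW
    have hinj : Function.Injective ψW := by
      rw [← LinearMap.ker_eq_bot, LinearMap.ker_eq_bot']
      intro w hw0
      apply Subtype.ext
      apply hψinj w.1 w.2
      have := congrArg Subtype.val hw0
      simpa [ψW] using this
    have hsurj : Function.Surjective ψW := LinearMap.injective_iff_surjective.mp hinj
    intro w hw
    obtain ⟨w₀, hw₀⟩ := hsurj ⟨w, hw⟩
    exact ⟨w₀.1, w₀.2, congrArg Subtype.val hw₀⟩
  -- on `WB`
  have hgWB : ∀ u ∈ WB, g (b' u) = a (g u) := by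
    intro u hu
    have hbu : b' u ∈ WB := by
      obtain ⟨y, rfl⟩ := hu
      refine ⟨b' y, ?_⟩
      simp only [LinearMap.sub_apply, Module.End.one_apply, map_sub]
    rw [hgf _ hbu, hgf _ hu, hf, hf, hxs, hψa]
  -- on the fixed space of `b'`
  have hgU : ∀ u, b' u = u → a (g u) = g u := by
    intro u hu
    have hperp : ∀ w ∈ W, QuadraticMap.polarBilin Q (g u) w = 0 := by
      intro w hw
      obtain ⟨w₀, hw₀, rfl⟩ := hψsurj w hw
      have e1 : ψ w₀ = g (x w₀) := by
        rw [hgf _ (hWx w₀ hw₀), hf, x.symm_apply_apply]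
      rw [e1, hIg]
      obtain ⟨y, hy⟩ := hWx w₀ hw₀
      rw [← hy]
      simp only [LinearMap.sub_apply, Module.End.one_apply, map_sub]
      nth_rewrite 1 [← hu]
      rw [hIb, sub_self]
    have h0 : a (g u) - g u = 0 := by
      apply hN.1
      intro y
      rw [map_sub, LinearMap.sub_apply, hIa.adj haa', ← map_sub]
      apply hperp
      refine ⟨-(a' y), ?_⟩
      simp only [LinearMap.sub_apply, Module.End.one_apply, map_neg, haa']
      abel
    exact sub_eq_zero.mp h0
  -- decomposition for `b'`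
  have hT : (b' - 1 : Module.End F V) = aeval b' (X - 1 : F[X]) := by
    rw [map_sub, aeval_X, map_one]
  have hsq : Squarefree (X ^ (k' + 1) - C (1 : F)) :=
    (separable_X_pow_sub_C (1 : F) hk one_ne_zero).squarefree
  have hsb : aeval b' (X ^ (k' + 1) - C (1 : F)) = 0 := by
    rw [map_sub, map_pow, aeval_X, aeval_C, hbk, map_one, sub_self]
  have hc : IsCompl (LinearMap.ker (b' - 1)) (LinearMap.range (b' - 1)) := by
    rw [hT]
    exact isCompl_ker_range_aeval b' _ hsq hsb _
  intro v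
  have hv := Submodule.projection_add_projection_eq_self hc v
  have hu : b' (Submodule.projection _ _ hc v) = Submodule.projection _ _ hc v := by
    have := Submodule.projection_apply_mem hc v
    rw [LinearMap.mem_ker, LinearMap.sub_apply, Module.End.one_apply, sub_eq_zero] at this
    exact this
  have e1 := hgWB _ (Submodule.projection_apply_mem hc.symm v)
  have e2 := hgU _ hu
  rw [← hv]
  simp only [map_add]
  rw [hu, e1, e2]

end OrthCore

end Cfsg.Agent.Lib.Helper49
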