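import Mathlib
import Cfsg.Agent.Lib.Helper49.OrthSemiConj
import Cfsg.Agent.Lib.Helper49.PrimeOrderSpCount
import Cfsg.Agent.Lib.Helper49.ClassProfile

set_option autoImplicit false

namespace Cfsg.Agent.Lib.Helper49

open Polynomial Module

section Adjoint

variable {F : Type*} [Field F] {V : Type*} [AddCommGroup V] [Module F V] [FiniteDimensional F V]

/-- adjoint operators for a nondegenerate form have kernels of the same dimension -/
theorem finrank_ker_adjoint (ω : LinearMap.BilinForm F V) (hN : ω.Nondegenerate)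
    (T T' : V →ₗ[F] V) (hadj : ∀ u v, ω (T u) v = ω u (T' v)) :
    finrank F (LinearMap.ker T') = finrank F (LinearMap.ker T) := by
  have h1 : LinearMap.ker T' = ω.orthogonal (LinearMap.range T) := by
    ext v
    rw [LinearMap.mem_ker, LinearMap.BilinForm.mem_orthogonal_iff]
    constructor
    · rintro hv _ ⟨u, rfl⟩
      rw [hadj, hv, map_zero]
    · intro h
      apply hN.2
      intro u
      rw [← hadj]
      exact h _ ⟨u, rfl⟩
  rw [h1, LinearMap.BilinForm.finrank_orthogonal hN]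
  have := LinearMap.finrank_range_add_finrank_ker T
  omega

/-- an operator preserving a nondegenerate form and its inverse have the same kernel dimensions -/
theorem kdim_inv_of_formInv (ω : LinearMap.BilinForm F V) (hN : ω.Nondegenerate)
    (A B : V →ₗ[F] V) (hI : FormInv ω A) (hAB : ∀ v, A (B v) = v) (P : F[X]) :
    kdim B P = kdim A P := by
  unfold kdim
  exact finrank_ker_adjoint ω hN (aeval A P) (aeval B P) (fun u v => hI.adj_aeval hAB P u v)

end Adjoint

section OrthGroup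

variable {F : Type*} [Field F] {ι : Type} [Fintype ι] [DecidableEq ι]
variable (Q : QuadraticForm F (ι → F))

/-- the matrix of an element of the isometry group -/
abbrev omat (g : ↥(Cfsg.isometryGroup F ⇑Q)) : Matrix ι ι F :=
  ((g : Matrix.GeneralLinearGroup ι F) : Matrix ι ι F)

theorem omat_mul (g h : ↥(Cfsg.isometryGroup F ⇑Q)) : omat Q (g * h) = omat Q g * omat Q h := rfl

theorem omat_one : omat Q (1 : ↥(Cfsg.isometryGroup F ⇑Q)) = 1 := rfl

theorem omat_pow (g : ↥(Cfsg.isometryGroup F ⇑Q)) (k : ℕ) : omat Q (g ^ k) = omat Q g ^ k := by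
  induction k with
  | zero => rfl
  | succ k ih => rw [pow_succ, pow_succ, omat_mul, ih]

theorem omat_injective : Function.Injective (omat Q) := by
  intro g h hgh
  apply Subtype.ext
  apply Units.ext
  exact hgh

theorem omat_preserves (g : ↥(Cfsg.isometryGroup F ⇑Q)) (v : ι → F) :
    Q (Matrix.toLin' (omat Q g) v) = Q v := by
  rw [Matrix.toLin'_apply]
  exact g.2 v v

/-- a linear isometry gives an element of the isometry group -/
theorem exists_isometryGroup_of_equiv (g : (ι → F) ≃ₗ[F] (ι → F)) (hg : ∀ v, Q (g v) = Q v) :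
    ∃ c : ↥(Cfsg.isometryGroup F ⇑Q), Matrix.toLin' (omat Q c) = (g : (ι → F) →ₗ[F] (ι → F)) := by
  have h1 : LinearMap.toMatrix' (g : (ι → F) →ₗ[F] (ι → F)) *
      LinearMap.toMatrix' (g.symm : (ι → F) →ₗ[F] (ι → F)) = 1 := by
    rw [← LinearMap.toMatrix'_comp, ← LinearMap.toMatrix'_id]
    congr 1
    apply LinearMap.ext
    intro v
    simp
  have h2 : LinearMap.toMatrix' (g.symm : (ι → F) →ₗ[F] (ι → F)) *
      LinearMap.toMatrix' (g : (ι → F) →ₗ[F] (ι → F)) = 1 := by
    rw [← LinearMap.toMatrix'_comp, ← LinearMap.toMatrix'_id]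
    congr 1
    apply LinearMap.ext
    intro v
    simp
  let c₀ : Matrix.GeneralLinearGroup ι F := ⟨_, _, h1, h2⟩
  have hc₀ : Matrix.toLin' (c₀ : Matrix ι ι F) = (g : (ι → F) →ₗ[F] (ι → F)) :=
    Matrix.toLin'_toMatrix' _
  have hmem : c₀ ∈ Cfsg.isometryGroup F ⇑Q := by
    intro v _
    show Q ((c₀ : Matrix ι ι F).mulVec v) = Q v
    rw [← Matrix.toLin'_apply, hc₀]
    exact hg v
  exact ⟨⟨c₀, hmem⟩, hc₀⟩

theorem orth_aeval_of_pow_eq_one (g : ↥(Cfsg.isometryGroup F ⇑Q)) (r : ℕ) (hg : g ^ r = 1) :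
    aeval (Matrix.toLin' (omat Q g)) (X ^ r - 1 : F[X]) = 0 := by
  apply aeval_toLin'_of_pow_eq_one
  rw [← omat_pow, hg, omat_one]

variable {Q}

/-- conjugate elements of the isometry group have the same kernel dimensions -/
theorem orth_kdim_eq_of_isConj (g g' : ↥(Cfsg.isometryGroup F ⇑Q)) (h : IsConj g g') (P : F[X]) :
    kdim (Matrix.toLin' (omat Q g)) P = kdim (Matrix.toLin' (omat Q g')) P := by
  obtain ⟨c, hc⟩ := isConj_iff.mp h
  have h1 : c * g = g' * c := by rw [← hc]; group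
  have h2 : omat Q c * omat Q g = omat Q g' * omat Q c := by
    rw [← omat_mul, ← omat_mul, h1]
  have hinv : omat Q c⁻¹ * omat Q c = 1 := by rw [← omat_mul, inv_mul_cancel, omat_one]
  have hinv' : omat Q c * omat Q c⁻¹ = 1 := by rw [← omat_mul, mul_inv_cancel, omat_one]
  have e1 : Matrix.toLin' (omat Q c) ∘ₗ Matrix.toLin' (omat Q c⁻¹) = LinearMap.id := by
    rw [← Matrix.toLin'_mul, hinv', Matrix.toLin'_one]
  have e2 : Matrix.toLin' (omat Q c⁻¹) ∘ₗ Matrix.toLin' (omat Q c) = LinearMap.id := by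
    rw [← Matrix.toLin'_mul, hinv, Matrix.toLin'_one]
  apply kdim_conj _ _ (LinearEquiv.ofLinear _ _ e1 e2)
  intro v
  rw [LinearEquiv.ofLinear_apply, LinearEquiv.ofLinear_apply, ← LinearMap.comp_apply,
    ← LinearMap.comp_apply, ← Matrix.toLin'_mul, ← Matrix.toLin'_mul, h2]

variable [Finite F] {r i : ℕ} {PP : Finset F[X]}

/-- isometries of order dividing an odd `r` with the same kernel dimensions are conjugate in the
isometry group -/
theorem FactorData.orth_isConj (D : FactorData F r i PP) (hrF : (r : F) ≠ 0) (hodd : Odd r)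
    (hN : (QuadraticMap.polarBilin Q).Nondegenerate)
    (g g' : ↥(Cfsg.isometryGroup F ⇑Q)) (hg : g ^ r = 1) (hg' : g' ^ r = 1)
    (hk : ∀ P ∈ PP, kdim (Matrix.toLin' (omat Q g)) P = kdim (Matrix.toLin' (omat Q g')) P) :
    IsConj g g' := by
  classical
  obtain ⟨e, he⟩ := D.exists_equiv _ _ (orth_aeval_of_pow_eq_one Q g r hg)
    (orth_aeval_of_pow_eq_one Q g' r hg') rfl hk
  have hak : Matrix.toLin' (omat Q g) ^ r = 1 := by
    rw [← Matrix.toLin'_pow, ← omat_pow, hg, omat_one, Matrix.toLin'_one]; rfl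
  obtain ⟨y, hyQ, hy⟩ := exists_orth_conj r hrF hodd (Matrix.toLin' (omat Q g))
    (Matrix.toLin' (omat Q g')) hak Q hN (omat_preserves Q g) (omat_preserves Q g') e he
  -- `y g' = g y`, so `y⁻¹` conjugates `g` to `g'`
  obtain ⟨c, hc⟩ := exists_isometryGroup_of_equiv Q y.symm (by
    intro v
    have := hyQ (y.symm v)
    rw [y.apply_symm_apply] at this
    exact this.symm)
  rw [isConj_iff]
  refine ⟨c, ?_⟩
  rw [mul_inv_eq_iff_eq_mul]
  apply omat_injective Q
  rw [omat_mul, omat_mul]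
  apply Matrix.toLin'.injective
  rw [Matrix.toLin'_mul, Matrix.toLin'_mul, hc]
  apply LinearMap.ext
  intro v
  show y.symm (Matrix.toLin' (omat Q g) v) = Matrix.toLin' (omat Q g') (y.symm v)
  apply y.injective
  rw [y.apply_symm_apply, hy, y.apply_symm_apply]

theorem FactorData.orth_sum_le (D : FactorData F r i PP) (g : ↥(Cfsg.isometryGroup F ⇑Q))
    (hg : g ^ r = 1) :
    ∑ P : PP, kdim (Matrix.toLin' (omat Q g)) (P : F[X]) ≤ Fintype.card ι := by
  have h1 := D.finrank_eq _ (orth_aeval_of_pow_eq_one Q g r hg)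
  rw [Module.finrank_fintype_fun_eq_card] at h1
  have h3 : ∑ P : PP, kdim (Matrix.toLin' (omat Q g)) (P : F[X]) =
      ∑ P ∈ PP, kdim (Matrix.toLin' (omat Q g)) P :=
    Finset.sum_coe_sort PP (fun P => kdim (Matrix.toLin' (omat Q g)) P)
  omega

theorem FactorData.orth_eq_one_iff (D : FactorData F r i PP) (g : ↥(Cfsg.isometryGroup F ⇑Q))
    (hg : g ^ r = 1) :
    g = 1 ↔ ∀ P : PP, kdim (Matrix.toLin' (omat Q g)) (P : F[X]) = 0 := by
  have h0 : g = 1 ↔ omat Q g = 1 := by
    constructor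
    · rintro rfl; rfl
    · intro h; exact omat_injective Q (by rw [h, omat_one])
  rw [h0, ← Matrix.toLin'.injective.eq_iff, Matrix.toLin'_one]
  have := D.eq_one_iff (Matrix.toLin' (omat Q g)) (orth_aeval_of_pow_eq_one Q g r hg)
  have h1 : (LinearMap.id : (ι → F) →ₗ[F] (ι → F)) = 1 := rfl
  rw [h1, this]
  exact ⟨fun h P => h P P.2, fun h P hP => h ⟨P, hP⟩⟩

/-- star-invariance of the kernel dimensions of an isometry -/
theorem FactorData.kdim_star_orth (D : FactorData F r i PP) (hmon : ∀ P ∈ PP, P.Monic)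
    (hr : 2 ≤ r) (hN : (QuadraticMap.polarBilin Q).Nondegenerate)
    (g : ↥(Cfsg.isometryGroup F ⇑Q)) (hg : g ^ r = 1) (P : PP) :
    kdim (Matrix.toLin' (omat Q g)) (D.star hmon P : F[X]) =
      kdim (Matrix.toLin' (omat Q g)) (P : F[X]) := by
  haveI : Fact (Irreducible P.1) := ⟨D.irr P.1 P.2⟩
  set φ := Matrix.toLin' (omat Q g) with hφ
  have hφr : φ ^ r = 1 := by
    rw [hφ, ← Matrix.toLin'_pow, ← omat_pow, hg, omat_one, Matrix.toLin'_one]; rfl
  have h1 := kdim_pow_pred_eq (P := P.1) φ hr hφr (hmon P.1 P.2) (D.dvd_of_mem P.2)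
  rw [D.star_val, ← h1]
  apply kdim_inv_of_formInv (QuadraticMap.polarBilin Q) hN φ (φ ^ (r - 1))
    (polar_formInv Q φ (omat_preserves Q g))
  intro v
  have : φ * φ ^ (r - 1) = 1 := by
    rw [← pow_succ', Nat.sub_add_cancel (by omega), hφr]
  exact congrArg (fun ψ : Module.End F (ι → F) => ψ v) this

end OrthGroup

end Cfsg.Agent.Lib.Helper49
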