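import Mathlib

set_option autoImplicit false

/-!
# K-S2606-B (keystone 260602, architect helper7): `quot_two_prod_cyclic`
-/

namespace Cfsg.Agent.Lib.Helper49.OutMinus

/-- K-S2606-B. -/
theorem quot_two_prod_cyclic {G : Type*} [Group G] [Finite G] (I E P : Subgroup G)
    [I.Normal] [E.Normal] [P.Normal] (hIE : I ≤ E) (hEP : E ≤ P)
    (φ : ↥P →* Multiplicative (ZMod 2 × ZMod 2)) (hφs : Function.Surjective φ)
    (hφk : φ.ker = I.subgroupOf P) {f : ℕ} (hf : 0 < f) (hidx : P.index = f) (ψ : G)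
    (hψ : orderOf (QuotientGroup.mk ψ : G ⧸ P) = f) (hψE : ψ ^ f ∉ E)
    (e1 : G) (he1 : e1 ∈ E) (he1I : e1 ∉ I) :
    Nonempty (G ⧸ I ≃* Multiplicative (ZMod 2 × ZMod (2 * f))) := by
  classical
  have hIP : I ≤ P := hIE.trans hEP
  have hsq : ∀ y : Multiplicative (ZMod 2 × ZMod 2), y * y = 1 := by decide
  -- squares of `P` lie in `I`
  have hsqP : ∀ g ∈ P, g * g ∈ I := by
    intro g hg
    have h1 : φ (⟨g, hg⟩ * ⟨g, hg⟩) = 1 := by
      rw [map_mul]
      exact hsq _
    have h2 : (⟨g, hg⟩ * ⟨g, hg⟩ : P) ∈ φ.ker := h1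
    rw [hφk, Subgroup.mem_subgroupOf] at h2
    exact h2
  -- cardinalities
  have hcard4 : Nat.card (Multiplicative (ZMod 2 × ZMod 2)) = 4 := by
    rw [Nat.card_congr Multiplicative.toAdd, Nat.card_prod, Nat.card_zmod]
  have hrel : I.relIndex P = 4 := by
    rw [Subgroup.relIndex, ← hφk, Subgroup.index_ker, MonoidHom.range_eq_top.2 hφs,
      Subgroup.card_top, hcard4]
  have hcardQ : Nat.card (G ⧸ I) = 4 * f := by
    rw [← Subgroup.index_eq_card, ← Subgroup.relIndex_mul_index hIP, hrel, hidx]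
  -- the two generators
  set x : G ⧸ I := QuotientGroup.mk ψ with hx
  set d : G ⧸ I := QuotientGroup.mk e1 with hd
  have hdvd : ∀ k : ℕ, ψ ^ k ∈ P → f ∣ k := by
    intro k hk
    rw [← hψ]
    apply orderOf_dvd_of_pow_eq_one
    rw [← QuotientGroup.mk_pow, QuotientGroup.eq_one_iff]
    exact hk
  have hψfP : ψ ^ f ∈ P := by
    have h := pow_orderOf_eq_one (QuotientGroup.mk ψ : G ⧸ P)
    rw [hψ, ← QuotientGroup.mk_pow, QuotientGroup.eq_one_iff] at h
    exact h
  have hxpow : ∀ k : ℕ, x ^ k = 1 ↔ ψ ^ k ∈ I := by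
    intro k
    rw [hx, ← QuotientGroup.mk_pow, QuotientGroup.eq_one_iff]
  have hx2f : x ^ (2 * f) = 1 := by
    rw [hxpow, two_mul, pow_add]
    exact hsqP _ hψfP
  have hxf : x ^ f ≠ 1 := by
    rw [Ne, hxpow]
    exact fun h => hψE (hIE h)
  have hxff : x ^ f * x ^ f = 1 := by
    rw [← pow_add, ← two_mul]; exact hx2f
  have hordx : orderOf x = 2 * f := by
    have h1 : orderOf x ∣ 2 * f := orderOf_dvd_of_pow_eq_one hx2f
    have h2 : f ∣ orderOf x := hdvd _ (hIP ((hxpow _).1 (pow_orderOf_eq_one x)))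
    obtain ⟨m, hm⟩ := h2
    rw [hm, mul_comm 2 f] at h1
    have h3 : m ∣ 2 := Nat.dvd_of_mul_dvd_mul_left hf h1
    rcases (Nat.dvd_prime Nat.prime_two).1 h3 with h4 | h4
    · exfalso
      apply hxf
      have := pow_orderOf_eq_one x
      rwa [hm, h4, mul_one] at this
    · rw [hm, h4, mul_comm]
  have hd1 : d ≠ 1 := by
    rw [hd, Ne, QuotientGroup.eq_one_iff]
    exact he1I
  have hdd : d * d = 1 := by
    rw [hd, ← QuotientGroup.mk_mul, QuotientGroup.eq_one_iff]
    exact hsqP _ (hEP he1)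
  have hd2 : d ^ 2 = 1 := by rw [pow_two]; exact hdd
  haveI : Fact (Nat.Prime 2) := ⟨Nat.prime_two⟩
  have hordd : orderOf d = 2 := orderOf_eq_prime hd2 hd1
  -- the middle subgroup has index 2 over `I`
  have hrelIE : I.relIndex E = 2 := by
    have hmul : I.relIndex E * E.relIndex P = 4 := by
      rw [Subgroup.relIndex_mul_relIndex _ _ _ hIE hEP, hrel]
    have h1 : I.relIndex E ≠ 1 := by
      intro h
      rw [Subgroup.relIndex_eq_one] at h
      exact he1I (h he1)
    have h2 : E.relIndex P ≠ 1 := by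
      intro h
      rw [Subgroup.relIndex_eq_one] at h
      exact hψE (h hψfP)
    have h3 : I.relIndex E ∣ 4 := Dvd.intro _ hmul
    have h4 : I.relIndex E ≤ 4 := Nat.le_of_dvd (by norm_num) h3
    generalize I.relIndex E = a at *
    generalize E.relIndex P = b at *
    interval_cases a
    · omega
    · omega
    · rfl
    · omega
    · omega
  -- `d` is central
  have hcentral : ∀ y : G ⧸ I, Commute d y := by
    intro y
    induction y using QuotientGroup.induction_on with
    | H g =>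
      show d * (QuotientGroup.mk g : G ⧸ I) = QuotientGroup.mk g * d
      rw [hd, ← QuotientGroup.mk_mul, ← QuotientGroup.mk_mul, QuotientGroup.eq]
      have ha : g⁻¹ * e1⁻¹ * g ∈ E := by
        have := ‹E.Normal›.conj_mem _ (E.inv_mem he1) g⁻¹
        simpa using this
      have haI : g⁻¹ * e1⁻¹ * g ∉ I := by
        intro h
        have := ‹I.Normal›.conj_mem _ h g
        have h2 : g * (g⁻¹ * e1⁻¹ * g) * g⁻¹ = e1⁻¹ := by group
        rw [h2] at this
        exact he1I (by simpa using I.inv_mem this)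
      have hidx2 : (I.subgroupOf E).index = 2 := hrelIE
      have := (Subgroup.mul_mem_iff_of_index_two hidx2 (a := ⟨_, ha⟩) (b := ⟨e1, he1⟩)).2
        ⟨fun h => absurd (Subgroup.mem_subgroupOf.1 h) haI,
         fun h => absurd (Subgroup.mem_subgroupOf.1 h) he1I⟩
      rw [Subgroup.mem_subgroupOf] at this
      have h3 : (e1 * g)⁻¹ * (g * e1) = g⁻¹ * e1⁻¹ * g * e1 := by group
      rw [h3]
      exact this
  -- `d` is not a power of `x`
  have hdnot : d ∉ Subgroup.zpowers x := by
    intro hmem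
    rw [← mem_powers_iff_mem_zpowers] at hmem
    obtain ⟨k, hk⟩ := hmem
    have hk' : x ^ k = d := hk
    have hkP : ψ ^ k ∈ P := by
      have h1 : (QuotientGroup.mk (ψ ^ k) : G ⧸ I) = QuotientGroup.mk e1 := by
        rw [QuotientGroup.mk_pow]; exact hk'
      rw [QuotientGroup.eq] at h1
      have h2 : ψ ^ k = e1 * ((ψ ^ k)⁻¹ * e1)⁻¹ := by group
      rw [h2]
      exact P.mul_mem (hEP he1) (P.inv_mem (hIP h1))
    obtain ⟨m, rfl⟩ := hdvd k hkP
    rw [pow_mul] at hk'
    rcases Nat.even_or_odd' m with ⟨c, hc | hc⟩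
    · apply hd1
      rw [← hk', hc, pow_mul, pow_two, hxff, one_pow]
    · have h5 : x ^ f = d := by
        rw [← hk', hc, pow_succ, pow_mul, pow_two, hxff, one_pow, one_mul]
      have h1 : (QuotientGroup.mk (ψ ^ f) : G ⧸ I) = QuotientGroup.mk e1 := by
        rw [QuotientGroup.mk_pow]; exact h5
      rw [QuotientGroup.eq] at h1
      have h2 : ψ ^ f = e1 * ((ψ ^ f)⁻¹ * e1)⁻¹ := by group
      apply hψE
      rw [h2]
      exact E.mul_mem he1 (E.inv_mem (hIE h1))
  -- the product map
  let F : Subgroup.zpowers d × Subgroup.zpowers x →* G ⧸ I :=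
    MonoidHom.noncommCoprod (Subgroup.zpowers d).subtype (Subgroup.zpowers x).subtype
      (fun a b => by
        obtain ⟨i, hi⟩ := Subgroup.mem_zpowers_iff.1 a.2
        show Commute (a : G ⧸ I) (b : G ⧸ I)
        rw [← hi]
        exact (hcentral b).zpow_left i)
  have hF : ∀ a b, F (a, b) = (a : G ⧸ I) * (b : G ⧸ I) := fun a b => rfl
  have hFinj : Function.Injective F := by
    rw [injective_iff_map_eq_one]
    rintro ⟨a, b⟩ hab
    rw [hF] at hab
    have ha : (a : G ⧸ I) ∈ Subgroup.zpowers x := by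
      have : (a : G ⧸ I) = (b : G ⧸ I)⁻¹ := eq_inv_of_mul_eq_one_left hab
      rw [this]
      exact (Subgroup.zpowers x).inv_mem b.2
    have ha1 : (a : G ⧸ I) = 1 := by
      have h1 := a.2
      rw [← mem_powers_iff_mem_zpowers] at h1
      obtain ⟨i, hi⟩ := h1
      have hi' : d ^ i = (a : G ⧸ I) := hi
      rcases Nat.even_or_odd' i with ⟨c, hc | hc⟩
      · rw [← hi', hc, pow_mul, hd2, one_pow]
      · exfalso
        apply hdnot
        have : d ^ i = d := by
          rw [hc, pow_succ, pow_mul, hd2, one_pow, one_mul]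
        rw [← this, hi']
        exact ha
    have hb1 : (b : G ⧸ I) = 1 := by
      rw [ha1, one_mul] at hab
      exact hab
    ext
    · exact ha1
    · exact hb1
  have hcardprod : Nat.card (Subgroup.zpowers d × Subgroup.zpowers x) = 4 * f := by
    rw [Nat.card_prod, Nat.card_zpowers, Nat.card_zpowers, hordd, hordx]
    ring
  have hFbij : Function.Bijective F :=
    hFinj.bijective_of_nat_card_le (by rw [hcardprod, hcardQ])
  -- cyclic factors
  have e1' : Subgroup.zpowers d ≃* Multiplicative (ZMod 2) :=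
    mulEquivOfCyclicCardEq (by rw [Nat.card_zpowers, hordd, Nat.card_congr Multiplicative.toAdd,
      Nat.card_zmod])
  have e2' : Subgroup.zpowers x ≃* Multiplicative (ZMod (2 * f)) :=
    mulEquivOfCyclicCardEq (by rw [Nat.card_zpowers, hordx, Nat.card_congr Multiplicative.toAdd,
      Nat.card_zmod])
  exact ⟨((MulEquiv.ofBijective F hFbij).symm.trans (MulEquiv.prodCongr e1' e2')).trans
    (MulEquiv.prodMultiplicative _ _).symm⟩

end Cfsg.Agent.Lib.Helper49.OutMinus
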