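import Mathlib
import Cfsg.Agent.Lib.Helper50.MinusParam
import Cfsg.Agent.Lib.Helper50.GramMinus

set_option autoImplicit false

namespace Cfsg.Agent.Lib.Helper49

section MinusUnique

variable {F : Type*} [Field F]

/-- a linear change of the last two coordinates -/
def binaryShear (m : ℕ) (κ s : F) (hs : s ≠ 0) :
    ((Fin m ⊕ Fin m) ⊕ Fin 2 → F) ≃ₗ[F] ((Fin m ⊕ Fin m) ⊕ Fin 2 → F) where
  toFun v := Sum.elim (fun j => v (Sum.inl j))
    ![v (Sum.inr 0) + κ * v (Sum.inr 1), s * v (Sum.inr 1)]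
  invFun w := Sum.elim (fun j => w (Sum.inl j))
    ![w (Sum.inr 0) - κ * (s⁻¹ * w (Sum.inr 1)), s⁻¹ * w (Sum.inr 1)]
  map_add' u v := by
    funext j
    rcases j with j | j
    · rfl
    · fin_cases j
      · simp; ring
      · simp; ring
  map_smul' c v := by
    funext j
    rcases j with j | j
    · rfl
    · fin_cases j
      · simp; ring
      · simp; ring
  left_inv v := by
    funext j
    rcases j with j | j
    · rfl
    · fin_cases j
      · simp [hs]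
      · simp [hs]
  right_inv w := by
    funext j
    rcases j with j | j
    · rfl
    · fin_cases j
      · simp [hs]
      · simp [hs]

theorem binaryShear_inl (m : ℕ) (κ s : F) (hs : s ≠ 0) (v : (Fin m ⊕ Fin m) ⊕ Fin 2 → F)
    (j : Fin m ⊕ Fin m) : binaryShear m κ s hs v (Sum.inl j) = v (Sum.inl j) := rfl

theorem binaryShear_inr0 (m : ℕ) (κ s : F) (hs : s ≠ 0) (v : (Fin m ⊕ Fin m) ⊕ Fin 2 → F) :
    binaryShear m κ s hs v (Sum.inr 0) = v (Sum.inr 0) + κ * v (Sum.inr 1) := rfl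

theorem binaryShear_inr1 (m : ℕ) (κ s : F) (hs : s ≠ 0) (v : (Fin m ⊕ Fin m) ⊕ Fin 2 → F) :
    binaryShear m κ s hs v (Sum.inr 1) = s * v (Sum.inr 1) := rfl

variable [Fintype F]

/-- all elliptic forms of a given dimension over a finite field are isometric -/
theorem exists_equiv_minus_all (m : ℕ) (a b : F)
    (hab : ∀ x y : F, x ^ 2 + a * x * y + b * y ^ 2 = 0 → x = 0 ∧ y = 0)
    (ζ : F) (hζ : ∀ t : F, t ^ 2 + t + ζ ≠ 0) :
    ∃ ψ : ((Fin m ⊕ Fin m) ⊕ Fin 2 → F) ≃ₗ[F] ((Fin m ⊕ Fin m) ⊕ Fin 2 → F),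
      ∀ v, Cfsg.quadFormMinus m F a b (ψ v) = Cfsg.quadFormMinus m F 1 ζ v := by
  by_cases h2 : (2 : F) = 0
  · haveI : CharP F 2 := CharTwo.of_one_ne_zero_of_two_eq_zero one_ne_zero h2
    exact Helper50.exists_equiv_minus m a b hab ζ hζ
  · have hΔ := Helper50.disc_not_isSquare h2 a b hab
    have hΔ' := Helper50.disc_not_isSquare h2 1 ζ (Helper50.anis_of_irred ζ hζ)
    have hΔ0 : a ^ 2 - 4 * b ≠ 0 := fun h => hΔ (h ▸ ⟨0, by ring⟩)
    have hΔ'0 : (1 : F) ^ 2 - 4 * ζ ≠ 0 := fun h => hΔ' (h ▸ ⟨0, by ring⟩)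
    obtain ⟨t, ht⟩ := (Helper50.isSquare_mul_nonsquare_iff hΔ0 hΔ').mpr hΔ
    have ht0 : t ≠ 0 := by
      rintro rfl
      rw [mul_zero] at ht
      exact (mul_ne_zero hΔ0 hΔ'0) ht
    set s : F := t / (a ^ 2 - 4 * b) with hsdef
    have hs0 : s ≠ 0 := div_ne_zero ht0 hΔ0
    have hs : (a ^ 2 - 4 * b) * s ^ 2 = 1 - 4 * ζ := by
      rw [hsdef]
      field_simp
      linear_combination -ht
    refine ⟨binaryShear m ((1 - a * s) / 2) s hs0, fun v => ?_⟩
    unfold Cfsg.quadFormMinus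
    simp only [binaryShear_inl, binaryShear_inr0, binaryShear_inr1]
    congr 1
    field_simp
    linear_combination (-(v (Sum.inr 1)) ^ 2) * hs

end MinusUnique

end Cfsg.Agent.Lib.Helper49
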