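import Cfsg.Agent.Lib.Helper49.SubfieldUnip

set_option autoImplicit false
open scoped MatrixGroups

namespace Cfsg.Agent.Lib.Helper49

section Idx

theorem relIndex_mul_card' {G : Type*} [Group G] {H K : Subgroup G} (h : H ≤ K) :
    H.relIndex K * Nat.card ↥H = Nat.card ↥K := by
  rw [Subgroup.relIndex, ← Nat.card_congr (Subgroup.subgroupOfEquivOfLe h).toEquiv]
  exact Subgroup.index_mul_card _

theorem relIndex_dvd_index_of_normal' {G : Type*} [Group G] [Finite G] (K N : Subgroup G)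
    [N.Normal] : K.relIndex N ∣ K.index := by
  have h1 : K.relIndex N * Nat.card ↥(K ⊓ N) = Nat.card ↥N := by
    rw [← Subgroup.inf_relIndex_right]
    exact relIndex_mul_card' inf_le_right
  have h2 : N.relIndex K * Nat.card ↥(K ⊓ N) = Nat.card ↥K := by
    rw [← Subgroup.inf_relIndex_left]
    exact relIndex_mul_card' inf_le_left
  have h3 : N.relIndex (K ⊔ N) = N.relIndex K := Subgroup.relIndex_sup_right K N
  have h4 : N.relIndex (K ⊔ N) * Nat.card ↥N = Nat.card ↥(K ⊔ N) :=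
    relIndex_mul_card' le_sup_right
  have h5 : K.relIndex (K ⊔ N) * Nat.card ↥K = Nat.card ↥(K ⊔ N) :=
    relIndex_mul_card' le_sup_left
  have h6 : K.relIndex (K ⊔ N) ∣ K.index := Subgroup.relIndex_dvd_index_of_le le_sup_left
  have hK : 0 < Nat.card ↥K := Nat.card_pos
  have hKN : 0 < Nat.card ↥(K ⊓ N) := Nat.card_pos
  have h7 : K.relIndex (K ⊔ N) = K.relIndex N := by
    have e1 : K.relIndex (K ⊔ N) * (N.relIndex K * Nat.card ↥(K ⊓ N)) =
        K.relIndex N * (N.relIndex K * Nat.card ↥(K ⊓ N)) := by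
      rw [h2, h5, ← h4, h3, ← h1, ← h2]; ring
    have hpos : 0 < N.relIndex K * Nat.card ↥(K ⊓ N) := by rw [h2]; exact hK
    exact Nat.eq_of_mul_eq_mul_right hpos e1
  rw [← h7]
  exact h6

theorem factor_odd (q₀ k n i : ℕ) (hq₀ : Odd q₀) (hk : Odd k) (hi : i < n) :
    ∃ O, Odd O ∧ (q₀ ^ k) ^ n - (q₀ ^ k) ^ i = (q₀ ^ n - q₀ ^ i) * O := by
  have hb : Odd (q₀ ^ (n - i)) := hq₀.pow
  obtain ⟨S, hS, hpar⟩ := geom_sum_odd (q₀ ^ (n - i)) k hb
  have hSodd : Odd S := by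
    rw [Nat.odd_iff, hpar, ← Nat.odd_iff]; exact hk
  obtain ⟨b', hb'⟩ : ∃ b', q₀ ^ (n - i) = b' + 1 := by
    have : 0 < q₀ ^ (n - i) := hb.pos
    exact ⟨q₀ ^ (n - i) - 1, by omega⟩
  rw [hb', Nat.add_sub_cancel] at hS
  obtain ⟨k', hk'⟩ : ∃ k', k = k' + 1 := by
    have : 0 < k := hk.pos
    exact ⟨k - 1, by omega⟩
  have hn : q₀ ^ n = q₀ ^ i * (b' + 1) := by
    rw [← hb', ← pow_add]; congr 1; omega
  refine ⟨(q₀ ^ i) ^ k' * S, (hq₀.pow.pow).mul hSodd, ?_⟩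
  have e1 : (q₀ ^ k) ^ n = (q₀ ^ i) ^ k * (b' * S + 1) := by
    rw [← pow_mul, mul_comm k n, pow_mul, hn, mul_pow, hS]
  have e2 : (q₀ ^ k) ^ i = (q₀ ^ i) ^ k := by
    rw [← pow_mul, mul_comm k i, pow_mul]
  have e3 : q₀ ^ n - q₀ ^ i = q₀ ^ i * b' := by
    rw [hn, Nat.mul_succ, Nat.add_sub_cancel]
  rw [e1, e2, e3, Nat.mul_succ, Nat.add_sub_cancel, hk', pow_succ]
  ring

theorem card_GL_ratio_odd (q₀ k n : ℕ) (hq₀ : Odd q₀) (hk : Odd k) :
    ∃ O, Odd O ∧ ∏ i : Fin n, ((q₀ ^ k) ^ n - (q₀ ^ k) ^ (i : ℕ)) =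
      (∏ i : Fin n, (q₀ ^ n - q₀ ^ (i : ℕ))) * O := by
  choose O hO using fun i : Fin n => factor_odd q₀ k n i hq₀ hk i.2
  refine ⟨∏ i, O i, ?_, ?_⟩
  · exact Finset.prod_induction _ Odd (fun a b ha hb => ha.mul hb) odd_one (fun i _ => (hO i).1)
  · rw [← Finset.prod_mul_distrib]
    exact Finset.prod_congr rfl (fun i _ => (hO i).2)

variable {F : Type*} [Field F] {n : ℕ}

theorem subfieldSubgroup_one_eq (F₀ : Subfield F) :
    Cfsg.Geo.subfieldSubgroup F₀ (1 : GL (Fin n) F) =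
      (Matrix.GeneralLinearGroup.map (F₀.subtype : F₀ →+* F)).range ⊔ Cfsg.Geo.scalars (Fin n) F := by
  ext x
  simp [Cfsg.Geo.subfieldSubgroup, Subgroup.mem_map]

theorem toGL_range_normal :
    ((Matrix.SpecialLinearGroup.toGL : Matrix.SpecialLinearGroup (Fin n) F →* GL (Fin n) F).range).Normal := by
  constructor
  rintro _ ⟨s, rfl⟩ h
  have hdet : ((h * Matrix.SpecialLinearGroup.toGL s * h⁻¹ : GL (Fin n) F) :
      Matrix (Fin n) (Fin n) F).det = 1 := by
    rw [Units.val_mul, Units.val_mul, Matrix.det_mul, Matrix.det_mul]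
    have h1 : ((Matrix.SpecialLinearGroup.toGL s : GL (Fin n) F) : Matrix (Fin n) (Fin n) F).det = 1 :=
      s.det_coe
    rw [h1, mul_one, ← Matrix.det_mul, ← Units.val_mul, mul_inv_cancel, Units.val_one, Matrix.det_one]
  exact ⟨⟨_, hdet⟩, Units.ext rfl⟩

/-- for an extension of odd degree of finite fields of odd order the subfield subgroup has odd index -/
theorem odd_index_subfieldSL [Fintype F] (F₀ : Subfield F) {q₀ k : ℕ} (hF₀ : Nat.card ↥F₀ = q₀)
    (hcard : Fintype.card F = q₀ ^ k) (hq₀ : Odd q₀) (hk : Odd k) :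
    Odd (subfieldSL F₀ n).index := by
  classical
  letI : Fintype ↥F₀ := Fintype.ofFinite _
  have hc₀ : Fintype.card ↥F₀ = q₀ := by rw [← Nat.card_eq_fintype_card, hF₀]
  set K := Cfsg.Geo.subfieldSubgroup F₀ (1 : GL (Fin n) F) with hK
  set R := (Matrix.GeneralLinearGroup.map (n := Fin n) (F₀.subtype : F₀ →+* F)).range with hR
  have hRK : R ≤ K := by
    rw [hK, subfieldSubgroup_one_eq]; exact le_sup_left
  have hRcard : Nat.card ↥R = ∏ i : Fin n, (q₀ ^ n - q₀ ^ (i : ℕ)) := by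
    rw [hR, ← Nat.card_congr (MonoidHom.ofInjective (glMap_injective (n := n) F₀)).toEquiv,
      Matrix.card_GL_field, hc₀]
  have hGcard : Nat.card (GL (Fin n) F) = ∏ i : Fin n, ((q₀ ^ k) ^ n - (q₀ ^ k) ^ (i : ℕ)) := by
    rw [Matrix.card_GL_field, hcard]
  obtain ⟨O, hOodd, hO⟩ := card_GL_ratio_odd q₀ k n hq₀ hk
  obtain ⟨m', hm'⟩ := Subgroup.card_dvd_of_le hRK
  have hidx : K.index * Nat.card ↥K = Nat.card (GL (Fin n) F) := Subgroup.index_mul_card K
  have hRpos : 0 < Nat.card ↥R := Nat.card_pos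
  have hKodd : Odd K.index := by
    have e1 : Nat.card ↥R * (K.index * m') = Nat.card ↥R * O := by
      rw [← hRcard] at hO
      rw [← hO, ← hGcard, ← hidx, hm']; ring
    have e2 : K.index * m' = O := Nat.eq_of_mul_eq_mul_left hRpos e1
    rw [← e2] at hOodd
    exact Nat.Odd.of_mul_left hOodd
  haveI := toGL_range_normal (F := F) (n := n)
  have hdvd : (subfieldSL F₀ n).index ∣ K.index := by
    change (K.comap _).index ∣ _
    rw [Subgroup.index_comap]
    exact relIndex_dvd_index_of_normal' K _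
  obtain ⟨c, hc⟩ := hdvd
  rw [hc] at hKodd
  exact Nat.Odd.of_mul_left hKodd

end Idx

end Cfsg.Agent.Lib.Helper49
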