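import Cfsg.Agent.Lib.Helper49.UPairEmbed
import Cfsg.Agent.Lib.Helper49.SubfieldIndex

set_option autoImplicit false
open scoped MatrixGroups

/-! The index of the stabiliser of a hyperbolic pair in the special unitary group. -/

namespace Cfsg.Agent.Lib.Helper49

open Matrix Module Cfsg.Agent.Lib.Helper08 Cfsg.Agent.Lib.Helper51.URU Cfsg.Agent.Lib.Helper51.PGU
open Cfsg.Agent.Lib.Helper51.UPar (GUf card_isoMat)
open Cfsg.Agent.Lib.Helper19 (pow_q_pow_q add_pow_q sum_pow_q q_pos one_lt_q frobQ frobQ_apply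
  frobQ_frobQ)

section Index

theorem relIndex_inf_dvd_relIndex {G : Type*} [Group G] [Finite G] (K M N : Subgroup G)
    [N.Normal] : K.relIndex (M ⊓ N) ∣ K.relIndex M := by
  have h1 : (K.subgroupOf M).relIndex ((M ⊓ N).subgroupOf M) = K.relIndex (M ⊓ N) :=
    Subgroup.relIndex_subgroupOf inf_le_left
  rw [Subgroup.inf_subgroupOf_left] at h1
  rw [← h1]
  exact relIndex_dvd_index_of_normal' (K.subgroupOf M) (N.subgroupOf M)

theorem prod_range_two_mul_pair (f : ℕ → ℕ) (m : ℕ) :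
    ∏ i ∈ Finset.range (2 * m), f i = ∏ j ∈ Finset.range m, (f (2 * j) * f (2 * j + 1)) := by
  induction m with
  | zero => simp
  | succ m ih =>
    rw [show 2 * (m + 1) = 2 * m + 1 + 1 by ring, Finset.prod_range_succ, Finset.prod_range_succ,
      ih, Finset.prod_range_succ]
    ring

theorem GUf_two_mul (q m : ℕ) :
    GUf q (2 * m) = q ^ (2 * m * (2 * m - 1) / 2) *
      ((∏ j ∈ Finset.range m, (q ^ (2 * j + 1) + 1)) *
        ∏ j ∈ Finset.range m, ((q ^ 2) ^ (j + 1) - 1)) := by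
  unfold GUf
  rw [prod_range_two_mul_pair, ← Finset.prod_mul_distrib]
  congr 1
  apply Finset.prod_congr rfl
  intro j _
  have h1 : Even (2 * j) := ⟨j, by ring⟩
  have h2 : ¬ Even (2 * j + 1) := by
    rw [Nat.not_even_iff_odd]; exact ⟨j, rfl⟩
  rw [if_pos h1, if_neg h2]
  congr 2
  rw [← pow_mul]
  congr 1

theorem card_GL_prod (Q m : ℕ) (_hQ : 1 ≤ Q) :
    ∏ i : Fin m, (Q ^ m - Q ^ (i : ℕ)) =
      (∏ i ∈ Finset.range m, Q ^ i) * ∏ i ∈ Finset.range m, (Q ^ (i + 1) - 1) := by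
  rw [Fin.prod_univ_eq_prod_range (fun i => Q ^ m - Q ^ i) m,
    ← Finset.prod_range_reflect (fun i => Q ^ (i + 1) - 1) m, ← Finset.prod_mul_distrib]
  apply Finset.prod_congr rfl
  intro i hi
  rw [Finset.mem_range] at hi
  have h0 : m - 1 - i + 1 = m - i := by omega
  rw [h0, Nat.mul_sub, mul_one, ← pow_add]
  congr 2
  omega

variable {F : Type*} [Field F] [Fintype F] {q m n : ℕ} {u w : Fin m → (Fin n → F)}

theorem card_GU_eq (hF : Fintype.card F = q ^ 2) (n : ℕ) :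
    Nat.card (Cfsg.GU n F q) = GUf q n := by
  rw [← card_isoMat hF n, ← Nat.card_congr (guEquiv (ι := Fin n) hF), GU_eq_GUi]

/-- the embedding lands in the stabiliser of the pair -/
theorem HFrame.hom_mem_stab (hF : Fintype.card F = q ^ 2) (hfr : HFrame q u w)
    (D : Fin 2 → Submodule F (Fin n → F)) (hD0 : D 0 = Submodule.span F (Set.range u))
    (hD1 : D 1 = Submodule.span F (Set.range w)) (A : GL (Fin m) F) :
    hfr.hom hF A ∈ Cfsg.Geo.decompositionStabilizer D := by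
  refine ⟨1, fun i => ?_⟩
  fin_cases i
  · change (D 0).map _ = D 0
    rw [hD0]; exact hfr.hom_map_u hF A
  · change (D 1).map _ = D 1
    rw [hD1]; exact hfr.hom_map_w hF A

/-- a prime dividing the index of the stabiliser of a hyperbolic pair divides some `q^(2j+1)+1` -/
theorem HFrame.exists_dvd_of_dvd_relIndex (hF : Fintype.card F = q ^ 2) (hfr : HFrame q u w)
    (D : Fin 2 → Submodule F (Fin n → F)) (hD0 : D 0 = Submodule.span F (Set.range u))
    (hD1 : D 1 = Submodule.span F (Set.range w)) (r : ℕ) (hr : r.Prime) (hrq : ¬ r ∣ q)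
    (hΩ : r ∣ (Cfsg.Geo.decompositionStabilizer D).relIndex
      (Cfsg.GU n F q ⊓ Cfsg.Geo.specialLinear (Fin n) F)) :
    ∃ j, j < m ∧ r ∣ q ^ (2 * j + 1) + 1 := by
  classical
  have hn : n = 2 * m := by rw [hfr.hn]; ring
  subst hn
  have hq1 : 1 < q := one_lt_q hF
  set K : Subgroup (GL (Fin (2 * m)) F) := (hfr.hom hF).range with hK
  have hKS : K ≤ Cfsg.Geo.decompositionStabilizer D := by
    rintro _ ⟨A, rfl⟩
    exact hfr.hom_mem_stab hF D hD0 hD1 A
  have hKG : K ≤ Cfsg.GU (2 * m) F q := by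
    rintro _ ⟨A, rfl⟩
    exact hfr.hom_mem_GU hF A
  have : (Cfsg.Geo.specialLinear (Fin (2 * m)) F).Normal := by
    unfold Cfsg.Geo.specialLinear
    infer_instance
  have h1 : r ∣ K.relIndex (Cfsg.GU (2 * m) F q) :=
    dvd_trans hΩ (dvd_trans (Subgroup.relIndex_dvd_of_le_left _ hKS)
      (relIndex_inf_dvd_relIndex K _ _))
  have h2 : K.relIndex (Cfsg.GU (2 * m) F q) * Nat.card ↥K = Nat.card ↥(Cfsg.GU (2 * m) F q) :=
    relIndex_mul_card' hKG
  have h3 : Nat.card ↥K = Nat.card (GL (Fin m) F) := by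
    rw [hK]
    exact (Nat.card_congr (Equiv.ofInjective _ (hfr.hom_injective hF))).symm
  rw [h3, Matrix.card_GL_field, card_GU_eq hF, hF, GUf_two_mul,
    card_GL_prod _ _ (Nat.one_le_pow _ _ (by omega))] at h2
  have hpos : 0 < ∏ i ∈ Finset.range m, ((q ^ 2) ^ (i + 1) - 1) := by
    apply Finset.prod_pos
    intro i _
    have : 2 ≤ (q ^ 2) ^ (i + 1) := by
      calc 2 ≤ q := hq1
        _ ≤ q ^ 2 := Nat.le_self_pow (by norm_num) q
        _ ≤ (q ^ 2) ^ (i + 1) := Nat.le_self_pow (by omega) _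
    omega
  have h4 : K.relIndex (Cfsg.GU (2 * m) F q) * ∏ i ∈ Finset.range m, (q ^ 2) ^ i =
      q ^ (2 * m * (2 * m - 1) / 2) * ∏ j ∈ Finset.range m, (q ^ (2 * j + 1) + 1) := by
    apply Nat.eq_of_mul_eq_mul_right hpos
    calc K.relIndex (Cfsg.GU (2 * m) F q) * (∏ i ∈ Finset.range m, (q ^ 2) ^ i) *
          ∏ i ∈ Finset.range m, ((q ^ 2) ^ (i + 1) - 1)
        = K.relIndex (Cfsg.GU (2 * m) F q) * ((∏ i ∈ Finset.range m, (q ^ 2) ^ i) *
          ∏ i ∈ Finset.range m, ((q ^ 2) ^ (i + 1) - 1)) := by ring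
      _ = _ := h2
      _ = _ := by ring
  have h5 : r ∣ q ^ (2 * m * (2 * m - 1) / 2) * ∏ j ∈ Finset.range m, (q ^ (2 * j + 1) + 1) := by
    rw [← h4]
    exact dvd_mul_of_dvd_left h1 _
  rcases (Nat.Prime.dvd_mul hr).mp h5 with h | h
  · exact absurd (hr.dvd_of_dvd_pow h) hrq
  · obtain ⟨j, hj, hrj⟩ := (Prime.dvd_finset_prod_iff hr.prime _).mp h
    rw [Finset.mem_range] at hj
    exact ⟨j, hj, hrj⟩

end Index

end Cfsg.Agent.Lib.Helper49
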