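import Mathlib
import Cfsg.Agent.Lib.Helper49.PrimeOrderOrth
import Cfsg.Agent.Lib.Helper50.StdForms

set_option autoImplicit false

namespace Cfsg.Agent.Lib.Helper49

open Polynomial Module Matrix

section QuadFromSp

variable {F : Type*} [Field F] {V : Type*} [AddCommGroup V] [Module F V]

/-- the quadratic form `x ↦ ω (a x) x` -/
noncomputable def spQuad (ω : LinearMap.BilinForm F V) (a : V →ₗ[F] V) : QuadraticForm F V :=
  LinearMap.BilinMap.toQuadraticMap (LinearMap.comp ω a)

theorem spQuad_apply (ω : LinearMap.BilinForm F V) (a : V →ₗ[F] V) (x : V) :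
    spQuad ω a x = ω (a x) x := rfl

theorem spQuad_map (ω : LinearMap.BilinForm F V) (a : V →ₗ[F] V)
    (hI : ∀ u v, ω (a u) (a v) = ω u v) (x : V) : spQuad ω a (a x) = spQuad ω a x := by
  rw [spQuad_apply, spQuad_apply, hI]

theorem polar_spQuad (ω : LinearMap.BilinForm F V) (a b : V →ₗ[F] V) (halt : ∀ x, ω x x = 0)
    (hI : ∀ u v, ω (a u) (a v) = ω u v) (hab : ∀ v, a (b v) = v) (x y : V) :
    QuadraticMap.polar (spQuad ω a) x y = ω (a x - b x) y := by
  have hskew : ∀ u v, ω u v = - ω v u := by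
    intro u v
    have := halt (u + v)
    simp only [map_add, LinearMap.add_apply, halt] at this
    linear_combination this
  unfold spQuad
  rw [LinearMap.BilinMap.polar_toQuadraticMap]
  show ω (a x) y + ω (a y) x = _
  rw [map_sub, LinearMap.sub_apply, hskew (a y) x]
  have : ω x (a y) = ω (b x) y := by
    conv_lhs => rw [← hab x]
    rw [hI]
  rw [this]; ring

theorem spQuad_QND (ω : LinearMap.BilinForm F V) (a : V →ₗ[F] V) (hN : ω.Nondegenerate)
    (halt : ∀ x, ω x x = 0) (hI : ∀ u v, ω (a u) (a v) = ω u v) (r : ℕ) (hodd : Odd r)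
    (har : a ^ r = 1) (h1 : ∀ v, a v = v → v = 0) : Helper50.QND (spQuad ω a) := by
  intro x hx
  obtain ⟨s, hs⟩ := hodd
  have hab : ∀ v, a ((a ^ (r - 1)) v) = v := by
    intro v
    have : a * a ^ (r - 1) = 1 := by
      rw [← pow_succ', Nat.sub_add_cancel (by omega), har]
    exact congrArg (fun ψ : Module.End F V => ψ v) this
  have h3 : a x - (a ^ (r - 1)) x = 0 := by
    apply hN.1
    intro y
    rw [← polar_spQuad ω a (a ^ (r - 1)) halt hI hab]
    exact hx y
  have h4 : a (a x) = x := by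
    rw [sub_eq_zero] at h3
    rw [h3, hab]
  have h5 : ∀ y : V, a (a y) = y → ∀ n : ℕ, (a ^ (2 * n)) y = y := by
    intro y hy n
    induction n with
    | zero => simp
    | succ n ih =>
      rw [show 2 * (n + 1) = 2 * n + 2 by ring, pow_add, Module.End.mul_apply, pow_two,
        Module.End.mul_apply, hy, ih]
  apply h1
  have h6 : (a ^ r) x = a x := by
    rw [hs, pow_succ, Module.End.mul_apply]
    exact h5 (a x) (by rw [h4]) s
  rw [← h6, har, Module.End.one_apply]

end QuadFromSp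

section ProdMap

variable {F : Type*} [Field F] {V : Type*} [AddCommGroup V] [Module F V]
variable {W : Type*} [AddCommGroup W] [Module F W]

theorem aeval_prodMap_apply (a : V →ₗ[F] V) (b : W →ₗ[F] W) (P : F[X]) (v : V × W) :
    aeval (a.prodMap b) P v = (aeval a P v.1, aeval b P v.2) := by
  have h1 := aeval_intertwine (a.prodMap b) a (LinearMap.fst F V W) (fun v => rfl) P v
  have h2 := aeval_intertwine (a.prodMap b) b (LinearMap.snd F V W) (fun v => rfl) P v
  exact Prod.ext h1 h2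

/-- kernel dimensions are additive for direct sums -/
theorem kdim_prodMap [FiniteDimensional F V] [FiniteDimensional F W]
    (a : V →ₗ[F] V) (b : W →ₗ[F] W) (P : F[X]) :
    kdim (a.prodMap b) P = kdim a P + kdim b P := by
  unfold kdim
  rw [← Module.finrank_prod]
  apply LinearEquiv.finrank_eq
  exact
    { toFun := fun z => (⟨z.1.1, by
          have := z.2
          rw [LinearMap.mem_ker, aeval_prodMap_apply] at this
          exact LinearMap.mem_ker.mpr (congrArg Prod.fst this)⟩, ⟨z.1.2, by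
          have := z.2
          rw [LinearMap.mem_ker, aeval_prodMap_apply] at this
          exact LinearMap.mem_ker.mpr (congrArg Prod.snd this)⟩)
      map_add' := fun _ _ => rfl
      map_smul' := fun _ _ => rfl
      invFun := fun p => ⟨(p.1.1, p.2.1), by
          rw [LinearMap.mem_ker, aeval_prodMap_apply]
          exact Prod.ext (LinearMap.mem_ker.mp p.1.2) (LinearMap.mem_ker.mp p.2.2)⟩
      left_inv := fun _ => rfl
      right_inv := fun _ => rfl }

theorem kdim_id_eq_zero [FiniteDimensional F W] (P : F[X]) (hP : ¬ (X - 1 : F[X]) ∣ P) :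
    kdim (LinearMap.id : W →ₗ[F] W) P = 0 := by
  unfold kdim
  have h1 : aeval (LinearMap.id : W →ₗ[F] W) P = (P.eval 1) • LinearMap.id := by
    have : (LinearMap.id : W →ₗ[F] W) = algebraMap F (Module.End F W) 1 := by
      rw [map_one]; rfl
    rw [this, Polynomial.aeval_algebraMap_apply, Algebra.algebraMap_eq_smul_one, map_one]
    rfl
  have h2 : P.eval 1 ≠ 0 := by
    intro h
    apply hP
    have := (Polynomial.dvd_iff_isRoot (p := P) (a := (1 : F))).mpr h
    rwa [Polynomial.C_1] at this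
  rw [h1]
  have : LinearMap.ker ((P.eval 1) • (LinearMap.id : W →ₗ[F] W)) = ⊥ := by
    rw [LinearMap.ker_eq_bot']
    intro v hv
    rw [LinearMap.smul_apply, LinearMap.id_apply, smul_eq_zero] at hv
    exact hv.resolve_left h2
  rw [this, finrank_bot]

end ProdMap

section Transfer

variable {F : Type*} [Field F] {ι : Type} [Fintype ι] [DecidableEq ι]

/-- an isometry of finite order of a quadratic space similar to the standard one gives an element
of the isometry group with the same kernel dimensions -/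
theorem exists_isometryGroup_of_similar (Q : QuadraticForm F (ι → F))
    {V₁ : Type*} [AddCommGroup V₁] [Module F V₁] (Q₁ : QuadraticForm F V₁) (g₁ : V₁ →ₗ[F] V₁)
    (hg₁ : ∀ v, Q₁ (g₁ v) = Q₁ v) (r : ℕ) (hr : 0 < r) (hg₁r : g₁ ^ r = 1)
    (ψ : V₁ ≃ₗ[F] (ι → F)) (c : F) (hψ : ∀ v, Q (ψ v) = c * Q₁ v) :
    ∃ g : ↥(Cfsg.isometryGroup F ⇑Q), g ^ r = 1 ∧
      ∀ P : F[X], kdim (Matrix.toLin' (omat Q g)) P = kdim g₁ P := by
  have e1 : g₁ ∘ₗ (g₁ ^ (r - 1)) = LinearMap.id := by
    have : g₁ * g₁ ^ (r - 1) = 1 := by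
      rw [← pow_succ', Nat.sub_add_cancel (by omega), hg₁r]
    exact this
  have e2 : (g₁ ^ (r - 1)) ∘ₗ g₁ = LinearMap.id := by
    have : g₁ ^ (r - 1) * g₁ = 1 := by
      rw [← pow_succ, Nat.sub_add_cancel (by omega), hg₁r]
    exact this
  let e₁ : V₁ ≃ₗ[F] V₁ := LinearEquiv.ofLinear g₁ (g₁ ^ (r - 1)) e1 e2
  have he₁ : ∀ v, e₁ v = g₁ v := fun v => rfl
  let e : (ι → F) ≃ₗ[F] (ι → F) := ψ.symm.trans (e₁.trans ψ)
  have he : ∀ w, e w = ψ (g₁ (ψ.symm w)) := fun w => rfl
  have heQ : ∀ w, Q (e w) = Q w := by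
    intro w
    rw [he, hψ, hg₁, ← hψ, ψ.apply_symm_apply]
  obtain ⟨g, hg⟩ := exists_isometryGroup_of_equiv Q e heQ
  have hpow : ∀ (n : ℕ) (w : ι → F),
      ((Matrix.toLin' (omat Q g)) ^ n) w = ψ ((g₁ ^ n) (ψ.symm w)) := by
    intro n
    induction n with
    | zero => intro w; simp
    | succ n ih =>
      intro w
      rw [pow_succ, Module.End.mul_apply, ih, hg, LinearEquiv.coe_coe, he, ψ.symm_apply_apply,
        pow_succ, Module.End.mul_apply]
  refine ⟨g, ?_, ?_⟩
  · apply omat_injective Q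
    rw [omat_pow, omat_one]
    apply Matrix.toLin'.injective
    rw [Matrix.toLin'_pow, Matrix.toLin'_one]
    apply LinearMap.ext
    intro w
    rw [hpow, hg₁r, Module.End.one_apply, ψ.apply_symm_apply, LinearMap.id_apply]
  · intro P
    symm
    apply kdim_conj g₁ _ ψ
    intro v
    rw [hg, LinearEquiv.coe_coe, he, ψ.symm_apply_apply]

end Transfer

section Model

variable {F : Type*} [Field F] [Fintype F] {r i : ℕ} {PP : Finset F[X]}

/-- an abstract orthogonal space with a fixed-point-free isometry of order `r` realising a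
profile of kernel dimensions, provided the expected characteristic polynomial is
self-reciprocal -/
theorem FactorData.exists_orth_model (p : ℕ) [Fact p.Prime] [CharP F p]
    (D : FactorData F r i PP) (hmon : ∀ P ∈ PP, P.Monic)
    (hrF : (r : F) ≠ 0) (hodd : Odd r) (k : ℕ) (a : PP → ℕ) (ha : i * ∑ P, a P = 2 * k)
    (hpal : (∏ P : PP, (P : F[X]) ^ a P).reverse = ∏ P : PP, (P : F[X]) ^ a P) :
    ∃ (Q' : QuadraticForm F (Fin k ⊕ Fin k → F))
      (a' : (Fin k ⊕ Fin k → F) →ₗ[F] (Fin k ⊕ Fin k → F)),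
      Helper50.QND Q' ∧ (∀ v, Q' (a' v) = Q' v) ∧ a' ^ r = 1 ∧
      (∀ P : PP, kdim a' (P : F[X]) = i * a P) ∧ kdim a' (X - 1) = 0 := by
  classical
  have hexp : 2 * k - i * ∑ P, a P = 0 := by omega
  obtain ⟨g, hgr, hgk⟩ := D.exists_sp_realize p hmon hrF k a ha.le (by
    rw [hexp, pow_zero, one_mul]; exact hpal)
  set J := Matrix.J (Fin k) F with hJ
  set gm : Matrix (Fin k ⊕ Fin k) (Fin k ⊕ Fin k) F :=
    (g : Matrix (Fin k ⊕ Fin k) (Fin k ⊕ Fin k) F) with hgm
  have hgsp : gmᵀ * J * gm = J := SymplecticGroup.mem_iff'.mp g.2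
  let ω : LinearMap.BilinForm F (Fin k ⊕ Fin k → F) := Matrix.toBilin' J
  have hω : ∀ u v, ω u v = u ⬝ᵥ J *ᵥ v := fun u v => Matrix.toBilin'_apply' J u v
  have halt : ∀ x, ω x x = 0 := by
    intro u
    rw [hω]
    exact J_alt' u
  have hN : ω.Nondegenerate :=
    LinearMap.BilinForm.nondegenerate_toBilin'_of_det_ne_zero' J J_det_ne_zero
  have hI : ∀ u v, ω (Matrix.toLin' gm u) (Matrix.toLin' gm v) = ω u v := by
    intro u v
    rw [Matrix.toLin'_apply, Matrix.toLin'_apply, hω, hω]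
    conv_rhs => rw [← hgsp]
    rw [← Matrix.mulVec_mulVec, ← Matrix.mulVec_mulVec, Matrix.dotProduct_mulVec u gmᵀ,
      Matrix.vecMul_transpose]
  have hpow : (Matrix.toLin' gm) ^ r = 1 := by
    rw [← Matrix.toLin'_pow, sp_coe_pow_eq_one g r hgr, Matrix.toLin'_one]
    rfl
  have hfin := D.finrank_eq (Matrix.toLin' gm)
    (aeval_toLin'_of_pow_eq_one _ r (sp_coe_pow_eq_one g r hgr))
  have hsum : ∑ P ∈ PP, kdim (Matrix.toLin' gm) P = 2 * k := by
    rw [← Finset.sum_coe_sort PP (fun P => kdim (Matrix.toLin' gm) P)]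
    rw [Finset.sum_congr rfl (fun P _ => hgk P), ← Finset.mul_sum, ha]
  have hk0 : kdim (Matrix.toLin' gm) (X - 1) = 0 := by
    rw [Module.finrank_fintype_fun_eq_card, Fintype.card_sum, Fintype.card_fin, hsum] at hfin
    omega
  have hfix : ∀ v, Matrix.toLin' gm v = v → v = 0 := by
    intro v hv
    have hker : LinearMap.ker (aeval (Matrix.toLin' gm) (X - 1 : F[X])) = ⊥ := by
      apply Submodule.finrank_eq_zero.mp
      exact hk0
    have hmem : v ∈ LinearMap.ker (aeval (Matrix.toLin' gm) (X - 1 : F[X])) := by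
      rw [LinearMap.mem_ker]
      simp only [map_sub, aeval_X, map_one, LinearMap.sub_apply, Module.End.one_apply]
      rw [hv, sub_self]
    rw [hker] at hmem
    exact (Submodule.mem_bot F).mp hmem
  exact ⟨spQuad ω (Matrix.toLin' gm), Matrix.toLin' gm,
    spQuad_QND ω _ hN halt hI r hodd hpow hfix, spQuad_map ω _ hI, hpow, hgk, hk0⟩

end Model

section OddDim

variable {F : Type*} [Field F]

/-- the scaling factors turning `c x₀² + Σ x_i y_i` into a multiple of `x₀² + Σ x_i y_i` -/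
def oddScaleFun (m : ℕ) (c : F) : Unit ⊕ (Fin m ⊕ Fin m) → F :=
  Sum.elim (fun _ => 1) (Sum.elim (fun _ => c⁻¹) (fun _ => 1))

theorem oddScaleFun_ne_zero (m : ℕ) (c : F) (hc : c ≠ 0) (j : Unit ⊕ (Fin m ⊕ Fin m)) :
    oddScaleFun m c j ≠ 0 := by
  rcases j with _ | _ | _ <;> simp [oddScaleFun, hc]

/-- scaling the `x`-coordinates -/
noncomputable def oddScale (m : ℕ) (c : F) (hc : c ≠ 0) :
    (Unit ⊕ (Fin m ⊕ Fin m) → F) ≃ₗ[F] (Unit ⊕ (Fin m ⊕ Fin m) → F) :=
  LinearEquiv.piCongrRight (fun j => LinearEquiv.smulOfNeZero F F (oddScaleFun m c j)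
    (oddScaleFun_ne_zero m c hc j))

theorem oddScale_apply (m : ℕ) (c : F) (hc : c ≠ 0) (v : Unit ⊕ (Fin m ⊕ Fin m) → F)
    (j : Unit ⊕ (Fin m ⊕ Fin m)) : oddScale m c hc v j = oddScaleFun m c j * v j := rfl

theorem quadFormOdd_oddScale (m : ℕ) (c : F) (hc : c ≠ 0) (v : Unit ⊕ (Fin m ⊕ Fin m) → F) :
    Cfsg.quadFormOdd m F (oddScale m c hc v) = c⁻¹ * Helper50.oddForm m c v := by
  simp only [Cfsg.quadFormOdd, Helper50.oddForm, oddScale_apply, oddScaleFun, Sum.elim_inl,
    Sum.elim_inr, one_mul, mul_add, Finset.mul_sum]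
  congr 1
  · field_simp
  · refine Finset.sum_congr rfl fun j _ => ?_
    ring

theorem QOdd_QND (m : ℕ) (h2 : (2 : F) ≠ 0) : Helper50.QND (Helper50.QOdd m F) := by
  apply Helper50.QND_of_nondegenerate
  apply Helper50.qfOfPolar_nondegenerate
  rw [Helper50.det_odd_gram]
  exact mul_ne_zero (mul_ne_zero h2 one_ne_zero) (pow_ne_zero _ (neg_ne_zero.mpr one_ne_zero))

theorem QND_prod {V W : Type*} [AddCommGroup V] [Module F V] [AddCommGroup W] [Module F W]
    (Q₁ : QuadraticForm F V) (Q₂ : QuadraticForm F W) (h₁ : Helper50.QND Q₁)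
    (h₂ : Helper50.QND Q₂) : Helper50.QND (Q₁.prod Q₂) := by
  intro v hv
  apply Prod.ext
  · apply h₁
    intro w
    have := hv (w, 0)
    rw [QuadraticMap.polar_prod] at this
    simpa using this
  · apply h₂
    intro w
    have := hv (0, w)
    rw [QuadraticMap.polar_prod] at this
    simpa using this

variable [Fintype F] {r i : ℕ} {PP : Finset F[X]}

/-- realisation of a profile of kernel dimensions in the odd-dimensional orthogonal group -/
theorem FactorData.exists_orth_realize_odd (p : ℕ) [Fact p.Prime] [CharP F p]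
    (D : FactorData F r i PP) (hmon : ∀ P ∈ PP, P.Monic)
    (hrF : (r : F) ≠ 0) (hodd : Odd r) (h2 : (2 : F) ≠ 0) (m k : ℕ) (hkm : k ≤ m) (a : PP → ℕ)
    (ha : i * ∑ P, a P = 2 * k)
    (hpal : (∏ P : PP, (P : F[X]) ^ a P).reverse = ∏ P : PP, (P : F[X]) ^ a P) :
    ∃ g : ↥(Cfsg.isometryGroup F ⇑(Helper50.QOdd m F)), g ^ r = 1 ∧
      ∀ P : PP, kdim (Matrix.toLin' (omat (Helper50.QOdd m F) g)) (P : F[X]) = i * a P := by
  classical
  obtain ⟨Q', a', hQ', ha'Q, ha'r, ha'k, -⟩ := D.exists_orth_model p hmon hrF hodd k a ha hpal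
  have hQ'' : Helper50.QND (Helper50.QOdd (m - k) F) := QOdd_QND (m - k) h2
  have hQ₁ : Helper50.QND (Q'.prod (Helper50.QOdd (m - k) F)) := QND_prod _ _ hQ' hQ''
  have hfin : Module.finrank F ((Fin k ⊕ Fin k → F) × (Unit ⊕ (Fin (m - k) ⊕ Fin (m - k)) → F)) =
      2 * m + 1 := by
    rw [Module.finrank_prod, Module.finrank_fintype_fun_eq_card, Module.finrank_fintype_fun_eq_card]
    simp only [Fintype.card_sum, Fintype.card_fin, Fintype.card_unit]
    omega
  rcases Helper50.witt_type (2 * m + 1) (Q'.prod (Helper50.QOdd (m - k) F)) hfin hQ₁ with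
    ⟨m', hm', -⟩ | ⟨m', ζ, hm', -, -⟩ | ⟨m', c, hm', hc, φ, hφ⟩
  · omega
  · omega
  · obtain rfl : m' = m := by omega
    have hr : 0 < r := by
      obtain ⟨s, hs⟩ := hodd
      omega
    have hg₁ : ∀ v, (Q'.prod (Helper50.QOdd (m' - k) F)) ((a'.prodMap LinearMap.id) v) =
        (Q'.prod (Helper50.QOdd (m' - k) F)) v := by
      intro v
      rw [QuadraticMap.prod_apply, QuadraticMap.prod_apply, LinearMap.prodMap_apply, ha'Q,
        LinearMap.id_apply]
    have hpow : ∀ (n : ℕ) v, ((a'.prodMap (LinearMap.id :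
        (Unit ⊕ (Fin (m' - k) ⊕ Fin (m' - k)) → F) →ₗ[F] _)) ^ n) v = ((a' ^ n) v.1, v.2) := by
      intro n
      induction n with
      | zero => intro v; rfl
      | succ n ih =>
        intro v
        rw [pow_succ, Module.End.mul_apply, ih, LinearMap.prodMap_apply, pow_succ,
          Module.End.mul_apply, LinearMap.id_apply]
    have hg₁r : (a'.prodMap (LinearMap.id :
        (Unit ⊕ (Fin (m' - k) ⊕ Fin (m' - k)) → F) →ₗ[F] _)) ^ r = 1 := by
      apply LinearMap.ext
      intro v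
      rw [hpow, ha'r]
      rfl
    obtain ⟨g, hg1, hg2⟩ := exists_isometryGroup_of_similar (Helper50.QOdd m' F)
      (Q'.prod (Helper50.QOdd (m' - k) F)) _ hg₁ r hr hg₁r (φ.trans (oddScale m' c hc)) c⁻¹ (by
        intro v
        rw [← hφ v]
        exact quadFormOdd_oddScale m' c hc (φ v))
    refine ⟨g, hg1, fun P => ?_⟩
    rw [hg2, kdim_prodMap, ha'k, kdim_id_eq_zero _ (D.X_sub_one_not_dvd P.2), add_zero]

end OddDim

end Cfsg.Agent.Lib.Helper49
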