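import Mathlib
import Cfsg.Agent.Lib.Helper49.OrthExist
import Cfsg.Agent.Lib.Helper49.SimilarTranspose

set_option autoImplicit false

namespace Cfsg.Agent.Lib.Helper49

open Polynomial Module Matrix

section BlockKdim

variable {F : Type*} [Field F]
variable {n₁ n₂ : Type*} [Fintype n₁] [DecidableEq n₁] [Fintype n₂] [DecidableEq n₂]

/-- kernel dimensions of a block diagonal matrix -/
theorem kdim_fromBlocks (A : Matrix n₁ n₁ F) (B : Matrix n₂ n₂ F) (P : F[X]) :
    kdim (Matrix.toLin' (Matrix.fromBlocks A 0 0 B)) P =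
      kdim (Matrix.toLin' A) P + kdim (Matrix.toLin' B) P := by
  rw [← kdim_prodMap]
  apply kdim_conj _ _ (LinearEquiv.sumArrowLequivProdArrow n₁ n₂ F F)
  intro v
  rw [Matrix.toLin'_apply, Matrix.fromBlocks_mulVec]
  simp only [Matrix.zero_mulVec, add_zero, zero_add]
  rfl

/-- a matrix and its transpose have the same kernel dimensions -/
theorem kdim_transpose (A : Matrix n₁ n₁ F) (P : F[X]) :
    kdim (Matrix.toLin' Aᵀ) P = kdim (Matrix.toLin' A) P := by
  obtain ⟨S, hS, -, hAS⟩ := exists_symm_intertwiner A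
  have hdet : IsUnit S.det := (Matrix.isUnit_iff_isUnit_det S).mp hS
  have e1 : Matrix.toLin' S ∘ₗ Matrix.toLin' S⁻¹ = LinearMap.id := by
    rw [← Matrix.toLin'_mul, Matrix.mul_nonsing_inv _ hdet, Matrix.toLin'_one]
  have e2 : Matrix.toLin' S⁻¹ ∘ₗ Matrix.toLin' S = LinearMap.id := by
    rw [← Matrix.toLin'_mul, Matrix.nonsing_inv_mul _ hdet, Matrix.toLin'_one]
  symm
  apply kdim_conj _ _ (LinearEquiv.ofLinear _ _ e1 e2)
  intro v
  rw [LinearEquiv.ofLinear_apply, LinearEquiv.ofLinear_apply, ← LinearMap.comp_apply,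
    ← LinearMap.comp_apply, ← Matrix.toLin'_mul, ← Matrix.toLin'_mul, hAS]

theorem kdim_toLin'_one (P : F[X]) (hP : ¬ (X - 1 : F[X]) ∣ P) :
    kdim (Matrix.toLin' (1 : Matrix n₁ n₁ F)) P = 0 := by
  rw [Matrix.toLin'_one]
  exact kdim_id_eq_zero P hP

end BlockKdim

end Cfsg.Agent.Lib.Helper49
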