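import Cfsg.Agent.Lib.Helper49.JordanBasis

set_option autoImplicit false

namespace Cfsg.Agent.Lib.Helper49

open Module

section UC

universe u

variable {F : Type u} [Field F] {n : ℕ}

/-- the nilpotent part `g - 1` as a linear map -/
noncomputable def nilOf (g : GL (Fin n) F) : (Fin n → F) →ₗ[F] (Fin n → F) :=
  Matrix.toLin' ((g : Matrix (Fin n) (Fin n) F) - 1)

theorem nilOf_pow (g : GL (Fin n) F) (m : ℕ) :
    nilOf g ^ m = Matrix.toLin' (((g : Matrix (Fin n) (Fin n) F) - 1) ^ m) :=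
  (Matrix.toLin'_pow _ _).symm

theorem finrank_range_nilOf_pow (g : GL (Fin n) F) (m : ℕ) :
    finrank F (LinearMap.range (nilOf g ^ m)) = (((g : Matrix (Fin n) (Fin n) F) - 1) ^ m).rank := by
  rw [nilOf_pow, Matrix.rank, Matrix.toLin'_apply']

theorem rank_pow_of_isConj {g g' : GL (Fin n) F} (h : IsConj g g') (m : ℕ) :
    (((g' : Matrix (Fin n) (Fin n) F) - 1) ^ m).rank = (((g : Matrix (Fin n) (Fin n) F) - 1) ^ m).rank := by
  obtain ⟨c, hc⟩ := isConj_iff.mp h
  have h1 : (g' : Matrix (Fin n) (Fin n) F) - 1 =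
      (c : Matrix (Fin n) (Fin n) F) * ((g : Matrix (Fin n) (Fin n) F) - 1) *
        ((c⁻¹ : GL (Fin n) F) : Matrix (Fin n) (Fin n) F) := by
    have hcc : (c : Matrix (Fin n) (Fin n) F) * ((c⁻¹ : GL (Fin n) F) : Matrix (Fin n) (Fin n) F) = 1 := by
      rw [← Units.val_mul, mul_inv_cancel, Units.val_one]
    rw [← hc, Units.val_mul, Units.val_mul, mul_sub, sub_mul, mul_one, hcc]
  rw [h1, Units.conj_pow]
  have hdet : IsUnit (c : Matrix (Fin n) (Fin n) F).det :=
    (Matrix.isUnit_iff_isUnit_det _).mp c.isUnit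
  have hdet' : IsUnit ((c⁻¹ : GL (Fin n) F) : Matrix (Fin n) (Fin n) F).det :=
    (Matrix.isUnit_iff_isUnit_det _).mp (c⁻¹).isUnit
  rw [Matrix.rank_mul_eq_left_of_isUnit_det _ _ hdet', Matrix.rank_mul_eq_right_of_isUnit_det _ _ hdet]

/-- `g` has Jordan type `μ` -/
def HasType (g : GL (Fin n) F) (μ : Nat.Partition n) : Prop :=
  ∃ (t : ℕ) (d : Fin t → ℕ) (b : Basis ((k : Fin t) × Fin (d k)) F (Fin n → F)),
    (∀ k, 1 ≤ d k) ∧ IsJordanBasis (nilOf g) d b ∧ Multiset.map d Finset.univ.val = μ.parts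

theorem sum_eq_of_basis {t : ℕ} (d : Fin t → ℕ) (b : Basis ((k : Fin t) × Fin (d k)) F (Fin n → F)) :
    ∑ k, d k = n := by
  have h1 := Module.finrank_eq_card_basis b
  rw [Module.finrank_fintype_fun_eq_card, Fintype.card_fin, Fintype.card_sigma] at h1
  simp only [Fintype.card_fin] at h1
  exact h1.symm

theorem exists_hasType (g : GL (Fin n) F) (m : ℕ)
    (hg : ((g : Matrix (Fin n) (Fin n) F) - 1) ^ m = 0) : ∃ μ, HasType g μ := by
  have hN : nilOf g ^ m = 0 := by rw [nilOf_pow, hg, map_zero]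
  obtain ⟨t, d, b, hd, hb⟩ := exists_jordan_basis (nilOf g) m hN
  refine ⟨⟨Multiset.map d Finset.univ.val, ?_, ?_⟩, t, d, b, hd, hb, rfl⟩
  · intro i hi
    obtain ⟨k, _, rfl⟩ := Multiset.mem_map.mp hi
    exact hd k
  · exact sum_eq_of_basis d b

theorem card_fiber_eq_count {t : ℕ} (d : Fin t → ℕ) (j : ℕ) :
    (Finset.univ.filter fun k => d k = j).card = Multiset.count j (Multiset.map d Finset.univ.val) := by
  classical
  rw [Multiset.count_map, Finset.card_def, Finset.filter_val]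
  congr 1
  apply Multiset.filter_congr
  intro x _
  exact eq_comm

theorem HasType.isConj_iff {g g' : GL (Fin n) F} {μ μ' : Nat.Partition n}
    (h : HasType g μ) (h' : HasType g' μ') : IsConj g g' ↔ μ = μ' := by
  classical
  obtain ⟨t, d, b, hd, hb, hμ⟩ := h
  obtain ⟨t', d', b', hd', hb', hμ'⟩ := h'
  constructor
  · intro hc
    apply Nat.Partition.ext
    rw [← hμ, ← hμ']
    ext j
    rw [← card_fiber_eq_count, ← card_fiber_eq_count]
    rcases Nat.eq_zero_or_pos j with rfl | hj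
    · have e1 : (Finset.univ.filter fun k => d k = 0) = ∅ := by
        apply Finset.filter_eq_empty_iff.mpr
        intro k _ hk
        have := hd k
        omega
      have e2 : (Finset.univ.filter fun k => d' k = 0) = ∅ := by
        apply Finset.filter_eq_empty_iff.mpr
        intro k _ hk
        have := hd' k
        omega
      rw [e1, e2, Finset.card_empty, Finset.card_empty]
    · apply card_eq_of_sums_eq d d' _ j hj
      intro m
      rw [← hb.finrank_range_pow, ← hb'.finrank_range_pow, finrank_range_nilOf_pow,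
        finrank_range_nilOf_pow, rank_pow_of_isConj hc]
  · intro hμμ'
    have hfib : ∀ j, (Finset.univ.filter fun k => d k = j).card =
        (Finset.univ.filter fun k => d' k = j).card := by
      intro j
      rw [card_fiber_eq_count, card_fiber_eq_count, hμ, hμ', hμμ']
    obtain ⟨τ, hτ⟩ := exists_equiv_of_card_fibers_eq d d' hfib
    obtain ⟨Φ, hΦ⟩ := exists_intertwiner hb hb' τ hτ
    let c : Matrix (Fin n) (Fin n) F := LinearMap.toMatrix' (Φ : (Fin n → F) →ₗ[F] (Fin n → F))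
    let c' : Matrix (Fin n) (Fin n) F := LinearMap.toMatrix' (Φ.symm : (Fin n → F) →ₗ[F] (Fin n → F))
    have hcc' : c * c' = 1 := by
      rw [← LinearMap.toMatrix'_comp]; simp
    have hc'c : c' * c = 1 := by
      rw [← LinearMap.toMatrix'_comp]; simp
    let cG : GL (Fin n) F := ⟨c, c', hcc', hc'c⟩
    have hcomm : c * ((g : Matrix (Fin n) (Fin n) F) - 1) = ((g' : Matrix (Fin n) (Fin n) F) - 1) * c := by
      apply Matrix.toLin'.injective
      apply LinearMap.ext
      intro x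
      rw [Matrix.toLin'_mul, Matrix.toLin'_mul, LinearMap.comp_apply, LinearMap.comp_apply]
      have e1 : Matrix.toLin' c = (Φ : (Fin n → F) →ₗ[F] (Fin n → F)) := Matrix.toLin'_toMatrix' _
      rw [e1]
      exact hΦ x
    rw [_root_.isConj_iff]
    refine ⟨cG, ?_⟩
    rw [mul_inv_eq_iff_eq_mul]
    apply Units.ext
    rw [Units.val_mul, Units.val_mul]
    change c * (g : Matrix (Fin n) (Fin n) F) = (g' : Matrix (Fin n) (Fin n) F) * c
    have := hcomm
    rw [mul_sub, sub_mul, mul_one, one_mul] at this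
    exact sub_left_injective this

theorem HasType.pow_eq_zero_iff {g : GL (Fin n) F} {μ : Nat.Partition n} (h : HasType g μ) (m : ℕ) :
    ((g : Matrix (Fin n) (Fin n) F) - 1) ^ m = 0 ↔ ∀ a ∈ μ.parts, a ≤ m := by
  obtain ⟨t, d, b, hd, hb, hμ⟩ := h
  have h1 : ((g : Matrix (Fin n) (Fin n) F) - 1) ^ m = 0 ↔ nilOf g ^ m = 0 := by
    rw [nilOf_pow]
    constructor
    · intro h; rw [h, map_zero]
    · intro h; exact Matrix.toLin'.injective (by rw [h, map_zero])
  have h2 : (∀ a ∈ μ.parts, a ≤ m) ↔ ∀ k, d k ≤ m := by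
    rw [← hμ]
    constructor
    · intro h k
      exact h _ (Multiset.mem_map.mpr ⟨k, Finset.mem_univ_val k, rfl⟩)
    · intro h a ha
      obtain ⟨k, _, rfl⟩ := Multiset.mem_map.mp ha
      exact h k
  rw [h1, h2]
  constructor
  · intro hN k
    by_contra hlt
    push Not at hlt
    have h3 := hb.pow_apply m k ⟨0, by have := hd k; omega⟩
    rw [hN] at h3
    have : ((⟨0, by have := hd k; omega⟩ : Fin (d k)) : ℕ) + m < d k := by simp only; omega
    rw [dif_pos this] at h3
    exact b.ne_zero _ h3.symm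
  · intro hk
    apply b.ext
    rintro ⟨k, j⟩
    rw [hb.pow_apply]
    have : ¬ ((j : ℕ) + m < d k) := by have := hk k; omega
    rw [dif_neg this]
    rfl

theorem exists_of_partition (μ : Nat.Partition n) :
    ∃ g : GL (Fin n) F, ((g : Matrix (Fin n) (Fin n) F) - 1) ^ n = 0 ∧ HasType g μ := by
  classical
  set l := μ.parts.toList with hl
  let d : Fin l.length → ℕ := fun k => l.get k
  have hmap : Multiset.map d Finset.univ.val = μ.parts := by
    rw [Fin.univ_val_map, List.ofFn_get, hl, Multiset.coe_toList]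
  have hd : ∀ k, 1 ≤ d k := by
    intro k
    apply μ.parts_pos
    rw [← Multiset.mem_toList]
    exact List.get_mem l k
  have hsum : ∑ k, d k = n := by
    have : (Multiset.map d Finset.univ.val).sum = n := by rw [hmap, μ.parts_sum]
    exact this
  have hcard : Fintype.card ((k : Fin l.length) × Fin (d k)) = n := by
    rw [Fintype.card_sigma]
    simp only [Fintype.card_fin]
    exact hsum
  let ε : ((k : Fin l.length) × Fin (d k)) ≃ Fin n := Fintype.equivFinOfCardEq hcard
  let b₀ : Basis ((k : Fin l.length) × Fin (d k)) F (Fin n → F) := (Pi.basisFun F (Fin n)).reindex ε.symm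
  let N₀ : (Fin n → F) →ₗ[F] (Fin n → F) := b₀.constr F
    (fun x => if h : (x.2 : ℕ) + 1 < d x.1 then b₀ ⟨x.1, ⟨x.2 + 1, h⟩⟩ else 0)
  have hb₀ : IsJordanBasis N₀ d b₀ := by
    intro k j
    exact b₀.constr_basis F _ ⟨k, j⟩
  have hdle : ∀ k, d k ≤ n := by
    intro k
    rw [← hsum]
    exact Finset.single_le_sum (f := d) (fun i _ => Nat.zero_le _) (Finset.mem_univ k)
  have hN₀ : N₀ ^ n = 0 := by
    apply b₀.ext
    rintro ⟨k, j⟩
    rw [hb₀.pow_apply]
    have : ¬ ((j : ℕ) + n < d k) := by have := hdle k; omega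
    rw [dif_neg this]
    rfl
  set A : Matrix (Fin n) (Fin n) F := LinearMap.toMatrix' N₀ with hA
  have hAlin : Matrix.toLin' A = N₀ := Matrix.toLin'_toMatrix' _
  have hAn : A ^ n = 0 := by
    apply Matrix.toLin'.injective
    rw [Matrix.toLin'_pow, hAlin, hN₀, map_zero]
  let g : GL (Fin n) F := (IsNilpotent.isUnit_one_add ⟨n, hAn⟩).unit
  have hg : (g : Matrix (Fin n) (Fin n) F) - 1 = A := by
    change (1 + A) - 1 = A
    abel
  refine ⟨g, by rw [hg, hAn], l.length, d, b₀, hd, ?_, hmap⟩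
  have : nilOf g = N₀ := by
    unfold nilOf
    rw [hg, hAlin]
  rw [this]
  exact hb₀

end UC

section UC3

universe u

variable {F : Type u} [Field F] {n : ℕ} (p : ℕ) [Fact p.Prime] [CharP F p]

theorem sub_one_pow_char_pow (g : GL (Fin n) F) (k : ℕ) :
    ((g : Matrix (Fin n) (Fin n) F) - 1) ^ (p ^ k) =
      ((g ^ (p ^ k) : GL (Fin n) F) : Matrix (Fin n) (Fin n) F) - 1 := by
  rcases Nat.eq_zero_or_pos n with hn | hn
  · subst hn
    exact Subsingleton.elim _ _
  · have : Nonempty (Fin n) := ⟨⟨0, hn⟩⟩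
    rw [sub_pow_char_pow_of_commute p k (Commute.one_right _), one_pow, Units.val_pow_eq_pow_val]

theorem pow_char_pow_eq_one_iff (g : GL (Fin n) F) (k : ℕ) :
    g ^ (p ^ k) = 1 ↔ ((g : Matrix (Fin n) (Fin n) F) - 1) ^ (p ^ k) = 0 := by
  rw [sub_one_pow_char_pow, sub_eq_zero]
  constructor
  · intro h; rw [h]; rfl
  · intro h; exact Units.ext h

theorem unipotent_iff (g : GL (Fin n) F) :
    (∃ k : ℕ, orderOf g = p ^ k) ↔ ∃ m : ℕ, ((g : Matrix (Fin n) (Fin n) F) - 1) ^ m = 0 := by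
  constructor
  · rintro ⟨k, hk⟩
    refine ⟨p ^ k, ?_⟩
    rw [← pow_char_pow_eq_one_iff, ← hk, pow_orderOf_eq_one]
  · rintro ⟨m, hm⟩
    have hle : m ≤ p ^ m := (Nat.lt_pow_self (Fact.out : p.Prime).one_lt).le
    have h1 : ((g : Matrix (Fin n) (Fin n) F) - 1) ^ (p ^ m) = 0 := by
      rw [← Nat.sub_add_cancel hle, pow_add, hm, mul_zero]
    rw [← pow_char_pow_eq_one_iff] at h1
    have h2 := orderOf_dvd_of_pow_eq_one h1
    obtain ⟨j, _, hj⟩ := (Nat.dvd_prime_pow (Fact.out : p.Prime)).mp h2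
    exact ⟨j, hj⟩

theorem orderOf_eq_char_iff (g : GL (Fin n) F) :
    orderOf g = p ↔ ((g : Matrix (Fin n) (Fin n) F) - 1) ^ p = 0 ∧
      ¬ ((g : Matrix (Fin n) (Fin n) F) - 1) ^ 1 = 0 := by
  have hp1 := pow_char_pow_eq_one_iff p g 1
  rw [pow_one] at hp1
  constructor
  · intro h
    refine ⟨hp1.mp (by rw [← h, pow_orderOf_eq_one]), ?_⟩
    rw [pow_one, sub_eq_zero]
    intro h1
    have : g = 1 := Units.ext h1
    rw [this, orderOf_one] at h
    exact (Fact.out : p.Prime).one_lt.ne h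
  · rintro ⟨h1, h2⟩
    apply orderOf_eq_prime (hp1.mpr h1)
    intro hg
    apply h2
    rw [hg, pow_one]
    simp

end UC3


end Cfsg.Agent.Lib.Helper49
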