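import Mathlib
import Cfsg.Agent.Lib.Helper49.UnipotentClasses
import Cfsg.Agent.Lib.Helper49.SemisimpleKer
import Cfsg.Agent.Lib.Helper49.SemisimpleConj
import Cfsg.Prelude.Def_GeometricClasses

set_option autoImplicit false

/-! Unipotent elements and direct sum decompositions: additivity of kernel dimensions over
complementary invariant subspaces, and the resulting sub-partition. -/

namespace Cfsg.Agent.Lib.Helper49

open Polynomial Module

section ProdMap

variable {F : Type*} [Field F] {V : Type*} [AddCommGroup V] [Module F V]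
variable {W : Type*} [AddCommGroup W] [Module F W]

theorem aeval_prodMap_apply2 (a : V →ₗ[F] V) (b : W →ₗ[F] W) (P : F[X]) (v : V × W) :
    aeval (a.prodMap b) P v = (aeval a P v.1, aeval b P v.2) := by
  have h1 := aeval_intertwine (a.prodMap b) a (LinearMap.fst F V W) (fun v => rfl) P v
  have h2 := aeval_intertwine (a.prodMap b) b (LinearMap.snd F V W) (fun v => rfl) P v
  exact Prod.ext h1 h2

/-- kernel dimensions are additive for direct sums (second copy, light imports) -/
theorem kdim_prodMap2 [FiniteDimensional F V] [FiniteDimensional F W]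
    (a : V →ₗ[F] V) (b : W →ₗ[F] W) (P : F[X]) :
    kdim (a.prodMap b) P = kdim a P + kdim b P := by
  unfold kdim
  rw [← Module.finrank_prod]
  apply LinearEquiv.finrank_eq
  exact
    { toFun := fun z => (⟨z.1.1, by
          have := z.2
          rw [LinearMap.mem_ker, aeval_prodMap_apply2] at this
          exact LinearMap.mem_ker.mpr (congrArg Prod.fst this)⟩, ⟨z.1.2, by
          have := z.2
          rw [LinearMap.mem_ker, aeval_prodMap_apply2] at this
          exact LinearMap.mem_ker.mpr (congrArg Prod.snd this)⟩)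
      map_add' := fun _ _ => rfl
      map_smul' := fun _ _ => rfl
      invFun := fun p => ⟨(p.1.1, p.2.1), by
          rw [LinearMap.mem_ker, aeval_prodMap_apply2]
          exact Prod.ext (LinearMap.mem_ker.mp p.1.2) (LinearMap.mem_ker.mp p.2.2)⟩
      left_inv := fun _ => rfl
      right_inv := fun _ => rfl }

/-- kernel dimensions are additive over complementary invariant subspaces -/
theorem kdim_of_isCompl [FiniteDimensional F V] (φ : V →ₗ[F] V) (U U' : Submodule F V)
    (hc : IsCompl U U') (hU : ∀ v ∈ U, φ v ∈ U) (hU' : ∀ v ∈ U', φ v ∈ U') (P : F[X]) :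
    kdim φ P = kdim (φ.restrict hU) P + kdim (φ.restrict hU') P := by
  rw [← kdim_prodMap2]
  symm
  apply kdim_conj _ _ (Submodule.prodEquivOfIsCompl U U' hc)
  rintro ⟨u, u'⟩
  rw [LinearMap.prodMap_apply, Submodule.coe_prodEquivOfIsCompl', Submodule.coe_prodEquivOfIsCompl',
    map_add]
  rfl

theorem kdim_X_pow (N : V →ₗ[F] V) (m : ℕ) :
    kdim N (X ^ m) = finrank F (LinearMap.ker (N ^ m)) := by
  unfold kdim
  rw [map_pow, aeval_X]

end ProdMap

section JB

variable {F : Type*} [Field F] {M : Type*} [AddCommGroup M] [Module F M]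
  {ι : Type*} [Fintype ι]

theorem IsJordanBasis.kdim_add [DecidableEq ι] {N : M →ₗ[F] M} {d : ι → ℕ}
    {b : Basis ((k : ι) × Fin (d k)) F M} (h : IsJordanBasis N d b) (m : ℕ) :
    kdim N (X ^ m) + ∑ k, (d k - m) = ∑ k, d k := by
  haveI : FiniteDimensional F M := Module.Finite.of_basis b
  rw [kdim_X_pow, ← h.finrank_range_pow m, add_comm, LinearMap.finrank_range_add_finrank_ker]
  rw [Module.finrank_eq_card_basis b, Fintype.card_sigma]
  simp

end JB

section CharP

variable {F : Type*} [Field F] (p : ℕ) [Fact p.Prime] [CharP F p]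
variable {V : Type*} [AddCommGroup V] [Module F V]

theorem X_sub_one_pow_pred : (X - 1 : F[X]) ^ (p - 1) = ∑ k ∈ Finset.range p, (X : F[X]) ^ k := by
  have hp : p.Prime := Fact.out
  have h1 : (X - 1 : F[X]) * (X - 1) ^ (p - 1) = (X - 1) * ∑ k ∈ Finset.range p, (X : F[X]) ^ k := by
    rw [mul_geom_sum, ← pow_succ', Nat.sub_add_cancel hp.one_le, sub_pow_char, one_pow]
  have h2 : (X - 1 : F[X]) ≠ 0 := by
    rw [← C_1]; exact X_sub_C_ne_zero 1
  exact mul_left_cancel₀ h2 h1

theorem sub_one_pow_pred_apply (φ : V →ₗ[F] V) (v : V) :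
    ((φ - 1) ^ (p - 1)) v = ∑ k ∈ Finset.range p, (φ ^ k) v := by
  have h := congrArg (aeval φ) (X_sub_one_pow_pred (F := F) p)
  rw [map_pow, map_sub, aeval_X, map_one, map_sum] at h
  rw [h, LinearMap.sum_apply]
  apply Finset.sum_congr rfl
  intro k _
  rw [map_pow, aeval_X]

end CharP

section Main

universe u

variable {F : Type u} [Field F] (p : ℕ) [Fact p.Prime] [CharP F p] {n : ℕ}

theorem nilOf_eq (g : GL (Fin n) F) :
    nilOf g = Matrix.toLin' (g : Matrix (Fin n) (Fin n) F) - 1 := by
  unfold nilOf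
  rw [map_sub, Matrix.toLin'_one]
  rfl

/-- a unipotent element with fewer than `a` Jordan blocks of size `p` that permutes the members
of a decomposition into `a`-dimensional subspaces fixes each of them -/
theorem decomp_fixed (g : GL (Fin n) F) (μ : Nat.Partition n) (hT : HasType g μ)
    (hp : ∀ b ∈ μ.parts, b ≤ p) {a t : ℕ} (hcount : μ.parts.count p < a)
    (D : Fin t → Submodule F (Fin n → F)) (hD : Cfsg.Geo.IsMDecomposition a D)
    (σ : Equiv.Perm (Fin t))
    (hσ : ∀ j, (D j).map (Matrix.toLin' (g : Matrix (Fin n) (Fin n) F)) = D (σ j)) :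
    ∀ j, σ j = j := by
  classical
  have hpp : p.Prime := Fact.out
  set φ := Matrix.toLin' (g : Matrix (Fin n) (Fin n) F) with hφ
  have hN : nilOf g = φ - 1 := nilOf_eq g
  have hgp : ((g : Matrix (Fin n) (Fin n) F) - 1) ^ p = 0 := (hT.pow_eq_zero_iff p).mpr hp
  have hg1 : g ^ p = 1 := by
    have := (pow_char_pow_eq_one_iff p g 1).mpr (by rwa [pow_one])
    rwa [pow_one] at this
  have hφp : φ ^ p = 1 := by
    rw [hφ, ← Matrix.toLin'_pow, ← Units.val_pow_eq_pow_val, hg1, Units.val_one, Matrix.toLin'_one]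
    rfl
  have hmapk : ∀ k j, (D j).map (φ ^ k) = D ((σ ^ k) j) := by
    intro k
    induction k with
    | zero =>
      intro j
      rw [pow_zero, pow_zero]
      exact Submodule.map_id _
    | succ k ih =>
      intro j
      rw [pow_succ', Module.End.mul_eq_comp, Submodule.map_comp, ih, hσ, pow_succ',
        Equiv.Perm.mul_apply]
  have hDinj : Function.Injective D := hD.indep.injective (fun i h => by
    have h1 := hD.finrank_eq i
    rw [h, finrank_bot] at h1
    have := hD.pos
    omega)
  have hσp : ∀ j, (σ ^ p) j = j := fun j => hDinj (by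
    rw [← hmapk, hφp]
    exact Submodule.map_id _)
  intro j
  by_contra hj
  have hne : ∀ k, 1 ≤ k → k < p → (σ ^ k) j ≠ j := by
    intro k hk1 hkp hk
    have h1 : Function.IsPeriodicPt σ k j := by
      unfold Function.IsPeriodicPt Function.IsFixedPt
      rw [Equiv.Perm.iterate_eq_pow]
      exact hk
    have h2 : Function.IsPeriodicPt σ p j := by
      unfold Function.IsPeriodicPt Function.IsFixedPt
      rw [Equiv.Perm.iterate_eq_pow]
      exact hσp j
    have h3 := h1.gcd h2
    have h4 : Nat.gcd k p = 1 :=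
      Nat.Coprime.symm ((Nat.Prime.coprime_iff_not_dvd hpp).mpr (Nat.not_dvd_of_pos_of_lt hk1 hkp))
    rw [h4] at h3
    unfold Function.IsPeriodicPt Function.IsFixedPt at h3
    rw [Function.iterate_one] at h3
    exact hj h3
  have hinj : ∀ v ∈ D j, ((φ - 1) ^ (p - 1)) v = 0 → v = 0 := by
    intro v hv h0
    rw [sub_one_pow_pred_apply p] at h0
    obtain ⟨p', hp'⟩ : ∃ p', p = p' + 1 := ⟨p - 1, by have := hpp.one_le; omega⟩
    rw [hp', Finset.sum_range_succ', pow_zero, Module.End.one_apply] at h0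
    have hmem : ∑ k ∈ Finset.range p', (φ ^ (k + 1)) v ∈ ⨆ (i) (_ : i ≠ j), D i := by
      apply Submodule.sum_mem
      intro k hk
      rw [Finset.mem_range] at hk
      have h1 : (φ ^ (k + 1)) v ∈ D ((σ ^ (k + 1)) j) := by
        rw [← hmapk]
        exact Submodule.mem_map_of_mem hv
      exact Submodule.mem_iSup_of_mem ((σ ^ (k + 1)) j)
        (Submodule.mem_iSup_of_mem (hne (k + 1) (by omega) (by omega)) h1)
    have hv' : v ∈ ⨆ (i) (_ : i ≠ j), D i := by
      have h1 : v = - ∑ k ∈ Finset.range p', (φ ^ (k + 1)) v := eq_neg_of_add_eq_zero_right h0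
      rw [h1]
      exact Submodule.neg_mem _ hmem
    exact (Submodule.disjoint_def.mp (hD.indep j)) v hv hv'
  have hrank : a ≤ finrank F (LinearMap.range ((φ - 1) ^ (p - 1))) := by
    have hf : Function.Injective (((φ - 1) ^ (p - 1)).comp (D j).subtype) := by
      rw [← LinearMap.ker_eq_bot, LinearMap.ker_eq_bot']
      intro v hv
      exact Subtype.ext (hinj v.1 v.2 hv)
    have h1 := LinearMap.finrank_range_of_inj hf
    rw [hD.finrank_eq j] at h1
    rw [← h1]
    apply Submodule.finrank_mono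
    exact LinearMap.range_comp_le_range _ _
  obtain ⟨t', d, b, hd1, hJ, hμ⟩ := hT
  have h2 := hJ.finrank_range_pow (p - 1)
  rw [hN] at h2
  have hdp : ∀ k, d k ≤ p := fun k => hp (d k) (by
    rw [← hμ]; exact Multiset.mem_map_of_mem d (Finset.mem_univ_val k))
  have h3 : ∑ k, (d k - (p - 1)) = (Finset.univ.filter fun k => d k = p).card := by
    rw [Finset.card_filter]
    apply Finset.sum_congr rfl
    intro k _
    have := hdp k
    have := hd1 k
    split_ifs <;> omega
  rw [h3, card_fiber_eq_count, hμ] at h2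
  omega

theorem card_filter_sum_elim {α β : Type*} [Fintype α] [Fintype β] (f : α → ℕ) (g : β → ℕ)
    (j : ℕ) :
    (Finset.univ.filter fun k : α ⊕ β => Sum.elim f g k = j).card =
      (Finset.univ.filter fun k => f k = j).card + (Finset.univ.filter fun k => g k = j).card := by
  classical
  rw [Finset.card_filter, Finset.card_filter, Finset.card_filter, Fintype.sum_sum_type]
  rfl

/-- a unipotent element with fewer than `a` Jordan blocks of size `p` permuting the members of a
decomposition into `a`-dimensional subspaces: its Jordan type contains a partition of `a` -/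
theorem exists_sub_partition (g : GL (Fin n) F) (μ : Nat.Partition n) (hT : HasType g μ)
    (hp : ∀ b ∈ μ.parts, b ≤ p) {a t : ℕ} (hcount : μ.parts.count p < a)
    (D : Fin t → Submodule F (Fin n → F)) (hD : Cfsg.Geo.IsMDecomposition a D)
    (σ : Equiv.Perm (Fin t))
    (hσ : ∀ j, (D j).map (Matrix.toLin' (g : Matrix (Fin n) (Fin n) F)) = D (σ j)) :
    ∃ ν : Multiset ℕ, ν ≤ μ.parts ∧ ν.sum = a := by
  classical
  have hfix := decomp_fixed p g μ hT hp hcount D hD σ hσ
  set φ := Matrix.toLin' (g : Matrix (Fin n) (Fin n) F) with hφ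
  have hN : nilOf g = φ - 1 := nilOf_eq g
  have ht : 0 < t := by have := hD.two_le; omega
  let j₀ : Fin t := ⟨0, ht⟩
  have hc : IsCompl (D j₀) (⨆ (i) (_ : i ≠ j₀), D i) := by
    refine ⟨hD.indep j₀, codisjoint_iff.mpr ?_⟩
    rw [eq_top_iff, ← hD.iSup_eq_top]
    apply iSup_le
    intro i
    by_cases h : i = j₀
    · rw [h]; exact le_sup_left
    · exact le_sup_of_le_right (le_iSup₂_of_le i h le_rfl)
  have hφU : ∀ v ∈ D j₀, φ v ∈ D j₀ := fun v hv => by
    have h1 := hσ j₀
    rw [hfix] at h1
    rw [← h1]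
    exact Submodule.mem_map_of_mem hv
  have hφU' : ∀ v ∈ ⨆ (i) (_ : i ≠ j₀), D i, φ v ∈ ⨆ (i) (_ : i ≠ j₀), D i := by
    intro v hv
    have h1 : (⨆ (i) (_ : i ≠ j₀), D i).map φ ≤ ⨆ (i) (_ : i ≠ j₀), D i := by
      rw [Submodule.map_iSup]
      apply iSup_le
      intro i
      rw [Submodule.map_iSup]
      apply iSup_le
      intro hi
      rw [hσ i, hfix i]
      exact le_iSup₂_of_le i hi le_rfl
    exact h1 (Submodule.mem_map_of_mem hv)
  have hNU : ∀ v ∈ D j₀, (nilOf g) v ∈ D j₀ := fun v hv => by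
    rw [hN, LinearMap.sub_apply]
    exact Submodule.sub_mem _ (hφU v hv) hv
  have hNU' : ∀ v ∈ ⨆ (i) (_ : i ≠ j₀), D i, (nilOf g) v ∈ ⨆ (i) (_ : i ≠ j₀), D i :=
    fun v hv => by
    rw [hN, LinearMap.sub_apply]
    exact Submodule.sub_mem _ (hφU' v hv) hv
  have hgp : ((g : Matrix (Fin n) (Fin n) F) - 1) ^ p = 0 := (hT.pow_eq_zero_iff p).mpr hp
  have hNp : nilOf g ^ p = 0 := by rw [nilOf_pow, hgp, map_zero]
  have hNUp : ((nilOf g).restrict hNU) ^ p = 0 := by
    rw [Module.End.pow_restrict]
    ext v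
    simp [hNp]
  have hNUp' : ((nilOf g).restrict hNU') ^ p = 0 := by
    rw [Module.End.pow_restrict]
    ext v
    simp [hNp]
  obtain ⟨t₁, d₁, b₁, hd₁, hJ₁⟩ := exists_jordan_basis ((nilOf g).restrict hNU) p hNUp
  obtain ⟨t₂, d₂, b₂, hd₂, hJ₂⟩ := exists_jordan_basis ((nilOf g).restrict hNU') p hNUp'
  obtain ⟨t', d, b, hd1, hJ, hμ⟩ := hT
  have s1 : ∑ k, d₁ k = a := by
    have h1 := Module.finrank_eq_card_basis b₁
    rw [hD.finrank_eq j₀, Fintype.card_sigma] at h1
    simp only [Fintype.card_fin] at h1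
    exact h1.symm
  have s2 : ∑ k, d₂ k = finrank F ↥(⨆ (i) (_ : i ≠ j₀), D i) := by
    have h1 := Module.finrank_eq_card_basis b₂
    rw [Fintype.card_sigma] at h1
    simp only [Fintype.card_fin] at h1
    exact h1.symm
  have s0 : ∑ k, d k = n := sum_eq_of_basis d b
  have s3 : a + finrank F ↥(⨆ (i) (_ : i ≠ j₀), D i) = n := by
    have h1 := Submodule.finrank_add_eq_of_isCompl hc
    rw [hD.finrank_eq j₀, Module.finrank_fintype_fun_eq_card, Fintype.card_fin] at h1
    exact h1
  have key : ∀ m, ∑ k, (d k - m) = ∑ k : Fin t₁ ⊕ Fin t₂, (Sum.elim d₁ d₂ k - m) := by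
    intro m
    have e0 := kdim_of_isCompl (nilOf g) _ _ hc hNU hNU' (X ^ m)
    have e1 := hJ.kdim_add m
    have e2 := hJ₁.kdim_add m
    have e3 := hJ₂.kdim_add m
    rw [Fintype.sum_sum_type]
    simp only [Sum.elim_inl, Sum.elim_inr]
    omega
  have hcnt := card_eq_of_sums_eq d (Sum.elim d₁ d₂) key
  refine ⟨Multiset.map d₁ Finset.univ.val, ?_, ?_⟩
  · rw [Multiset.le_iff_count]
    intro j
    rw [← hμ, ← card_fiber_eq_count, ← card_fiber_eq_count]
    by_cases hj : j = 0
    · have h0 : (Finset.univ.filter fun k => d₁ k = j) = ∅ := by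
        rw [Finset.filter_eq_empty_iff]
        intro k _ hk
        have := hd₁ k
        omega
      rw [h0, Finset.card_empty]
      exact Nat.zero_le _
    · rw [hcnt j (by omega), card_filter_sum_elim]
      exact Nat.le_add_right _ _
  · rw [← s1]
    rfl

end Main

end Cfsg.Agent.Lib.Helper49
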