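import Mathlib
import Cfsg.Prelude.Def_GeometricClasses
import Cfsg.Agent.Lib.Helper49.PrimeOrderOrth
import Cfsg.Agent.Lib.Helper43.AltForm

set_option autoImplicit false

/-! Similitudes of an abstract symplectic form `f` on `F^ι` (in the sense of
`Cfsg.Geo.IsSymplecticForm`): the associated Mathlib bilinear form, the multiplier of a
similitude of finite order, eigenvalue pairing, and the parity of the number of Jordan blocks of
size 3 of a unipotent isometry. -/

namespace Cfsg.Agent.Lib.Helper49

open Polynomial Module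

section Form

variable {F : Type*} [Field F] {ι : Type} [Fintype ι] [DecidableEq ι]

/-- the Mathlib bilinear form of a bilinear two-argument function -/
def bilinOf (f : (ι → F) → (ι → F) → F) (hf : Cfsg.Geo.IsBilinearForm f) :
    LinearMap.BilinForm F (ι → F) :=
  LinearMap.mk₂ F f hf.add_left (fun c x v => by rw [hf.smul_left]; rfl) hf.add_right
    (fun c v x => by rw [hf.smul_right]; rfl)

theorem bilinOf_apply (f : (ι → F) → (ι → F) → F) (hf : Cfsg.Geo.IsBilinearForm f)
    (u v : ι → F) : bilinOf f hf u v = f u v := rfl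

theorem bilinOf_isAlt (f : (ι → F) → (ι → F) → F) (hf : Cfsg.Geo.IsSymplecticForm f) :
    (bilinOf f hf.bilinear).IsAlt := fun v => hf.alternating v

theorem bilinOf_nondegenerate (f : (ι → F) → (ι → F) → F) (hf : Cfsg.Geo.IsSymplecticForm f) :
    (bilinOf f hf.bilinear).Nondegenerate := by
  constructor
  · intro x hx
    by_contra hx0
    obtain ⟨y, hy⟩ := (hf.nondegenerate x hx0).2
    exact hy (hx y)
  · intro x hx
    by_contra hx0
    obtain ⟨y, hy⟩ := (hf.nondegenerate x hx0).1
    exact hy (hx y)

end Form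

section Sim

variable {F : Type*} [Field F] {V : Type*} [AddCommGroup V] [Module F V]

/-- powers of a similitude are similitudes -/
theorem sim_pow (B : LinearMap.BilinForm F V) (φ : V →ₗ[F] V) (c : F)
    (h : ∀ u v, B (φ u) (φ v) = c * B u v) (k : ℕ) (u v : V) :
    B ((φ ^ k) u) ((φ ^ k) v) = c ^ k * B u v := by
  induction k generalizing u v with
  | zero => simp
  | succ k ih =>
    rw [pow_succ, Module.End.mul_apply, Module.End.mul_apply, ih, h, pow_succ, mul_assoc]

/-- the multiplier of a similitude of order dividing `k` is a `k`-th root of unity -/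
theorem sim_mult_pow_eq_one (B : LinearMap.BilinForm F V) (φ : V →ₗ[F] V) (c : F)
    (h : ∀ u v, B (φ u) (φ v) = c * B u v) (k : ℕ) (hk : φ ^ k = 1)
    (hne : ∃ u v, B u v ≠ 0) : c ^ k = 1 := by
  obtain ⟨u, v, huv⟩ := hne
  have h1 := sim_pow B φ c h k u v
  rw [hk, Module.End.one_apply, Module.End.one_apply] at h1
  have h2 : (c ^ k - 1) * B u v = 0 := by rw [sub_mul, one_mul, ← h1, sub_self]
  rcases mul_eq_zero.mp h2 with h3 | h3
  · exact sub_eq_zero.mp h3
  · exact absurd h3 huv

variable [FiniteDimensional F V]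

/-- eigenvalue pairing for a similitude: the `α`- and `c/α`-eigenspaces have the same dimension -/
theorem sim_kdim_pair (B : LinearMap.BilinForm F V) (hN : B.Nondegenerate) (φ ψ : V →ₗ[F] V)
    (c : F) (h : ∀ u v, B (φ u) (φ v) = c * B u v) (hφψ : ∀ v, φ (ψ v) = v)
    (hψφ : ∀ v, ψ (φ v) = v) (α : F) (hα : α ≠ 0) :
    kdim φ (X - C (c / α)) = kdim φ (X - C α) := by
  unfold kdim
  have e1 : ∀ β : F, aeval φ (X - C β) = φ - β • (1 : V →ₗ[F] V) := by
    intro β
    rw [map_sub, aeval_X, aeval_C, Algebra.algebraMap_eq_smul_one]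
  rw [e1, e1]
  have hadj : ∀ u v, B ((φ - α • (1 : V →ₗ[F] V)) u) v = B u ((c • ψ - α • (1 : V →ₗ[F] V)) v) := by
    intro u v
    have h1 : B (φ u) v = c * B u (ψ v) := by
      rw [← h u (ψ v), hφψ]
    simp only [LinearMap.sub_apply, LinearMap.smul_apply, Module.End.one_apply, map_sub, map_smul,
      smul_eq_mul]
    rw [h1]
  have h2 := finrank_ker_adjoint B hN _ _ hadj
  rw [← h2]
  have h3 : LinearMap.ker (φ - (c / α) • (1 : V →ₗ[F] V)) =
      LinearMap.ker (c • ψ - α • (1 : V →ₗ[F] V)) := by
    ext v
    simp only [LinearMap.mem_ker, LinearMap.sub_apply, LinearMap.smul_apply, Module.End.one_apply]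
    constructor
    · intro hv
      have h4 : φ v = (c / α) • v := sub_eq_zero.mp hv
      have h5 : v = (c / α) • ψ v := by
        have := congrArg ψ h4
        rw [hψφ, map_smul] at this
        exact this
      rw [sub_eq_zero]
      have h6 : α • v = α • ((c / α) • ψ v) := congrArg (α • ·) h5
      rw [smul_smul, mul_div_cancel₀ _ hα] at h6
      exact h6.symm
    · intro hv
      have h4 : c • ψ v = α • v := sub_eq_zero.mp hv
      have h5 : c • v = α • φ v := by
        have := congrArg φ h4
        rw [map_smul, hφψ, map_smul] at this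
        exact this
      rw [sub_eq_zero]
      have h6 : α⁻¹ • (c • v) = α⁻¹ • (α • φ v) := congrArg (α⁻¹ • ·) h5
      rw [smul_smul, smul_smul, inv_mul_cancel₀ hα, one_smul] at h6
      rw [← h6, div_eq_inv_mul]
  rw [h3]

end Sim

section Unip

variable {F : Type*} [Field F] {V : Type*} [AddCommGroup V] [Module F V] [FiniteDimensional F V]

/-- a unipotent isometry `φ` of a nondegenerate alternating form with `(φ - 1)^3 = 0` has an even
number of Jordan blocks of size `3` -/
theorem even_rank_sq_of_isometry (B : LinearMap.BilinForm F V) (hA : B.IsAlt)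
    (hN : B.Nondegenerate) (φ : V →ₗ[F] V) (h : ∀ u v, B (φ u) (φ v) = B u v)
    (h3 : (φ - 1) ^ 3 = 0) : Even (finrank F (LinearMap.range ((φ - 1) ^ 2))) := by
  set N := φ - 1 with hNdef
  have hφ : ∀ v, φ v = v + N v := fun v => by rw [hNdef, LinearMap.sub_apply, Module.End.one_apply]; abel
  have star : ∀ u w, B (N u) (φ w) = - B u (N w) := by
    intro u w
    have h1 : N u = φ u - u := by rw [hNdef, LinearMap.sub_apply, Module.End.one_apply]
    have h2 : N w = φ w - w := by rw [hNdef, LinearMap.sub_apply, Module.End.one_apply]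
    rw [h1, h2, map_sub, LinearMap.sub_apply, h, map_sub]
    abel
  have hN3 : ∀ v, N ((N ^ 2) v) = 0 := by
    intro v
    have : (N ^ 3) v = 0 := by rw [h3]; rfl
    rw [pow_succ', Module.End.mul_apply] at this
    exact this
  have hsq : ∀ v, (N ^ 2) v = N (N v) := fun v => by rw [pow_two, Module.End.mul_apply]
  have hz : ∀ v w, B ((N ^ 2) v) (N w) = 0 := by
    intro v w
    have h1 := star ((N ^ 2) v) w
    rw [hN3, map_zero, LinearMap.zero_apply] at h1
    exact neg_eq_zero.mp h1.symm
  have halt : ∀ v, B ((N ^ 2) v) v = 0 := by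
    intro v
    have h1 := star (N v) v
    rw [← hsq, hA (N v), neg_zero, hφ, map_add, hz, add_zero] at h1
    exact h1
  let β : LinearMap.BilinForm F V := B.compLeft (N ^ 2)
  have hβ : β.IsAlt := fun v => halt v
  have hker : LinearMap.ker β = LinearMap.ker (N ^ 2) := by
    ext v
    rw [LinearMap.mem_ker, LinearMap.mem_ker]
    constructor
    · intro hv
      apply hN.1
      intro w
      exact LinearMap.congr_fun hv w
    · intro hv
      ext w
      change B ((N ^ 2) v) w = 0
      rw [hv, map_zero, LinearMap.zero_apply]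
  have h4 := Cfsg.Agent.Lib.Helper43.even_finrank_sub_finrank_ker_of_isAlt β hβ
  rw [hker] at h4
  have h5 := LinearMap.finrank_range_add_finrank_ker (N ^ 2)
  have h6 : finrank F V - finrank F (LinearMap.ker (N ^ 2)) =
      finrank F (LinearMap.range (N ^ 2)) := by omega
  rw [h6] at h4
  exact h4

end Unip

end Cfsg.Agent.Lib.Helper49
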