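import Mathlib
import Cfsg.Agent.Lib.Helper49.SimForm
import Cfsg.Agent.Lib.Helper18.SympWitt
import Cfsg.Agent.Lib.Helper20.SympEmbed
import Cfsg.Agent.Lib.Helper07.SpCardD
import Cfsg.Agent.Lib.Helper45.SLCard

set_option autoImplicit false

/-! The index in `SL_n(q)` of the determinant-one similarity group of a symplectic form: its
prime divisors other than `p` divide some `q^j - 1` with `j` odd. -/

namespace Cfsg.Agent.Lib.Helper49

open Polynomial Module

section StdIso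

variable {F : Type*} [Field F] {n : ℕ}

/-- every symplectic form on `F^n`, `n = 2m`, is equivalent to the standard one -/
theorem exists_std_iso (f : (Fin n → F) → (Fin n → F) → F) (hf : Cfsg.Geo.IsSymplecticForm f)
    (m : ℕ) (hn : n = 2 * m) :
    ∃ T : (Fin m ⊕ Fin m → F) ≃ₗ[F] (Fin n → F), ∀ u v, f (T u) (T v) = Cfsg.sympForm m F u v := by
  classical
  have hV : finrank F (Fin n → F) = 2 * m := by
    rw [Module.finrank_fintype_fun_eq_card, Fintype.card_fin, hn]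
  obtain ⟨b, hb⟩ := Cfsg.Agent.Lib.Helper20.exists_symplectic_basis (bilinOf f hf.bilinear)
    (bilinOf_isAlt f hf) (bilinOf_nondegenerate f hf) m hV
  refine ⟨b.equivFun.symm, fun u v => ?_⟩
  rw [← bilinOf_apply f hf.bilinear, ← Matrix.toBilin_toMatrix b (bilinOf f hf.bilinear), hb,
    Matrix.toBilin_apply]
  have h1 : ∀ w : Fin m ⊕ Fin m → F, ∀ i, b.repr (b.equivFun.symm w) i = w i := by
    intro w i
    rw [← Basis.equivFun_apply, LinearEquiv.apply_symm_apply]
  simp only [h1]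
  unfold Cfsg.sympForm
  rw [dotProduct]
  apply Finset.sum_congr rfl
  intro i _
  rw [Matrix.mulVec, dotProduct, Finset.mul_sum]
  apply Finset.sum_congr rfl
  intro j _
  ring

end StdIso

section Embed

variable {F : Type*} [Field F] {n : ℕ}

/-- the matrix of `T ∘ A ∘ T⁻¹` -/
noncomputable def conjMat (m : ℕ) (T : (Fin m ⊕ Fin m → F) ≃ₗ[F] (Fin n → F))
    (A : Matrix (Fin m ⊕ Fin m) (Fin m ⊕ Fin m) F) : Matrix (Fin n) (Fin n) F :=
  LinearMap.toMatrix' ((T : (Fin m ⊕ Fin m → F) →ₗ[F] (Fin n → F)) ∘ₗ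
      Matrix.toLin' A ∘ₗ (T.symm : (Fin n → F) →ₗ[F] (Fin m ⊕ Fin m → F)))

theorem conjMat_mulVec (m : ℕ) (T : (Fin m ⊕ Fin m → F) ≃ₗ[F] (Fin n → F))
    (A : Matrix (Fin m ⊕ Fin m) (Fin m ⊕ Fin m) F) (u : Fin n → F) :
    (conjMat m T A).mulVec u = T (A.mulVec (T.symm u)) := by
  unfold conjMat
  rw [← Matrix.toLin'_apply, Matrix.toLin'_toMatrix']
  rfl

theorem conjMat_one (m : ℕ) (T : (Fin m ⊕ Fin m → F) ≃ₗ[F] (Fin n → F)) :
    conjMat m T 1 = 1 := by
  apply Matrix.toLin'.injective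
  apply LinearMap.ext
  intro u
  rw [Matrix.toLin'_apply, conjMat_mulVec, Matrix.one_mulVec, LinearEquiv.apply_symm_apply,
    Matrix.toLin'_one]
  rfl

theorem conjMat_mul (m : ℕ) (T : (Fin m ⊕ Fin m → F) ≃ₗ[F] (Fin n → F))
    (A B : Matrix (Fin m ⊕ Fin m) (Fin m ⊕ Fin m) F) :
    conjMat m T (A * B) = conjMat m T A * conjMat m T B := by
  apply Matrix.toLin'.injective
  apply LinearMap.ext
  intro u
  rw [Matrix.toLin'_apply, conjMat_mulVec, Matrix.toLin'_apply, ← Matrix.mulVec_mulVec,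
    ← Matrix.mulVec_mulVec, conjMat_mulVec, conjMat_mulVec, LinearEquiv.symm_apply_apply]

theorem conjMat_det (m : ℕ) (T : (Fin m ⊕ Fin m → F) ≃ₗ[F] (Fin n → F))
    (A : Matrix (Fin m ⊕ Fin m) (Fin m ⊕ Fin m) F) : (conjMat m T A).det = A.det := by
  unfold conjMat
  rw [LinearMap.det_toMatrix', LinearMap.det_conj, LinearMap.det_toLin']

/-- the embedding of `Sp_2m(F)` into `SL_n(F)` given by an equivalence of the standard
symplectic space with `F^n` -/
noncomputable def spToSL (m : ℕ) (T : (Fin m ⊕ Fin m → F) ≃ₗ[F] (Fin n → F)) :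
    Matrix.symplecticGroup (Fin m) F →* Matrix.SpecialLinearGroup (Fin n) F where
  toFun A := ⟨conjMat m T A.1, by
    rw [conjMat_det]
    exact SymplecticGroup.det_eq_one A.2⟩
  map_one' := by
    apply Subtype.ext
    exact conjMat_one m T
  map_mul' A B := by
    apply Subtype.ext
    exact conjMat_mul m T A.1 B.1

theorem spToSL_mulVec (m : ℕ) (T : (Fin m ⊕ Fin m → F) ≃ₗ[F] (Fin n → F))
    (A : Matrix.symplecticGroup (Fin m) F) (u : Fin n → F) :
    ((spToSL m T A : Matrix.SpecialLinearGroup (Fin n) F) : Matrix (Fin n) (Fin n) F).mulVec u =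
      T (A.1.mulVec (T.symm u)) := by
  exact conjMat_mulVec m T A.1 u

theorem spToSL_injective (m : ℕ) (T : (Fin m ⊕ Fin m → F) ≃ₗ[F] (Fin n → F)) :
    Function.Injective (spToSL m T) := by
  intro A B hAB
  apply Subtype.ext
  have h1 : ∀ w : Fin m ⊕ Fin m → F, A.1.mulVec w = B.1.mulVec w := by
    intro w
    have h2 := spToSL_mulVec m T A (T w)
    have h3 := spToSL_mulVec m T B (T w)
    rw [hAB] at h2
    have h4 := h2.symm.trans h3
    simp only [LinearEquiv.symm_apply_apply] at h4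
    exact T.injective h4
  have h4 : Matrix.toLin' A.1 = Matrix.toLin' B.1 := LinearMap.ext h1
  exact Matrix.toLin'.injective h4

theorem mem_simSL_iff (f : (Fin n → F) → (Fin n → F) → F)
    (y : Matrix.SpecialLinearGroup (Fin n) F) :
    y ∈ (Cfsg.Geo.similarityGroup f).comap
      (Matrix.SpecialLinearGroup.toGL : Matrix.SpecialLinearGroup (Fin n) F →* GL (Fin n) F) ↔
    ∃ c : Fˣ, ∀ u v, f ((y : Matrix (Fin n) (Fin n) F).mulVec u)
      ((y : Matrix (Fin n) (Fin n) F).mulVec v) = (c : F) * f u v := Iff.rfl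

/-- the index of the determinant-one similarity group divides `|SL_n| / |Sp_n|` -/
theorem sim_index_dvd (f : (Fin n → F) → (Fin n → F) → F) (hf : Cfsg.Geo.IsSymplecticForm f)
    (m : ℕ) (hn : n = 2 * m) :
    ∃ I : ℕ, ((Cfsg.Geo.similarityGroup f).comap
      (Matrix.SpecialLinearGroup.toGL : Matrix.SpecialLinearGroup (Fin n) F →* GL (Fin n) F)).index ∣ I ∧
      I * Nat.card (Matrix.symplecticGroup (Fin m) F) =
        Nat.card (Matrix.SpecialLinearGroup (Fin n) F) := by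
  obtain ⟨T, hT⟩ := exists_std_iso f hf m hn
  refine ⟨(spToSL m T).range.index, Subgroup.index_dvd_of_le ?_, ?_⟩
  · rintro _ ⟨A, rfl⟩
    rw [mem_simSL_iff]
    refine ⟨1, fun u v => ?_⟩
    rw [spToSL_mulVec, spToSL_mulVec, hT, Cfsg.Agent.Lib.Helper18.sf_mulVec_of_mem m A.1 A.2, ← hT,
      LinearEquiv.apply_symm_apply, LinearEquiv.apply_symm_apply, Units.val_one, one_mul]
  · rw [Nat.card_congr (MonoidHom.ofInjective (spToSL_injective m T)).toEquiv]
    exact Subgroup.index_mul_card _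

end Embed

section Arith

theorem prod_gl_factor (q d : ℕ) :
    ∏ i : Fin d, (q ^ d - q ^ (i : ℕ)) =
      (∏ i ∈ Finset.range d, q ^ i) * ∏ i ∈ Finset.range d, (q ^ (i + 1) - 1) := by
  rw [Fin.prod_univ_eq_prod_range (fun i => q ^ d - q ^ i) d,
    ← Finset.prod_range_reflect (fun i => q ^ (i + 1) - 1) d, ← Finset.prod_mul_distrib]
  apply Finset.prod_congr rfl
  intro i hi
  rw [Finset.mem_range] at hi
  have h0 : d - 1 - i + 1 = d - i := by omega
  rw [h0, Nat.mul_sub, mul_one, ← pow_add]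
  congr 2
  omega

theorem prod_range_two_mul (g : ℕ → ℕ) (m : ℕ) :
    ∏ i ∈ Finset.range (2 * m), g i =
      (∏ j ∈ Finset.range m, g (2 * j)) * ∏ j ∈ Finset.range m, g (2 * j + 1) := by
  induction m with
  | zero => simp
  | succ m ih =>
    rw [show 2 * (m + 1) = 2 * m + 1 + 1 by ring, Finset.prod_range_succ, Finset.prod_range_succ,
      Finset.prod_range_succ, Finset.prod_range_succ, ih]
    ring

/-- primes other than `p` dividing `|SL_2m(q)| / |Sp_2m(q)|` divide some `q^j - 1`, `j` odd -/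
theorem sl_sp_arith (q m I r S : ℕ) (hq2 : 2 ≤ q)
    (h1 : I * (q ^ (m ^ 2) * ∏ i ∈ Finset.range m, (q ^ (2 * (i + 1)) - 1)) = S)
    (h2 : S * (q - 1) = ∏ i : Fin (2 * m), (q ^ (2 * m) - q ^ (i : ℕ)))
    (hr : r.Prime) (hrq : ¬ r ∣ q) (hrI : r ∣ I) : ∃ j, j < m ∧ r ∣ q ^ (2 * j + 1) - 1 := by
  rw [prod_gl_factor, prod_range_two_mul (fun i => q ^ (i + 1) - 1) m] at h2
  have hE : ∏ j ∈ Finset.range m, (q ^ (2 * j + 1 + 1) - 1) =
      ∏ i ∈ Finset.range m, (q ^ (2 * (i + 1)) - 1) := by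
    apply Finset.prod_congr rfl
    intro i _
    congr 2
  rw [hE, ← h1] at h2
  have hEpos : 0 < ∏ i ∈ Finset.range m, (q ^ (2 * (i + 1)) - 1) := by
    apply Finset.prod_pos
    intro i _
    have : 2 ≤ q ^ (2 * (i + 1)) := le_trans hq2 (Nat.le_self_pow (by omega) q)
    omega
  have h3 : I * q ^ (m ^ 2) * (q - 1) =
      (∏ i ∈ Finset.range (2 * m), q ^ i) * ∏ j ∈ Finset.range m, (q ^ (2 * j + 1) - 1) := by
    apply Nat.eq_of_mul_eq_mul_right hEpos
    calc I * q ^ (m ^ 2) * (q - 1) * ∏ i ∈ Finset.range m, (q ^ (2 * (i + 1)) - 1)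
        = I * (q ^ (m ^ 2) * ∏ i ∈ Finset.range m, (q ^ (2 * (i + 1)) - 1)) * (q - 1) := by ring
      _ = (∏ i ∈ Finset.range (2 * m), q ^ i) * ((∏ j ∈ Finset.range m, (q ^ (2 * j + 1) - 1)) *
            ∏ i ∈ Finset.range m, (q ^ (2 * (i + 1)) - 1)) := h2
      _ = _ := by ring
  have h4 : r ∣ (∏ i ∈ Finset.range (2 * m), q ^ i) *
      ∏ j ∈ Finset.range m, (q ^ (2 * j + 1) - 1) := by
    rw [← h3]
    exact dvd_mul_of_dvd_left (dvd_mul_of_dvd_left hrI _) _
  rcases (Nat.Prime.dvd_mul hr).mp h4 with h | h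
  · obtain ⟨i, _, hri⟩ := (Prime.dvd_finset_prod_iff hr.prime _).mp h
    exact absurd (hr.dvd_of_dvd_pow hri) hrq
  · obtain ⟨j, hj, hrj⟩ := (Prime.dvd_finset_prod_iff hr.prime _).mp h
    rw [Finset.mem_range] at hj
    exact ⟨j, hj, hrj⟩

/-- a prime dividing `q^j - 1` with `j` odd: the order of `q` is odd and at most `j` -/
theorem order_odd_of_dvd (q r j : ℕ) [Fact r.Prime] (hq : 1 ≤ q) (hj : Odd j)
    (h : r ∣ q ^ j - 1) : Odd (orderOf (q : ZMod r)) ∧ orderOf (q : ZMod r) ≤ j := by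
  have h1 : (q : ZMod r) ^ j = 1 := by
    have := (ZMod.natCast_eq_zero_iff (q ^ j - 1) r).mpr h
    rw [Nat.cast_sub (Nat.one_le_pow _ _ hq)] at this
    push_cast at this
    exact sub_eq_zero.mp this
  have h3 := orderOf_dvd_of_pow_eq_one h1
  exact ⟨Odd.of_dvd_nat hj h3, Nat.le_of_dvd hj.pos h3⟩

end Arith

end Cfsg.Agent.Lib.Helper49
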