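import Mathlib
import Cfsg.Agent.Lib.Helper49.SimForm
import Cfsg.Agent.Lib.Helper49.SimIndex
import Cfsg.Agent.Lib.Helper49.UnipotentClasses
import Cfsg.Agent.Lib.Helper49.DecompUnip
import Cfsg.Agent.Lib.Helper49.PrimeOrderSpCount
import Cfsg.Agent.Lib.Helper49.BlockKdim

set_option autoImplicit false

/-! Elements of `SL_n(q)` of prime order modulo scalars with no conjugate in the similarity group
of a symplectic form. -/

namespace Cfsg.Agent.Lib.Helper49

open Polynomial Module

section Data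

variable {F : Type*} [Field F] {n : ℕ}

local notation "SLn" => Matrix.SpecialLinearGroup (Fin n) F

/-- an element of `SL_n` as a linear equivalence -/
noncomputable def slEquiv (P : SLn) : (Fin n → F) ≃ₗ[F] (Fin n → F) :=
  LinearEquiv.ofLinear (Matrix.toLin' P.1) (Matrix.toLin' (P⁻¹).1)
    (by
      rw [← Matrix.toLin'_mul, ← Matrix.SpecialLinearGroup.coe_mul, mul_inv_cancel]
      exact Matrix.toLin'_one)
    (by
      rw [← Matrix.toLin'_mul, ← Matrix.SpecialLinearGroup.coe_mul, inv_mul_cancel]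
      exact Matrix.toLin'_one)

theorem slEquiv_apply (P : SLn) (v : Fin n → F) : slEquiv P v = P.1.mulVec v := rfl

/-- the data attached to a conjugate of `x` lying in the similarity group -/
theorem sim_conj_data (hn : 1 ≤ n) (f : (Fin n → F) → (Fin n → F) → F)
    (hf : Cfsg.Geo.IsSymplecticForm f) (x P : SLn)
    (hy : P⁻¹ * x * P ∈ (Cfsg.Geo.similarityGroup f).comap
      (Matrix.SpecialLinearGroup.toGL : SLn →* GL (Fin n) F))
    (k : ℕ) (hx : x ^ k = 1) :
    ∃ (φ ψ : (Fin n → F) →ₗ[F] (Fin n → F)) (c : F),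
      (∀ u v, bilinOf f hf.bilinear (φ u) (φ v) = c * bilinOf f hf.bilinear u v) ∧
      (∀ v, φ (ψ v) = v) ∧ (∀ v, ψ (φ v) = v) ∧ φ ^ k = 1 ∧ c ^ k = 1 ∧ c ≠ 0 ∧
      ∀ Q : F[X], kdim φ Q = kdim (Matrix.toLin' x.1) Q := by
  rw [mem_simSL_iff] at hy
  obtain ⟨c, hc⟩ := hy
  set y := P⁻¹ * x * P with hydef
  have hyk : y ^ k = 1 := by
    have h0 : y = P⁻¹ * x * (P⁻¹)⁻¹ := by rw [inv_inv]
    rw [h0, conj_pow, hx, mul_one, mul_inv_cancel]
  have hsim : ∀ u v, bilinOf f hf.bilinear (Matrix.toLin' y.1 u) (Matrix.toLin' y.1 v) =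
      (c : F) * bilinOf f hf.bilinear u v := by
    intro u v
    rw [bilinOf_apply, bilinOf_apply, Matrix.toLin'_apply, Matrix.toLin'_apply]
    exact hc u v
  have hφk : (Matrix.toLin' y.1) ^ k = 1 := by
    rw [← Matrix.toLin'_pow, ← Matrix.SpecialLinearGroup.coe_pow, hyk]
    exact Matrix.toLin'_one
  have hne : ∃ u v, bilinOf f hf.bilinear u v ≠ 0 := by
    have h0 : (Pi.single (⟨0, by omega⟩ : Fin n) (1 : F) : Fin n → F) ≠ 0 := by
      intro h
      have := congrFun h ⟨0, by omega⟩
      simp at this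
    obtain ⟨w, hw⟩ := (hf.nondegenerate _ h0).2
    exact ⟨_, w, hw⟩
  refine ⟨Matrix.toLin' y.1, Matrix.toLin' (y⁻¹).1, c, hsim, ?_, ?_, hφk,
    sim_mult_pow_eq_one _ _ _ hsim k hφk hne, c.ne_zero, ?_⟩
  · intro v
    rw [← LinearMap.comp_apply, ← Matrix.toLin'_mul, ← Matrix.SpecialLinearGroup.coe_mul,
      mul_inv_cancel]
    simp
  · intro v
    rw [← LinearMap.comp_apply, ← Matrix.toLin'_mul, ← Matrix.SpecialLinearGroup.coe_mul,
      inv_mul_cancel]
    simp
  · intro Q
    apply kdim_conj _ _ (slEquiv P)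
    intro v
    rw [slEquiv_apply, slEquiv_apply, Matrix.toLin'_apply, Matrix.toLin'_apply,
      Matrix.mulVec_mulVec, Matrix.mulVec_mulVec, ← Matrix.SpecialLinearGroup.coe_mul,
      ← Matrix.SpecialLinearGroup.coe_mul]
    congr 2
    rw [hydef, mul_assoc, mul_inv_cancel_left]

end Data

section KdimPow

variable {F : Type*} [Field F] {V : Type*} [AddCommGroup V] [Module F V]

theorem kdim_X_sub_one_pow (φ : V →ₗ[F] V) (k : ℕ) :
    kdim φ ((X - 1 : F[X]) ^ k) = finrank F (LinearMap.ker ((φ - 1) ^ k)) := by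
  unfold kdim
  rw [map_pow, map_sub, aeval_X, map_one]

end KdimPow

section Unip

universe u

variable {F : Type u} [Field F] (p : ℕ) [Fact p.Prime] [CharP F p] {n : ℕ}

local notation "SLn" => Matrix.SpecialLinearGroup (Fin n) F

/-- in odd characteristic `p`, a unipotent element with Jordan blocks `(3, 1, …, 1)` has no
conjugate in the similarity group of a symplectic form -/
theorem derange_unip (hp2 : p ≠ 2) (hn : 4 ≤ n) (f : (Fin n → F) → (Fin n → F) → F)
    (hf : Cfsg.Geo.IsSymplecticForm f) :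
    ∃ x : SLn, x ^ p = 1 ∧
      (∀ z : F, (x : Matrix (Fin n) (Fin n) F) ≠ z • (1 : Matrix (Fin n) (Fin n) F)) ∧
      ∀ P : SLn, P⁻¹ * x * P ∉ (Cfsg.Geo.similarityGroup f).comap
        (Matrix.SpecialLinearGroup.toGL : SLn →* GL (Fin n) F) := by
  classical
  have hpp : p.Prime := Fact.out
  have hp3 : 3 ≤ p := by
    have := hpp.two_le
    omega
  let μ : Nat.Partition n := ⟨3 ::ₘ Multiset.replicate (n - 3) 1, by
      intro a ha
      rw [Multiset.mem_cons] at ha
      rcases ha with rfl | ha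
      · omega
      · rw [Multiset.eq_of_mem_replicate ha]; omega, by
      rw [Multiset.sum_cons, Multiset.sum_replicate, smul_eq_mul, mul_one]
      omega⟩
  obtain ⟨g, _, hT⟩ := exists_of_partition (F := F) μ
  have hμparts : μ.parts = 3 ::ₘ Multiset.replicate (n - 3) 1 := rfl
  have h3 : ((g : Matrix (Fin n) (Fin n) F) - 1) ^ 3 = 0 := by
    rw [hT.pow_eq_zero_iff 3]
    intro a ha
    rw [hμparts, Multiset.mem_cons] at ha
    rcases ha with rfl | ha
    · exact le_rfl
    · rw [Multiset.eq_of_mem_replicate ha]; omega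
  have hgp : ((g : Matrix (Fin n) (Fin n) F) - 1) ^ p = 0 := by
    rw [← Nat.sub_add_cancel hp3, pow_add, h3, mul_zero]
  have hg1 : g ^ p = 1 := by
    have := (pow_char_pow_eq_one_iff p g 1).mpr (by rwa [pow_one])
    rwa [pow_one] at this
  have hdet : (g : Matrix (Fin n) (Fin n) F).det = 1 := by
    have h1 : (g : Matrix (Fin n) (Fin n) F).det ^ p = 1 := by
      rw [← Matrix.det_pow, ← Units.val_pow_eq_pow_val, hg1, Units.val_one, Matrix.det_one]
    have h2 : ((g : Matrix (Fin n) (Fin n) F).det - 1) ^ p = 0 := by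
      rw [sub_pow_char, h1, one_pow, sub_self]
    exact sub_eq_zero.mp ((pow_eq_zero_iff hpp.ne_zero).mp h2)
  have hnot1 : ¬ ((g : Matrix (Fin n) (Fin n) F) - 1) ^ 1 = 0 := by
    rw [hT.pow_eq_zero_iff 1]
    intro h
    have := h 3 (by rw [hμparts]; exact Multiset.mem_cons_self 3 _)
    omega
  have hN : nilOf g = Matrix.toLin' (g : Matrix (Fin n) (Fin n) F) - 1 := nilOf_eq g
  have hrk : finrank F (LinearMap.range (nilOf g ^ 2)) = 1 := by
    obtain ⟨t', d, b, hd1, hJ, hμ⟩ := hT
    rw [hJ.finrank_range_pow 2]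
    have e1 : ∑ k, (d k - 2) = (Multiset.map (fun a => a - 2) (Multiset.map d Finset.univ.val)).sum := by
      rw [Multiset.map_map]
      rfl
    rw [e1, hμ, hμparts, Multiset.map_cons, Multiset.sum_cons, Multiset.map_replicate,
      Multiset.sum_replicate]
    simp
  have hk3 : kdim (Matrix.toLin' (g : Matrix (Fin n) (Fin n) F)) ((X - 1 : F[X]) ^ 3) = n := by
    rw [kdim_X_sub_one_pow, ← hN, nilOf_pow, h3, map_zero, LinearMap.ker_zero, finrank_top,
      Module.finrank_fintype_fun_eq_card, Fintype.card_fin]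
  have hk2 : kdim (Matrix.toLin' (g : Matrix (Fin n) (Fin n) F)) ((X - 1 : F[X]) ^ 2) = n - 1 := by
    rw [kdim_X_sub_one_pow, ← hN]
    have h5 := LinearMap.finrank_range_add_finrank_ker (nilOf g ^ 2)
    rw [hrk, Module.finrank_fintype_fun_eq_card, Fintype.card_fin] at h5
    omega
  let x : SLn := ⟨(g : Matrix (Fin n) (Fin n) F), hdet⟩
  have hxp : x ^ p = 1 := by
    apply Subtype.ext
    rw [Matrix.SpecialLinearGroup.coe_pow]
    change (g : Matrix (Fin n) (Fin n) F) ^ p = 1
    rw [← Units.val_pow_eq_pow_val, hg1, Units.val_one]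
  refine ⟨x, hxp, ?_, ?_⟩
  · intro z hz
    change (g : Matrix (Fin n) (Fin n) F) = z • 1 at hz
    have h1 : ((g : Matrix (Fin n) (Fin n) F) - 1) = (z - 1) • (1 : Matrix (Fin n) (Fin n) F) := by
      rw [hz, sub_smul, one_smul]
    have h2 : ((z - 1) ^ 3) • (1 : Matrix (Fin n) (Fin n) F) = 0 := by
      rw [← h3, h1, _root_.smul_pow, one_pow]
    have h4 : (z - 1) ^ 3 = 0 := by
      have := congrFun (congrFun h2 ⟨0, by omega⟩) ⟨0, by omega⟩
      simpa using this
    have h5 : z = 1 := sub_eq_zero.mp ((pow_eq_zero_iff (by omega)).mp h4)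
    apply hnot1
    rw [pow_one, h1, h5, sub_self, zero_smul]
  · intro P hy
    obtain ⟨φ, ψ, c, hsim, hφψ, hψφ, hφp, hcp, hc0, hkd⟩ :=
      sim_conj_data (by omega) f hf x P hy p hxp
    have hc1 : c = 1 := by
      have h2 : (c - 1) ^ p = 0 := by rw [sub_pow_char, hcp, one_pow, sub_self]
      exact sub_eq_zero.mp ((pow_eq_zero_iff hpp.ne_zero).mp h2)
    have hiso : ∀ u v, bilinOf f hf.bilinear (φ u) (φ v) = bilinOf f hf.bilinear u v := by
      intro u v
      rw [hsim, hc1, one_mul]
    have h3' : (φ - 1) ^ 3 = 0 := by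
      have h6 := hkd ((X - 1 : F[X]) ^ 3)
      change kdim φ _ = kdim (Matrix.toLin' (g : Matrix (Fin n) (Fin n) F)) _ at h6
      rw [hk3, kdim_X_sub_one_pow] at h6
      have h7 : LinearMap.ker ((φ - 1) ^ 3) = ⊤ := by
        apply Submodule.eq_top_of_finrank_eq
        rw [h6, Module.finrank_fintype_fun_eq_card, Fintype.card_fin]
      exact LinearMap.ker_eq_top.mp h7
    have hev := even_rank_sq_of_isometry (bilinOf f hf.bilinear) (bilinOf_isAlt f hf)
      (bilinOf_nondegenerate f hf) φ hiso h3'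
    have h8 := hkd ((X - 1 : F[X]) ^ 2)
    change kdim φ _ = kdim (Matrix.toLin' (g : Matrix (Fin n) (Fin n) F)) _ at h8
    rw [hk2, kdim_X_sub_one_pow] at h8
    have h9 := LinearMap.finrank_range_add_finrank_ker ((φ - 1) ^ 2)
    rw [h8, Module.finrank_fintype_fun_eq_card, Fintype.card_fin] at h9
    have h10 : finrank F (LinearMap.range ((φ - 1) ^ 2)) = 1 := by omega
    rw [h10] at hev
    exact absurd hev (by decide)

end Unip

section OddOrder

variable {F : Type*} [Field F] [Fintype F] {r i : ℕ} {PP : Finset F[X]} {n : ℕ}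

local notation "SLn" => Matrix.SpecialLinearGroup (Fin n) F

/-- `r`-th roots of unity in `F` are trivial when `r` does not divide `q - 1` -/
theorem root_eq_one_of_not_dvd (hr : r.Prime) (hrq : ¬ r ∣ Fintype.card F - 1) (z : F)
    (hz : z ^ r = 1) : z = 1 := by
  have hz0 : z ≠ 0 := by
    intro h0
    rw [h0, zero_pow hr.ne_zero] at hz
    exact zero_ne_one hz
  have h1 := FiniteField.pow_card_sub_one_eq_one z hz0
  have h2 := pow_gcd_eq_one.mpr ⟨hz, h1⟩
  rw [(Nat.Prime.coprime_iff_not_dvd hr).mpr hrq, pow_one] at h2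
  exact h2

/-- for `i` odd, at least `2`: an element of order `r` with a single irreducible block has no
conjugate in the similarity group of a symplectic form -/
theorem FactorData.derange_odd (D : FactorData F r i PP) (hmon : ∀ P ∈ PP, P.Monic)
    (hr : r.Prime) (hr2 : r ≠ 2) (hodd : Odd i) (hin : i ≤ n)
    (hrq : ¬ r ∣ Fintype.card F - 1) (hne : PP.Nonempty) (hn : 1 ≤ n)
    (f : (Fin n → F) → (Fin n → F) → F) (hf : Cfsg.Geo.IsSymplecticForm f) :
    ∃ x : SLn, x ^ r = 1 ∧
      (∀ z : F, (x : Matrix (Fin n) (Fin n) F) ≠ z • (1 : Matrix (Fin n) (Fin n) F)) ∧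
      ∀ P : SLn, P⁻¹ * x * P ∉ (Cfsg.Geo.similarityGroup f).comap
        (Matrix.SpecialLinearGroup.toGL : SLn →* GL (Fin n) F) := by
  classical
  obtain ⟨P₀, hP₀⟩ := hne
  have hi1 : 1 ≤ i := D.hi
  let a : PP → ℕ := fun P => if P = ⟨P₀, hP₀⟩ then 1 else 0
  have hsum : ∑ P, a P = 1 := by
    rw [Finset.sum_ite_eq' Finset.univ (⟨P₀, hP₀⟩ : PP) (fun _ => 1)]
    simp
  obtain ⟨g, hg, hκ⟩ := D.exists_realize hr.pos n a (by rw [hsum, mul_one]; exact hin)
  have hκ₀ : kdim (Matrix.toLin' (g : Matrix (Fin n) (Fin n) F)) P₀ = i := by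
    have := hκ ⟨P₀, hP₀⟩
    simp only [a, if_true, mul_one] at this
    exact this
  have hgr : (g : Matrix (Fin n) (Fin n) F) ^ r = 1 := by
    rw [← Units.val_pow_eq_pow_val, hg, Units.val_one]
  have hdet : (g : Matrix (Fin n) (Fin n) F).det = 1 := by
    apply root_eq_one_of_not_dvd hr hrq
    rw [← Matrix.det_pow, hgr, Matrix.det_one]
  let x : SLn := ⟨(g : Matrix (Fin n) (Fin n) F), hdet⟩
  have hxr : x ^ r = 1 := by
    apply Subtype.ext
    rw [Matrix.SpecialLinearGroup.coe_pow]
    exact hgr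
  refine ⟨x, hxr, ?_, ?_⟩
  · intro z hz
    change (g : Matrix (Fin n) (Fin n) F) = z • 1 at hz
    have h1 : (z ^ r) • (1 : Matrix (Fin n) (Fin n) F) = 1 := by
      have h0 := hgr
      rw [hz, _root_.smul_pow, one_pow] at h0
      exact h0
    have h2 : z ^ r = 1 := by
      have := congrFun (congrFun h1 ⟨0, by omega⟩) ⟨0, by omega⟩
      simpa using this
    have h3 := root_eq_one_of_not_dvd hr hrq z h2
    rw [h3, one_smul] at hz
    rw [hz, kdim_toLin'_one P₀ (D.X_sub_one_not_dvd hP₀)] at hκ₀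
    omega
  · intro P hy
    obtain ⟨φ, ψ, c, hsim, hφψ, hψφ, hφr, hcr, hc0, hkd⟩ :=
      sim_conj_data hn f hf x P hy r hxr
    have hc1 : c = 1 := root_eq_one_of_not_dvd hr hrq c hcr
    have hI : FormInv (bilinOf f hf.bilinear) φ := by
      intro u v
      rw [hsim, hc1, one_mul]
    haveI : Fact (Irreducible P₀) := ⟨D.irr P₀ hP₀⟩
    have h1 := kdim_pow_pred_eq (P := P₀) φ hr.two_le hφr (hmon P₀ hP₀) (D.dvd_of_mem hP₀)
    have hAB : ∀ v, φ ((φ ^ (r - 1)) v) = v := by
      intro v
      rw [← Module.End.mul_apply, ← pow_succ', Nat.sub_add_cancel hr.one_le, hφr]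
      rfl
    have h2 := kdim_inv_of_formInv (bilinOf f hf.bilinear) (bilinOf_nondegenerate f hf) φ
      (φ ^ (r - 1)) hI hAB P₀
    have h3 : kdim φ (starP P₀) = i := by
      rw [← h1, h2, hkd]
      exact hκ₀
    have h4 : kdim φ (starP P₀) = 0 := by
      rw [hkd]
      have h5 := hκ (D.star hmon ⟨P₀, hP₀⟩)
      rw [D.star_val] at h5
      have h6 : a (D.star hmon ⟨P₀, hP₀⟩) = 0 := by
        simp only [a]
        rw [if_neg (D.star_ne hmon hr hr2 hodd ⟨P₀, hP₀⟩)]
      rw [h6, mul_zero] at h5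
      exact h5
    omega

end OddOrder

section Diag

variable {F : Type*} [Field F] {n : ℕ}

/-- eigenspace dimensions of a diagonal matrix -/
theorem kdim_diagonal [DecidableEq F] (d : Fin n → F) (α : F) :
    kdim (Matrix.toLin' (Matrix.diagonal d)) (X - C α) =
      (Finset.univ.filter fun k => d k = α).card := by
  unfold kdim
  have e1 : aeval (Matrix.toLin' (Matrix.diagonal d)) (X - C α) =
      Matrix.toLin' (Matrix.diagonal fun k => d k - α) := by
    rw [map_sub, aeval_X, aeval_C, Algebra.algebraMap_eq_smul_one]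
    have h1 : (Matrix.diagonal fun k => d k - α) =
        Matrix.diagonal d - α • (1 : Matrix (Fin n) (Fin n) F) := by
      ext a b
      by_cases hab : a = b
      · subst hab; simp
      · simp [hab]
    rw [h1, map_sub, map_smul, Matrix.toLin'_one]
    rfl
  rw [e1]
  have h2 := LinearMap.finrank_range_add_finrank_ker
    (Matrix.toLin' (Matrix.diagonal fun k => d k - α))
  have h3 : finrank F (LinearMap.range (Matrix.toLin' (Matrix.diagonal fun k => d k - α))) =
      (Matrix.diagonal fun k => d k - α).rank := by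
    rw [Matrix.rank, Matrix.toLin'_apply']
  rw [h3, Matrix.rank_diagonal, Module.finrank_fintype_fun_eq_card, Fintype.card_fin] at h2
  have h4 : Fintype.card {k : Fin n // d k - α ≠ 0} +
      (Finset.univ.filter fun k => d k = α).card = n := by
    rw [Fintype.card_subtype]
    have h5 := Finset.card_filter_add_card_filter_not (s := (Finset.univ : Finset (Fin n)))
      (fun k => d k - α ≠ 0)
    rw [Finset.card_univ, Fintype.card_fin] at h5
    have h6 : (Finset.univ.filter fun k : Fin n => ¬ (d k - α ≠ 0)) =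
        Finset.univ.filter fun k => d k = α := by
      apply Finset.filter_congr
      intro k _
      rw [not_not, sub_eq_zero]
    rw [h6] at h5
    exact h5
  omega

/-- the diagonal entries `ζ, ζ, w, 1, …, 1` -/
def diagEntries (ζ w : F) (j : ℕ) : F := if j < 2 then ζ else if j = 2 then w else 1

theorem card_diagEntries [DecidableEq F] (hn : 3 ≤ n) (ζ w α : F) :
    (Finset.univ.filter fun k : Fin n => diagEntries ζ w k = α).card =
      (if ζ = α then 2 else 0) + (if w = α then 1 else 0) + (if 1 = α then n - 3 else 0) := by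
  rw [Finset.card_filter, Fin.sum_univ_eq_sum_range (fun j => if diagEntries ζ w j = α then 1 else 0) n]
  obtain ⟨m, rfl⟩ : ∃ m, n = 3 + m := ⟨n - 3, by omega⟩
  rw [Finset.sum_range_add, Finset.sum_range_succ, Finset.sum_range_succ, Finset.sum_range_one]
  have h1 : ∀ x, diagEntries ζ w (3 + x) = 1 := by
    intro x
    unfold diagEntries
    rw [if_neg (by omega), if_neg (by omega)]
  simp only [h1]
  have h2 : diagEntries ζ w 0 = ζ := by unfold diagEntries; simp
  have h3 : diagEntries ζ w 1 = ζ := by unfold diagEntries; simp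
  have h4 : diagEntries ζ w 2 = w := by unfold diagEntries; simp
  rw [h2, h3, h4, Finset.sum_const, Finset.card_range, Nat.add_sub_cancel_left]
  split_ifs <;> simp

theorem prod_diagEntries (hn : 3 ≤ n) (ζ w : F) (h : ζ * ζ * w = 1) :
    ∏ k : Fin n, diagEntries ζ w k = 1 := by
  rw [Fin.prod_univ_eq_prod_range (fun j => diagEntries ζ w j) n]
  obtain ⟨m, rfl⟩ : ∃ m, n = 3 + m := ⟨n - 3, by omega⟩
  rw [Finset.prod_range_add, Finset.prod_range_succ, Finset.prod_range_succ, Finset.prod_range_one]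
  have h1 : ∀ x, diagEntries ζ w (3 + x) = 1 := by
    intro x
    unfold diagEntries
    rw [if_neg (by omega), if_neg (by omega)]
  simp only [h1]
  have h2 : diagEntries ζ w 0 = ζ := by unfold diagEntries; simp
  have h3 : diagEntries ζ w 1 = ζ := by unfold diagEntries; simp
  have h4 : diagEntries ζ w 2 = w := by unfold diagEntries; simp
  rw [h2, h3, h4, h, Finset.prod_const_one, mul_one]

theorem diagEntries_mem (ζ w : F) (j : ℕ) :
    diagEntries ζ w j = ζ ∨ diagEntries ζ w j = w ∨ diagEntries ζ w j = 1 := by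
  unfold diagEntries
  split_ifs
  · exact Or.inl rfl
  · exact Or.inr (Or.inl rfl)
  · exact Or.inr (Or.inr rfl)

end Diag

section Split

variable {F : Type*} [Field F] [Fintype F] {n : ℕ} {r : ℕ}

local notation "SLn" => Matrix.SpecialLinearGroup (Fin n) F

/-- for `r ∣ q - 1`: the element `diag(ζ, ζ, ζ⁻², 1, …, 1)` has no conjugate in the similarity
group of a symplectic form (`(n, r) ≠ (6, 3)`) -/
theorem derange_split (hr : r.Prime) (hr2 : r ≠ 2) (hrq : r ∣ Fintype.card F - 1) (hn : 4 ≤ n)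
    (he : Even n) (hgap : ¬ (n = 6 ∧ r = 3))
    (f : (Fin n → F) → (Fin n → F) → F) (hf : Cfsg.Geo.IsSymplecticForm f) :
    ∃ x : SLn, x ^ r = 1 ∧
      (∀ z : F, (x : Matrix (Fin n) (Fin n) F) ≠ z • (1 : Matrix (Fin n) (Fin n) F)) ∧
      ∀ P : SLn, P⁻¹ * x * P ∉ (Cfsg.Geo.similarityGroup f).comap
        (Matrix.SpecialLinearGroup.toGL : SLn →* GL (Fin n) F) := by
  classical
  haveI : Fact r.Prime := ⟨hr⟩
  obtain ⟨u, hu⟩ : ∃ u : Fˣ, orderOf u = r :=
    exists_prime_orderOf_dvd_card r (by rw [Fintype.card_units]; exact hrq)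
  obtain ⟨ζ, hζdef⟩ : ∃ ζ : F, ζ = (u : F) := ⟨_, rfl⟩
  have hζ0 : ζ ≠ 0 := by rw [hζdef]; exact u.ne_zero
  have hord : orderOf ζ = r := by rw [hζdef, ← hu, orderOf_units]
  have hζr : ζ ^ r = 1 := by rw [← hord]; exact pow_orderOf_eq_one ζ
  have hpow : ∀ k, ζ ^ k = 1 → r ∣ k := fun k hk => by
    rw [← hord]; exact orderOf_dvd_of_pow_eq_one hk
  have h1 : ζ ≠ 1 := by
    intro h
    have := hpow 1 (by rw [pow_one, h])
    exact hr.one_lt.ne' (Nat.dvd_one.mp this)
  have h2 : ζ ^ 2 ≠ 1 := by
    intro h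
    exact hr2 ((Nat.prime_dvd_prime_iff_eq hr Nat.prime_two).mp (hpow 2 h))
  have h4 : ζ ^ 4 ≠ 1 := by
    intro h
    have h5 : r ∣ 2 ^ 2 := hpow 4 h
    exact hr2 ((Nat.prime_dvd_prime_iff_eq hr Nat.prime_two).mp (hr.dvd_of_dvd_pow h5))
  have h3 : ζ ^ 3 = 1 → r = 3 := fun h =>
    (Nat.prime_dvd_prime_iff_eq hr Nat.prime_three).mp (hpow 3 h)
  obtain ⟨w, hwdef⟩ : ∃ w : F, w = (ζ⁻¹) ^ 2 := ⟨_, rfl⟩
  have hw : ζ * ζ * w = 1 := by rw [hwdef]; field_simp
  have hw0 : w ≠ 0 := by rw [hwdef]; exact pow_ne_zero _ (inv_ne_zero hζ0)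
  have hw1 : w ≠ 1 := by
    intro h
    rw [h, mul_one, ← pow_two] at hw
    exact h2 hw
  have hwr : w ^ r = 1 := by
    rw [hwdef, ← pow_mul, mul_comm, pow_mul, inv_pow, hζr, inv_one, one_pow]
  let d : Fin n → F := fun k => diagEntries ζ w k
  have hdet : (Matrix.diagonal d).det = 1 := by
    rw [Matrix.det_diagonal]
    exact prod_diagEntries (by omega) ζ w hw
  let x : SLn := ⟨Matrix.diagonal d, hdet⟩
  have hxr : x ^ r = 1 := by
    apply Subtype.ext
    rw [Matrix.SpecialLinearGroup.coe_pow]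
    change (Matrix.diagonal d) ^ r = 1
    rw [Matrix.diagonal_pow, ← Matrix.diagonal_one]
    congr 1
    funext k
    change diagEntries ζ w k ^ r = 1
    rcases diagEntries_mem ζ w k with h | h | h
    · rw [h, hζr]
    · rw [h, hwr]
    · rw [h, one_pow]
  have hE : ∀ α : F, (Finset.univ.filter fun k : Fin n => d k = α).card =
      (if ζ = α then 2 else 0) + (if w = α then 1 else 0) + (if 1 = α then n - 3 else 0) :=
    fun α => card_diagEntries (by omega) ζ w α
  have hEζ : 2 ≤ (Finset.univ.filter fun k : Fin n => d k = ζ).card := by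
    rw [hE, if_pos rfl]
    omega
  refine ⟨x, hxr, ?_, ?_⟩
  · intro z hz
    change Matrix.diagonal d = z • 1 at hz
    have e0 := congrFun (congrFun hz ⟨0, by omega⟩) ⟨0, by omega⟩
    have e3 := congrFun (congrFun hz ⟨3, by omega⟩) ⟨3, by omega⟩
    simp [d, diagEntries] at e0 e3
    exact h1 (e0.trans e3.symm)
  · intro P hy
    obtain ⟨φ, ψ, c, hsim, hφψ, hψφ, hφr, hcr, hc0, hkd⟩ :=
      sim_conj_data (by omega) f hf x P hy r hxr
    have hpair : ∀ α : F, α ≠ 0 → (Finset.univ.filter fun k : Fin n => d k = c / α).card =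
        (Finset.univ.filter fun k : Fin n => d k = α).card := by
      intro α hα
      have h5 := sim_kdim_pair (bilinOf f hf.bilinear) (bilinOf_nondegenerate f hf) φ ψ c hsim
        hφψ hψφ α hα
      rw [hkd, hkd] at h5
      change kdim (Matrix.toLin' (Matrix.diagonal d)) _ = kdim (Matrix.toLin' (Matrix.diagonal d)) _ at h5
      rw [kdim_diagonal, kdim_diagonal] at h5
      exact h5
    have hE1 : (Finset.univ.filter fun k : Fin n => d k = 1).card = n - 3 := by
      rw [hE, if_neg h1, if_neg hw1, if_pos rfl]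
      omega
    have hc := hpair 1 one_ne_zero
    rw [div_one, hE1] at hc
    -- the three candidate eigenvalues matching `ζ` under the pairing give a contradiction
    have key : ∀ β : F, ζ ≠ β → w ≠ β → 1 ≠ β →
        (Finset.univ.filter fun k : Fin n => d k = β).card = 0 := by
      intro β hb1 hb2 hb3
      rw [hE, if_neg hb1, if_neg hb2, if_neg hb3]
    have hinv : ζ * (1 / ζ) = 1 := mul_one_div_cancel hζ0
    by_cases hcζ : c = ζ
    · have h5 := hpair ζ hζ0
      rw [hcζ, div_self hζ0, hE1, hE, if_pos rfl, if_neg h1.symm] at h5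
      by_cases hwζ : w = ζ
      · rw [if_pos hwζ] at h5
        apply hgap
        refine ⟨by omega, h3 ?_⟩
        rw [hwζ] at hw
        rw [pow_succ, pow_two]
        exact hw
      · rw [if_neg hwζ] at h5
        obtain ⟨l, hl⟩ := he
        omega
    · by_cases hc1 : c = 1
      · have h5 := hpair ζ hζ0
        rw [hc1, key (1 / ζ) ?_ ?_ ?_] at h5
        · omega
        · intro h
          apply h2
          rw [pow_two]
          exact (congrArg (fun t => ζ * t) h).trans hinv
        · intro h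
          apply h1
          have e : ζ * ζ * (1 / ζ) = ζ := by rw [mul_assoc, hinv, mul_one]
          rw [← h, hw] at e
          exact e.symm
        · intro h
          apply h1
          have e := congrArg (fun t => ζ * t) h
          simp only [mul_one] at e
          exact e.trans hinv
      · by_cases hcw : c = w
        · have h5 := hpair ζ hζ0
          have e1 : ζ * (w / ζ) = w := by field_simp
          rw [hcw, key (w / ζ) ?_ ?_ ?_] at h5
          · omega
          · intro h
            apply h4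
            have h6 : ζ * ζ = w := (congrArg (fun t => ζ * t) h).trans e1
            have h7 : ζ ^ 4 = ζ * ζ * (ζ * ζ) := by ring
            rw [h7]
            nth_rewrite 2 [h6]
            exact hw
          · intro h
            apply h1
            have h6 : ζ * w = w := (congrArg (fun t => ζ * t) h).trans e1
            have h7 : w * ζ = w * 1 := by rw [mul_comm, h6, mul_one]
            exact mul_left_cancel₀ hw0 h7
          · intro h
            have h6 : ζ = w := by
              have h8 : ζ * 1 = ζ * (w / ζ) := congrArg (fun t => ζ * t) h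
              rw [mul_one, e1] at h8
              exact h8
            exact hcζ (hcw.trans h6.symm)
        · have h5 := key c (fun h => hcζ h.symm) (fun h => hcw h.symm) (fun h => hc1 h.symm)
          rw [h5] at hc
          omega

end Split

end Cfsg.Agent.Lib.Helper49
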