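/-
K-SLO pack (S5981, architect helper49): `SL_n(q)`, `q` odd, versus the similarity group of a
nondegenerate quadratic form `Q` on `F^n`.  Shared definitions and the basic data attached to a
`GL`-conjugate of an element lying in `Cfsg.Geo.quadSimilarityGroup Q`.
-/
import Mathlib
import Cfsg.Prelude.Def_GeometricClasses
import Cfsg.Agent.Lib.Helper49.SimForm
import Cfsg.Agent.Lib.Helper49.SimDerange

set_option autoImplicit false

namespace Cfsg.Agent.Lib.Helper49.SLO

open Polynomial Module Matrix Cfsg.Agent.Lib.Helper49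

variable {F : Type*} [Field F] {n : ℕ}

/-- the polar form of `Q` as a Mathlib bilinear form -/
noncomputable def polarB (Q : (Fin n → F) → F) (hQ : Cfsg.Geo.IsNondegenerateQuadraticForm Q) :
    LinearMap.BilinForm F (Fin n → F) :=
  bilinOf (QuadraticMap.polar Q) hQ.polar_bilinear

theorem polarB_apply (Q : (Fin n → F) → F) (hQ : Cfsg.Geo.IsNondegenerateQuadraticForm Q)
    (u v : Fin n → F) : polarB Q hQ u v = Q (u + v) - Q u - Q v := rfl

theorem polarB_comm (Q : (Fin n → F) → F) (hQ : Cfsg.Geo.IsNondegenerateQuadraticForm Q)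
    (u v : Fin n → F) : polarB Q hQ u v = polarB Q hQ v u := by
  rw [polarB_apply, polarB_apply, add_comm u v]
  ring

theorem polarB_self (Q : (Fin n → F) → F) (hQ : Cfsg.Geo.IsNondegenerateQuadraticForm Q)
    (v : Fin n → F) : polarB Q hQ v v = 2 * Q v := by
  rw [polarB_apply]
  have h : v + v = (2 : F) • v := (two_smul F v).symm
  rw [h, hQ.smul]
  ring

theorem polarB_nondegenerate (Q : (Fin n → F) → F)
    (hQ : Cfsg.Geo.IsNondegenerateQuadraticForm Q) : (polarB Q hQ).Nondegenerate := by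
  constructor
  · intro x hx
    by_contra hx0
    obtain ⟨y, hy⟩ := (hQ.nondegenerate x hx0).2
    exact hy (hx y)
  · intro x hx
    by_contra hx0
    obtain ⟨y, hy⟩ := (hQ.nondegenerate x hx0).1
    exact hy (hx y)

/-- the diagonal quadratic form `Σ c_j v_j²` -/
def diagQ (c : Fin n → F) (v : Fin n → F) : F := ∑ j, c j * v j ^ 2

/-- membership in the similarity group of `Q` -/
theorem mem_quadSim_iff (Q : (Fin n → F) → F) (y : GL (Fin n) F) :
    y ∈ Cfsg.Geo.quadSimilarityGroup Q ↔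
      ∃ c : Fˣ, ∀ v, Q ((y : Matrix (Fin n) (Fin n) F) *ᵥ v) = (c : F) * Q v := Iff.rfl

/-- the data attached to a `GL`-conjugate of `x` lying in the similarity group of `Q`:
a similitude `φ` of `Q` (and of its polar form) with inverse `ψ`, multiplier `c`, and the same
kernel dimensions as `x` -/
theorem sim_conj_data (Q : (Fin n → F) → F) (hQ : Cfsg.Geo.IsNondegenerateQuadraticForm Q)
    (x g : GL (Fin n) F) (hy : g⁻¹ * x * g ∈ Cfsg.Geo.quadSimilarityGroup Q) :
    ∃ (φ ψ : (Fin n → F) →ₗ[F] (Fin n → F)) (c : F), c ≠ 0 ∧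
      (∀ v, Q (φ v) = c * Q v) ∧
      (∀ u v, polarB Q hQ (φ u) (φ v) = c * polarB Q hQ u v) ∧
      (∀ v, φ (ψ v) = v) ∧ (∀ v, ψ (φ v) = v) ∧
      (∀ P : F[X], kdim φ P = kdim (Matrix.toLin' (x : Matrix (Fin n) (Fin n) F)) P) ∧
      (∀ (k : ℕ) (z : F), ((x ^ k : GL (Fin n) F) : Matrix (Fin n) (Fin n) F) =
        z • (1 : Matrix (Fin n) (Fin n) F) → φ ^ k = z • (1 : (Fin n → F) →ₗ[F] (Fin n → F))) := by
  obtain ⟨c, hc⟩ := hy
  set y := g⁻¹ * x * g with hydef
  have hQy : ∀ v, Q (Matrix.toLin' (y : Matrix (Fin n) (Fin n) F) v) = (c : F) * Q v := by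
    intro v
    rw [Matrix.toLin'_apply]
    exact hc v
  refine ⟨Matrix.toLin' (y : Matrix (Fin n) (Fin n) F),
    Matrix.toLin' ((y⁻¹ : GL (Fin n) F) : Matrix (Fin n) (Fin n) F), c, c.ne_zero, hQy, ?_, ?_, ?_,
    ?_, ?_⟩
  · intro u v
    rw [polarB_apply, polarB_apply, ← map_add, hQy, hQy, hQy]
    ring
  · intro v
    rw [← LinearMap.comp_apply, ← Matrix.toLin'_mul, ← Units.val_mul, mul_inv_cancel]
    simp
  · intro v
    rw [← LinearMap.comp_apply, ← Matrix.toLin'_mul, ← Units.val_mul, inv_mul_cancel]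
    simp
  · intro P
    apply kdim_conj _ _ (glEquiv g)
    intro v
    rw [glEquiv_apply, glEquiv_apply, Matrix.toLin'_apply, Matrix.toLin'_apply,
      Matrix.mulVec_mulVec, Matrix.mulVec_mulVec, ← Units.val_mul, ← Units.val_mul]
    congr 2
    rw [hydef, mul_assoc, mul_inv_cancel_left]
  · intro k z hz
    have hyk : y ^ k = g⁻¹ * x ^ k * g := by
      have h0 : y = g⁻¹ * x * (g⁻¹)⁻¹ := by rw [inv_inv]
      rw [h0, conj_pow, inv_inv]
    rw [← Matrix.toLin'_pow, ← Units.val_pow_eq_pow_val, hyk, Units.val_mul, Units.val_mul, hz,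
      Matrix.mul_smul, Matrix.mul_one, Matrix.smul_mul, ← Units.val_mul, inv_mul_cancel,
      Units.val_one, map_smul, Matrix.toLin'_one]
    rfl

/-- a nondegenerate form on a space of positive dimension is not identically zero -/
theorem exists_polarB_ne_zero (hn : 1 ≤ n) (Q : (Fin n → F) → F)
    (hQ : Cfsg.Geo.IsNondegenerateQuadraticForm Q) : ∃ u v, polarB Q hQ u v ≠ 0 := by
  have h0 : (Pi.single (⟨0, by omega⟩ : Fin n) (1 : F) : Fin n → F) ≠ 0 := by
    intro h
    have := congrFun h ⟨0, by omega⟩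
    simp at this
  obtain ⟨w, hw⟩ := (hQ.nondegenerate _ h0).2
  exact ⟨_, w, hw⟩

/-- the multiplier of a similitude of order dividing `k` is a `k`-th root of unity -/
theorem mult_pow_eq_one (hn : 1 ≤ n) (Q : (Fin n → F) → F)
    (hQ : Cfsg.Geo.IsNondegenerateQuadraticForm Q) (φ : (Fin n → F) →ₗ[F] (Fin n → F)) (c : F)
    (h : ∀ u v, polarB Q hQ (φ u) (φ v) = c * polarB Q hQ u v) (k : ℕ) (hk : φ ^ k = 1) :
    c ^ k = 1 :=
  sim_mult_pow_eq_one _ _ _ h k hk (exists_polarB_ne_zero hn Q hQ)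

/-- **eigenvalue pairing for diagonal elements**: if a `GL`-conjugate of the diagonal matrix
`diag(d)` lies in the similarity group of `Q`, then for some nonzero `c` the multiplicities of
`α` and `c / α` among the entries of `d` agree, for all nonzero `α` -/
theorem diag_pairing [DecidableEq F] (Q : (Fin n → F) → F)
    (hQ : Cfsg.Geo.IsNondegenerateQuadraticForm Q) (x g : GL (Fin n) F) (d : Fin n → F)
    (hx : (x : Matrix (Fin n) (Fin n) F) = Matrix.diagonal d)
    (hy : g⁻¹ * x * g ∈ Cfsg.Geo.quadSimilarityGroup Q) :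
    ∃ c : F, c ≠ 0 ∧ ∀ α : F, α ≠ 0 →
      (Finset.univ.filter fun k : Fin n => d k = c / α).card =
        (Finset.univ.filter fun k : Fin n => d k = α).card := by
  obtain ⟨φ, ψ, c, hc0, -, hsim, hφψ, hψφ, hkd, -⟩ := sim_conj_data Q hQ x g hy
  refine ⟨c, hc0, fun α hα => ?_⟩
  have h5 := sim_kdim_pair (polarB Q hQ) (polarB_nondegenerate Q hQ) φ ψ c hsim hφψ hψφ α hα
  rw [hkd, hkd, hx, kdim_diagonal, kdim_diagonal] at h5
  exact h5

end Cfsg.Agent.Lib.Helper49.SLO
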