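/-
K-OEl pack (S5988, S5990; architect helper49): elements of prime order of `Ω^±_(2d)(q)`, ANY `q`, fixing an ELLIPTIC
(= nondegenerate, not of plus type) `m`-space.  Shared definitions.  Vocabulary = helper38's `OhP.Defs`
(`pB`, `QIso`, `PlusQ`, `tPlus`, `Q0`) + helper98's `Sy` / `Elus`.
-/
import Cfsg.Prelude.Def_GeometricClasses
import Cfsg.Agent.Lib.Helper38.OhP.Defs

set_option autoImplicit false
set_option linter.unusedSectionVars false
set_option linter.unusedVariables false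

namespace Cfsg.Agent.Lib.Helper49.OEl

open Module Cfsg.Agent.Lib.Helper98.Elus Cfsg.Agent.Lib.Helper98.Sy Cfsg.Agent.Lib.Helper38.OhP

universe u
variable {F : Type u} [Field F]

/-- the arithmetic criterion with types.  `ε` = "the whole space `V` is of plus type", `τ` = "the wanted subspace `W` is of
plus type"; `V1` consists of `T` pieces of dimension `c`, `V0` has dimension `k`; `W` is made of `j` pieces inside `V1`
(type `tPlus i j`) and a subspace of dimension `m - j * c` of `V0`; the type of `V0` is `(ε ↔ tPlus i T)`. -/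
def GoodT (ε τ : Prop) (i c T k m j : ℕ) : Prop :=
  (m - j * c = 0 ∧ (τ ↔ tPlus i j)) ∨ (0 < m - j * c ∧ m - j * c < k) ∨
    (m - j * c = k ∧ 0 < k ∧ (τ ↔ (tPlus i j ↔ (ε ↔ tPlus i T))))

/-- the condition of S5988 for odd `r ≠ p` (plus type space of dimension `2 * d`, elliptic `m`-spaces) -/
def RhsOddP (i c d m : ℕ) : Prop :=
  (Odd i ∧ c ≤ m ∧ 0 < m % c ∧ m % c < (2 * d) % c) ∨
  (Even i ∧
    (((2 * d) % c = 0 ∧ (Odd ((2 * d) / i) ∨ (m % c = 0 ∧ Odd (m / i)))) ∨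
      (i ≤ m ∧ ((0 < m % c ∧ m % c < (2 * d) % c) ∨
        (0 < m % c ∧ m % c = (2 * d) % c ∧ Odd ((2 * d + m - 2 * ((2 * d) % c)) / i)) ∨
        (m % c = 0 ∧ 0 < (2 * d) % c ∧ Odd (m / i))))))

/-- the condition of S5990 for odd `r ≠ p` (minus type space of dimension `2 * d`, elliptic `m`-spaces) -/
def RhsOddM (i c d m : ℕ) : Prop :=
  (Odd i ∧ ((2 * d) % c = 0 ∨ (c ≤ m ∧ 0 < m % c ∧ m % c ≤ (2 * d) % c))) ∨
  (Even i ∧
    (((2 * d) % c = 0 ∧ (Even ((2 * d) / i) ∨ (m % c = 0 ∧ Odd (m / i)))) ∨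
      (0 < (2 * d) % c ∧ i ≤ m ∧ ((0 < m % c ∧ m % c < (2 * d) % c) ∨ (m % c = 0 ∧ Odd (m / i)) ∨
        (m % c = (2 * d) % c ∧ Even ((2 * d + m - 2 * ((2 * d) % c)) / i))))))

/-- what `r ∣ #(elliptic 2e-spaces of a plus type 2d-space)` gives, in terms of `i` = the order of `q` mod `r`:
`r` divides `(q^(d-j) - 1)(q^(d-j-1) + 1)` for some `j + 1 < e`, or `(q^(d-e+1) - 1)(q^(d-e) - 1)` -/
def CountP (i d e : ℕ) : Prop :=
  (∃ j : ℕ, j + 1 < e ∧ (i ∣ d - j ∨ (Even i ∧ (d - j - 1) % i = i / 2))) ∨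
    i ∣ d - (e - 1) ∨ i ∣ d - e

/-- what `r ∣ #(elliptic 2e-spaces of a minus type 2d-space)` gives: `r` divides `(q^(d-j) + 1)(q^(d-j-1) - 1)` for some
`j + 1 < e`, or `(q^(d-e+1) + 1)(q^(d-e) + 1)`, or `q - 1` -/
def CountM (i d e : ℕ) : Prop :=
  (∃ j : ℕ, j + 1 < e ∧ (i ∣ d - j - 1 ∨ (Even i ∧ (d - j) % i = i / 2))) ∨
    (Even i ∧ ((d - (e - 1)) % i = i / 2 ∨ (d - e) % i = i / 2)) ∨ i = 1

/-- the standard minus type quadratic form of dimension `2 * d` -/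
noncomputable abbrev QM (d : ℕ) (F : Type u) [Field F] (a b : F) :
    QuadraticForm F ((Fin (d - 1) ⊕ Fin (d - 1)) ⊕ Fin 2 → F) :=
  Cfsg.Agent.Lib.Helper50.QMinus (d - 1) F a b

/-- the family of subspaces of S5988: elliptic `m`-spaces of `quadFormPlus d F`, as written in the statement -/
def IsEllP (d m : ℕ) (W : Submodule F (Fin d ⊕ Fin d → F)) : Prop :=
  Module.finrank F ↥W = m ∧
    Cfsg.Geo.IsNondegenerateOn (QuadraticMap.polar (Cfsg.quadFormPlus d F)) W ∧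
    ¬ Cfsg.Geo.IsPlusTypeOn (Cfsg.quadFormPlus d F) W

/-- the family of subspaces of S5990: elliptic `m`-spaces of `quadFormMinus (d - 1) F a b`, as written in the statement -/
def IsEllM (d : ℕ) (a b : F) (m : ℕ) (W : Submodule F ((Fin (d - 1) ⊕ Fin (d - 1)) ⊕ Fin 2 → F)) : Prop :=
  Module.finrank F ↥W = m ∧
    Cfsg.Geo.IsNondegenerateOn (QuadraticMap.polar (Cfsg.quadFormMinus (d - 1) F a b)) W ∧
    ¬ Cfsg.Geo.IsPlusTypeOn (Cfsg.quadFormMinus (d - 1) F a b) W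

end Cfsg.Agent.Lib.Helper49.OEl
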