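import Mathlib
import Cfsg.Prelude.Def_LieExceptional
import Cfsg.Prelude.Def_Classical

/-!
# K-StSp pack (S2545): shared definitions

A (B,N)-pair on `Sp_{2m}(F) = Matrix.symplecticGroup (Fin m) F`, for every `m`.
Index set `Fin m ⊕ Fin m`: `inl i = e_i`, `inr i = f_i`; the order is
`e_0 < e_1 < … < e_{m-1} < f_{m-1} < … < f_1 < f_0` (function `pos`).
`B` = upper triangular symplectic matrices for this order, `Bm` = lower triangular ones,
`T = B ⊓ Bm` (diagonal), `S` = the `m` simple reflections, `N = ⟨S⟩ T`.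
-/

set_option autoImplicit false
set_option linter.unusedSectionVars false

namespace Cfsg.Agent.Lib.Helper49.StSp

open Matrix

variable (m : ℕ) (F : Type*) [Field F]

/-- the symplectic group `Sp_{2m}(F)` as a type -/
abbrev SpG : Type _ := ↥(Matrix.symplecticGroup (Fin m) F)

/-- position of a basis vector in the order `e_0 < … < e_{m-1} < f_{m-1} < … < f_0` -/
def pos : Fin m ⊕ Fin m → ℕ
  | Sum.inl i => i.val
  | Sum.inr i => 2 * m - 1 - i.val

theorem pos_injective : Function.Injective (pos m) := by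
  rintro (a | a) (b | b) h <;> simp only [pos] at h
  · exact congrArg _ (Fin.ext h)
  · have := a.2; have := b.2; omega
  · have := a.2; have := b.2; omega
  · have := a.2; have := b.2
    exact congrArg _ (Fin.ext (by omega))

theorem pos_swap (a : Fin m ⊕ Fin m) : pos m a.swap = 2 * m - 1 - pos m a := by
  rcases a with a | a <;> simp only [pos, Sum.swap_inl, Sum.swap_inr]
  have := a.2; omega

variable {m F}

theorem isUnit_det_coe (g : SpG m F) : IsUnit (g.1 : Matrix (Fin m ⊕ Fin m) (Fin m ⊕ Fin m) F).det :=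
  SymplecticGroup.symplectic_det g.2

theorem coe_inv_eq (g : SpG m F) :
    ((g⁻¹ : SpG m F) : Matrix (Fin m ⊕ Fin m) (Fin m ⊕ Fin m) F) =
      (g.1 : Matrix (Fin m ⊕ Fin m) (Fin m ⊕ Fin m) F)⁻¹ :=
  SymplecticGroup.coe_inv' g

theorem blockTriangular_inv {α : Type*} [LinearOrder α] (b : Fin m ⊕ Fin m → α) (g : SpG m F)
    (h : (g.1 : Matrix (Fin m ⊕ Fin m) (Fin m ⊕ Fin m) F).BlockTriangular b) :
    ((g⁻¹ : SpG m F) : Matrix (Fin m ⊕ Fin m) (Fin m ⊕ Fin m) F).BlockTriangular b := by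
  rw [coe_inv_eq]
  have : Invertible (g.1 : Matrix (Fin m ⊕ Fin m) (Fin m ⊕ Fin m) F) :=
    Matrix.invertibleOfIsUnitDet _ (isUnit_det_coe g)
  exact Matrix.blockTriangular_inv_of_blockTriangular h

variable (m F)

/-- the subgroup of elements whose matrix is block triangular for `b` -/
def triSub {α : Type*} [LinearOrder α] (b : Fin m ⊕ Fin m → α) : Subgroup (SpG m F) where
  carrier := {g | (g.1 : Matrix (Fin m ⊕ Fin m) (Fin m ⊕ Fin m) F).BlockTriangular b}
  mul_mem' := fun {g h} hg hh => Matrix.BlockTriangular.mul hg hh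
  one_mem' := Matrix.blockTriangular_one
  inv_mem' := fun {g} hg => blockTriangular_inv b g hg

/-- `B`: the upper triangular symplectic matrices -/
def Bsub : Subgroup (SpG m F) := triSub m F (pos m)

/-- `B⁻`: the lower triangular symplectic matrices -/
def Bminus : Subgroup (SpG m F) := triSub m F (fun a => OrderDual.toDual (pos m a))

/-- `T = B ⊓ B⁻`: the diagonal symplectic matrices -/
def Tsub : Subgroup (SpG m F) := Bsub m F ⊓ Bminus m F

variable {m F}

theorem mem_Bsub_iff (g : SpG m F) :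
    g ∈ Bsub m F ↔ ∀ a b, pos m b < pos m a → (g.1 : Matrix _ _ F) a b = 0 :=
  ⟨fun h a b hab => h hab, fun h a b hab => h a b hab⟩

theorem mem_Bminus_iff (g : SpG m F) :
    g ∈ Bminus m F ↔ ∀ a b, pos m a < pos m b → (g.1 : Matrix _ _ F) a b = 0 :=
  ⟨fun h a b hab => h (show OrderDual.toDual (pos m b) < OrderDual.toDual (pos m a) from hab),
    fun h a b hab => h a b hab⟩

theorem mem_Tsub_iff (g : SpG m F) :
    g ∈ Tsub m F ↔ ∀ a b, a ≠ b → (g.1 : Matrix _ _ F) a b = 0 := by
  constructor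
  · rintro ⟨h1, h2⟩ a b hab
    rcases lt_or_gt_of_ne (fun h => hab (pos_injective m h)) with h | h
    · exact (mem_Bminus_iff g).1 h2 a b h
    · exact (mem_Bsub_iff g).1 h1 a b h
  · intro h
    exact ⟨(mem_Bsub_iff g).2 fun a b hab => h a b (fun e => by rw [e] at hab; exact lt_irrefl _ hab),
      (mem_Bminus_iff g).2 fun a b hab => h a b (fun e => by rw [e] at hab; exact lt_irrefl _ hab)⟩

variable (m F)

/-! ### the elements -/

/-- `e_i ↔ e_j`, `f_i ↔ f_j` -/
def sShortMat (i j : Fin m) : Matrix (Fin m ⊕ Fin m) (Fin m ⊕ Fin m) F :=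
  Matrix.fromBlocks ((Equiv.swap i j).permMatrix F) 0 0 ((Equiv.swap i j).permMatrix F)

/-- `e_k ↦ f_k`, `f_k ↦ -e_k`, identity on the other basis vectors -/
def cSignMat (k : Fin m) : Matrix (Fin m ⊕ Fin m) (Fin m ⊕ Fin m) F :=
  Matrix.fromBlocks (Matrix.diagonal (1 - Pi.single k 1)) (-Matrix.diagonal (Pi.single k 1))
    (Matrix.diagonal (Pi.single k 1)) (Matrix.diagonal (1 - Pi.single k 1))

/-- short root element: `e_j ↦ e_j + t e_i`, `f_i ↦ f_i - t f_j` -/
def xShortMat (i j : Fin m) (t : F) : Matrix (Fin m ⊕ Fin m) (Fin m ⊕ Fin m) F :=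
  Matrix.fromBlocks (Matrix.transvection i j t) 0 0 (Matrix.transvection j i (-t))

/-- long root element: `f_k ↦ f_k + t e_k` -/
def xLongMat (k : Fin m) (t : F) : Matrix (Fin m ⊕ Fin m) (Fin m ⊕ Fin m) F :=
  Matrix.fromBlocks 1 (Matrix.diagonal (Pi.single k t)) 0 1

/-- negative long root element: `e_k ↦ e_k + t f_k` -/
def yLongMat (k : Fin m) (t : F) : Matrix (Fin m ⊕ Fin m) (Fin m ⊕ Fin m) F :=
  Matrix.fromBlocks 1 0 (Matrix.diagonal (Pi.single k t)) 1


theorem sShortMat_mem (i j : Fin m) : sShortMat m F i j ∈ Matrix.symplecticGroup (Fin m) F := by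
  unfold sShortMat
  rw [SymplecticGroup.fromBlocks_mem_iff]
  refine ⟨by simp, by simp, ?_⟩
  rw [Matrix.transpose_zero, Matrix.zero_mul, sub_zero, Matrix.transpose_permMatrix,
    ← Matrix.permMatrix_mul, Equiv.swap_inv, Equiv.swap_mul_self, Matrix.permMatrix_one]

theorem cSignMat_mem (k : Fin m) : cSignMat m F k ∈ Matrix.symplecticGroup (Fin m) F := by
  unfold cSignMat
  rw [SymplecticGroup.fromBlocks_mem_iff]
  simp only [Matrix.diagonal_transpose, Matrix.transpose_neg, Matrix.diagonal_mul_diagonal,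
    Matrix.neg_mul, Matrix.mul_neg, sub_neg_eq_add]
  refine ⟨?_, ?_, ?_⟩
  · congr 1; funext a; exact mul_comm _ _
  · congr 2; funext a; exact mul_comm _ _
  · rw [Matrix.diagonal_add, ← Matrix.diagonal_one]
    refine congrArg _ (funext fun a => ?_)
    by_cases h : a = k
    · subst h; simp
    · simp [Pi.single_apply, h]

theorem xShortMat_mem (i j : Fin m) (hij : i ≠ j) (t : F) :
    xShortMat m F i j t ∈ Matrix.symplecticGroup (Fin m) F := by
  unfold xShortMat
  rw [SymplecticGroup.fromBlocks_mem_iff]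
  refine ⟨by simp, by simp, ?_⟩
  rw [Matrix.transpose_zero, Matrix.zero_mul, sub_zero]
  have h1 : (Matrix.transvection i j t)ᵀ = Matrix.transvection j i t := by
    simp [Matrix.transvection]
  rw [h1, Matrix.transvection_mul_transvection_same (i := j) (j := i) hij.symm t (-t), add_neg_cancel,
    Matrix.transvection_zero]

theorem xLongMat_mem (k : Fin m) (t : F) :
    xLongMat m F k t ∈ Matrix.symplecticGroup (Fin m) F := by
  unfold xLongMat
  rw [SymplecticGroup.fromBlocks_mem_iff]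
  refine ⟨by simp, by simp, by simp⟩

theorem yLongMat_mem (k : Fin m) (t : F) :
    yLongMat m F k t ∈ Matrix.symplecticGroup (Fin m) F := by
  unfold yLongMat
  rw [SymplecticGroup.fromBlocks_mem_iff]
  refine ⟨by simp, by simp, by simp⟩

/-- the reflection `e_i ↔ e_j`, `f_i ↔ f_j` -/
def sShort (i j : Fin m) : SpG m F := ⟨sShortMat m F i j, sShortMat_mem m F i j⟩

/-- the sign change `e_k ↦ f_k ↦ -e_k` -/
def cSign (k : Fin m) : SpG m F := ⟨cSignMat m F k, cSignMat_mem m F k⟩

/-- the short root element `x_{ε_i - ε_j}(t)` (`i ≠ j`) -/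
def xS (i j : Fin m) (hij : i ≠ j) (t : F) : SpG m F :=
  ⟨xShortMat m F i j t, xShortMat_mem m F i j hij t⟩

/-- the long root element `x_{2ε_k}(t)` -/
def xL (k : Fin m) (t : F) : SpG m F := ⟨xLongMat m F k t, xLongMat_mem m F k t⟩

/-- the long root element `x_{-2ε_k}(t)` -/
def yL (k : Fin m) (t : F) : SpG m F := ⟨yLongMat m F k t, yLongMat_mem m F k t⟩

variable {m}

/-- the next index -/
def nxt (i : Fin m) (hi : i.val + 1 < m) : Fin m := ⟨i.val + 1, hi⟩

theorem ne_nxt (i : Fin m) (hi : i.val + 1 < m) : i ≠ nxt i hi := by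
  intro h
  have := congrArg Fin.val h
  simp [nxt] at this

theorem nxt_ne (i : Fin m) (hi : i.val + 1 < m) : nxt i hi ≠ i := (ne_nxt i hi).symm

/-- the last index -/
def lastF (hm : 0 < m) : Fin m := ⟨m - 1, Nat.sub_lt hm Nat.one_pos⟩

variable (m)

/-- the simple reflections: `sShort i (i+1)` for `i + 1 < m`, and `cSign (m-1)` -/
def Sset : Set (SpG m F) :=
  {s | (∃ (i : Fin m) (hi : i.val + 1 < m), s = sShort m F i (nxt i hi)) ∨
    ∃ hm : 0 < m, s = cSign m F (lastF hm)}

/-- `N = ⟨S⟩ T` -/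
def Nsub : Subgroup (SpG m F) := Subgroup.closure (Sset m F) ⊔ Tsub m F

/-- `n` is monomial with permutation `σ` (`n e_b ∈ F^× e_{σ b}`), and `σ` commutes with
`e_i ↔ f_i` -/
def MonWith (n : SpG m F) (σ : Equiv.Perm (Fin m ⊕ Fin m)) : Prop :=
  (∀ a b, (n.1 : Matrix (Fin m ⊕ Fin m) (Fin m ⊕ Fin m) F) a b ≠ 0 ↔ a = σ b) ∧
    ∀ a, σ a.swap = (σ a).swap

end Cfsg.Agent.Lib.Helper49.StSp
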