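import Mathlib
import Cfsg.Prelude.Def_ClassicalGeometry

set_option autoImplicit false

/-!
# Shared definitions for the rows S2680 / S2681 / S2682 (architect helper49)

Centraliser orders of the involutions of `Sp_{2m}(q)`, `q` even.
-/

namespace Cfsg.Agent.Lib.Helper49.SpInv

open Matrix

/-- isotropic `s`-frames of the standard symplectic space `F^(2m)`: linearly independent `s`-tuples
of pairwise orthogonal vectors. -/
def IsoFrame (m s : ℕ) (F : Type*) [Field F] : Type _ :=
  {v : Fin s → (Fin m ⊕ Fin m → F) //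
    LinearIndependent F v ∧ ∀ i j, Cfsg.sympForm m F (v i) (v j) = 0}

/-- the isometries of a bilinear form (as a type). -/
def IsomSet {F U : Type*} [Field F] [AddCommGroup U] [Module F U]
    (γ : LinearMap.BilinForm F U) : Type _ :=
  {A : U ≃ₗ[F] U // ∀ x y, γ (A x) (A y) = γ x y}

/-- the elements of the symplectic group fixing every vector of `W` (as a type). -/
def PwStab {m : ℕ} {F : Type*} [Field F] (W : Submodule F (Fin m ⊕ Fin m → F)) : Type _ :=
  {g : Matrix.symplecticGroup (Fin m) F //
    ∀ w ∈ W, (g : Matrix (Fin m ⊕ Fin m) (Fin m ⊕ Fin m) F) *ᵥ w = w}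

/-- the order of `Sp_{2k}(q)`. -/
def spOrd (q k : ℕ) : ℕ := q ^ (k ^ 2) * ∏ i ∈ Finset.range k, (q ^ (2 * (i + 1)) - 1)

end Cfsg.Agent.Lib.Helper49.SpInv
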