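import Mathlib
import Cfsg.Prelude.Def_Classical
import Cfsg.Agent.Lib.Helper49.SpInvDefs

set_option autoImplicit false

/-!
# Shared definitions for the rows S2683 / S2684 / S2685 (architect helper49)

Centraliser orders in `Ω⁺_{2m}(q)` of the involutions of `O⁺_{2m}(q)`, `q` even.
-/

namespace Cfsg.Agent.Lib.Helper49.OInv

open Matrix

/-- frames of the hyperbolic quadratic space `F^(2m)` (form `quadFormPlus`): linearly independent
`n`-tuples of pairwise orthogonal vectors with prescribed values `c i` of the quadratic form. -/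
def QFrame (m : ℕ) (F : Type*) [Field F] {n : ℕ} (c : Fin n → F) : Type _ :=
  {v : Fin n → (Fin m ⊕ Fin m → F) //
    LinearIndependent F v ∧ (∀ i, Cfsg.quadFormPlus m F (v i) = c i) ∧
      ∀ i j, QuadraticMap.polar (Cfsg.quadFormPlus m F) (v i) (v j) = 0}

/-- the values `(0, …, 0, 1)` (`k` zeros). -/
def mixVal (F : Type*) [Field F] (k : ℕ) : Fin (k + 1) → F :=
  fun i => if (i : ℕ) = k then 1 else 0

/-- the elements of `O⁺_{2m}(F)` fixing every vector of `W` (as a type). -/
def OPwStab {m : ℕ} {F : Type*} [Field F] (W : Submodule F (Fin m ⊕ Fin m → F)) : Type _ :=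
  {g : Cfsg.isometryGroup F (Cfsg.quadFormPlus m F) //
    ∀ w ∈ W, ((g : Matrix.GeneralLinearGroup (Fin m ⊕ Fin m) F) :
      Matrix (Fin m ⊕ Fin m) (Fin m ⊕ Fin m) F) *ᵥ w = w}

/-- the number of singular `s`-frames of the hyperbolic space of dimension `2m`. -/
def sFrameCount (q m s : ℕ) : ℕ :=
  ∏ i ∈ Finset.range s, (q ^ i * ((q ^ (m - i) - 1) * (q ^ (m - i - 1) + 1)))

/-- the order of `O⁺_{2m}(q)` (`m ≥ 1`). -/
def oPlusOrd (q m : ℕ) : ℕ :=
  2 * q ^ (m * (m - 1)) * (q ^ m - 1) * ∏ i ∈ Finset.range (m - 1), (q ^ (2 * (i + 1)) - 1)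

end Cfsg.Agent.Lib.Helper49.OInv
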