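/-
K-SUB pack (S5965, architect helper49): `SL_n(q)`, `q = q₀ ^ k`, versus the subfield subgroup
`F^× GL_n(q₀)`.  Shared definitions and the passage between `SL_n(F)` and `GL_n(F)`.
-/
import Mathlib
import Cfsg.Prelude.Def_Classical
import Cfsg.Prelude.Def_GeometricClasses
import Cfsg.Agent.Lib.Helper49.SubfieldGrp

set_option autoImplicit false

namespace Cfsg.Agent.Lib.Helper49.SUB

open Matrix

variable {F : Type*} [Field F] {n : ℕ}

/-- the subfield subgroup `F^× GL_n(F₀)` of `GL_n(F)` (trivial change of basis) -/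
abbrev HS (F₀ : Subfield F) (n : ℕ) : Subgroup (GL (Fin n) F) :=
  Cfsg.Geo.subfieldSubgroup F₀ (1 : GL (Fin n) F)

/-- the invertible matrices with entries in `F₀` -/
abbrev GL₀ (F₀ : Subfield F) (n : ℕ) : Subgroup (GL (Fin n) F) :=
  (Matrix.GeneralLinearGroup.map (F₀.subtype : F₀ →+* F)).range

/-- **Frobenius pairing** for diagonal elements: if a `GL`-conjugate of `diag(d)` lies in the
subfield subgroup `F^× GL_n(F₀)`, `|F₀| = q₀`, then for some nonzero `c` the multiplicities of `α`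
and `c * α ^ q₀` among the entries of `d` agree -/
def FrobPairing [DecidableEq F] (F₀ : Subfield F) (n q₀ : ℕ) : Prop :=
  ∀ (x g : GL (Fin n) F) (d : Fin n → F),
    (x : Matrix (Fin n) (Fin n) F) = Matrix.diagonal d → g⁻¹ * x * g ∈ HS F₀ n →
    ∃ c : F, c ≠ 0 ∧ ∀ α : F,
      (Finset.univ.filter fun j : Fin n => d j = c * α ^ q₀).card =
        (Finset.univ.filter fun j : Fin n => d j = α).card

theorem mem_HS_iff (F₀ : Subfield F) (y : GL (Fin n) F) :
    y ∈ HS F₀ n ↔ ∃ A : GL (Fin n) F, A ∈ GL₀ F₀ n ∧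
      ∃ c : Fˣ, (y : Matrix (Fin n) (Fin n) F) = (c : F) • (A : Matrix (Fin n) (Fin n) F) :=
  Cfsg.Agent.Lib.Helper49.mem_subfieldSubgroup_one_iff F₀ y

theorem GL₀_le_HS (F₀ : Subfield F) : GL₀ F₀ n ≤ HS F₀ n := by
  intro y hy
  rw [mem_HS_iff]
  exact ⟨y, hy, 1, by simp⟩

/-- a scalar multiple of a conjugate in `GL_n(F₀)` is a conjugate in the subfield subgroup -/
theorem conj_mem_HS_of_smul (F₀ : Subfield F) (x y g : GL (Fin n) F) (l : F) (hl : l ≠ 0)
    (hxy : (x : Matrix (Fin n) (Fin n) F) = l • (y : Matrix (Fin n) (Fin n) F))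
    (hy : g⁻¹ * y * g ∈ GL₀ F₀ n) : g⁻¹ * x * g ∈ HS F₀ n := by
  rw [mem_HS_iff]
  refine ⟨g⁻¹ * y * g, hy, Units.mk0 l hl, ?_⟩
  rw [Units.val_mul, Units.val_mul, Units.val_mul, Units.val_mul, hxy, Units.val_mk0,
    Matrix.mul_smul, Matrix.smul_mul]

/-- the element of `GL` attached to an element of `SL` lies in the kernel of the determinant -/
theorem toGL_mem_specialLinear (x : Matrix.SpecialLinearGroup (Fin n) F) :
    (Matrix.SpecialLinearGroup.toGL x : GL (Fin n) F) ∈ Cfsg.Geo.specialLinear (Fin n) F := by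
  unfold Cfsg.Geo.specialLinear
  rw [MonoidHom.mem_ker]
  apply Units.ext
  rw [Matrix.GeneralLinearGroup.val_det_apply]
  simp

/-- every element of the kernel of the determinant comes from `SL` -/
theorem exists_sl_of_mem (x : GL (Fin n) F) (hx : x ∈ Cfsg.Geo.specialLinear (Fin n) F) :
    ∃ X : Matrix.SpecialLinearGroup (Fin n) F,
      (Matrix.SpecialLinearGroup.toGL X : GL (Fin n) F) = x := by
  unfold Cfsg.Geo.specialLinear at hx
  rw [MonoidHom.mem_ker] at hx
  have hdet : (x : Matrix (Fin n) (Fin n) F).det = 1 := by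
    have := congrArg Units.val hx
    rwa [Matrix.GeneralLinearGroup.val_det_apply] at this
  refine ⟨⟨(x : Matrix (Fin n) (Fin n) F), hdet⟩, ?_⟩
  apply Units.ext
  rfl

end Cfsg.Agent.Lib.Helper49.SUB
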