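import Mathlib
import Cfsg.Agent.Lib.Helper49.OInvDefs

set_option autoImplicit false

/-!
# Shared definitions for the row S5983 (architect helper49)

`Sp_{2d}(q)`, `q` even, and its subgroups `O^±_{2d}(q)`.
-/

namespace Cfsg.Agent.Lib.Helper49.SpO

/-- the order of `O⁻_{2d}(q)` (`d ≥ 1`). -/
def oMinusOrd (q d : ℕ) : ℕ :=
  2 * q ^ (d * (d - 1)) * (q ^ d + 1) * ∏ i ∈ Finset.range (d - 1), (q ^ (2 * (i + 1)) - 1)

end Cfsg.Agent.Lib.Helper49.SpO
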