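import Cfsg.Agent.Lib.Helper49.FieldExtNorm

set_option autoImplicit false
open scoped MatrixGroups

namespace Cfsg.Agent.Lib.Helper49

open Matrix Module

section TypeNQ

variable {F : Type*} [Field F] {n : ℕ}

/-- in odd characteristic a quadratic without roots has non-square discriminant -/
theorem disc_not_isSquare (h2 : (2 : F) ≠ 0) (s d : F) (hnr : ∀ l : F, l * l - s * l + d ≠ 0) :
    ¬ IsSquare (s * s - 4 * d) := by
  rintro ⟨e, he⟩
  apply hnr ((s + e) / 2)
  field_simp
  linear_combination -he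

/-- non-square scalar: the subalgebra `F[x]` contains a root of `X² - s X + d` -/
theorem normQ_of_nonsquare [Fintype F] (hF : ringChar F ≠ 2) (s d : F)
    (hnr : ∀ l : F, l * l - s * l + d ≠ 0) (z : F) (hz : ¬ IsSquare z)
    {ι : Type*} [Fintype ι] [DecidableEq ι] (X : Matrix ι ι F)
    (hXX : X * X = z • (1 : Matrix ι ι F)) : NormQ s d X := by
  have h2 : (2 : F) ≠ 0 := Ring.two_ne_zero hF
  have hz0 : z ≠ 0 := by
    rintro rfl; exact hz ⟨0, by simp⟩
  have hΔ := disc_not_isSquare h2 s d hnr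
  have hΔ0 : s * s - 4 * d ≠ 0 := by
    intro h; apply hΔ; rw [h]; exact ⟨0, by simp⟩
  have hsq : IsSquare ((s * s - 4 * d) / z) := by
    rw [FiniteField.isSquare_iff hF (div_ne_zero hΔ0 hz0), div_pow]
    have h1 : (s * s - 4 * d) ^ (Fintype.card F / 2) = -1 := by
      rcases FiniteField.pow_dichotomy hF hΔ0 with h | h
      · exact absurd ((FiniteField.isSquare_iff hF hΔ0).mpr h) hΔ
      · exact h
    have h3 : z ^ (Fintype.card F / 2) = -1 := by
      rcases FiniteField.pow_dichotomy hF hz0 with h | h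
      · exact absurd ((FiniteField.isSquare_iff hF hz0).mpr h) hz
      · exact h
    rw [h1, h3]
    norm_num
  obtain ⟨b, hb⟩ := hsq
  have hb' : s * s - 4 * d = b * b * z := by
    rw [← hb]; field_simp
  set h : F := 2⁻¹ with hh
  have h2h : 2 * h = 1 := mul_inv_cancel₀ h2
  set α : F := s * h with hα
  set β : F := b * h with hβ
  refine ⟨α • (1 : Matrix ι ι F) + β • X, ?_, Or.inl ?_⟩
  · have e1 : (α • (1 : Matrix ι ι F) + β • X) * (α • (1 : Matrix ι ι F) + β • X) =
        (α * α + β * β * z) • (1 : Matrix ι ι F) + (2 * α * β) • X := by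
      simp only [Matrix.add_mul, Matrix.mul_add, Matrix.smul_mul, Matrix.mul_smul, Matrix.one_mul,
        Matrix.mul_one, hXX]
      module
    have e2 : s • (α • (1 : Matrix ι ι F) + β • X) - d • (1 : Matrix ι ι F) =
        (s * α - d) • (1 : Matrix ι ι F) + (s * β) • X := by
      module
    have c1 : α * α + β * β * z = s * α - d := by
      rw [hα, hβ]
      linear_combination (-(h * h)) * hb' + (s * s * h - d - 2 * d * h) * h2h
    have c2 : 2 * α * β = s * β := by
      rw [hα]
      linear_combination (s * β) * h2h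
    rw [e1, e2, c1, c2]
  · rw [Matrix.mul_add, Matrix.add_mul, Matrix.mul_smul, Matrix.smul_mul, Matrix.mul_smul,
      Matrix.smul_mul, Matrix.mul_one, Matrix.one_mul]

/-- the centraliser of `x` with `x² = z` a non-square scalar has all determinants -/
theorem exists_commute_det_of_nonsquare [Fintype F] (hF : ringChar F ≠ 2)
    (m : ℕ) (hn : n = 2 * m) (hn0 : 0 < n)
    (x : Matrix.SpecialLinearGroup (Fin n) F) (z : F) (hz : ¬ IsSquare z)
    (hx2 : ((x ^ 2 : Matrix.SpecialLinearGroup (Fin n) F) : Matrix (Fin n) (Fin n) F) =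
      z • (1 : Matrix (Fin n) (Fin n) F)) :
    ∀ δ : F, δ ≠ 0 → ∃ c : GL (Fin n) F,
      c * Matrix.SpecialLinearGroup.toGL x = Matrix.SpecialLinearGroup.toGL x * c ∧
        (c : Matrix (Fin n) (Fin n) F).det = δ := by
  classical
  have hm0 : 0 < m := by omega
  rw [Matrix.SpecialLinearGroup.coe_pow, pow_two] at hx2
  have hz0 : z ≠ 0 := by
    rintro rfl; exact hz ⟨0, by simp⟩
  let e : Fin m ⊕ Fin m ≃ Fin n := finSumFinEquiv.trans (finCongr (by omega))
  set X₀ : Matrix (Fin n) (Fin n) F := Matrix.reindex e e (sqModel m z) with hX₀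
  have hX₀2 : X₀ * X₀ = z • (1 : Matrix (Fin n) (Fin n) F) := by
    rw [hX₀, Matrix.reindex_apply, Matrix.submatrix_mul_equiv, sqModel_mul_self]
    ext i j
    rw [Matrix.submatrix_apply, Matrix.smul_apply, Matrix.smul_apply, Matrix.one_apply,
      Matrix.one_apply]
    simp only [e.symm.injective.eq_iff]
  have hirr : Irreducible (Polynomial.X ^ 2 - Polynomial.C z : Polynomial F) := by
    apply X_pow_sub_C_irreducible_of_prime Nat.prime_two
    intro b hb
    exact hz ⟨b, by rw [← hb, pow_two]⟩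
  obtain ⟨φ, hφ⟩ := exists_equiv_of_irreducible (Matrix.toLin' (x : Matrix (Fin n) (Fin n) F))
    (Matrix.toLin' X₀) _ hirr (aeval_toLin'_sq_sub _ z hx2) (aeval_toLin'_sq_sub _ z hX₀2) rfl
  let G : Matrix (Fin n) (Fin n) F := LinearMap.toMatrix' (φ : (Fin n → F) →ₗ[F] (Fin n → F))
  let G' : Matrix (Fin n) (Fin n) F := LinearMap.toMatrix' (φ.symm : (Fin n → F) →ₗ[F] (Fin n → F))
  have hGG' : G * G' = 1 := by
    rw [← LinearMap.toMatrix'_comp]; simp
  have hG'G : G' * G = 1 := by
    rw [← LinearMap.toMatrix'_comp]; simp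
  have hGx : G * (x : Matrix (Fin n) (Fin n) F) = X₀ * G := by
    apply Matrix.toLin'.injective
    apply LinearMap.ext
    intro v
    rw [Matrix.toLin'_mul, Matrix.toLin'_mul, LinearMap.comp_apply, LinearMap.comp_apply]
    have e1 : Matrix.toLin' G = (φ : (Fin n → F) →ₗ[F] (Fin n → F)) := Matrix.toLin'_toMatrix' _
    rw [e1]
    exact hφ v
  have hG'X : G' * X₀ = (x : Matrix (Fin n) (Fin n) F) * G' := by
    calc G' * X₀ = G' * (X₀ * G) * G' := by rw [mul_assoc, mul_assoc, hGG', mul_one]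
      _ = G' * (G * (x : Matrix (Fin n) (Fin n) F)) * G' := by rw [hGx]
      _ = (x : Matrix (Fin n) (Fin n) F) * G' := by rw [← mul_assoc, hG'G, one_mul]
  intro δ hδ
  -- the norm form is surjective
  have hodd : Fintype.card F % 2 = 1 := FiniteField.odd_card_of_char_ne_two hF
  obtain ⟨a₀, b₀, hab⟩ := FiniteField.exists_root_sum_quadratic
    (f := (Polynomial.X ^ 2 : Polynomial F))
    (g := Polynomial.C (-z) * Polynomial.X ^ 2 + Polynomial.C (-δ))
    (Polynomial.degree_X_pow 2)
    (by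
      rw [Polynomial.degree_add_C, Polynomial.degree_C_mul_X_pow 2 (neg_ne_zero.mpr hz0)]
      · rfl
      · rw [Polynomial.degree_C_mul_X_pow 2 (neg_ne_zero.mpr hz0)]; norm_num)
    hodd
  simp only [Polynomial.eval_pow, Polynomial.eval_X, Polynomial.eval_add, Polynomial.eval_mul,
    Polynomial.eval_C] at hab
  have hab' : a₀ ^ 2 - z * b₀ ^ 2 = δ := by linear_combination hab
  let av : Fin m → F := Function.update (fun _ => (1 : F)) ⟨0, hm0⟩ a₀
  let bv : Fin m → F := Function.update (fun _ => (0 : F)) ⟨0, hm0⟩ b₀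
  set C₀ : Matrix (Fin m ⊕ Fin m) (Fin m ⊕ Fin m) F :=
    db (av + bv) ((z - 1) • bv) bv (av - bv) with hC₀
  have hC₀det : C₀.det = δ := by
    rw [hC₀, det_db, Finset.prod_eq_single (⟨0, hm0⟩ : Fin m)]
    · simp only [Pi.add_apply, Pi.sub_apply, Pi.smul_apply, smul_eq_mul, av, bv,
        Function.update_self]
      rw [← hab']; ring
    · intro i _ hi
      simp only [Pi.add_apply, Pi.sub_apply, Pi.smul_apply, smul_eq_mul, av, bv,
        Function.update_of_ne hi]
      ring
    · intro h; exact absurd (Finset.mem_univ _) h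
  have hC₀comm : C₀ * sqModel m z = sqModel m z * C₀ := by
    rw [hC₀, sqModel_eq_db, db_mul, db_mul]
    congr 1 <;> funext i <;> simp <;> ring
  set Cn : Matrix (Fin n) (Fin n) F := Matrix.reindex e e C₀ with hCn
  have hCndet : Cn.det = δ := by rw [hCn, Matrix.det_reindex_self, hC₀det]
  have hCncomm : Cn * X₀ = X₀ * Cn := by
    rw [hCn, hX₀, Matrix.reindex_apply, Matrix.reindex_apply, Matrix.submatrix_mul_equiv,
      Matrix.submatrix_mul_equiv, hC₀comm]
  have hcdet : (G' * Cn * G).det = δ := by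
    rw [Matrix.det_mul, Matrix.det_mul, hCndet]
    have : G'.det * G.det = 1 := by rw [← Matrix.det_mul, hG'G, Matrix.det_one]
    calc G'.det * δ * G.det = (G'.det * G.det) * δ := by ring
      _ = δ := by rw [this, one_mul]
  let c : GL (Fin n) F := Matrix.GeneralLinearGroup.mkOfDetNeZero (G' * Cn * G)
    (by rw [hcdet]; exact hδ)
  refine ⟨c, ?_, hcdet⟩
  apply commute_smul_of_commute 1 c x (x : Matrix (Fin n) (Fin n) F) (one_smul _ _).symm
  change G' * Cn * G * (x : Matrix (Fin n) (Fin n) F) = (x : Matrix (Fin n) (Fin n) F) * (G' * Cn * G)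
  calc G' * Cn * G * (x : Matrix (Fin n) (Fin n) F)
      = G' * Cn * (G * (x : Matrix (Fin n) (Fin n) F)) := by rw [mul_assoc]
    _ = G' * (Cn * X₀) * G := by rw [hGx]; simp only [mul_assoc]
    _ = G' * X₀ * Cn * G := by rw [hCncomm]; simp only [mul_assoc]
    _ = (x : Matrix (Fin n) (Fin n) F) * (G' * Cn * G) := by rw [hG'X]; simp only [mul_assoc]

end TypeNQ

section TypeSQ

variable {F : Type*} [Field F] {n : ℕ}

/-- a `±1` diagonal matrix with an even number of `-1`s (in even dimension) is a reindexing of a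
doubled diagonal matrix -/
theorem diagonal_pm_eq_reindex [DecidableEq F] (h2 : (2 : F) ≠ 0) (m : ℕ) (hn : n = 2 * m)
    (ε : Fin n → F) (hε : ∀ i, ε i = 1 ∨ ε i = -1)
    (hb : Even (Finset.univ.filter (fun i => ε i = -1)).card) :
    ∃ (σ : Fin n ≃ Fin m ⊕ Fin m) (ε' : Fin m → F),
      Matrix.diagonal ε = Matrix.reindex σ.symm σ.symm
        (Matrix.fromBlocks (Matrix.diagonal ε') 0 0 (Matrix.diagonal ε')) := by
  have h1ne : (1 : F) ≠ -1 := by
    intro h
    apply h2
    have : (1 : F) + 1 = 0 := by nth_rewrite 1 [h]; simp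
    rw [← this]; norm_num
  have key : ∀ (c : Prop) [Decidable c] (e : Prop) [Decidable e],
      (if c then 1 else 0 : ℕ) = (if e then 1 else 0) → (c ↔ e) := by
    intro c _ e _ h
    by_cases hc : c <;> by_cases he : e <;> simp [hc, he] at h ⊢
  have hab : (Finset.univ.filter (fun i => ε i = 1)).card +
      (Finset.univ.filter (fun i => ε i = -1)).card = n := by
    have h3 := Finset.card_filter_add_card_filter_not (s := (Finset.univ : Finset (Fin n)))
      (fun i => ε i = 1)
    rw [Finset.card_univ, Fintype.card_fin] at h3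
    have h4 : (Finset.univ.filter fun i => ¬ ε i = 1) = Finset.univ.filter fun i => ε i = -1 := by
      apply Finset.filter_congr
      intro i _
      rcases hε i with h | h
      · simp [h, h1ne]
      · simp [h, h1ne.symm]
    rw [h4] at h3
    exact h3
  obtain ⟨b', hb'⟩ := hb
  obtain ⟨a', ha'⟩ : ∃ a', (Finset.univ.filter (fun i => ε i = 1)).card = a' + a' := by
    refine ⟨m - b', ?_⟩
    omega
  have ha'm : a' ≤ m := by omega
  let ε' : Fin m → F := fun i => if (i : ℕ) < a' then 1 else -1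
  let d : Fin n → ℕ := fun i => if ε i = 1 then 1 else 0
  let d' : Fin m ⊕ Fin m → ℕ := fun y => if (Sum.elim (fun i : Fin m => (i : ℕ)) (fun i : Fin m => (i : ℕ)) y) < a' then 1 else 0
  have hfib : ∀ j, (Finset.univ.filter fun k => d k = j).card =
      (Finset.univ.filter fun k => d' k = j).card := by
    intro j
    rw [card_fiber_bool (fun i => ε i = 1) j,
      card_fiber_bool (fun y : Fin m ⊕ Fin m =>
        (Sum.elim (fun i : Fin m => (i : ℕ)) (fun i : Fin m => (i : ℕ)) y) < a') j]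
    have hc1 : (Finset.univ.filter fun y : Fin m ⊕ Fin m =>
        (Sum.elim (fun i : Fin m => (i : ℕ)) (fun i : Fin m => (i : ℕ)) y) < a').card = a' + a' := by
      rw [Finset.card_filter, Fintype.sum_sum_type]
      change (∑ a₁ : Fin m, if (a₁ : ℕ) < a' then 1 else 0) +
        (∑ a₂ : Fin m, if (a₂ : ℕ) < a' then 1 else 0) = a' + a'
      rw [← Finset.card_filter, Fin.card_filter_val_lt, min_eq_right ha'm]
    rw [hc1, ha', Fintype.card_fin, Fintype.card_sum, Fintype.card_fin, hn]
    congr 2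
    ring_nf
  obtain ⟨σ, hσ⟩ := exists_equiv_of_card_fibers_eq d d' hfib
  refine ⟨σ, ε', ?_⟩
  rw [Matrix.fromBlocks_diagonal]
  ext i j
  rw [Matrix.reindex_apply, Matrix.submatrix_apply, Equiv.symm_symm, Matrix.diagonal_apply,
    Matrix.diagonal_apply]
  by_cases hij : i = j
  · subst hij
    rw [if_pos rfl, if_pos rfl]
    have h5 := key _ _ (hσ i)
    rcases hy : σ i with y | y
    · rw [hy] at h5
      change ((y : ℕ) < a') ↔ ε i = 1 at h5
      change ε i = if (y : ℕ) < a' then (1 : F) else -1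
      by_cases hlt : (y : ℕ) < a'
      · rw [if_pos hlt]; exact h5.mp hlt
      · rw [if_neg hlt]
        rcases hε i with h | h
        · exact absurd (h5.mpr h) hlt
        · exact h
    · rw [hy] at h5
      change ((y : ℕ) < a') ↔ ε i = 1 at h5
      change ε i = if (y : ℕ) < a' then (1 : F) else -1
      by_cases hlt : (y : ℕ) < a'
      · rw [if_pos hlt]; exact h5.mp hlt
      · rw [if_neg hlt]
        rcases hε i with h | h
        · exact absurd (h5.mpr h) hlt
        · exact h
  · rw [if_neg hij, if_neg (fun h => hij (σ.injective h))]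

theorem db_sub {m : ℕ} (a b c d a' b' c' d' : Fin m → F) :
    db a b c d - db a' b' c' d' = db (a - a') (b - b') (c - c') (d - d') := by
  rw [sub_eq_add_neg, ← neg_one_smul F (db a' b' c' d'), smul_db]
  unfold db
  rw [Matrix.fromBlocks_add, Matrix.diagonal_add, Matrix.diagonal_add, Matrix.diagonal_add,
    Matrix.diagonal_add]
  congr 2 <;> funext i <;> simp [sub_eq_add_neg]

/-- a doubled diagonal matrix commutes with a root of any quadratic -/
theorem normQ_fromBlocks_diagonal (s d : F) (m : ℕ) (ε' : Fin m → F) :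
    NormQ s d (Matrix.fromBlocks (Matrix.diagonal ε') 0 0 (Matrix.diagonal ε')) := by
  have hz : Matrix.diagonal (0 : Fin m → F) = (0 : Matrix (Fin m) (Fin m) F) := Matrix.diagonal_zero
  have ho : Matrix.diagonal (1 : Fin m → F) = (1 : Matrix (Fin m) (Fin m) F) := Matrix.diagonal_one
  have hU : Matrix.fromBlocks (Matrix.diagonal ε') 0 0 (Matrix.diagonal ε') = db ε' 0 0 ε' := by
    unfold db
    rw [hz]
  have h1 : (1 : Matrix (Fin m ⊕ Fin m) (Fin m ⊕ Fin m) F) = db 1 0 0 1 := by
    unfold db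
    rw [hz, ho, Matrix.fromBlocks_one]
  refine ⟨db 0 (fun _ => -d) 1 (fun _ => s), ?_, Or.inl ?_⟩
  · rw [h1, db_mul, smul_db, smul_db, db_sub]
    congr 1 <;> funext i <;> simp <;> ring
  · rw [hU, db_mul, db_mul]
    congr 1 <;> funext i <;> simp <;> ring

theorem normQ_diagonal_pm [DecidableEq F] (h2 : (2 : F) ≠ 0) (s d : F) (m : ℕ) (hn : n = 2 * m)
    (ε : Fin n → F) (hε : ∀ i, ε i = 1 ∨ ε i = -1)
    (hb : Even (Finset.univ.filter (fun i => ε i = -1)).card) :
    NormQ s d (Matrix.diagonal ε) := by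
  obtain ⟨σ, ε', hσ⟩ := diagonal_pm_eq_reindex h2 m hn ε hε hb
  rw [hσ]
  exact (normQ_fromBlocks_diagonal s d m ε').reindex σ.symm

end TypeSQ

section TypeTwo

variable {F : Type*} [Field F]

theorem normQ_diag_two (h2 : (2 : F) ≠ 0) (s d : F) (ε : Fin 2 → F) (hε : ε 1 = - ε 0) :
    NormQ s d (Matrix.diagonal ε) := by
  set h : F := 2⁻¹ with hh
  have h2h : 2 * h = 1 := mul_inv_cancel₀ h2
  set α : F := s * h with hα
  have hα2 : 2 * α = s := by rw [hα]; linear_combination s * h2h
  set γ : F := α * α - d with hγ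
  refine ⟨!![α, γ; 1, α], ?_, Or.inr ?_⟩
  · ext i j
    fin_cases i <;> fin_cases j <;>
      simp [Matrix.mul_apply, Fin.sum_univ_two]
    · linear_combination α * hα2 + hγ
    · linear_combination γ * hα2
    · linear_combination hα2
    · linear_combination α * hα2 + hγ
  · ext i j
    fin_cases i <;> fin_cases j <;>
      simp [Matrix.mul_apply, Fin.sum_univ_two, hε]
    · linear_combination (ε 0) * hα2
    · ring
    · linear_combination (ε 0) * hα2

/-- a non-trivial unipotent `2 × 2` matrix in characteristic two -/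
theorem normQ_unip_two [CharP F 2] (s d : F) (hs : s ≠ 0) (N : Matrix (Fin 2) (Fin 2) F)
    (hNN : N * N = 0) (hN : N ≠ 0) : NormQ s d (1 + N) := by
  classical
  have h2 : (2 : F) = 0 := CharP.ofNat_eq_zero F 2
  have hneg : ∀ a : F, -a = a := by
    intro a
    have : a + a = 0 := by rw [← two_mul, h2, zero_mul]
    exact neg_eq_of_add_eq_zero_left this
  -- a vector not killed by `N`
  obtain ⟨v, hv⟩ : ∃ v : Fin 2 → F, N *ᵥ v ≠ 0 := by
    by_contra hcon
    push Not at hcon
    apply hN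
    ext i j
    have := congrFun (hcon (Pi.single j 1)) i
    simpa using this
  set u : Fin 2 → F := N *ᵥ v with hu
  have hNu : N *ᵥ u = 0 := by
    rw [hu, Matrix.mulVec_mulVec, hNN, Matrix.zero_mulVec]
  let G : Matrix (Fin 2) (Fin 2) F := !![u 0, v 0; u 1, v 1]
  have hGdet : G.det ≠ 0 := by
    intro hdet
    obtain ⟨c, hc0, hc⟩ := Matrix.exists_mulVec_eq_zero_iff.mpr hdet
    have hc' : c 0 • u + c 1 • v = 0 := by
      funext i
      have := congrFun hc i
      fin_cases i
      · simp [G, Matrix.mulVec, dotProduct, Fin.sum_univ_two] at this ⊢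
        linear_combination this
      · simp [G, Matrix.mulVec, dotProduct, Fin.sum_univ_two] at this ⊢
        linear_combination this
    have h1 := congrArg (fun w => N *ᵥ w) hc'
    simp only [Matrix.mulVec_add, Matrix.mulVec_smul, hNu, smul_zero, zero_add,
      Matrix.mulVec_zero] at h1
    have hc1 : c 1 = 0 := by
      rcases smul_eq_zero.mp h1 with h | h
      · exact h
      · exact absurd h hv
    rw [hc1, zero_smul, add_zero] at hc'
    have hc0' : c 0 = 0 := by
      rcases smul_eq_zero.mp hc' with h | h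
      · exact h
      · exact absurd h hv
    apply hc0
    funext i
    fin_cases i
    · exact hc0'
    · exact hc1
  have hGG' : G * G⁻¹ = 1 := Matrix.mul_nonsing_inv G (Ne.isUnit hGdet)
  have hG'G : G⁻¹ * G = 1 := Matrix.nonsing_inv_mul G (Ne.isUnit hGdet)
  have hNG : N * G = G * !![0, 1; 0, 0] := by
    ext i j
    have e0 := congrFun hNu i
    have e1 : (N *ᵥ v) i = u i := rfl
    fin_cases j
    · fin_cases i <;>
        simpa [G, Matrix.mul_apply, Matrix.mulVec, dotProduct, Fin.sum_univ_two] using e0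
    · fin_cases i <;>
        simpa [G, Matrix.mul_apply, Matrix.mulVec, dotProduct, Fin.sum_univ_two] using e1
  have hX : (1 : Matrix (Fin 2) (Fin 2) F) + N = G * !![1, 1; 0, 1] * G⁻¹ := by
    have e1 : (!![1, 1; 0, 1] : Matrix (Fin 2) (Fin 2) F) = 1 + !![0, 1; 0, 0] := by
      ext i j
      fin_cases i <;> fin_cases j <;> simp
    rw [e1, Matrix.mul_add, Matrix.mul_one, ← hNG, Matrix.add_mul, hGG', mul_assoc, hGG', mul_one]
  rw [hX]
  apply NormQ.conj _ G G⁻¹ hGG' hG'G
  refine ⟨!![0, d / s; s, s], ?_, Or.inr ?_⟩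
  · ext i j
    fin_cases i <;> fin_cases j <;>
      simp [Matrix.mul_apply, Fin.sum_univ_two]
    · rw [hneg]; field_simp
    · ring
    · rw [sub_eq_add_neg, hneg]; field_simp; ring
  · ext i j
    fin_cases i <;> fin_cases j <;>
      simp [Matrix.mul_apply, Fin.sum_univ_two]
    · rw [hneg]; ring
    · exact (hneg s).symm
    · exact (hneg s).symm

end TypeTwo

section Assemble

variable {F : Type*} [Field F] {n : ℕ}

/-- non-square scalar (odd characteristic) -/
theorem conj_norm_of_nonsquare [Fintype F] (hF : ringChar F ≠ 2)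
    {K : Subalgebra F (Matrix (Fin n) (Fin n) F)} {θ : Matrix (Fin n) (Fin n) F} {s d : F}
    (hQ : QuadGen K θ s d) (m : ℕ) (hn : n = 2 * m) (hn0 : 0 < n)
    (x : Matrix.SpecialLinearGroup (Fin n) F) (z : F) (hz : ¬ IsSquare z)
    (hx2 : ((x ^ 2 : Matrix.SpecialLinearGroup (Fin n) F) : Matrix (Fin n) (Fin n) F) =
      z • (1 : Matrix (Fin n) (Fin n) F)) :
    ∃ P : Matrix.SpecialLinearGroup (Fin n) F, P⁻¹ * x * P ∈
      (Cfsg.Geo.subalgebraNormalizer K).comap
        (Matrix.SpecialLinearGroup.toGL : Matrix.SpecialLinearGroup (Fin n) F →* GL (Fin n) F) := by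
  have hXX : (x : Matrix (Fin n) (Fin n) F) * (x : Matrix (Fin n) (Fin n) F) =
      z • (1 : Matrix (Fin n) (Fin n) F) := by
    rw [← pow_two, ← Matrix.SpecialLinearGroup.coe_pow]; exact hx2
  have hN : NormQ s d ((Matrix.SpecialLinearGroup.toGL x : GL (Fin n) F) : Matrix (Fin n) (Fin n) F) := by
    change NormQ s d (x : Matrix (Fin n) (Fin n) F)
    exact normQ_of_nonsquare hF s d hQ.noroot z hz _ hXX
  obtain ⟨g, hg⟩ := hN.exists_conj_mem hQ _
  exact exists_sl_conj_mem_of_cent _ x g hg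
    (exists_commute_det_of_nonsquare hF m hn hn0 x z hz hx2)

/-- square scalar (odd characteristic) -/
theorem conj_norm_of_sq [Finite F] (h2 : (2 : F) ≠ 0)
    {K : Subalgebra F (Matrix (Fin n) (Fin n) F)} {θ : Matrix (Fin n) (Fin n) F} {s d : F}
    (hQ : QuadGen K θ s d) (m : ℕ) (hn : n = 2 * m) (hn0 : 0 < n)
    (x : Matrix.SpecialLinearGroup (Fin n) F) (l : F)
    (hx2 : ((x ^ 2 : Matrix.SpecialLinearGroup (Fin n) F) : Matrix (Fin n) (Fin n) F) =
      (l ^ 2) • (1 : Matrix (Fin n) (Fin n) F))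
    (hxns : ∀ z : F, (x : Matrix (Fin n) (Fin n) F) ≠ z • (1 : Matrix (Fin n) (Fin n) F))
    (hcase : n = 2 ∨ ∀ a : F, a ^ n ≠ -1) :
    ∃ P : Matrix.SpecialLinearGroup (Fin n) F, P⁻¹ * x * P ∈
      (Cfsg.Geo.subalgebraNormalizer K).comap
        (Matrix.SpecialLinearGroup.toGL : Matrix.SpecialLinearGroup (Fin n) F →* GL (Fin n) F) := by
  classical
  have : Nonempty (Fin n) := ⟨⟨0, hn0⟩⟩
  rw [Matrix.SpecialLinearGroup.coe_pow] at hx2
  have hl0 : l ≠ 0 := by
    rintro rfl
    have h1 : ((x : Matrix (Fin n) (Fin n) F) ^ 2).det = 0 := by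
      rw [hx2]; simp
    rw [Matrix.det_pow, x.det_coe, one_pow] at h1
    exact one_ne_zero h1
  set s₀ : Matrix (Fin n) (Fin n) F := l⁻¹ • (x : Matrix (Fin n) (Fin n) F) with hs_def
  have hxs : (x : Matrix (Fin n) (Fin n) F) = l • s₀ := by
    rw [hs_def, smul_smul, mul_inv_cancel₀ hl0, one_smul]
  have hs : s₀ * s₀ = 1 := by
    have hxx : (x : Matrix (Fin n) (Fin n) F) * (x : Matrix (Fin n) (Fin n) F) =
        (l ^ 2) • (1 : Matrix (Fin n) (Fin n) F) := by
      rw [← pow_two]; exact hx2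
    rw [hs_def, Matrix.smul_mul, Matrix.mul_smul, smul_smul, hxx, smul_smul]
    have : l⁻¹ * l⁻¹ * l ^ 2 = 1 := by field_simp
    rw [this, one_smul]
  obtain ⟨P, ε, hPdet, hε, hsP⟩ := exists_sl_conj_diag h2 hn0 s₀ hs
  have hPP : P * P⁻¹ = 1 := Matrix.mul_nonsing_inv P (by rw [hPdet]; exact isUnit_one)
  have hPP' : P⁻¹ * P = 1 := Matrix.nonsing_inv_mul P (by rw [hPdet]; exact isUnit_one)
  have hsPD : s₀ = P * Matrix.diagonal ε * P⁻¹ := by
    rw [← hsP, mul_assoc, hPP, mul_one]
  have hsdet : s₀.det = ∏ i, ε i := by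
    rw [hsPD, Matrix.det_mul, Matrix.det_mul, Matrix.det_diagonal, hPdet, one_mul]
    have : P.det * (P⁻¹).det = 1 := by rw [← Matrix.det_mul, hPP, Matrix.det_one]
    rw [hPdet, one_mul] at this
    rw [this, mul_one]
  have hsdet' : s₀.det = (l⁻¹) ^ n := by
    rw [hs_def, Matrix.det_smul, x.det_coe, mul_one, Fintype.card_fin]
  have hprod : ∏ i, ε i = (-1 : F) ^ (Finset.univ.filter (fun i => ε i = -1)).card := by
    have h1 : ∀ i, ε i = if ε i = -1 then (-1 : F) else 1 := by
      intro i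
      rcases hε i with h | h
      · rw [h]
        by_cases h' : (1 : F) = -1
        · rw [if_pos h']; exact h'
        · rw [if_neg h']
      · rw [h]; simp
    rw [Finset.prod_congr rfl (fun i _ => h1 i), Finset.prod_ite, Finset.prod_const,
      Finset.prod_const_one, mul_one]
  have hND : NormQ s d (Matrix.diagonal ε) := by
    rcases hcase with h2n | hnp
    · subst h2n
      apply normQ_diag_two h2
      have hne : ε 0 ≠ ε 1 := by
        intro heq
        apply hxns (l * ε 0)
        have hD : Matrix.diagonal ε = ε 0 • (1 : Matrix (Fin 2) (Fin 2) F) := by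
          ext i j
          fin_cases i <;> fin_cases j <;> simp [heq]
        rw [hxs, hsPD, hD, Matrix.mul_smul, Matrix.smul_mul, Matrix.mul_one, hPP, smul_smul]
      rcases hε 0 with h0 | h0 <;> rcases hε 1 with h1 | h1
      · exact absurd (h0.trans h1.symm) hne
      · rw [h0, h1]
      · rw [h0, h1, neg_neg]
      · exact absurd (h0.trans h1.symm) hne
    · have hbeven : Even (Finset.univ.filter (fun i => ε i = -1)).card := by
        by_contra hodd
        rw [Nat.not_even_iff_odd] at hodd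
        rw [hodd.neg_one_pow] at hprod
        exact hnp l⁻¹ (by rw [← hsdet', hsdet, hprod])
      exact normQ_diagonal_pm h2 s d m hn ε hε hbeven
  have hNs : NormQ s d s₀ := by
    rw [hsPD]
    exact hND.conj P P⁻¹ hPP hPP'
  have hN : NormQ s d ((Matrix.SpecialLinearGroup.toGL x : GL (Fin n) F) : Matrix (Fin n) (Fin n) F) := by
    change NormQ s d (x : Matrix (Fin n) (Fin n) F)
    rw [hxs]
    exact hNs.smul l
  obtain ⟨g, hg⟩ := hN.exists_conj_mem hQ _
  apply exists_sl_conj_mem_of_cent _ x g hg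
  intro δ hδ
  let dv : Fin n → F := Function.update (fun _ => (1 : F)) ⟨0, hn0⟩ δ
  have hdvdet : (Matrix.diagonal dv).det = δ := by
    rw [Matrix.det_diagonal, Finset.prod_eq_single (⟨0, hn0⟩ : Fin n)]
    · simp [dv]
    · intro b _ hb
      simp [dv, Function.update_of_ne hb]
    · intro h; exact absurd (Finset.mem_univ _) h
  have hcdet : (P * Matrix.diagonal dv * P⁻¹).det = δ := by
    rw [Matrix.det_mul, Matrix.det_mul, hdvdet, hPdet, one_mul]
    have : P.det * (P⁻¹).det = 1 := by rw [← Matrix.det_mul, hPP, Matrix.det_one]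
    rw [hPdet, one_mul] at this
    rw [this, mul_one]
  let c : GL (Fin n) F := Matrix.GeneralLinearGroup.mkOfDetNeZero (P * Matrix.diagonal dv * P⁻¹)
    (by rw [hcdet]; exact hδ)
  refine ⟨c, ?_, hcdet⟩
  apply commute_smul_of_commute l c x s₀ hxs
  change P * Matrix.diagonal dv * P⁻¹ * s₀ = s₀ * (P * Matrix.diagonal dv * P⁻¹)
  rw [hsPD]
  have e1 : P * Matrix.diagonal dv * P⁻¹ * (P * Matrix.diagonal ε * P⁻¹) =
      P * (Matrix.diagonal dv * Matrix.diagonal ε) * P⁻¹ := by
    simp only [mul_assoc]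
    rw [← mul_assoc P⁻¹ P, hPP', one_mul]
  have e2 : P * Matrix.diagonal ε * P⁻¹ * (P * Matrix.diagonal dv * P⁻¹) =
      P * (Matrix.diagonal ε * Matrix.diagonal dv) * P⁻¹ := by
    simp only [mul_assoc]
    rw [← mul_assoc P⁻¹ P, hPP', one_mul]
  rw [e1, e2, Matrix.diagonal_mul_diagonal, Matrix.diagonal_mul_diagonal]
  congr 3
  funext i
  exact mul_comm _ _

/-- characteristic two, dimension two -/
theorem conj_norm_char_two [Finite F] [CharP F 2]
    {K : Subalgebra F (Matrix (Fin 2) (Fin 2) F)} {θ : Matrix (Fin 2) (Fin 2) F} {s d : F}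
    (hQ : QuadGen K θ s d)
    (x : Matrix.SpecialLinearGroup (Fin 2) F) (z : F)
    (hx2 : ((x ^ 2 : Matrix.SpecialLinearGroup (Fin 2) F) : Matrix (Fin 2) (Fin 2) F) =
      z • (1 : Matrix (Fin 2) (Fin 2) F))
    (hxns : ∀ z : F, (x : Matrix (Fin 2) (Fin 2) F) ≠ z • (1 : Matrix (Fin 2) (Fin 2) F)) :
    ∃ P : Matrix.SpecialLinearGroup (Fin 2) F, P⁻¹ * x * P ∈
      (Cfsg.Geo.subalgebraNormalizer K).comap
        (Matrix.SpecialLinearGroup.toGL : Matrix.SpecialLinearGroup (Fin 2) F →* GL (Fin 2) F) := by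
  classical
  haveI : Fact (Nat.Prime 2) := ⟨Nat.prime_two⟩
  have hinj : Function.Injective (frobenius F 2) := frobenius_inj F 2
  have hsurj : Function.Surjective (frobenius F 2) := Finite.surjective_of_injective hinj
  have h2 : (2 : F) = 0 := CharP.ofNat_eq_zero F 2
  have hadd : ∀ a : F, a + a = 0 := by
    intro a; rw [← two_mul, h2, zero_mul]
  obtain ⟨l, hl⟩ := hsurj z
  rw [frobenius_def] at hl
  rw [Matrix.SpecialLinearGroup.coe_pow] at hx2
  have hl0 : l ≠ 0 := by
    rintro rfl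
    have hz : z = 0 := by rw [← hl]; simp
    have h1 : ((x : Matrix (Fin 2) (Fin 2) F) ^ 2).det = 0 := by
      rw [hx2, hz, zero_smul, Matrix.det_zero]
    rw [Matrix.det_pow, x.det_coe, one_pow] at h1
    exact one_ne_zero h1
  -- `s ≠ 0`
  have hs0 : s ≠ 0 := by
    rintro rfl
    obtain ⟨e, he⟩ := hsurj d
    rw [frobenius_def] at he
    apply hQ.noroot e
    rw [zero_mul, sub_zero, ← pow_two, he]
    exact hadd d
  set N : Matrix (Fin 2) (Fin 2) F := l⁻¹ • (x : Matrix (Fin 2) (Fin 2) F) - 1 with hN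
  have hxN : (x : Matrix (Fin 2) (Fin 2) F) = l • (1 + N) := by
    rw [hN, add_sub_cancel, smul_smul, mul_inv_cancel₀ hl0, one_smul]
  have hNN : N * N = 0 := by
    have hxx : (x : Matrix (Fin 2) (Fin 2) F) * (x : Matrix (Fin 2) (Fin 2) F) =
        z • (1 : Matrix (Fin 2) (Fin 2) F) := by
      rw [← pow_two]; exact hx2
    have e1 : N * N = (l⁻¹ * l⁻¹ * z + 1) • (1 : Matrix (Fin 2) (Fin 2) F) -
        (2 * l⁻¹) • (x : Matrix (Fin 2) (Fin 2) F) := by
      rw [hN, Matrix.sub_mul, Matrix.mul_sub, Matrix.mul_sub, Matrix.smul_mul, Matrix.mul_smul,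
        hxx, Matrix.mul_one, Matrix.one_mul, Matrix.one_mul]
      module
    have e2 : l⁻¹ * l⁻¹ * z + 1 = 0 := by
      rw [← hl]
      have : l⁻¹ * l⁻¹ * l ^ 2 = 1 := by field_simp
      rw [this]; exact hadd 1
    rw [e1, e2, h2, zero_mul, zero_smul, zero_smul, sub_zero]
  have hN0 : N ≠ 0 := by
    intro h0
    apply hxns l
    rw [hxN, h0, add_zero]
  have hNQ : NormQ s d ((Matrix.SpecialLinearGroup.toGL x : GL (Fin 2) F) : Matrix (Fin 2) (Fin 2) F) := by
    change NormQ s d (x : Matrix (Fin 2) (Fin 2) F)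
    rw [hxN]
    exact (normQ_unip_two s d hs0 N hNN hN0).smul l
  obtain ⟨g, hg⟩ := hNQ.exists_conj_mem hQ _
  apply exists_sl_conj_mem_of_cent _ x g hg
  intro δ hδ
  obtain ⟨a, ha⟩ := hsurj δ
  rw [frobenius_def] at ha
  have hadet : (a • (1 : Matrix (Fin 2) (Fin 2) F)).det = δ := by
    rw [Matrix.det_smul, Matrix.det_one, mul_one, Fintype.card_fin, ha]
  let c : GL (Fin 2) F := Matrix.GeneralLinearGroup.mkOfDetNeZero (a • (1 : Matrix (Fin 2) (Fin 2) F))
    (by rw [hadet]; exact hδ)
  refine ⟨c, ?_, hadet⟩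
  apply Units.ext
  change a • (1 : Matrix (Fin 2) (Fin 2) F) * (x : Matrix (Fin 2) (Fin 2) F) =
    (x : Matrix (Fin 2) (Fin 2) F) * a • (1 : Matrix (Fin 2) (Fin 2) F)
  rw [Matrix.smul_mul, Matrix.mul_smul, Matrix.one_mul, Matrix.mul_one]

end Assemble

end Cfsg.Agent.Lib.Helper49
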