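import Mathlib
import Cfsg.Agent.Lib.Helper49.OrthExist

set_option autoImplicit false

namespace Cfsg.Agent.Lib.Helper49

open Polynomial Module

section Palin

variable {F : Type*} [Field F] [Fintype F] {r i : ℕ} {PP : Finset F[X]}

theorem FactorData.palin_even (D : FactorData F r i PP) (hmon : ∀ P ∈ PP, P.Monic) (hr : r.Prime)
    (hi : i = orderOf ((Fintype.card F : ℕ) : ZMod r)) (hev : Even i) (a : PP → ℕ) :
    (∏ P : PP, (P : F[X]) ^ a P).reverse = ∏ P : PP, (P : F[X]) ^ a P := by
  haveI : Fact r.Prime := ⟨hr⟩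
  have hi1 := D.hi
  apply palin_prod
  intro P _
  apply palin_pow
  haveI : Fact (Irreducible P.1) := ⟨D.irr P.1 P.2⟩
  apply reverse_eq_self_of_starP_eq (hmon P.1 P.2)
    (starP_eq_self_of_even (hmon P.1 P.2) hi (by omega) hev (D.dvd_of_mem P.2)) hr.pos
    (D.dvd_of_mem P.2) (D.X_sub_one_not_dvd P.2)

theorem FactorData.palin_odd (D : FactorData F r i PP) (hmon : ∀ P ∈ PP, P.Monic) (hr : r.Prime)
    (hr2 : r ≠ 2) (hodd : Odd i) (a : PP → ℕ) (ha : ∀ P, a (D.star hmon P) = a P) :
    (∏ P : PP, (P : F[X]) ^ a P).reverse = ∏ P : PP, (P : F[X]) ^ a P := by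
  classical
  have hσ : ∀ P : PP, D.star hmon (D.star hmon P) = P := D.star_star hmon
  have hne : ∀ P : PP, D.star hmon P ≠ P := D.star_ne hmon hr hr2 hodd
  rw [prod_transv hσ hne (fun P : PP => (P : F[X]) ^ a P)]
  apply palin_prod
  intro Q _
  rw [ha, ← mul_pow]
  apply palin_pow
  haveI : Fact (Irreducible Q.1.1) := ⟨D.irr Q.1.1 Q.1.2⟩
  rw [D.star_val]
  apply reverse_mul_starP (hmon Q.1.1 Q.1.2) _ hr.pos (D.dvd_of_mem Q.1.2)
  rw [D.deg _ (D.starP_mem hmon Q.1.2), D.deg _ Q.1.2]

end Palin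

section Generic

variable {F : Type*} [Field F] [Fintype F] {ι : Type} [Fintype ι] [DecidableEq ι]
variable {r i : ℕ} {PP : Finset F[X]}

/-- classes of elements of odd prime order in an orthogonal group correspond to the realisable
profiles of kernel dimensions -/
theorem FactorData.card_classes_orth (D : FactorData F r i PP) (hr : r.Prime) (hr2 : r ≠ 2)
    (hrF : (r : F) ≠ 0) (Q : QuadraticForm F (ι → F))
    (hN : (QuadraticMap.polarBilin Q).Nondegenerate) :
    Nat.card {C : ConjClasses ↥(Cfsg.isometryGroup F ⇑Q) //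
      ∃ g : ↥(Cfsg.isometryGroup F ⇑Q), ConjClasses.mk g = C ∧ orderOf g = r} =
    Nat.card {a : PP → ℕ // a ≠ 0 ∧ ∃ g : ↥(Cfsg.isometryGroup F ⇑Q), g ^ r = 1 ∧
      ∀ P : PP, kdim (Matrix.toLin' (omat Q g)) (P : F[X]) = i * a P} := by
  apply card_classes_eq_card_profiles r hr i D.hi
    (fun (g : ↥(Cfsg.isometryGroup F ⇑Q)) (P : PP) => kdim (Matrix.toLin' (omat Q g)) (P : F[X]))
  · intro g _ P
    exact D.dvd_kdim _ P.2
  · intro g hg
    exact D.orth_eq_one_iff g hg
  · intro g g' hg hg' h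
    exact D.orth_isConj hrF (hr.odd_of_ne_two hr2) hN g g' hg hg'
      (fun P hP => congrFun h ⟨P, hP⟩)
  · intro g g' h
    funext P
    exact orth_kdim_eq_of_isConj g g' h _

end Generic

section OddDim

variable {F : Type*} [Field F] [Fintype F] {r i : ℕ} {PP : Finset F[X]}

theorem QOdd_nondegenerate (m : ℕ) (h2 : (2 : F) ≠ 0) :
    (QuadraticMap.polarBilin (Helper50.QOdd m F)).Nondegenerate := by
  apply Helper50.qfOfPolar_nondegenerate
  rw [Helper50.det_odd_gram]
  exact mul_ne_zero (mul_ne_zero h2 one_ne_zero) (pow_ne_zero _ (neg_ne_zero.mpr one_ne_zero))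

theorem FactorData.card_classes_orth_odd_dim (p : ℕ) [Fact p.Prime] [CharP F p]
    (D : FactorData F r i PP) (hmon : ∀ P ∈ PP, P.Monic) (hr : r.Prime) (hr2 : r ≠ 2)
    (hrF : (r : F) ≠ 0) (h2 : (2 : F) ≠ 0)
    (hi : i = orderOf ((Fintype.card F : ℕ) : ZMod r)) (m : ℕ) :
    Nat.card {C : ConjClasses ↥(Cfsg.isometryGroup F ⇑(Helper50.QOdd m F)) //
      ∃ g : ↥(Cfsg.isometryGroup F ⇑(Helper50.QOdd m F)), ConjClasses.mk g = C ∧ orderOf g = r} =
    if Odd i then Nat.choose (m / i + PP.card / 2) (PP.card / 2) - 1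
    else Nat.choose ((2 * m + 1) / i + PP.card) PP.card - 1 := by
  classical
  have hN := QOdd_nondegenerate (F := F) m h2
  have hi1 := D.hi
  have hrodd : Odd r := hr.odd_of_ne_two hr2
  have hcardι : Fintype.card (Unit ⊕ (Fin m ⊕ Fin m)) = 2 * m + 1 := by
    simp only [Fintype.card_sum, Fintype.card_fin, Fintype.card_unit]; omega
  rw [D.card_classes_orth hr hr2 hrF _ hN]
  by_cases hodd : Odd i
  · rw [if_pos hodd]
    have hσ : ∀ P : PP, D.star hmon (D.star hmon P) = P := D.star_star hmon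
    have hne : ∀ P : PP, D.star hmon P ≠ P := D.star_ne hmon hr hr2 hodd
    have hcount := card_profiles_star hσ hne i hi1 (2 * m)
    rw [Nat.mul_div_mul_left m i (by norm_num : 0 < 2), Fintype.card_coe] at hcount
    rw [← hcount]
    apply Nat.card_congr
    apply Equiv.subtypeEquivRight
    intro a
    apply and_congr_right
    intro _
    have hsum2 : (∀ P, a (D.star hmon P) = a P) →
        ∑ P, a P = 2 * ∑ Q : Transv (D.star hmon), a Q.1 := by
      intro hst
      rw [sum_transv hσ hne a, Finset.mul_sum]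
      apply Finset.sum_congr rfl
      intro Q _
      rw [hst]; ring
    constructor
    · rintro ⟨g, hg, hκ⟩
      have hst : ∀ P, a (D.star hmon P) = a P := by
        intro P
        have h1 := D.kdim_star_orth hmon hr.two_le hN g hg P
        rw [hκ, hκ] at h1
        exact Nat.eq_of_mul_eq_mul_left (by omega) h1
      refine ⟨hst, ?_⟩
      have h3 := D.orth_sum_le g hg
      rw [hcardι, Finset.sum_congr rfl (fun P _ => hκ P), ← Finset.mul_sum, hsum2 hst] at h3
      rw [hsum2 hst]
      have : i * (2 * ∑ Q : Transv (D.star hmon), a Q.1) =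
          2 * (i * ∑ Q : Transv (D.star hmon), a Q.1) := by ring
      omega
    · rintro ⟨hst, hle⟩
      have hk : i * ∑ P, a P = 2 * (i * ∑ Q : Transv (D.star hmon), a Q.1) := by
        rw [hsum2 hst]; ring
      exact D.exists_orth_realize_odd p hmon hrF hrodd h2 m _ (by omega) a hk
        (D.palin_odd hmon hr hr2 hodd a hst)
  · rw [if_neg hodd]
    have hev : Even i := Nat.not_odd_iff_even.mp hodd
    have hcount := card_profiles_bound (ι := PP) i hi1 (2 * m + 1)
    rw [Fintype.card_coe] at hcount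
    rw [← hcount]
    apply Nat.card_congr
    apply Equiv.subtypeEquivRight
    intro a
    apply and_congr_right
    intro _
    constructor
    · rintro ⟨g, hg, hκ⟩
      have h3 := D.orth_sum_le g hg
      rw [hcardι, Finset.sum_congr rfl (fun P _ => hκ P), ← Finset.mul_sum] at h3
      exact h3
    · intro hle
      obtain ⟨j, hj⟩ := hev
      have hk : i * ∑ P, a P = 2 * (j * ∑ P, a P) := by
        rw [hj]; ring
      exact D.exists_orth_realize_odd p hmon hrF hrodd h2 m _ (by omega) a hk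
        (D.palin_even hmon hr hi ⟨j, hj⟩ a)

end OddDim

end Cfsg.Agent.Lib.Helper49
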