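import Mathlib
import Cfsg.Agent.Lib.Helper49.BlockKdim
import Cfsg.Agent.Lib.Helper49.OrthCount
import Cfsg.Agent.Lib.Helper50.DiagPlus
import Cfsg.Agent.Lib.Helper50.MinusParam

set_option autoImplicit false

namespace Cfsg.Agent.Lib.Helper49

open Polynomial Module Matrix

section BlockPow

variable {R : Type*} [CommRing R]
variable {n₁ n₂ : Type*} [Fintype n₁] [DecidableEq n₁] [Fintype n₂] [DecidableEq n₂]

theorem fromBlocks_diag_pow (A : Matrix n₁ n₁ R) (B : Matrix n₂ n₂ R) (k : ℕ) :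
    (Matrix.fromBlocks A 0 0 B) ^ k = Matrix.fromBlocks (A ^ k) 0 0 (B ^ k) := by
  induction k with
  | zero => simp [Matrix.fromBlocks_one]
  | succ k ih =>
    rw [pow_succ, ih, Matrix.fromBlocks_multiply, pow_succ, pow_succ]
    simp

end BlockPow

section Half

variable {F : Type*} [Field F] {r i : ℕ} {PP : Finset F[X]}

theorem FactorData.kdim_diagPlus (D : FactorData F r i PP) (hmon : ∀ P ∈ PP, P.Monic)
    (hr : 2 ≤ r) {n : ℕ} (h : GL (Fin n) F) (hh : h ^ r = 1) (P : PP) :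
    kdim (Matrix.toLin' (Matrix.fromBlocks (h : Matrix (Fin n) (Fin n) F) 0 0
      ((h⁻¹ : GL (Fin n) F) : Matrix (Fin n) (Fin n) F)ᵀ)) (P : F[X]) =
      kdim (Matrix.toLin' (h : Matrix (Fin n) (Fin n) F)) (P : F[X]) +
        kdim (Matrix.toLin' (h : Matrix (Fin n) (Fin n) F)) (D.star hmon P : F[X]) := by
  rw [kdim_fromBlocks, kdim_transpose]
  congr 1
  have hinv : h⁻¹ = h ^ (r - 1) := by
    apply inv_eq_of_mul_eq_one_right
    rw [← pow_succ', Nat.sub_add_cancel (by omega), hh]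
  have hφr : (Matrix.toLin' (h : Matrix (Fin n) (Fin n) F)) ^ r = 1 := by
    rw [← Matrix.toLin'_pow, ← Units.val_pow_eq_pow_val, hh, Units.val_one, Matrix.toLin'_one]
    rfl
  rw [hinv, Units.val_pow_eq_pow_val, Matrix.toLin'_pow]
  haveI : Fact (Irreducible P.1) := ⟨D.irr P.1 P.2⟩
  rw [D.star_val]
  exact kdim_pow_pred_eq _ hr hφr (hmon P.1 P.2) (D.dvd_of_mem P.2)

variable [Fintype F]

/-- realisation of half of a star-invariant profile in a general linear group -/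
theorem FactorData.exists_half_realize (D : FactorData F r i PP) (hmon : ∀ P ∈ PP, P.Monic)
    (hr : r.Prime) (hr2 : r ≠ 2) (hodd : Odd i) (n : ℕ) (a : PP → ℕ)
    (hst : ∀ P, a (D.star hmon P) = a P) (ha : i * ∑ P, a P ≤ 2 * n) :
    ∃ h : GL (Fin n) F, h ^ r = 1 ∧ ∀ P : PP,
      kdim (Matrix.toLin' (h : Matrix (Fin n) (Fin n) F)) (P : F[X]) +
        kdim (Matrix.toLin' (h : Matrix (Fin n) (Fin n) F)) (D.star hmon P : F[X]) = i * a P := by
  classical
  have hσ : ∀ P : PP, D.star hmon (D.star hmon P) = P := D.star_star hmon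
  have hne : ∀ P : PP, D.star hmon P ≠ P := D.star_ne hmon hr hr2 hodd
  let b : PP → ℕ := fun P => if enc P < enc (D.star hmon P) then a P else 0
  have hb1 : ∀ P : PP, enc P < enc (D.star hmon P) → b P = a P ∧ b (D.star hmon P) = 0 := by
    intro P hP
    refine ⟨if_pos hP, ?_⟩
    apply if_neg
    rw [hσ]
    omega
  have hsumb : ∑ P, b P = ∑ Q : Transv (D.star hmon), a Q.1 := by
    rw [sum_transv hσ hne b]
    apply Finset.sum_congr rfl
    intro Q _
    rw [(hb1 Q.1 Q.2).1, (hb1 Q.1 Q.2).2, add_zero]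
  have hsuma : ∑ P, a P = 2 * ∑ Q : Transv (D.star hmon), a Q.1 := by
    rw [sum_transv hσ hne a, Finset.mul_sum]
    apply Finset.sum_congr rfl
    intro Q _
    rw [hst]; ring
  have hb : i * ∑ P, b P ≤ n := by
    rw [hsumb]
    rw [hsuma] at ha
    have : i * (2 * ∑ Q : Transv (D.star hmon), a Q.1) =
        2 * (i * ∑ Q : Transv (D.star hmon), a Q.1) := by ring
    omega
  obtain ⟨h, hh, hk⟩ := D.exists_realize hr.pos n b hb
  refine ⟨h, hh, fun P => ?_⟩
  rw [hk P, hk (D.star hmon P)]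
  by_cases hP : enc P < enc (D.star hmon P)
  · rw [(hb1 P hP).1, (hb1 P hP).2, mul_zero, add_zero]
  · have hP' := transv_other hσ hne P hP
    have h2 := hb1 (D.star hmon P) hP'
    rw [hσ] at h2
    rw [h2.1, h2.2, hst, mul_zero, zero_add]

/-- realisation of a star-invariant profile in the orthogonal group of plus type, `i` odd -/
theorem FactorData.exists_orth_realize_plus_odd (D : FactorData F r i PP)
    (hmon : ∀ P ∈ PP, P.Monic) (hr : r.Prime) (hr2 : r ≠ 2) (hodd : Odd i) (m : ℕ) (a : PP → ℕ)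
    (hst : ∀ P, a (D.star hmon P) = a P) (ha : i * ∑ P, a P ≤ 2 * m) :
    ∃ g : ↥(Cfsg.isometryGroup F ⇑(Helper50.QPlus m F)), g ^ r = 1 ∧
      ∀ P : PP, kdim (Matrix.toLin' (omat (Helper50.QPlus m F) g)) (P : F[X]) = i * a P := by
  obtain ⟨h, hh, hk⟩ := D.exists_half_realize hmon hr hr2 hodd m a hst ha
  refine ⟨Helper50.diagPlusO h, ?_, ?_⟩
  · apply omat_injective
    rw [omat_pow, omat_one]
    show (Matrix.fromBlocks (h : Matrix (Fin m) (Fin m) F) 0 0
      ((h⁻¹ : GL (Fin m) F) : Matrix (Fin m) (Fin m) F)ᵀ) ^ r = 1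
    rw [fromBlocks_diag_pow, ← Matrix.transpose_pow, ← Units.val_pow_eq_pow_val,
      ← Units.val_pow_eq_pow_val, inv_pow, hh, inv_one, Units.val_one, Matrix.transpose_one,
      Matrix.fromBlocks_one]
  · intro P
    rw [← hk P, ← D.kdim_diagPlus hmon hr.two_le h hh P]
    rfl

end Half

section MinusBlock

variable {F : Type*} [Field F] {m : ℕ}

theorem quadFormMinus_elim (a c : F) (w : Fin m ⊕ Fin m → F) (z : Fin 2 → F) :
    Cfsg.quadFormMinus m F a c (Sum.elim w z) =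
      Cfsg.quadFormPlus m F w + (z 0 ^ 2 + a * z 0 * z 1 + c * z 1 ^ 2) := rfl

/-- `diag(A, A⁻ᵀ, 1)` in the general linear group -/
def diagMinusGL (A : GL (Fin m) F) : GL ((Fin m ⊕ Fin m) ⊕ Fin 2) F where
  val := Matrix.fromBlocks
    ((Helper50.diagPlusGL A : GL (Fin m ⊕ Fin m) F) : Matrix (Fin m ⊕ Fin m) (Fin m ⊕ Fin m) F)
    0 0 1
  inv := Matrix.fromBlocks
    (((Helper50.diagPlusGL A)⁻¹ : GL (Fin m ⊕ Fin m) F) :
      Matrix (Fin m ⊕ Fin m) (Fin m ⊕ Fin m) F) 0 0 1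
  val_inv := by
    rw [Matrix.fromBlocks_multiply]
    simp [Matrix.fromBlocks_one]
  inv_val := by
    rw [Matrix.fromBlocks_multiply]
    simp [Matrix.fromBlocks_one]

/-- `diag(A, A⁻ᵀ, 1)` as an isometry of the elliptic form -/
def diagMinusO (a c : F) (A : GL (Fin m) F) :
    ↥(Cfsg.isometryGroup F ⇑(Helper50.QMinus m F a c)) :=
  ⟨diagMinusGL A, by
    change diagMinusGL A ∈ Cfsg.isometryGroup F (Cfsg.quadFormMinus m F a c)
    rw [Cfsg.Agent.Lib.Helper19.mem_isometryGroup_iff]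
    intro u
    obtain ⟨u₁, u₂, rfl⟩ : ∃ u₁ u₂, u = Sum.elim u₁ u₂ :=
      ⟨u ∘ Sum.inl, u ∘ Sum.inr, by funext i; cases i <;> rfl⟩
    change Cfsg.quadFormMinus m F a c ((Matrix.fromBlocks _ 0 0 1) *ᵥ (Sum.elim u₁ u₂)) = _
    rw [Matrix.fromBlocks_mulVec]
    simp only [Matrix.zero_mulVec, add_zero, zero_add, Sum.elim_comp_inl, Sum.elim_comp_inr,
      Matrix.one_mulVec]
    rw [quadFormMinus_elim, quadFormMinus_elim]
    congr 1
    exact (Cfsg.Agent.Lib.Helper19.mem_isometryGroup_iff _ _).mp (Helper50.diagPlusO A).2 u₁⟩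

theorem diagMinusO_val (a c : F) (A : GL (Fin m) F) :
    (((diagMinusO a c A : ↥(Cfsg.isometryGroup F ⇑(Helper50.QMinus m F a c))) :
      GL ((Fin m ⊕ Fin m) ⊕ Fin 2) F) :
      Matrix ((Fin m ⊕ Fin m) ⊕ Fin 2) ((Fin m ⊕ Fin m) ⊕ Fin 2) F) =
      Matrix.fromBlocks (Matrix.fromBlocks (A : Matrix (Fin m) (Fin m) F) 0 0
        ((A⁻¹ : GL (Fin m) F) : Matrix (Fin m) (Fin m) F)ᵀ) 0 0 1 := rfl

end MinusBlock

section MinusOdd

variable {F : Type*} [Field F] [Fintype F] {r i : ℕ} {PP : Finset F[X]}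

/-- realisation of a star-invariant profile in the orthogonal group of minus type, `i` odd -/
theorem FactorData.exists_orth_realize_minus_odd (D : FactorData F r i PP)
    (hmon : ∀ P ∈ PP, P.Monic) (hr : r.Prime) (hr2 : r ≠ 2) (hodd : Odd i) (m : ℕ) (a₀ c₀ : F)
    (a : PP → ℕ) (hst : ∀ P, a (D.star hmon P) = a P) (ha : i * ∑ P, a P ≤ 2 * m) :
    ∃ g : ↥(Cfsg.isometryGroup F ⇑(Helper50.QMinus m F a₀ c₀)), g ^ r = 1 ∧
      ∀ P : PP, kdim (Matrix.toLin' (omat (Helper50.QMinus m F a₀ c₀) g)) (P : F[X]) = i * a P := by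
  obtain ⟨h, hh, hk⟩ := D.exists_half_realize hmon hr hr2 hodd m a hst ha
  refine ⟨diagMinusO a₀ c₀ h, ?_, ?_⟩
  · apply omat_injective
    rw [omat_pow, omat_one]
    show (Matrix.fromBlocks (Matrix.fromBlocks (h : Matrix (Fin m) (Fin m) F) 0 0
      ((h⁻¹ : GL (Fin m) F) : Matrix (Fin m) (Fin m) F)ᵀ) 0 0 1) ^ r = 1
    rw [fromBlocks_diag_pow, fromBlocks_diag_pow, ← Matrix.transpose_pow,
      ← Units.val_pow_eq_pow_val,
      ← Units.val_pow_eq_pow_val, inv_pow, hh, inv_one, Units.val_one, Matrix.transpose_one,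
      Matrix.fromBlocks_one, one_pow, Matrix.fromBlocks_one]
  · intro P
    rw [← hk P, ← D.kdim_diagPlus hmon hr.two_le h hh P]
    show kdim (Matrix.toLin' (Matrix.fromBlocks (Matrix.fromBlocks
      (h : Matrix (Fin m) (Fin m) F) 0 0
      ((h⁻¹ : GL (Fin m) F) : Matrix (Fin m) (Fin m) F)ᵀ) 0 0 1)) (P : F[X]) = _
    rw [kdim_fromBlocks, kdim_toLin'_one _ (D.X_sub_one_not_dvd P.2), add_zero]

end MinusOdd

end Cfsg.Agent.Lib.Helper49
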