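import Mathlib
import Cfsg.Prelude.Def_GeometricClasses

set_option autoImplicit false

/-!
# K-SUMax-XB (keystone 581112, architect helper44): `tensor_two_le_decomposition_of_two`

`q = 2`: `GU_2(2) ⊗ GU_{n₂}(2)` stabilises a decomposition into two non-degenerate `n₂`-spaces.
-/

namespace Cfsg.Agent.Lib.Helper49.SUMax

open Cfsg Cfsg.Geo
open scoped Matrix Kronecker MatrixGroups

variable {F : Type*} [Field F]

section Gram

variable {κ : Type}

theorem ufp_add_right (h2 : (2 : F) = 0) {f : (κ → F) → (κ → F) → F} (hf : IsUnitaryFormPow 2 f)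
    (v x y : κ → F) : f v (x + y) = f v x + f v y := by
  rw [hf.herm v (x + y), hf.add_left, hf.herm v x, hf.herm v y]
  linear_combination (f x v * f y v) * h2

theorem ufp_smul_right {f : (κ → F) → (κ → F) → F} (hf : IsUnitaryFormPow 2 f)
    (c : F) (v x : κ → F) : f v (c • x) = c ^ 2 * f v x := by
  rw [hf.herm v (c • x), hf.smul_left, mul_pow, ← hf.herm v x]

theorem ufp_zero_left {f : (κ → F) → (κ → F) → F} (hf : IsUnitaryFormPow 2 f) (v : κ → F) :
    f 0 v = 0 := by
  have h := hf.smul_left 0 0 v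
  rw [zero_smul, zero_mul] at h
  exact h

theorem ufp_zero_right {f : (κ → F) → (κ → F) → F} (hf : IsUnitaryFormPow 2 f) (v : κ → F) :
    f v 0 = 0 := by
  rw [hf.herm v 0, ufp_zero_left hf, zero_pow (by norm_num)]

theorem ufp_eq_formOfGram [Fintype κ] [DecidableEq κ] (h2 : (2 : F) = 0) {f : (κ → F) → (κ → F) → F}
    (hf : IsUnitaryFormPow 2 f) (x y : κ → F) :
    f x y = formOfGram (fun a : F => a ^ 2) (gramMatrix f) x y := by
  classical
  let L : (κ → F) →ₗ[F] F :=
    { toFun := fun x => f x y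
      map_add' := fun a b => hf.add_left a b y
      map_smul' := fun c a => by simpa using hf.smul_left c a y }
  have hx : x = ∑ a, x a • (Pi.single a 1 : κ → F) := by
    ext j
    simp [Finset.sum_apply, Pi.single_apply]
  have h1 : f x y = ∑ a, x a * f (Pi.single a 1) y := by
    change L x = _
    conv_lhs => rw [hx]
    rw [map_sum]
    refine Finset.sum_congr rfl fun a _ => ?_
    rw [map_smul]
    rfl
  have h3 : ∀ a, f (Pi.single a 1) y = ∑ b, gramMatrix f a b * (y b) ^ 2 := by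
    intro a
    let R : (κ → F) →+ F :=
      { toFun := fun y => f (Pi.single a 1) y
        map_zero' := ufp_zero_right hf _
        map_add' := ufp_add_right h2 hf _ }
    have hy : y = ∑ b, y b • (Pi.single b 1 : κ → F) := by
      ext j
      simp [Finset.sum_apply, Pi.single_apply]
    change R y = _
    conv_lhs => rw [hy]
    rw [map_sum]
    refine Finset.sum_congr rfl fun b _ => ?_
    change f _ (y b • _) = _
    rw [ufp_smul_right hf, gramMatrix, mul_comm]
  rw [h1, formOfGram]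
  refine Finset.sum_congr rfl fun a _ => ?_
  rw [h3, Finset.mul_sum]
  refine Finset.sum_congr rfl fun b _ => ?_
  ring

end Gram

section Two

variable [Fintype F]

/-- the canonical orthogonal frame of a unitary plane over the field with four elements -/
theorem exists_frame_two (hF : Fintype.card F = 4) {f : (Fin 2 → F) → (Fin 2 → F) → F}
    (hf : IsUnitaryFormPow 2 f) :
    ∃ U : Fin 2 → (Fin 2 → F), (∀ i, f (U i) (U i) = 1) ∧ (∀ i j, i ≠ j → f (U i) (U j) = 0) ∧
      (∀ v, ∃ a b : F, v = a • U 0 + b • U 1) ∧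
      (∀ v, f v v ≠ 0 → ∃ (j : Fin 2) (c : F), c ≠ 0 ∧ v = c • U j) := by
  classical
  have h2 : (2 : F) = 0 := by
    have h4 : ((Fintype.card F : ℕ) : F) = 0 := Nat.cast_card_eq_zero F
    rw [hF] at h4
    push_cast at h4
    have h5 : (2 : F) * 2 = 0 := by
      calc (2 : F) * 2 = 4 := by norm_num
        _ = 0 := h4
    exact mul_self_eq_zero.1 h5
  have pow3 : ∀ a : F, a ≠ 0 → a ^ 3 = 1 := by
    intro a ha
    have h := FiniteField.pow_card_sub_one_eq_one a ha
    rw [hF] at h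
    exact h
  have idem : ∀ t : F, t ^ 2 = t → t = 0 ∨ t = 1 := by
    intro t ht
    have h : t * (t - 1) = 0 := by linear_combination ht
    rcases mul_eq_zero.1 h with h | h
    · exact Or.inl h
    · exact Or.inr (sub_eq_zero.1 h)
  have hnorm : ∀ v, f v v = 0 ∨ f v v = 1 := fun v => idem _ (hf.herm v v).symm
  have hexc : ∃ c : F, c ≠ 0 ∧ c ≠ 1 := by
    by_contra hcon
    push Not at hcon
    have hsub : (Finset.univ : Finset F) ⊆ {0, 1} := fun c _ => by
      rcases eq_or_ne c 0 with h | h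
      · simp [h]
      · simp [hcon c h]
    have h1 := Finset.card_le_card hsub
    have h3 : ({0, 1} : Finset F).card ≤ 2 := Finset.card_le_two
    rw [Finset.card_univ, hF] at h1
    omega
  -- a non-isotropic vector
  have hex : ∃ u0, f u0 u0 ≠ 0 := by
    by_contra hcon
    push Not at hcon
    have hsym : ∀ v w, f v w + f w v = 0 := by
      intro v w
      have h := hcon (v + w)
      rw [hf.add_left, ufp_add_right h2 hf, ufp_add_right h2 hf, hcon v, hcon w] at h
      linear_combination h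
    have hfix : ∀ v w, (f v w) ^ 2 = f v w := by
      intro v w
      have h1 := hsym v w
      have h3 : f w v = f v w := by
        linear_combination h1 - (f v w) * h2
      rw [← hf.herm w v]
      exact h3
    have he0 : (Pi.single 0 1 : Fin 2 → F) ≠ 0 := by
      intro h
      have := congrFun h 0
      simp at this
    obtain ⟨x, hx⟩ := (hf.nondegenerate (Pi.single 0 1) he0).1
    obtain ⟨c, hc0, hc1⟩ := hexc
    have h5 := hfix (c • x) (Pi.single 0 1)
    rw [hf.smul_left] at h5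
    have ht := hfix x (Pi.single 0 1)
    rcases idem _ ht with h | h
    · exact hx h
    · rw [h, mul_one] at h5
      rcases idem _ h5 with h6 | h6
      · exact hc0 h6
      · exact hc1 h6
  obtain ⟨u0, hu0⟩ := hex
  have hu0' : f u0 u0 = 1 := (hnorm u0).resolve_left hu0
  let φ : (Fin 2 → F) →ₗ[F] F :=
    { toFun := fun x => f x u0
      map_add' := fun a b => hf.add_left a b u0
      map_smul' := fun c a => by simpa using hf.smul_left c a u0 }
  have hker : LinearMap.ker φ ≠ ⊥ :=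
    LinearMap.ker_ne_bot_of_finrank_lt (by rw [Module.finrank_self, Module.finrank_fin_fun]; norm_num)
  obtain ⟨u1, hu1mem, hu1ne⟩ := Submodule.exists_mem_ne_zero_of_ne_bot hker
  have h10 : f u1 u0 = 0 := LinearMap.mem_ker.1 hu1mem
  have h01 : f u0 u1 = 0 := by
    rw [hf.herm, h10]
    norm_num
  have hli : ∀ a b : F, a • u0 + b • u1 = 0 → a = 0 ∧ b = 0 := by
    intro a b hab
    have h : f (a • u0 + b • u1) u0 = f 0 u0 := congrArg (fun x => f x u0) hab
    rw [hf.add_left, hf.smul_left, hf.smul_left, hu0', h10, ufp_zero_left hf, mul_one, mul_zero,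
      add_zero] at h
    rw [h, zero_smul, zero_add] at hab
    exact ⟨h, (smul_eq_zero.1 hab).resolve_right hu1ne⟩
  have hspan : ∀ v : Fin 2 → F, ∃ a b : F, v = a • u0 + b • u1 := by
    have hLI : LinearIndependent F ![u0, u1] := LinearIndependent.pair_iff.2 hli
    have hsp : Submodule.span F (Set.range ![u0, u1]) = ⊤ := by
      apply Submodule.eq_top_of_finrank_eq
      rw [finrank_span_eq_card hLI, Module.finrank_fin_fun, Fintype.card_fin]
    intro v
    have hv : v ∈ Submodule.span F (Set.range ![u0, u1]) := by rw [hsp]; trivial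
    rw [Submodule.mem_span_range_iff_exists_fun] at hv
    obtain ⟨c, hc⟩ := hv
    refine ⟨c 0, c 1, ?_⟩
    rw [← hc, Fin.sum_univ_two]
    rfl
  have hu1 : f u1 u1 ≠ 0 := by
    intro h11
    obtain ⟨x, hx⟩ := (hf.nondegenerate u1 hu1ne).1
    obtain ⟨a, b, rfl⟩ := hspan x
    apply hx
    rw [hf.add_left, hf.smul_left, hf.smul_left, h01, h11, mul_zero, mul_zero, add_zero]
  have hu1' : f u1 u1 = 1 := (hnorm u1).resolve_left hu1
  have hcls : ∀ a b : F, f (a • u0 + b • u1) (a • u0 + b • u1) ≠ 0 → a = 0 ∨ b = 0 := by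
    intro a b hne
    by_contra hcon
    push Not at hcon
    apply hne
    have e1 : f (a • u0 + b • u1) (a • u0 + b • u1)
        = a * a ^ 2 * f u0 u0 + b * b ^ 2 * f u1 u1 := by
      rw [hf.add_left, hf.smul_left, hf.smul_left, ufp_add_right h2 hf, ufp_add_right h2 hf,
        ufp_smul_right hf, ufp_smul_right hf, ufp_smul_right hf, ufp_smul_right hf, h01, h10]
      ring
    have ha3 : a * a ^ 2 = 1 := by
      rw [← pow_succ']
      exact pow3 a hcon.1
    have hb3 : b * b ^ 2 = 1 := by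
      rw [← pow_succ']
      exact pow3 b hcon.2
    rw [e1, hu0', hu1', ha3, hb3]
    linear_combination h2
  refine ⟨![u0, u1], ?_, ?_, ?_, ?_⟩
  · intro i
    fin_cases i
    · exact hu0'
    · exact hu1'
  · intro i j hij
    fin_cases i <;> fin_cases j
    · exact absurd rfl hij
    · exact h01
    · exact h10
    · exact absurd rfl hij
  · intro v
    obtain ⟨a, b, hab⟩ := hspan v
    exact ⟨a, b, hab⟩
  · intro v hv
    obtain ⟨a, b, rfl⟩ := hspan v
    rcases hcls a b hv with h | h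
    · refine ⟨1, b, ?_, ?_⟩
      · rintro rfl
        apply hv
        rw [h, zero_smul, zero_smul, add_zero]
        exact ufp_zero_left hf _
      · rw [h, zero_smul, zero_add]
        rfl
    · refine ⟨0, a, ?_, ?_⟩
      · rintro rfl
        apply hv
        rw [h, zero_smul, zero_smul, add_zero]
        exact ufp_zero_left hf _
      · rw [h, zero_smul, add_zero]
        rfl

end Two

section Tensor

variable {n m : ℕ}

/-- the pure tensor `u ⊗ w` in coordinates -/
def ten (u : Fin 2 → F) (w : Fin m → F) : Fin 2 × Fin m → F := fun ab => u ab.1 * w ab.2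

/-- the coordinate isomorphism `F^(2 × m) → F^n` -/
def emb (e : Fin n ≃ Fin 2 × Fin m) (P : GL (Fin n) F) (x : Fin 2 × Fin m → F) : Fin n → F :=
  (P : Matrix (Fin n) (Fin n) F) *ᵥ (x ∘ e)

theorem ten_add_right (u : Fin 2 → F) (w w' : Fin m → F) :
    ten u (w + w') = ten u w + ten u w' := by
  ext ab
  simp [ten, mul_add]

theorem ten_smul_right (c : F) (u : Fin 2 → F) (w : Fin m → F) :
    ten u (c • w) = c • ten u w := by
  ext ab
  simp [ten]
  ring

theorem ten_smul_left (c : F) (u : Fin 2 → F) (w : Fin m → F) :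
    ten (c • u) w = ten u (c • w) := by
  ext ab
  simp [ten]
  ring

theorem emb_add (e : Fin n ≃ Fin 2 × Fin m) (P : GL (Fin n) F) (x y : Fin 2 × Fin m → F) :
    emb e P (x + y) = emb e P x + emb e P y := by
  unfold emb
  rw [← Matrix.mulVec_add]
  rfl

theorem emb_smul (e : Fin n ≃ Fin 2 × Fin m) (P : GL (Fin n) F) (c : F) (x : Fin 2 × Fin m → F) :
    emb e P (c • x) = c • emb e P x := by
  unfold emb
  rw [← Matrix.mulVec_smul]
  rfl

theorem emb_injective (e : Fin n ≃ Fin 2 × Fin m) (P : GL (Fin n) F) :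
    Function.Injective (emb e P) := by
  intro x y hxy
  unfold emb at hxy
  have h1 : ((P⁻¹ : GL (Fin n) F) : Matrix (Fin n) (Fin n) F) *ᵥ
      ((P : Matrix (Fin n) (Fin n) F) *ᵥ (x ∘ e)) =
      ((P⁻¹ : GL (Fin n) F) : Matrix (Fin n) (Fin n) F) *ᵥ
      ((P : Matrix (Fin n) (Fin n) F) *ᵥ (y ∘ e)) := by rw [hxy]
  rw [Matrix.mulVec_mulVec, Matrix.mulVec_mulVec, ← Units.val_mul, inv_mul_cancel, Units.val_one,
    Matrix.one_mulVec, Matrix.one_mulVec] at h1
  ext ab
  have := congrFun h1 (e.symm ab)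
  simpa using this

theorem emb_surjective (e : Fin n ≃ Fin 2 × Fin m) (P : GL (Fin n) F) :
    Function.Surjective (emb e P) := by
  intro v
  refine ⟨(((P⁻¹ : GL (Fin n) F) : Matrix (Fin n) (Fin n) F) *ᵥ v) ∘ e.symm, ?_⟩
  unfold emb
  have h1 : ((((P⁻¹ : GL (Fin n) F) : Matrix (Fin n) (Fin n) F) *ᵥ v) ∘ e.symm) ∘ e
      = ((P⁻¹ : GL (Fin n) F) : Matrix (Fin n) (Fin n) F) *ᵥ v := by
    ext i
    simp
  rw [h1, Matrix.mulVec_mulVec, ← Units.val_mul, mul_inv_cancel, Units.val_one, Matrix.one_mulVec]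

/-- the embedding `w ↦ P (u ⊗ w)` -/
def T (e : Fin n ≃ Fin 2 × Fin m) (P : GL (Fin n) F) (u : Fin 2 → F) :
    (Fin m → F) →ₗ[F] (Fin n → F) where
  toFun w := emb e P (ten u w)
  map_add' w w' := by rw [ten_add_right, emb_add]
  map_smul' c w := by rw [ten_smul_right, emb_smul]; rfl

theorem T_apply (e : Fin n ≃ Fin 2 × Fin m) (P : GL (Fin n) F) (u : Fin 2 → F) (w : Fin m → F) :
    T e P u w = emb e P (ten u w) := rfl

theorem T_injective (e : Fin n ≃ Fin 2 × Fin m) (P : GL (Fin n) F) (u : Fin 2 → F) (hu : u ≠ 0) :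
    Function.Injective (T e P u) := by
  intro w w' hww
  rw [T_apply, T_apply] at hww
  have h1 := emb_injective e P hww
  obtain ⟨a, ha⟩ : ∃ a, u a ≠ 0 := by
    by_contra hcon
    push Not at hcon
    exact hu (funext hcon)
  ext b
  have h2 := congrFun h1 (a, b)
  simp only [ten] at h2
  exact mul_left_cancel₀ ha h2

theorem T_smul_left (e : Fin n ≃ Fin 2 × Fin m) (P : GL (Fin n) F) (c : F) (u : Fin 2 → F)
    (w : Fin m → F) : T e P (c • u) w = T e P u (c • w) := by
  rw [T_apply, T_apply, ten_smul_left]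

theorem formOfGram_kron (G₁ : Matrix (Fin 2) (Fin 2) F) (G₂ : Matrix (Fin m) (Fin m) F)
    (u u' : Fin 2 → F) (w w' : Fin m → F) :
    formOfGram (fun a : F => a ^ 2) (G₁ ⊗ₖ G₂) (ten u w) (ten u' w') =
      formOfGram (fun a : F => a ^ 2) G₁ u u' * formOfGram (fun a : F => a ^ 2) G₂ w w' := by
  simp only [formOfGram, ten, Fintype.sum_prod_type, Matrix.kronecker_apply]
  rw [Finset.sum_mul_sum]
  refine Finset.sum_congr rfl fun a1 _ => Finset.sum_congr rfl fun a2 _ => ?_
  rw [Finset.sum_mul_sum]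
  refine Finset.sum_congr rfl fun b1 _ => Finset.sum_congr rfl fun b2 _ => ?_
  ring

theorem kron_mulVec_ten (A : Matrix (Fin 2) (Fin 2) F) (B : Matrix (Fin m) (Fin m) F)
    (u : Fin 2 → F) (w : Fin m → F) :
    (A ⊗ₖ B) *ᵥ ten u w = ten (A *ᵥ u) (B *ᵥ w) := by
  ext ⟨a1, a2⟩
  simp only [Matrix.mulVec, dotProduct, ten, Fintype.sum_prod_type, Matrix.kronecker_apply]
  rw [Finset.sum_mul_sum]
  refine Finset.sum_congr rfl fun b1 _ => Finset.sum_congr rfl fun b2 _ => ?_
  ring

theorem submatrix_mulVec_comp (e : Fin n ≃ Fin 2 × Fin m)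
    (M : Matrix (Fin 2 × Fin m) (Fin 2 × Fin m) F) (x : Fin 2 × Fin m → F) :
    (M.submatrix e e) *ᵥ (x ∘ e) = (M *ᵥ x) ∘ e := by
  ext i
  simp only [Matrix.mulVec, dotProduct, Matrix.submatrix_apply, Function.comp_apply]
  exact Equiv.sum_comp e (fun j => M (e i) j * x j)

end Tensor

section Main

variable [Fintype F] {n q : ℕ}

/-- K-SUMax-XB. -/
theorem tensor_two_le_decomposition_of_two (hF : Fintype.card F = q ^ 2) (hq : q = 2) {n₂ : ℕ}
    (hn₂ : 1 ≤ n₂)
    (e : Fin n ≃ Fin 2 × Fin n₂) (P : GL (Fin n) F)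
    (f₁ : (Fin 2 → F) → (Fin 2 → F) → F) (f₂ : (Fin n₂ → F) → (Fin n₂ → F) → F)
    (h₁ : IsUnitaryFormPow q f₁) (h₂ : IsUnitaryFormPow q f₂)
    (hT : IsTensorFormStructure (fun x : F => x ^ q) (hermForm n F q) f₁ f₂ e P) :
    ∃ D : Fin 2 → Submodule F (Fin n → F), IsNondegenerateMDecomposition (hermForm n F q) n₂ D ∧
      tensorProductSubgroup 2 n₂ e P ⊓ GU n F q ≤ decompositionStabilizer D := by
  classical
  subst hq
  have hF4 : Fintype.card F = 4 := by rw [hF]; norm_num
  have h2 : (2 : F) = 0 := by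
    have h4 : ((Fintype.card F : ℕ) : F) = 0 := Nat.cast_card_eq_zero F
    rw [hF4] at h4
    push_cast at h4
    have h5 : (2 : F) * 2 = 0 := by
      calc (2 : F) * 2 = 4 := by norm_num
        _ = 0 := h4
    exact mul_self_eq_zero.1 h5
  obtain ⟨U, hU1, hU0, hUspan, hUcls⟩ := exists_frame_two hF4 h₁
  obtain ⟨c, hc0, hc⟩ := hT
  have h01 : (0 : Fin 2) ≠ 1 := by decide
  have hUne : ∀ i, U i ≠ 0 := by
    intro i h
    have := hU1 i
    rw [h, ufp_zero_left h₁] at this
    exact zero_ne_one this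
  -- values of the form on pure tensors
  have hval : ∀ (u u' : Fin 2 → F) (w w' : Fin n₂ → F),
      hermForm n F 2 (T e P u w) (T e P u' w') = c * (f₁ u u' * f₂ w w') := by
    intro u u' w w'
    rw [T_apply, T_apply]
    have := hc (ten u w) (ten u' w')
    unfold emb
    rw [this, formOfGram_kron, ← ufp_eq_formOfGram h2 h₁, ← ufp_eq_formOfGram h2 h₂]
  -- the decomposition
  refine ⟨fun i => LinearMap.range (T e P (U i)), ⟨⟨le_refl 2, hn₂, ?_, ?_, ?_⟩, ?_, ?_⟩, ?_⟩
  · -- dimensions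
    intro i
    rw [LinearMap.finrank_range_of_inj (T_injective e P (U i) (hUne i)), Module.finrank_fin_fun]
  · -- independence
    rw [iSupIndep_pair h01 (fun k => by fin_cases k <;> simp)]
    rw [Submodule.disjoint_def]
    rintro x ⟨w, rfl⟩ ⟨w', hw'⟩
    have hw0 : w = 0 := by
      by_contra hw
      obtain ⟨y, hy⟩ := (h₂.nondegenerate w hw).1
      apply hy
      have e1 := hval (U 0) (U 0) y w
      have e2 := hval (U 0) (U 1) y w'
      rw [hw'] at e2
      rw [e2, hU0 0 1 h01, zero_mul, mul_zero] at e1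
      rw [hU1 0, one_mul] at e1
      rcases mul_eq_zero.1 e1.symm with h | h
      · exact absurd h hc0
      · exact h
    rw [hw0, map_zero]
  · -- spanning
    rw [eq_top_iff]
    intro v _
    obtain ⟨x, rfl⟩ := emb_surjective e P v
    choose α β hαβ using fun b : Fin n₂ => hUspan (fun a => x (a, b))
    have hx : x = ten (U 0) α + ten (U 1) β := by
      ext ⟨a, b⟩
      have := congrFun (hαβ b) a
      simp only [Pi.add_apply, Pi.smul_apply, smul_eq_mul] at this
      simp only [Pi.add_apply, ten]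
      rw [this]
      ring
    rw [hx, emb_add]
    refine Submodule.add_mem _ ?_ ?_
    · exact Submodule.mem_iSup_of_mem 0 ⟨α, rfl⟩
    · exact Submodule.mem_iSup_of_mem 1 ⟨β, rfl⟩
  · -- nondegenerate
    rintro i d ⟨w, rfl⟩ hd
    have hw : w ≠ 0 := by
      rintro rfl
      exact hd (map_zero _)
    obtain ⟨⟨y, hy⟩, ⟨y', hy'⟩⟩ := h₂.nondegenerate w hw
    refine ⟨⟨T e P (U i) y, ⟨y, rfl⟩, ?_⟩, ⟨T e P (U i) y', ⟨y', rfl⟩, ?_⟩⟩
    · rw [hval, hU1, one_mul]
      exact mul_ne_zero hc0 hy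
    · rw [hval, hU1, one_mul]
      exact mul_ne_zero hc0 hy'
  · -- orthogonal
    rintro i j hij x ⟨w, rfl⟩ y ⟨w', rfl⟩
    rw [hval, hU0 i j hij, zero_mul, mul_zero]
  · -- the stabiliser
    rintro g ⟨hgT, hgU⟩
    obtain ⟨k', hk', hk'g⟩ := hgT
    obtain ⟨k, ⟨A, B, hAB⟩, hkk'⟩ := hk'
    have hk'val : (k' : Matrix (Fin n) (Fin n) F)
        = (k : Matrix (Fin 2 × Fin n₂) (Fin 2 × Fin n₂) F).submatrix e e := by
      rw [← hkk']
      rfl
    have hgval : (g : Matrix (Fin n) (Fin n) F) = (P : Matrix (Fin n) (Fin n) F) *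
        (k' : Matrix (Fin n) (Fin n) F) * ((P⁻¹ : GL (Fin n) F) : Matrix (Fin n) (Fin n) F) := by
      rw [← hk'g]
      rfl
    have hiso : ∀ x y : Fin n → F,
        hermForm n F 2 ((g : Matrix (Fin n) (Fin n) F) *ᵥ x) ((g : Matrix (Fin n) (Fin n) F) *ᵥ y)
          = hermForm n F 2 x y := fun x y => hgU x y
    -- action on pure tensors
    have hact : ∀ (u : Fin 2 → F) (w : Fin n₂ → F),
        (g : Matrix (Fin n) (Fin n) F) *ᵥ T e P u w
          = T e P ((A : Matrix (Fin 2) (Fin 2) F) *ᵥ u) ((B : Matrix (Fin n₂) (Fin n₂) F) *ᵥ w) := by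
      intro u w
      rw [T_apply, T_apply]
      unfold emb
      rw [hgval, Matrix.mulVec_mulVec, mul_assoc, mul_assoc, ← Units.val_mul, inv_mul_cancel,
        Units.val_one, mul_one, ← Matrix.mulVec_mulVec, hk'val, submatrix_mulVec_comp, hAB,
        kron_mulVec_ten]
    -- similarity of `A`
    obtain ⟨w0, hw0⟩ : ∃ w0 : Fin n₂ → F, w0 ≠ 0 := by
      refine ⟨Pi.single ⟨0, hn₂⟩ 1, ?_⟩
      intro h
      have := congrFun h ⟨0, hn₂⟩
      simp at this
    obtain ⟨w1, hw1⟩ := (h₂.nondegenerate w0 hw0).1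
    set lam := f₂ ((B : Matrix (Fin n₂) (Fin n₂) F) *ᵥ w1) ((B : Matrix (Fin n₂) (Fin n₂) F) *ᵥ w0)
      with hlam
    have hsim : ∀ u u' : Fin 2 → F,
        f₁ ((A : Matrix (Fin 2) (Fin 2) F) *ᵥ u) ((A : Matrix (Fin 2) (Fin 2) F) *ᵥ u') * lam
          = f₁ u u' * f₂ w1 w0 := by
      intro u u'
      have h := hiso (T e P u w1) (T e P u' w0)
      rw [hact, hact, hval, hval] at h
      exact mul_left_cancel₀ hc0 h
    have hnon : ∀ i, f₁ ((A : Matrix (Fin 2) (Fin 2) F) *ᵥ U i)
        ((A : Matrix (Fin 2) (Fin 2) F) *ᵥ U i) ≠ 0 := by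
      intro i h
      have := hsim (U i) (U i)
      rw [h, zero_mul, hU1, one_mul] at this
      exact hw1 this.symm
    have hlam0 : lam ≠ 0 := by
      intro h
      have := hsim (U 0) (U 0)
      rw [h, mul_zero, hU1, one_mul] at this
      exact hw1 this.symm
    have himg : ∀ i, ∃ (j : Fin 2) (κ : F), κ ≠ 0 ∧
        (A : Matrix (Fin 2) (Fin 2) F) *ᵥ U i = κ • U j := fun i => hUcls _ (hnon i)
    obtain ⟨j0, κ0, hκ0, hA0⟩ := himg 0
    obtain ⟨j1, κ1, hκ1, hA1⟩ := himg 1
    have hj : j0 ≠ j1 := by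
      intro hjj
      have := hsim (U 0) (U 1)
      rw [hU0 0 1 h01, zero_mul, hA0, hA1, hjj, h₁.smul_left, ufp_smul_right h₁, hU1] at this
      rcases mul_eq_zero.1 this with h | h
      · rcases mul_eq_zero.1 h with h' | h'
        · exact hκ0 h'
        · rw [mul_one] at h'
          exact hκ1 (pow_eq_zero_iff (by norm_num) |>.1 h')
      · exact hlam0 h
    have hσ : ∀ j0 j1 : Fin 2, j0 ≠ j1 → (Equiv.swap 0 j0) 0 = j0 ∧ (Equiv.swap 0 j0) 1 = j1 := by
      decide
    obtain ⟨hσ0, hσ1⟩ := hσ j0 j1 hj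
    have himg' : ∀ i, ∃ κ : F, κ ≠ 0 ∧
        (A : Matrix (Fin 2) (Fin 2) F) *ᵥ U i = κ • U ((Equiv.swap 0 j0) i) := by
      rw [Fin.forall_fin_two]
      exact ⟨⟨κ0, hκ0, by rw [hA0, hσ0]⟩, ⟨κ1, hκ1, by rw [hA1, hσ1]⟩⟩
    refine ⟨Equiv.swap 0 j0, fun i => ?_⟩
    obtain ⟨κ, hκ, hAi⟩ := himg' i
    ext v
    constructor
    · rintro ⟨d, ⟨w, rfl⟩, rfl⟩
      rw [Matrix.toLin'_apply, hact, hAi, T_smul_left]
      exact ⟨_, rfl⟩
    · rintro ⟨w, rfl⟩
      refine ⟨T e P (U i) (((B⁻¹ : GL (Fin n₂) F) : Matrix (Fin n₂) (Fin n₂) F) *ᵥ (κ⁻¹ • w)),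
        ⟨_, rfl⟩, ?_⟩
      rw [Matrix.toLin'_apply, hact, hAi, T_smul_left, Matrix.mulVec_mulVec, ← Units.val_mul,
        mul_inv_cancel, Units.val_one, Matrix.one_mulVec, smul_smul, mul_inv_cancel₀ hκ, one_smul]

end Main

end Cfsg.Agent.Lib.Helper49.SUMax
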