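import Cfsg.Agent.Lib.Helper19.UnitaryDet
import Mathlib

set_option autoImplicit false

/-! # Arithmetic of the norm one group of `F_{q^2}` -/

namespace Cfsg.Agent.Lib.Helper49

open Cfsg.Agent.Lib.Helper19 (normOne mem_normOne card_normOne)

section Arith2

variable {F : Type*} [Field F] [Fintype F] {q : ℕ}

theorem two_ne_zero_of_odd_q (hF : Fintype.card F = q ^ 2) (hq : Odd q) : (2 : F) ≠ 0 := by
  have hodd : Fintype.card F % 2 = 1 := by
    rw [hF]
    exact Nat.odd_iff.mp hq.pow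
  have hc : ringChar F ≠ 2 := by
    intro h
    have := FiniteField.even_card_iff_char_two.mp h
    omega
  exact Ring.two_ne_zero hc

/-- a norm one element whose `n`-th power is `-1`, when `v₂(n) < v₂(q + 1)` -/
theorem exists_normOne_pow_eq_neg_one (hF : Fintype.card F = q ^ 2) (hq : Odd q) (n : ℕ)
    (hn : n ≠ 0) (h : padicValNat 2 n < padicValNat 2 (q + 1)) :
    ∃ l : F, l ^ (q + 1) = 1 ∧ l ^ n = -1 := by
  classical
  have h2F : (2 : F) ≠ 0 := two_ne_zero_of_odd_q hF hq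
  have hq1 : q + 1 ≠ 0 := by omega
  obtain ⟨g₀, hg₀⟩ := IsCyclic.exists_generator (α := normOne F q)
  have hord₀ : orderOf g₀ = q + 1 := by
    rw [orderOf_eq_card_of_forall_mem_zpowers hg₀, card_normOne hF]
  set g : Fˣ := (g₀ : Fˣ) with hg
  have hord : orderOf g = q + 1 := by rw [hg, Subgroup.orderOf_coe, hord₀]
  obtain ⟨a, ha⟩ : ∃ a, a = padicValNat 2 n := ⟨_, rfl⟩
  rw [← ha] at h
  obtain ⟨r, hr⟩ : 2 ^ (a + 1) ∣ q + 1 := (padicValNat_dvd_iff_le hq1).mpr h
  obtain ⟨n', hn'⟩ : 2 ^ a ∣ n := by rw [ha]; exact pow_padicValNat_dvd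
  have hn'odd : Odd n' := by
    rw [← Nat.not_even_iff_odd, even_iff_two_dvd]
    intro h2
    obtain ⟨o', rfl⟩ := h2
    have : 2 ^ (a + 1) ∣ n := ⟨o', by rw [pow_succ, hn']; ring⟩
    have := (padicValNat_dvd_iff_le hn).mp this
    omega
  have hhalf : ((g ^ (2 ^ a * r) : Fˣ) : F) = -1 := by
    have h1 : (g ^ (2 ^ a * r)) ^ 2 = 1 := by
      have e1 : 2 ^ a * r * 2 = orderOf g := by rw [hord, hr, pow_succ]; ring
      rw [← pow_mul, e1]
      exact pow_orderOf_eq_one g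
    have h3 : g ^ (2 ^ a * r) ≠ 1 := by
      intro h4
      have h5 := orderOf_dvd_of_pow_eq_one h4
      rw [hord, hr] at h5
      have hpos : 0 < 2 ^ a * r := by
        rcases Nat.eq_zero_or_pos (2 ^ a * r) with h0 | h0
        · rw [pow_succ, mul_assoc, mul_comm 2, ← mul_assoc, h0] at hr
          omega
        · exact h0
      have := Nat.le_of_dvd hpos h5
      rw [pow_succ] at this
      nlinarith
    have h6 : ((g ^ (2 ^ a * r) : Fˣ) : F) * ((g ^ (2 ^ a * r) : Fˣ) : F) = 1 := by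
      rw [← Units.val_mul, ← pow_two, h1, Units.val_one]
    rcases mul_self_eq_one_iff.mp h6 with h7 | h7
    · exact absurd (Units.ext h7) h3
    · exact h7
  refine ⟨((g ^ r : Fˣ) : F), ?_, ?_⟩
  · rw [← Units.val_pow_eq_pow_val, ← pow_mul, mul_comm, pow_mul, ← hord, pow_orderOf_eq_one,
      one_pow, Units.val_one]
  · rw [hn', pow_mul, ← Units.val_pow_eq_pow_val, ← pow_mul, mul_comm r, hhalf, hn'odd.neg_one_pow]

/-- no norm one element has `n`-th power `-1` when `v₂(q + 1) ≤ v₂(n)` -/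
theorem normOne_pow_ne_neg_one (hF : Fintype.card F = q ^ 2) (hq : Odd q) (n : ℕ) (hn : n ≠ 0)
    (h : padicValNat 2 (q + 1) ≤ padicValNat 2 n) (l : F) (hl : l ^ (q + 1) = 1) : l ^ n ≠ -1 := by
  intro han
  have h2F : (2 : F) ≠ 0 := two_ne_zero_of_odd_q hF hq
  have hq1 : q + 1 ≠ 0 := by omega
  obtain ⟨v, hv⟩ : ∃ v, v = padicValNat 2 (q + 1) := ⟨_, rfl⟩
  rw [← hv] at h
  obtain ⟨r, hr⟩ : 2 ^ v ∣ q + 1 := by rw [hv]; exact pow_padicValNat_dvd
  have hrodd : Odd r := by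
    rw [← Nat.not_even_iff_odd, even_iff_two_dvd]
    intro h2
    obtain ⟨o', rfl⟩ := h2
    have : 2 ^ (v + 1) ∣ q + 1 := ⟨o', by rw [pow_succ, hr]; ring⟩
    have := (padicValNat_dvd_iff_le hq1).mp this
    omega
  obtain ⟨n'', hn''⟩ : 2 ^ v ∣ n := (padicValNat_dvd_iff_le hn).mpr h
  have h1 : l ^ (n * r) = 1 := by
    rw [hn'', mul_assoc, mul_comm n'' r, ← mul_assoc, ← hr, pow_mul, hl, one_pow]
  rw [pow_mul, han, hrodd.neg_one_pow] at h1
  apply h2F
  have : (1 : F) + 1 = 0 := by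
    nth_rewrite 1 [← h1]; simp
  rw [← this]; norm_num

/-- norm one elements are squares in `F_{q^2}`, and the norm of a square root is `±1` -/
theorem exists_sqrt_of_normOne (hF : Fintype.card F = q ^ 2) (hq : Odd q) (z : F)
    (hz : z ^ (q + 1) = 1) : ∃ μ : F, μ ^ 2 = z ∧ (μ ^ (q + 1) = 1 ∨ μ ^ (q + 1) = -1) := by
  have hodd : Fintype.card F % 2 = 1 := by
    rw [hF]
    exact Nat.odd_iff.mp hq.pow
  have hc : ringChar F ≠ 2 := by
    intro h
    have := FiniteField.even_card_iff_char_two.mp h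
    omega
  have hz0 : z ≠ 0 := by
    rintro rfl
    rw [zero_pow (by omega)] at hz
    exact zero_ne_one hz
  obtain ⟨k, hk⟩ := hq
  have hsq : IsSquare z := by
    rw [FiniteField.isSquare_iff hc hz0, hF]
    have e : q ^ 2 / 2 = (q + 1) * k := by
      rw [hk]
      have : (2 * k + 1) ^ 2 = 2 * ((2 * k + 1 + 1) * k) + 1 := by ring
      rw [this]
      omega
    rw [e, pow_mul, hz, one_pow]
  obtain ⟨μ, hμ⟩ := hsq
  refine ⟨μ, by rw [pow_two, hμ], ?_⟩
  have h1 : μ ^ (q + 1) * μ ^ (q + 1) = 1 := by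
    rw [← mul_pow, ← hμ, hz]
  exact mul_self_eq_one_iff.mp h1

/-- the order of `q` modulo an odd prime divisor of `q^(2j+1) + 1` is twice an odd number -/
theorem orderOf_mod_four_of_dvd (q j r : ℕ) [Fact r.Prime] (hodd : Odd r)
    (h : r ∣ q ^ (2 * j + 1) + 1) :
    orderOf (q : ZMod r) % 4 = 2 ∧ orderOf (q : ZMod r) / 2 ≤ 2 * j + 1 := by
  have hr : r.Prime := Fact.out
  set c : ZMod r := (q : ZMod r) with hc
  set i := orderOf c with hi
  have h1 : c ^ (2 * j + 1) = -1 := by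
    have : ((q ^ (2 * j + 1) + 1 : ℕ) : ZMod r) = 0 := (ZMod.natCast_eq_zero_iff _ _).mpr h
    push_cast at this
    exact eq_neg_of_add_eq_zero_left this
  have h2 : c ^ (2 * (2 * j + 1)) = 1 := by
    rw [mul_comm, pow_mul, h1]
    norm_num
  have hdvd : i ∣ 2 * (2 * j + 1) := orderOf_dvd_of_pow_eq_one h2
  have hndvd : ¬ i ∣ 2 * j + 1 := by
    intro h3
    have h4 : c ^ (2 * j + 1) = 1 := orderOf_dvd_iff_pow_eq_one.mp h3
    rw [h1] at h4
    have h5 : ((2 : ℕ) : ZMod r) = 0 := by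
      have : (1 : ZMod r) + 1 = 0 := by
        nth_rewrite 1 [← h4]
        simp
      push_cast
      rw [← this]
      norm_num
    have h6 := (ZMod.natCast_eq_zero_iff _ _).mp h5
    have h7 := (Nat.prime_dvd_prime_iff_eq hr Nat.prime_two).mp h6
    rw [h7] at hodd
    exact absurd hodd (by decide)
  have heven : Even i := by
    by_contra hne
    rw [Nat.not_even_iff_odd] at hne
    have hcop : Nat.Coprime i 2 := Nat.coprime_two_right.mpr hne
    exact hndvd (hcop.dvd_of_dvd_mul_left hdvd)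
  obtain ⟨b, hb⟩ := heven
  have hb2 : i = 2 * b := by rw [hb]; ring
  have hbdvd : b ∣ 2 * j + 1 := by
    rw [hb2] at hdvd
    exact Nat.dvd_of_mul_dvd_mul_left (by norm_num) hdvd
  have hbodd : Odd b := Odd.of_dvd_nat ⟨j, rfl⟩ hbdvd
  have hble : b ≤ 2 * j + 1 := Nat.le_of_dvd (by omega) hbdvd
  obtain ⟨t, ht⟩ := hbodd
  constructor
  · omega
  · omega

end Arith2

end Cfsg.Agent.Lib.Helper49
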