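import Mathlib

set_option autoImplicit false

/-!
# K-S2311-C2 (keystone 2311011), architect helper64

Pure finset algebra: alternating sums over power sets.
-/

namespace Cfsg.Agent.Lib.Helper49.StB

/-- K-C2 (pure finset algebra). -/
theorem alt_sum_collapse {ι W : Type*} [DecidableEq ι] (S : Finset ι) (R : Finset W)
    (DR : W → Finset ι) (hDR : ∀ w ∈ R, DR w ⊆ S) (f : W → ℂ) :
    ∑ J ∈ S.powerset, (-1 : ℂ) ^ J.card * ∑ w ∈ R.filter (fun w => Disjoint J (DR w)), f w =
      ∑ w ∈ R.filter (fun w => DR w = S), f w := by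
  classical
  have key : ∀ w ∈ R, ∑ J ∈ S.powerset, (if Disjoint J (DR w) then (-1 : ℂ) ^ J.card else 0)
      = if DR w = S then 1 else 0 := by
    intro w hw
    rw [← Finset.sum_filter]
    have h1 : S.powerset.filter (fun J => Disjoint J (DR w)) = (S \ DR w).powerset := by
      ext J
      simp only [Finset.mem_filter, Finset.mem_powerset, Finset.subset_sdiff]
    rw [h1]
    have h2 := Finset.sum_powerset_neg_one_pow_card (x := S \ DR w)
    have h3 : ∑ m ∈ (S \ DR w).powerset, (-1 : ℂ) ^ m.card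
        = ((∑ m ∈ (S \ DR w).powerset, (-1 : ℤ) ^ m.card : ℤ) : ℂ) := by
      push_cast
      rfl
    rw [h3, h2]
    have h4 : S \ DR w = ∅ ↔ DR w = S := by
      rw [Finset.sdiff_eq_empty_iff_subset]
      exact ⟨fun h => Finset.Subset.antisymm (hDR w hw) h, fun h => h ▸ Finset.Subset.refl _⟩
    by_cases h : DR w = S
    · rw [if_pos (h4.2 h), if_pos h]
      simp
    · rw [if_neg (fun h' => h (h4.1 h')), if_neg h]
      simp
  calc ∑ J ∈ S.powerset, (-1 : ℂ) ^ J.card * ∑ w ∈ R.filter (fun w => Disjoint J (DR w)), f w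
      = ∑ J ∈ S.powerset, ∑ w ∈ R,
          (if Disjoint J (DR w) then (-1 : ℂ) ^ J.card else 0) * f w := by
        refine Finset.sum_congr rfl fun J _ => ?_
        rw [Finset.mul_sum, Finset.sum_filter]
        refine Finset.sum_congr rfl fun w _ => ?_
        split_ifs <;> simp
    _ = ∑ w ∈ R, (∑ J ∈ S.powerset,
          (if Disjoint J (DR w) then (-1 : ℂ) ^ J.card else 0)) * f w := by
        rw [Finset.sum_comm]
        refine Finset.sum_congr rfl fun w _ => ?_
        rw [Finset.sum_mul]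
    _ = ∑ w ∈ R, (if DR w = S then 1 else 0) * f w := by
        refine Finset.sum_congr rfl fun w hw => ?_
        rw [key w hw]
    _ = ∑ w ∈ R.filter (fun w => DR w = S), f w := by
        rw [Finset.sum_filter]
        refine Finset.sum_congr rfl fun w _ => ?_
        split_ifs <;> simp

/-- K-C2, two-sided version. -/
theorem alt_sum_collapse₂ {ι W : Type*} [DecidableEq ι] (S : Finset ι) (R : Finset W)
    (DL DR : W → Finset ι) (hDL : ∀ w ∈ R, DL w ⊆ S) (hDR : ∀ w ∈ R, DR w ⊆ S) :
    ∑ J ∈ S.powerset, ∑ K ∈ S.powerset, (-1 : ℂ) ^ J.card * (-1 : ℂ) ^ K.card *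
        ((R.filter (fun w => Disjoint J (DL w) ∧ Disjoint K (DR w))).card : ℂ) =
      ((R.filter (fun w => DL w = S ∧ DR w = S)).card : ℂ) := by
  classical
  have hcard : ∀ s : Finset W, ((s.card : ℂ)) = ∑ _w ∈ s, (1 : ℂ) := by
    intro s
    simp
  calc ∑ J ∈ S.powerset, ∑ K ∈ S.powerset, (-1 : ℂ) ^ J.card * (-1 : ℂ) ^ K.card *
        ((R.filter (fun w => Disjoint J (DL w) ∧ Disjoint K (DR w))).card : ℂ)
      = ∑ J ∈ S.powerset, (-1 : ℂ) ^ J.card * ∑ K ∈ S.powerset, (-1 : ℂ) ^ K.card *
          ∑ _w ∈ (R.filter (fun w => Disjoint J (DL w))).filter (fun w => Disjoint K (DR w)),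
            (1 : ℂ) := by
        refine Finset.sum_congr rfl fun J _ => ?_
        rw [Finset.mul_sum]
        refine Finset.sum_congr rfl fun K _ => ?_
        rw [hcard, Finset.filter_filter, mul_assoc]
    _ = ∑ J ∈ S.powerset, (-1 : ℂ) ^ J.card *
          ∑ _w ∈ (R.filter (fun w => Disjoint J (DL w))).filter (fun w => DR w = S), (1 : ℂ) := by
        refine Finset.sum_congr rfl fun J _ => ?_
        rw [alt_sum_collapse S _ DR (fun w hw => hDR w (Finset.mem_filter.1 hw).1) (fun _ => 1)]
    _ = ∑ J ∈ S.powerset, (-1 : ℂ) ^ J.card *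
          ∑ _w ∈ (R.filter (fun w => DR w = S)).filter (fun w => Disjoint J (DL w)), (1 : ℂ) := by
        refine Finset.sum_congr rfl fun J _ => ?_
        rw [Finset.filter_comm]
    _ = ∑ _w ∈ (R.filter (fun w => DR w = S)).filter (fun w => DL w = S), (1 : ℂ) := by
        rw [alt_sum_collapse S _ DL (fun w hw => hDL w (Finset.mem_filter.1 hw).1) (fun _ => 1)]
    _ = ((R.filter (fun w => DL w = S ∧ DR w = S)).card : ℂ) := by
        rw [hcard]
        refine Finset.sum_congr ?_ (fun _ _ => rfl)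
        ext w
        simp only [Finset.mem_filter]
        tauto

end Cfsg.Agent.Lib.Helper49.StB
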