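import Cfsg.Agent.Lib.Helper64.StBMain
import Cfsg.Agent.Lib.Helper83.Quotient
import Cfsg.Agent.Lib.Helper82.DefectZero
import Cfsg.Agent.Lib.Helper56.StSpA1
import Cfsg.Agent.Lib.Helper52.StSpA2
import Cfsg.Agent.Lib.Helper85.StSpA3

/-!
# The Steinberg character of `G / Z(G)` for a finite group with a (B,N)-pair in characteristic `p`

Generic endgame shared by the K-StSp pack (S2545) and its twins.
-/

set_option autoImplicit false
set_option linter.unusedSectionVars false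

namespace Cfsg.Agent.Lib.Helper49.StGeneric

open Cfsg Cfsg.Agent.Lib.Helper64.StB

theorem fpc_one' {G : Type*} [Group G] (K : Subgroup G) :
    Cfsg.fixedPointCharacter K 1 = (K.index : ℂ) := by
  unfold Cfsg.fixedPointCharacter
  rw [MulAction.fixedBy_one_eq_univ, Subgroup.index]
  congr 1
  exact Nat.card_congr (Equiv.Set.univ _)

/-- the value of the Steinberg character at `1` -/
theorem stChar_one {G : Type*} [Group G] [Finite G] (P : Cfsg.BNPair G) (w₀ : G)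
    (hw₀ : w₀ ∈ P.N) (hT : ∀ b ∈ P.B, w₀⁻¹ * b * w₀ ∈ P.B → b ∈ P.N) :
    stChar P 1 = (((P.B ⊓ P.N).relIndex P.B : ℕ) : ℂ) := by
  have key := stChar_apply_of_mem_B P hw₀ hT 1
  rw [fpc_one'] at key
  exact key

/-- **Generic endgame**: a finite group with a (B,N)-pair such that `|B : B ∩ N|` is a power of `p`,
`B ∩ N` is a `p'`-group containing the centre, and some `w₀ ∈ N` has `B ∩ w₀ B w₀⁻¹ ⊆ N`:
then `G / Z(G)` has an irreducible character of degree the order of a Sylow `p`-subgroup, vanishing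
on the non-identity elements of every Sylow `p`-subgroup. -/
theorem exists_steinberg {G : Type*} [Group G] [Finite G] (P : Cfsg.BNPair G) (p : ℕ)
    [Fact p.Prime] (w₀ : G) (hw₀ : w₀ ∈ P.N)
    (hT : ∀ b ∈ P.B, w₀⁻¹ * b * w₀ ∈ P.B → b ∈ P.N) (a : ℕ)
    (ha : (P.B ⊓ P.N).relIndex P.B = p ^ a) (hTp : ¬ p ∣ Nat.card ↥(P.B ⊓ P.N))
    (hZ : Subgroup.center G ≤ P.B ⊓ P.N) :
    ∃ χ : G ⧸ Subgroup.center G → ℂ, Cfsg.IsIrrCharacter (G ⧸ Subgroup.center G) χ ∧
      ∀ Q : Sylow p (G ⧸ Subgroup.center G), χ 1 = Nat.card Q ∧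
        ∀ x : G ⧸ Subgroup.center G, x ∈ Q → x ≠ 1 → χ x = 0 := by
  classical
  have : Fintype (G ⧸ Subgroup.center G) := Fintype.ofFinite _
  have hp : p.Prime := Fact.out
  have hirr := stChar_isIrr P
  obtain ⟨ψ, hψ, hψχ⟩ := Lib.Helper83.exists_isIrrCharacter_quotient
    (Subgroup.center G) hirr
    (fun z hz => Cfsg.Agent.Lib.Helper52.StSp.stChar_center P z hz (hZ hz).1)
  have hψ1 : ψ 1 = ((p ^ a : ℕ) : ℂ) := by
    have := hψχ 1
    rw [stChar_one P w₀ hw₀ hT, ha] at this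
    exact this
  have hidx : ¬ p ∣ P.B.index :=
    Cfsg.Agent.Lib.Helper56.StSp.not_dvd_index_B P p ⟨a, ha⟩
  have hpow : (Nat.card (G ⧸ Subgroup.center G)).factorization p = a :=
    Cfsg.Agent.Lib.Helper85.StSp.factorization_card_quotient p P.B (P.B ⊓ P.N) inf_le_left hZ hidx
      hTp a ha
  refine ⟨ψ, hψ, ?_⟩
  intro Q
  have hcardQ : Nat.card Q = p ^ a := by
    rw [Sylow.card_eq_multiplicity, hpow]
  refine ⟨by rw [hψ1, hcardQ], ?_⟩
  intro x hx hx1
  obtain ⟨M, hM⟩ := Lib.Helper82.exists_isPModular p hp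
  have hdeg : Cfsg.charDegree ψ = p ^ a := by
    unfold Cfsg.charDegree
    rw [hψ1, Complex.natCast_re, Nat.floor_natCast]
  have hnd : ¬ p ∣ Nat.card (G ⧸ Subgroup.center G) / Cfsg.charDegree ψ := by
    rw [hdeg, ← hpow]
    exact Nat.not_dvd_ordCompl hp Nat.card_pos.ne'
  have hblock := Lib.Helper82.blockOf_eq_singleton_of_not_dvd hM ⟨ψ, hψ⟩ hnd
  have hox : p ∣ orderOf x := by
    obtain ⟨k, hk⟩ := (IsPGroup.iff_orderOf.mp Q.isPGroup') ⟨x, hx⟩
    rw [Subgroup.orderOf_mk] at hk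
    rw [hk]
    apply dvd_pow_self
    rintro rfl
    rw [pow_zero, orderOf_eq_one_iff] at hk
    exact hx1 hk
  exact Lib.Helper82.eq_zero_of_blockOf_eq_singleton hM ⟨ψ, hψ⟩ hblock x hox

end Cfsg.Agent.Lib.Helper49.StGeneric
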