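import Mathlib

set_option autoImplicit false

namespace Cfsg.Agent.Lib.Helper49

/-- Weinstein–Aronszajn identity for linear maps between finite-dimensional spaces -/
theorem det_one_add_comp {K V W : Type*} [Field K] [AddCommGroup V] [Module K V]
    [AddCommGroup W] [Module K W] [FiniteDimensional K V] [FiniteDimensional K W]
    (f : W →ₗ[K] V) (g : V →ₗ[K] W) :
    LinearMap.det (LinearMap.id + f ∘ₗ g) = LinearMap.det (LinearMap.id + g ∘ₗ f) := by
  classical
  let bV := Module.finBasis K V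
  let bW := Module.finBasis K W
  rw [← LinearMap.det_toMatrix bV, ← LinearMap.det_toMatrix bW]
  rw [map_add, map_add, LinearMap.toMatrix_id, LinearMap.toMatrix_id,
    LinearMap.toMatrix_comp bV bW bV, LinearMap.toMatrix_comp bW bV bW]
  exact Matrix.det_one_add_mul_comm _ _

open Polynomial DirectSum

section

variable {F : Type*} [Field F] [Finite F]

theorem exists_equiv_det {M : Type*} [AddCommGroup M] [Module F M] [Module F[X] M]
    [IsScalarTower F F[X] M] [Module.Finite F[X] M] [Module.Finite F M] [Nontrivial M]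
    (hM : Module.IsTorsion F[X] M) (s : F[X]) (hs : Squarefree s) (hsM : ∀ m : M, s • m = 0)
    (δ : F) (hδ : δ ≠ 0) :
    ∃ T : M ≃ₗ[F[X]] M, LinearMap.det ((T : M →ₗ[F[X]] M).restrictScalars F) = δ := by
  classical
  obtain ⟨ι, _, p, hp, e, ⟨E⟩⟩ := Module.equiv_directSum_of_isTorsion hM
  -- a nontrivial summand
  obtain ⟨m₀, hm₀⟩ := exists_ne (0 : M)
  have hEm : E m₀ ≠ 0 := fun h => hm₀ (E.map_eq_zero_iff.mp h)
  obtain ⟨i₀, hi₀⟩ : ∃ i, (E m₀) i ≠ 0 := by
    by_contra hcon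
    push Not at hcon
    apply hEm
    ext i
    rw [hcon i]; rfl
  -- s kills the summand
  have hsQ : ∀ y : F[X] ⧸ F[X] ∙ p i₀ ^ e i₀, s • y = 0 := by
    intro y
    have h1 : s • (DirectSum.lof F[X] ι (fun i => F[X] ⧸ F[X] ∙ p i ^ e i) i₀ y) = 0 := by
      have := hsM (E.symm (DirectSum.lof F[X] ι (fun i => F[X] ⧸ F[X] ∙ p i ^ e i) i₀ y))
      have h2 := congrArg E this
      rwa [map_smul, LinearEquiv.apply_symm_apply, map_zero] at h2
    rw [← map_smul] at h1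
    have h3 := congrArg (DirectSum.component F[X] ι (fun i => F[X] ⧸ F[X] ∙ p i ^ e i) i₀) h1
    rwa [DirectSum.component.lof_self, map_zero] at h3
  have hdvd : p i₀ ^ e i₀ ∣ s := by
    have := hsQ (Submodule.Quotient.mk 1)
    rw [← Submodule.Quotient.mk_smul, smul_eq_mul, mul_one, Submodule.Quotient.mk_eq_zero,
      Submodule.mem_span_singleton] at this
    obtain ⟨a, ha⟩ := this
    exact ⟨a, by rw [← ha, smul_eq_mul, mul_comm]⟩
  have he1 : e i₀ = 1 := by
    have hne0 : e i₀ ≠ 0 := by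
      intro h0
      apply hi₀
      obtain ⟨b, hb⟩ := Submodule.Quotient.mk_surjective _ ((E m₀) i₀)
      rw [← hb, Submodule.Quotient.mk_eq_zero, h0, pow_zero, Submodule.mem_span_singleton]
      exact ⟨b, by rw [smul_eq_mul, mul_one]⟩
    have hlt : e i₀ < 2 := by
      by_contra hge
      push Not at hge
      have h2 : p i₀ * p i₀ ∣ s := by
        refine dvd_trans ?_ hdvd
        rw [← pow_two]
        exact pow_dvd_pow _ hge
      exact (hp i₀).not_isUnit (hs _ h2)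
    omega
  set P : F[X] := p i₀ with hPdef
  haveI : Fact (Irreducible P) := ⟨hp i₀⟩
  have hspan : (F[X] ∙ p i₀ ^ e i₀) = (F[X] ∙ P) := by rw [he1, pow_one]
  let ψ : (F[X] ⧸ F[X] ∙ p i₀ ^ e i₀) ≃ₗ[F[X]] (F[X] ⧸ F[X] ∙ P) :=
    Submodule.quotEquivOfEq _ _ hspan
  -- the field
  haveI : Module.Finite F (AdjoinRoot P) := (AdjoinRoot.powerBasis (hp i₀).ne_zero).finite
  haveI : Finite (AdjoinRoot P) := Module.finite_of_finite F
  obtain ⟨k, hk⟩ := FiniteField.norm_surjective (K := F) (K' := AdjoinRoot P) δ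
  obtain ⟨f, rfl⟩ := AdjoinRoot.mk_surjective k
  have hk0 : AdjoinRoot.mk P f ≠ 0 := by
    intro h0
    rw [h0, Algebra.norm_zero] at hk
    exact hδ hk.symm
  obtain ⟨f', hf'⟩ := AdjoinRoot.mk_surjective (AdjoinRoot.mk P f)⁻¹
  have hff' : P ∣ f * f' - 1 := by
    rw [← AdjoinRoot.mk_eq_mk, map_mul, hf', mul_inv_cancel₀ hk0, map_one]
  have hf'f : P ∣ f' * f - 1 := by rwa [mul_comm]
  -- the maps S_a
  let Q : ι → Type _ := fun i => F[X] ⧸ F[X] ∙ p i ^ e i
  let lo : Q i₀ →ₗ[F[X]] (⨁ i, Q i) := DirectSum.lof F[X] ι Q i₀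
  let co : (⨁ i, Q i) →ₗ[F[X]] Q i₀ := DirectSum.component F[X] ι Q i₀
  have hcolo : ∀ y, co (lo y) = y := fun y => DirectSum.component.lof_self _ _ _
  let S : F[X] → ((⨁ i, Q i) →ₗ[F[X]] (⨁ i, Q i)) := fun a =>
    LinearMap.id + lo ∘ₗ ((a - 1) • co)
  have hS : ∀ a n, S a n = n + lo ((a - 1) • co n) := fun a n => rfl
  have hSmul : ∀ a b n, S a (S b n) = S (a * b) n := by
    intro a b n
    rw [hS, hS, hS, map_add, hcolo, add_assoc, ← map_add]
    congr 2
    rw [smul_add, smul_smul, ← add_smul, ← add_smul]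
    congr 1
    ring
  have hkill : ∀ (c : F[X]) (y : Q i₀), P ∣ c - 1 → (c - 1) • y = 0 := by
    intro c y hc
    obtain ⟨b, rfl⟩ := Submodule.Quotient.mk_surjective _ y
    rw [← Submodule.Quotient.mk_smul, Submodule.Quotient.mk_eq_zero, hspan,
      Submodule.mem_span_singleton]
    obtain ⟨d, hd⟩ := hc
    exact ⟨d * b, by rw [smul_eq_mul, smul_eq_mul, hd]; ring⟩
  have hSone : ∀ c, P ∣ c - 1 → ∀ n, S c n = n := by
    intro c hc n
    rw [hS, hkill c _ hc, map_zero, add_zero]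
  let TN : (⨁ i, Q i) ≃ₗ[F[X]] (⨁ i, Q i) :=
    LinearEquiv.ofLinearMap (S f) (S f')
      (LinearMap.ext fun n => by
        rw [LinearMap.comp_apply, hSmul, hSone _ hff']; rfl)
      (LinearMap.ext fun n => by
        rw [LinearMap.comp_apply, hSmul, hSone _ hf'f]; rfl)
  refine ⟨E.trans (TN.trans E.symm), ?_⟩
  -- determinant computation
  let ψF : Q i₀ ≃ₗ[F] (F[X] ⧸ F[X] ∙ P) := ψ.restrictScalars F
  haveI : Module.Finite F (F[X] ⧸ F[X] ∙ P) :=
    (inferInstance : Module.Finite F (AdjoinRoot P))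
  haveI : Module.Finite F (Q i₀) := Module.Finite.equiv ψF.symm
  let mu : ∀ (Y : Type _) [AddCommGroup Y] [Module F[X] Y] [Module F Y] [IsScalarTower F F[X] Y],
      F[X] → (Y →ₗ[F] Y) := fun Y _ _ _ _ a => (LinearMap.lsmul F[X] Y a).restrictScalars F
  let io : Q i₀ →ₗ[F[X]] M := (E.symm : (⨁ i, Q i) →ₗ[F[X]] M) ∘ₗ lo
  let nu : M →ₗ[F[X]] Q i₀ := ((f - 1) • co) ∘ₗ (E : M →ₗ[F[X]] (⨁ i, Q i))
  have h1 : ((E.trans (TN.trans E.symm) : M ≃ₗ[F[X]] M) : M →ₗ[F[X]] M).restrictScalars F =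
      LinearMap.id + (io.restrictScalars F) ∘ₗ (nu.restrictScalars F) := by
    apply LinearMap.ext
    intro m
    change E.symm (S f (E m)) = m + E.symm (lo ((f - 1) • co (E m)))
    rw [hS, map_add, LinearEquiv.symm_apply_apply]
  rw [h1, det_one_add_comp]
  have h3 : LinearMap.id + (nu.restrictScalars F) ∘ₗ (io.restrictScalars F) = mu (Q i₀) f := by
    apply LinearMap.ext
    intro y
    change y + (f - 1) • co (E (E.symm (lo y))) = f • y
    rw [LinearEquiv.apply_symm_apply, hcolo, sub_smul, one_smul]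
    abel
  rw [h3]
  have h4 : mu (Q i₀) f = (ψF.symm : (F[X] ⧸ F[X] ∙ P) →ₗ[F] Q i₀) ∘ₗ
      (mu (F[X] ⧸ F[X] ∙ P) f) ∘ₗ ((ψF.symm).symm : Q i₀ →ₗ[F] (F[X] ⧸ F[X] ∙ P)) := by
    apply LinearMap.ext
    intro y
    change f • y = ψ.symm (f • ψ y)
    rw [← map_smul, LinearEquiv.symm_apply_apply]
  rw [h4]
  have hc2 := LinearMap.det_conj (mu (F[X] ⧸ F[X] ∙ P) f) ψF.symm
  rw [hc2]
  have h5 : (show (AdjoinRoot P) →ₗ[F] (AdjoinRoot P) from mu (F[X] ⧸ F[X] ∙ P) f) =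
      Algebra.lmul F (AdjoinRoot P) (AdjoinRoot.mk P f) := by
    apply LinearMap.ext
    intro a
    obtain ⟨b, rfl⟩ := AdjoinRoot.mk_surjective a
    rfl
  rw [← hk, Algebra.norm_apply, ← h5]
  rfl

end

end Cfsg.Agent.Lib.Helper49
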