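import Mathlib
import Cfsg.Agent.Lib.Helper49.PresAlt

set_option autoImplicit false

namespace Cfsg.Agent.Lib.Helper49

open Matrix Module

section PQ

variable {F : Type*} [Field F]

/-- the matrix `U` preserves some quadratic form with nondegenerate polar form -/
def PresQuad {I : Type*} [Fintype I] [DecidableEq I] (U : Matrix I I F) : Prop :=
  ∃ Q : QuadraticForm F (I → F), (QuadraticMap.polarBilin Q).Nondegenerate ∧
    ∀ x, Q (U *ᵥ x) = Q x

variable {I I' : Type*} [Fintype I] [DecidableEq I] [Fintype I'] [DecidableEq I']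

theorem polar_apply_eq {V : Type*} [AddCommGroup V] [Module F V] (Q : QuadraticForm F V) (x y : V) :
    QuadraticMap.polarBilin Q x y = Q (x + y) - Q x - Q y := rfl

theorem PresQuad.polar_inv {U : Matrix I I F} (Q : QuadraticForm F (I → F))
    (h : ∀ x, Q (U *ᵥ x) = Q x) (x y : I → F) :
    QuadraticMap.polarBilin Q (U *ᵥ x) (U *ᵥ y) = QuadraticMap.polarBilin Q x y := by
  rw [polar_apply_eq, polar_apply_eq, ← Matrix.mulVec_add, h, h, h]

theorem PresQuad.transport {U : Matrix I I F} {U' : Matrix I' I' F}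
    (φ : (I → F) ≃ₗ[F] (I' → F)) (h : ∀ x, φ (U *ᵥ x) = U' *ᵥ φ x) (hU : PresQuad U) :
    PresQuad U' := by
  obtain ⟨Q, hN, hinv⟩ := hU
  refine ⟨Q.comp (φ.symm : (I' → F) →ₗ[F] (I → F)), ?_, ?_⟩
  · apply LinearMap.BilinForm.Nondegenerate.ofSeparatingLeft
    intro x hx
    have h1 : φ.symm x = 0 := by
      apply hN.1
      intro y
      have := hx (φ y)
      rw [polar_apply_eq] at this ⊢
      simp only [QuadraticMap.comp_apply, LinearEquiv.coe_coe, map_add,
        LinearEquiv.symm_apply_apply] at this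
      exact this
    simpa using h1
  · intro x
    have hs : ∀ z, φ.symm (U' *ᵥ z) = U *ᵥ φ.symm z := by
      intro z
      apply φ.injective
      rw [h, φ.apply_symm_apply, φ.apply_symm_apply]
    rw [QuadraticMap.comp_apply, QuadraticMap.comp_apply]
    show Q (φ.symm (U' *ᵥ x)) = Q (φ.symm x)
    rw [hs, hinv]

theorem PresQuad.reindex {U : Matrix I I F} (σ : I ≃ I') (hU : PresQuad U) :
    PresQuad (Matrix.reindex σ σ U) := by
  apply PresQuad.transport (LinearEquiv.funCongrLeft F F σ.symm) _ hU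
  intro x
  rw [Matrix.reindex_apply, Matrix.submatrix_mulVec_equiv]
  funext i
  simp [LinearEquiv.funCongrLeft_apply, LinearMap.funLeft_apply, Function.comp_def]

theorem PresQuad.conj {U U' : Matrix I I F} (G Ginv : Matrix I I F) (h1 : G * Ginv = 1)
    (h2 : Ginv * G = 1) (h : G * U = U' * G) (hU : PresQuad U) : PresQuad U' := by
  apply PresQuad.transport (Matrix.toLin'OfInv h2 h1) _ hU
  intro x
  show Matrix.toLin' G (U *ᵥ x) = U' *ᵥ Matrix.toLin' G x
  rw [Matrix.toLin'_apply, Matrix.toLin'_apply,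
    Matrix.mulVec_mulVec, Matrix.mulVec_mulVec, h]

/-- quadratic form `x ↦ xᵀ M₀ x` -/
theorem PresQuad.of_matrix {U : Matrix I I F} (M₀ : Matrix I I F) (hdet : (M₀ + M₀ᵀ).det ≠ 0)
    (hU : ∀ x, (U *ᵥ x) ⬝ᵥ M₀ *ᵥ (U *ᵥ x) = x ⬝ᵥ M₀ *ᵥ x) : PresQuad U := by
  refine ⟨(Matrix.toBilin' M₀).toQuadraticMap, ?_, ?_⟩
  · rw [LinearMap.BilinMap.polarBilin_toQuadraticMap]
    have : Matrix.toBilin' M₀ + LinearMap.flip (Matrix.toBilin' M₀) = Matrix.toBilin' (M₀ + M₀ᵀ) := by
      apply LinearMap.ext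
      intro x
      apply LinearMap.ext
      intro y
      rw [LinearMap.add_apply, LinearMap.add_apply, LinearMap.flip_apply, Matrix.toBilin'_apply',
        Matrix.toBilin'_apply', Matrix.toBilin'_apply', Matrix.add_mulVec, dotProduct_add,
        Matrix.mulVec_transpose, Matrix.dotProduct_mulVec y, dotProduct_comm (y ᵥ* M₀)]
    rw [this]
    exact LinearMap.BilinForm.nondegenerate_toBilin'_of_det_ne_zero' _ hdet
  · intro x
    rw [LinearMap.BilinMap.toQuadraticMap_apply, LinearMap.BilinMap.toQuadraticMap_apply,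
      Matrix.toBilin'_apply', Matrix.toBilin'_apply']
    exact hU x

theorem PresQuad.of_matrix' {U : Matrix I I F} (M₀ : Matrix I I F) (hdet : (M₀ + M₀ᵀ).det ≠ 0)
    (hU : Uᵀ * M₀ * U = M₀) : PresQuad U := by
  apply PresQuad.of_matrix M₀ hdet
  intro x
  conv_rhs => rw [← hU]
  rw [← Matrix.mulVec_mulVec, ← Matrix.mulVec_mulVec, Matrix.dotProduct_mulVec x Uᵀ,
    Matrix.vecMul_transpose]

theorem PresQuad.sum {I₁ I₂ : Type*} [Fintype I₁] [DecidableEq I₁] [Fintype I₂] [DecidableEq I₂]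
    {U₁ : Matrix I₁ I₁ F} {U₂ : Matrix I₂ I₂ F} (h1 : PresQuad U₁) (h2 : PresQuad U₂) :
    PresQuad (Matrix.fromBlocks U₁ 0 0 U₂) := by
  obtain ⟨Q₁, hN₁, hinv₁⟩ := h1
  obtain ⟨Q₂, hN₂, hinv₂⟩ := h2
  let l : (I₁ ⊕ I₂ → F) →ₗ[F] (I₁ → F) := LinearMap.funLeft F F Sum.inl
  let r : (I₁ ⊕ I₂ → F) →ₗ[F] (I₂ → F) := LinearMap.funLeft F F Sum.inr
  have hl : ∀ x, l x = x ∘ Sum.inl := fun x => rfl
  have hr : ∀ x, r x = x ∘ Sum.inr := fun x => rfl
  have hQ : ∀ x, (Q₁.comp l + Q₂.comp r) x = Q₁ (l x) + Q₂ (r x) := fun x => rfl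
  have hB : ∀ x y, QuadraticMap.polarBilin (Q₁.comp l + Q₂.comp r) x y =
      QuadraticMap.polarBilin Q₁ (l x) (l y) + QuadraticMap.polarBilin Q₂ (r x) (r y) := by
    intro x y
    rw [polar_apply_eq, polar_apply_eq, polar_apply_eq, hQ, hQ, hQ, map_add l, map_add r]
    ring
  refine ⟨Q₁.comp l + Q₂.comp r, ?_, ?_⟩
  · apply LinearMap.BilinForm.Nondegenerate.ofSeparatingLeft
    intro x hx
    have e1 : l x = 0 := by
      apply hN₁.1
      intro y
      have := hx (Sum.elim y 0)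
      rw [hB] at this
      have e : r (Sum.elim y (0 : I₂ → F)) = 0 := by
        funext i; rfl
      have e' : l (Sum.elim y (0 : I₂ → F)) = y := by
        funext i; rfl
      rw [e, e', map_zero, add_zero] at this
      exact this
    have e2 : r x = 0 := by
      apply hN₂.1
      intro y
      have := hx (Sum.elim 0 y)
      rw [hB] at this
      have e : l (Sum.elim (0 : I₁ → F) y) = 0 := by
        funext i; rfl
      have e' : r (Sum.elim (0 : I₁ → F) y) = y := by
        funext i; rfl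
      rw [e, e', map_zero, zero_add] at this
      exact this
    funext i
    cases i with
    | inl i => exact congrFun e1 i
    | inr i => exact congrFun e2 i
  · intro x
    have hlU : ∀ z, l (Matrix.fromBlocks U₁ 0 0 U₂ *ᵥ z) = U₁ *ᵥ l z := by
      intro z
      rw [Matrix.fromBlocks_mulVec, hl, hl]
      funext i
      simp
    have hrU : ∀ z, r (Matrix.fromBlocks U₁ 0 0 U₂ *ᵥ z) = U₂ *ᵥ r z := by
      intro z
      rw [Matrix.fromBlocks_mulVec, hr, hr]
      funext i
      simp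
    rw [hQ, hQ, hlU, hrU, hinv₁, hinv₂]

theorem PresQuad.hyp {I₁ I₂ : Type*} [Fintype I₁] [DecidableEq I₁] [Fintype I₂] [DecidableEq I₂]
    {U₁ : Matrix I₁ I₁ F} {U₂ : Matrix I₂ I₂ F} (H : Matrix I₁ I₂ F) (H' : Matrix I₂ I₁ F)
    (h1 : H * H' = 1) (h2 : H' * H = 1) (hU : U₁ᵀ * H * U₂ = H) :
    PresQuad (Matrix.fromBlocks U₁ 0 0 U₂) := by
  apply PresQuad.of_matrix' (Matrix.fromBlocks 0 H 0 0)
  · have e : Matrix.fromBlocks 0 H 0 0 + (Matrix.fromBlocks (0 : Matrix I₁ I₁ F) H 0 0)ᵀ =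
        Matrix.fromBlocks 0 H Hᵀ 0 := by
      rw [Matrix.fromBlocks_transpose, Matrix.fromBlocks_add]
      simp
    rw [e]
    have hinv : Matrix.fromBlocks 0 H Hᵀ 0 * Matrix.fromBlocks 0 H'ᵀ H' 0 = 1 := by
      rw [Matrix.fromBlocks_multiply]
      simp only [Matrix.zero_mul, Matrix.mul_zero, zero_add, add_zero]
      rw [h1, ← Matrix.transpose_mul, h2, Matrix.transpose_one, Matrix.fromBlocks_one]
    exact Matrix.det_ne_zero_of_right_inverse hinv
  · rw [Matrix.fromBlocks_transpose, Matrix.fromBlocks_multiply, Matrix.fromBlocks_multiply]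
    simp only [Matrix.transpose_zero, Matrix.zero_mul, Matrix.mul_zero, zero_add, add_zero]
    rw [hU]

theorem presQuad_of_isEmpty [IsEmpty I] (U : Matrix I I F) : PresQuad U := by
  refine ⟨0, ?_, ?_⟩
  · apply LinearMap.BilinForm.Nondegenerate.ofSeparatingLeft
    intro x _
    exact Subsingleton.elim _ _
  · intro x
    rfl

/-- in characteristic two the polar form is alternating -/
theorem PresQuad.presAlt [CharP F 2] {U : Matrix I I F} (h : PresQuad U) : PresAlt U := by
  obtain ⟨Q, hN, hinv⟩ := h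
  refine ⟨QuadraticMap.polarBilin Q, ?_, hN, PresQuad.polar_inv Q hinv⟩
  intro x
  show QuadraticMap.polar Q x x = 0
  rw [QuadraticMap.polar_self, two_smul]
  exact CharTwo.add_self_eq_zero _

end PQ

end Cfsg.Agent.Lib.Helper49
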