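import Mathlib
import Cfsg.Prelude.Def_Classical
import Cfsg.Agent.Lib.Helper49.PresQuad

set_option autoImplicit false

namespace Cfsg.Agent.Lib.Helper49

open Matrix Module

section Trans

variable {F : Type*} [Field F] {I J : Type*} [Fintype I] [DecidableEq I] [Fintype J] [DecidableEq J]

/-- unpack a conjugacy of matrices into an intertwining invertible matrix (in the reverse direction) -/
theorem exists_intertwiner_of_isConj {X Y : Matrix J J F} (h : IsConj X Y) :
    ∃ G Ginv : Matrix J J F, G * Ginv = 1 ∧ Ginv * G = 1 ∧ G * Y = X * G := by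
  obtain ⟨c, hc⟩ := h
  obtain ⟨C, hC⟩ : ∃ C : Matrix J J F, C = ↑c := ⟨_, rfl⟩
  obtain ⟨Ci, hCi⟩ : ∃ Ci : Matrix J J F, Ci = ↑c⁻¹ := ⟨_, rfl⟩
  have hc' : C * X = Y * C := by
    rw [hC]; exact hc
  have h1 : Ci * C = 1 := by
    rw [hC, hCi, ← Units.val_mul, inv_mul_cancel]; rfl
  have h2 : C * Ci = 1 := by
    rw [hC, hCi, ← Units.val_mul, mul_inv_cancel]; rfl
  refine ⟨Ci, C, h1, h2, ?_⟩
  calc Ci * Y = Ci * (Y * C) * Ci := by
        rw [mul_assoc, mul_assoc, h2, mul_one]
    _ = X * Ci := by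
        rw [← hc', ← mul_assoc, h1, one_mul]

theorem reindex_symm_reindex (U : Matrix I I F) (e : I ≃ J) :
    Matrix.reindex e.symm e.symm (Matrix.reindex e e U) = U := by
  ext i j
  simp

theorem PresAlt.of_isConj_reindex (U : Matrix I I F) (e : I ≃ J) (A : Matrix J J F)
    (hA : PresAlt A) (h : IsConj (Matrix.reindex e e U) A) : PresAlt U := by
  obtain ⟨G, Gi, h1, h2, h3⟩ := exists_intertwiner_of_isConj h
  have h4 := PresAlt.conj _ _ h1 h2 h3 hA
  have h5 := h4.reindex e.symm
  rw [reindex_symm_reindex] at h5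
  exact h5

theorem PresQuad.of_isConj_reindex (U : Matrix I I F) (e : I ≃ J) (A : Matrix J J F)
    (hA : PresQuad A) (h : IsConj (Matrix.reindex e e U) A) : PresQuad U := by
  obtain ⟨G, Gi, h1, h2, h3⟩ := exists_intertwiner_of_isConj h
  have h4 := PresQuad.conj _ _ h1 h2 h3 hA
  have h5 := h4.reindex e.symm
  rw [reindex_symm_reindex] at h5
  exact h5

/-- a matrix preserving a quadratic form with nondegenerate polar form is invertible -/
theorem PresQuad.isUnit_of_preserves (U : Matrix I I F) (Q : QuadraticForm F (I → F))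
    (hN : (QuadraticMap.polarBilin Q).Nondegenerate) (hinv : ∀ x, Q (U *ᵥ x) = Q x) :
    IsUnit U := by
  rw [← Matrix.mulVec_injective_iff_isUnit]
  intro x y hxy
  have : x - y = 0 := by
    apply hN.1
    intro z
    have h1 := PresQuad.polar_inv Q hinv (x - y) z
    rw [Matrix.mulVec_sub, hxy, sub_self, map_zero, LinearMap.zero_apply] at h1
    exact h1.symm
  exact sub_eq_zero.mp this

end Trans

section Iso

variable {F : Type*} [Field F] {n : ℕ}

/-- elements of the isometry group give `PresQuad` -/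
theorem presQuad_of_mem_isometryGroup (Q : QuadraticForm F (Fin n → F))
    (hN : (QuadraticMap.polarBilin Q).Nondegenerate) (A : ↥(Cfsg.isometryGroup F ⇑Q)) :
    PresQuad ((A : Matrix.GeneralLinearGroup (Fin n) F) : Matrix (Fin n) (Fin n) F) :=
  ⟨Q, hN, fun x => A.2 x x⟩

theorem exists_isometry_of_presQuad {I : Type*} [Fintype I] [DecidableEq I] (U : Matrix I I F)
    (hcard : Fintype.card I = n) (h : PresQuad U) :
    ∃ Q : QuadraticForm F (Fin n → F), (QuadraticMap.polarBilin Q).Nondegenerate ∧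
      ∃ e : I ≃ Fin n, ∃ A : ↥(Cfsg.isometryGroup F ⇑Q),
        IsConj (Matrix.reindex e e U)
          ((A : Matrix.GeneralLinearGroup (Fin n) F) : Matrix (Fin n) (Fin n) F) := by
  have hc2 : Fintype.card I = Fintype.card (Fin n) := by
    rw [hcard, Fintype.card_fin]
  let e : I ≃ Fin n := Fintype.equivOfCardEq hc2
  obtain ⟨Q, hN, hinv⟩ := h.reindex e
  have hu := PresQuad.isUnit_of_preserves _ Q hN hinv
  obtain ⟨g, hg⟩ := hu
  refine ⟨Q, hN, e, ⟨g, ?_⟩, ?_⟩
  · intro u v
    show Q ((g : Matrix (Fin n) (Fin n) F) *ᵥ u) = Q u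
    rw [hg]
    exact hinv u
  · show IsConj (Matrix.reindex e e U) (g : Matrix (Fin n) (Fin n) F)
    rw [hg]

end Iso

end Cfsg.Agent.Lib.Helper49
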