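import Mathlib
import Cfsg.Agent.Lib.Helper49.UnipOrthTrans

set_option autoImplicit false

namespace Cfsg.Agent.Lib.Helper49

open Matrix Module

section Dye

variable {F : Type*} [Field F] [CharP F 2]

/-- in characteristic two every alternating form on `F^n` is the polar form of a quadratic form -/
theorem exists_quadratic_of_isAlt {n : ℕ} (B : LinearMap.BilinForm F (Fin n → F)) (hA : B.IsAlt) :
    ∃ Q : QuadraticForm F (Fin n → F), QuadraticMap.polarBilin Q = B := by
  let M : Matrix (Fin n) (Fin n) F := LinearMap.BilinForm.toMatrix' B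
  let T : Matrix (Fin n) (Fin n) F := Matrix.of fun i j => if i < j then M i j else 0
  have hMii : ∀ i, M i i = 0 := by
    intro i
    show LinearMap.BilinForm.toMatrix' B i i = 0
    rw [LinearMap.BilinForm.toMatrix'_apply]
    exact hA _
  have hMsymm : ∀ i j, M j i = M i j := by
    intro i j
    show LinearMap.BilinForm.toMatrix' B j i = LinearMap.BilinForm.toMatrix' B i j
    rw [LinearMap.BilinForm.toMatrix'_apply, LinearMap.BilinForm.toMatrix'_apply]
    have := hA.neg_eq (Pi.single i 1) (Pi.single j 1)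
    rw [← this, CharTwo.neg_eq]
  have hT : T + Tᵀ = M := by
    ext i j
    rw [Matrix.add_apply, Matrix.transpose_apply]
    show (if i < j then M i j else 0) + (if j < i then M j i else 0) = M i j
    rcases lt_trichotomy i j with h | h | h
    · rw [if_pos h, if_neg (not_lt.mpr h.le), add_zero]
    · subst h
      rw [if_neg (lt_irrefl _), add_zero, hMii]
    · rw [if_neg (not_lt.mpr h.le), if_pos h, zero_add, hMsymm]
  refine ⟨(Matrix.toBilin' T).toQuadraticMap, ?_⟩
  rw [LinearMap.BilinMap.polarBilin_toQuadraticMap]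
  have : Matrix.toBilin' T + LinearMap.flip (Matrix.toBilin' T) = Matrix.toBilin' (T + Tᵀ) := by
    apply LinearMap.ext
    intro x
    apply LinearMap.ext
    intro y
    rw [LinearMap.add_apply, LinearMap.add_apply, LinearMap.flip_apply, Matrix.toBilin'_apply',
      Matrix.toBilin'_apply', Matrix.toBilin'_apply', Matrix.add_mulVec, dotProduct_add,
      Matrix.mulVec_transpose, Matrix.dotProduct_mulVec y, dotProduct_comm (y ᵥ* T)]
  rw [this, hT]
  exact Matrix.toBilin'_toMatrix' B

variable [PerfectRing F 2]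

/-- Dye's lemma: over a perfect field of characteristic two, a linear map preserving a
nondegenerate alternating form preserves a quadratic form polarizing to it. -/
theorem presQuad_of_presAlt_fin {n : ℕ} {U : Matrix (Fin n) (Fin n) F} (h : PresAlt U) :
    PresQuad U := by
  obtain ⟨B, hA, hN, hinv⟩ := h
  obtain ⟨Q₀, hQ₀⟩ := exists_quadratic_of_isAlt B hA
  have hpol : ∀ x y, Q₀ (x + y) = Q₀ x + Q₀ y + B x y := by
    intro x y
    rw [← hQ₀, polar_apply_eq]
    ring
  let D : (Fin n → F) → F := fun x => Q₀ (U *ᵥ x) - Q₀ x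
  have hDadd : ∀ x y, D (x + y) = D x + D y := by
    intro x y
    show Q₀ (U *ᵥ (x + y)) - Q₀ (x + y) = (Q₀ (U *ᵥ x) - Q₀ x) + (Q₀ (U *ᵥ y) - Q₀ y)
    rw [Matrix.mulVec_add, hpol, hpol, hinv]
    ring
  have hDsmul : ∀ (c : F) x, D (c • x) = c ^ 2 * D x := by
    intro c x
    show Q₀ (U *ᵥ (c • x)) - Q₀ (c • x) = c ^ 2 * (Q₀ (U *ᵥ x) - Q₀ x)
    rw [Matrix.mulVec_smul, QuadraticMap.map_smul, QuadraticMap.map_smul, smul_eq_mul, smul_eq_mul]
    ring
  let δ : (Fin n → F) →ₗ[F] F :=
    { toFun := fun x => (frobeniusEquiv F 2).symm (D x)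
      map_add' := by
        intro x y
        rw [hDadd, map_add]
      map_smul' := by
        intro c x
        rw [hDsmul, map_mul, RingHom.id_apply, smul_eq_mul]
        congr 1
        have := frobeniusEquiv_symm_apply_frobenius F 2 c
        rw [frobenius_def] at this
        exact this }
  have hδsq : ∀ x, δ x ^ 2 = D x := by
    intro x
    exact frobeniusEquiv_symm_pow_p F 2 (D x)
  let f : (Fin n → F) →ₗ[F] (Fin n → F) := Matrix.toLin' U - 1
  have hf : ∀ x, f x = U *ᵥ x - x := by
    intro x
    show (Matrix.toLin' U - 1) x = _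
    rw [LinearMap.sub_apply, Matrix.toLin'_apply, Module.End.one_apply]
  have hmem : δ ∈ (LinearMap.ker f).dualAnnihilator := by
    rw [Submodule.mem_dualAnnihilator]
    intro w hw
    rw [LinearMap.mem_ker, hf, sub_eq_zero] at hw
    have hD : D w = 0 := by
      show Q₀ (U *ᵥ w) - Q₀ w = 0
      rw [hw, sub_self]
    have := hδsq w
    rw [hD] at this
    exact pow_eq_zero_iff (two_ne_zero) |>.mp this
  rw [← LinearMap.range_dualMap_eq_dualAnnihilator_ker] at hmem
  obtain ⟨φ, hφ⟩ := hmem
  have hφ' : ∀ x, φ (U *ᵥ x) = φ x + δ x := by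
    intro x
    have := congrArg (fun g => g x) hφ
    simp only [LinearMap.dualMap_apply, hf, map_sub] at this
    rw [← this]
    ring
  refine ⟨Q₀ + QuadraticMap.linMulLin φ φ, ?_, ?_⟩
  · have : QuadraticMap.polarBilin (Q₀ + QuadraticMap.linMulLin φ φ) = B := by
      apply LinearMap.ext
      intro x
      apply LinearMap.ext
      intro y
      rw [polar_apply_eq, QuadraticMap.add_apply, QuadraticMap.add_apply, QuadraticMap.add_apply,
        QuadraticMap.linMulLin_apply, QuadraticMap.linMulLin_apply, QuadraticMap.linMulLin_apply,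
        hpol, map_add]
      have e2 : φ x * φ y + φ x * φ y = 0 := CharTwo.add_self_eq_zero _
      linear_combination e2
    rw [this]
    exact hN
  · intro x
    rw [QuadraticMap.add_apply, QuadraticMap.add_apply, QuadraticMap.linMulLin_apply,
      QuadraticMap.linMulLin_apply, hφ']
    have e1 : Q₀ (U *ᵥ x) = Q₀ x + D x := by
      show _ = Q₀ x + (Q₀ (U *ᵥ x) - Q₀ x)
      ring
    have e2 : φ x * δ x + φ x * δ x = 0 := CharTwo.add_self_eq_zero _
    have e3 : D x + D x = 0 := CharTwo.add_self_eq_zero _
    have e4 := hδsq x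
    rw [e1]
    linear_combination e2 + e3 + e4

theorem presQuad_of_presAlt {I : Type*} [Fintype I] [DecidableEq I] {U : Matrix I I F}
    (h : PresAlt U) : PresQuad U := by
  let e : I ≃ Fin (Fintype.card I) := Fintype.equivFin I
  have h1 := presQuad_of_presAlt_fin (h.reindex e)
  have h2 := h1.reindex e.symm
  rw [reindex_symm_reindex] at h2
  exact h2

end Dye

end Cfsg.Agent.Lib.Helper49
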