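import Mathlib
import Cfsg.Agent.Lib.Helper49.SemisimpleKer

set_option autoImplicit false

namespace Cfsg.Agent.Lib.Helper49

open Polynomial

section eigdim

variable {F : Type*} [Field F] {V : Type*} [AddCommGroup V] [Module F V]
variable {W : Type*} [AddCommGroup W] [Module F W]

/-- dimension of the `μ`-eigenspace -/
noncomputable def ed (φ : V →ₗ[F] V) (μ : F) : ℕ := kdim φ (X - C μ)

theorem mem_ker_aeval_X_sub_C (φ : V →ₗ[F] V) (μ : F) (v : V) :
    v ∈ LinearMap.ker (aeval φ (X - C μ)) ↔ φ v = μ • v := by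
  rw [LinearMap.mem_ker, map_sub, aeval_X, aeval_C, LinearMap.sub_apply,
    Module.algebraMap_end_apply, sub_eq_zero]

theorem ed_smul (φ : V →ₗ[F] V) (c : F) (hc : c ≠ 0) (μ : F) : ed (c • φ) (c * μ) = ed φ μ := by
  unfold ed kdim
  have : LinearMap.ker (aeval (c • φ) (X - C (c * μ))) = LinearMap.ker (aeval φ (X - C μ)) := by
    ext v
    rw [mem_ker_aeval_X_sub_C, mem_ker_aeval_X_sub_C, LinearMap.smul_apply, mul_smul]
    exact (smul_right_injective V hc).eq_iff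
  rw [this]

theorem ed_conj (φ : V →ₗ[F] V) (ψ : W →ₗ[F] W) (e : V ≃ₗ[F] W) (h : ∀ v, e (φ v) = ψ (e v))
    (μ : F) : ed φ μ = ed ψ μ := kdim_conj φ ψ e h _

theorem ed_eq_zero_of_sq_ne (φ : V →ₗ[F] V) (lam : F) (h : ∀ v, φ (φ v) = lam • v) (ν : F)
    (hν : ν * ν ≠ lam) : ed φ ν = 0 := by
  unfold ed kdim
  have : LinearMap.ker (aeval φ (X - C ν)) = ⊥ := by
    rw [Submodule.eq_bot_iff]
    intro v hv
    rw [mem_ker_aeval_X_sub_C] at hv
    have h1 := h v
    rw [hv, map_smul, hv, smul_smul] at h1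
    have h2 : (ν * ν - lam) • v = 0 := by rw [sub_smul, h1, sub_self]
    rcases smul_eq_zero.mp h2 with h3 | h3
    · exact absurd (sub_eq_zero.mp h3) hν
    · exact h3
  rw [this, finrank_bot]

theorem ed_add_ed [FiniteDimensional F V] (φ : V →ₗ[F] V) (μ : F) (h : ∀ v, φ (φ v) = (μ * μ) • v)
    (hμ : μ ≠ 0) (h2 : (2 : F) ≠ 0) : Module.finrank F V = ed φ μ + ed φ (-μ) := by
  unfold ed
  apply finrank_eq_kdim_add_kdim
  · apply isCoprime_X_sub_C_of_isUnit_sub
    rw [sub_neg_eq_add, ← two_mul]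
    exact (mul_ne_zero h2 hμ).isUnit
  · apply LinearMap.ext
    intro v
    rw [map_mul, map_sub, map_sub, aeval_X, aeval_C, aeval_C, Module.End.mul_apply,
      LinearMap.sub_apply, LinearMap.sub_apply, Module.algebraMap_end_apply,
      Module.algebraMap_end_apply, map_sub, map_smul, h, LinearMap.zero_apply]
    simp only [neg_smul, smul_neg, sub_neg_eq_add, mul_smul, smul_add, smul_sub]
    abel

variable [Fintype F]

/-- the largest eigenspace dimension -/
noncomputable def maxEd (φ : V →ₗ[F] V) : ℕ := Finset.univ.sup (ed φ)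

theorem ed_le_maxEd (φ : V →ₗ[F] V) (μ : F) : ed φ μ ≤ maxEd φ :=
  Finset.le_sup (f := ed φ) (Finset.mem_univ μ)

theorem maxEd_le (φ : V →ₗ[F] V) (k : ℕ) (h : ∀ μ, ed φ μ ≤ k) : maxEd φ ≤ k :=
  Finset.sup_le (fun μ _ => h μ)

theorem maxEd_smul (φ : V →ₗ[F] V) (c : F) (hc : c ≠ 0) : maxEd (c • φ) = maxEd φ := by
  apply le_antisymm
  · apply maxEd_le
    intro μ
    have : μ = c * (c⁻¹ * μ) := by rw [← mul_assoc, mul_inv_cancel₀ hc, one_mul]
    rw [this, ed_smul φ c hc]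
    exact ed_le_maxEd φ _
  · apply maxEd_le
    intro μ
    rw [← ed_smul φ c hc]
    exact ed_le_maxEd _ _

theorem maxEd_conj (φ : V →ₗ[F] V) (ψ : W →ₗ[F] W) (e : V ≃ₗ[F] W) (h : ∀ v, e (φ v) = ψ (e v)) :
    maxEd φ = maxEd ψ := by
  unfold maxEd
  congr 1
  funext μ
  exact ed_conj φ ψ e h μ

theorem maxEd_eq_zero_of_nonsquare (φ : V →ₗ[F] V) (lam : F) (h : ∀ v, φ (φ v) = lam • v)
    (hlam : ¬ IsSquare lam) : maxEd φ = 0 := by
  apply le_antisymm _ (Nat.zero_le _)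
  apply maxEd_le
  intro ν
  rw [ed_eq_zero_of_sq_ne φ lam h ν]
  intro hν
  exact hlam ⟨ν, hν.symm⟩

theorem maxEd_eq_max [FiniteDimensional F V] (φ : V →ₗ[F] V) (μ : F)
    (h : ∀ v, φ (φ v) = (μ * μ) • v) : maxEd φ = max (ed φ μ) (ed φ (-μ)) := by
  apply le_antisymm
  · apply maxEd_le
    intro ν
    by_cases hν : ν * ν = μ * μ
    · rcases mul_self_eq_mul_self_iff.mp hν with h1 | h1
      · rw [h1]; exact le_max_left _ _
      · rw [h1]; exact le_max_right _ _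
    · rw [ed_eq_zero_of_sq_ne φ _ h ν hν]
      exact Nat.zero_le _
  · exact max_le (ed_le_maxEd φ μ) (ed_le_maxEd φ (-μ))

end eigdim

end Cfsg.Agent.Lib.Helper49
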