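import Cfsg.Agent.Lib.Helper49.FieldExtNorm

set_option autoImplicit false
open scoped MatrixGroups

namespace Cfsg.Agent.Lib.Helper49

open Matrix Module

section Der

variable {F : Type*} [Field F] {n : ℕ}

theorem vecMulVec_mulVec' (w ψ v : Fin n → F) :
    Matrix.vecMulVec w ψ *ᵥ v = (ψ ⬝ᵥ v) • w := by
  rw [Matrix.vecMulVec_mulVec, op_smul_eq_smul]

/-- an element `c + w ψᵀ` (a scalar plus a rank one matrix) does not normalise a quadratic field
subalgebra in dimension at least three -/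
theorem QuadGen.not_mem_normalizer_of_rank_one {K : Subalgebra F (Matrix (Fin n) (Fin n) F)}
    {θ : Matrix (Fin n) (Fin n) F} {s d : F} (hQ : QuadGen K θ s d) (hn3 : 3 ≤ n)
    (y : GL (Fin n) F) (c : F) (w ψ : Fin n → F) (hw : w ≠ 0) (hψ : ψ ≠ 0)
    (hy : (y : Matrix (Fin n) (Fin n) F) = c • (1 : Matrix (Fin n) (Fin n) F) + Matrix.vecMulVec w ψ) :
    y ∉ Cfsg.Geo.subalgebraNormalizer K := by
  classical
  intro hmem
  set Y : Matrix (Fin n) (Fin n) F := (y : Matrix (Fin n) (Fin n) F) with hY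
  set Y' : Matrix (Fin n) (Fin n) F := ((y⁻¹ : GL (Fin n) F) : Matrix (Fin n) (Fin n) F) with hY'
  have hYY' : Y * Y' = 1 := by
    rw [hY, hY', ← Units.val_mul, mul_inv_cancel, Units.val_one]
  have hY'Y : Y' * Y = 1 := by
    rw [hY, hY', ← Units.val_mul, inv_mul_cancel, Units.val_one]
  have hθ' : Y * θ * Y' ∈ K := (hmem θ).mp hQ.mem
  set θ' : Matrix (Fin n) (Fin n) F := Y * θ * Y' with hθ'def
  have hYθ : Y * θ = θ' * Y := by
    rw [hθ'def, mul_assoc, hY'Y, mul_one]
  -- a common kernel vector of the two functionals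
  let A : Matrix (Fin 2) (Fin n) F := Matrix.of ![ψ, ψ ᵥ* θ]
  have hker : LinearMap.ker (Matrix.mulVecLin A) ≠ ⊥ := by
    apply LinearMap.ker_ne_bot_of_finrank_lt
    rw [Module.finrank_fin_fun, Module.finrank_fin_fun]
    omega
  obtain ⟨v, hv, hv0⟩ := (Submodule.ne_bot_iff _).mp hker
  rw [LinearMap.mem_ker, Matrix.mulVecLin_apply] at hv
  have hv1 : ψ ⬝ᵥ v = 0 := by
    have := congrFun hv 0
    simpa [A, Matrix.mulVec] using this
  have hv2 : (ψ ᵥ* θ) ⬝ᵥ v = 0 := by
    have := congrFun hv 1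
    simpa [A, Matrix.mulVec] using this
  have hYv : Y *ᵥ v = c • v := by
    rw [hy, Matrix.add_mulVec, Matrix.smul_mulVec, Matrix.one_mulVec, vecMulVec_mulVec', hv1,
      zero_smul, add_zero]
  have hc : c ≠ 0 := by
    intro hc0
    rw [hc0, zero_smul] at hYv
    have := congrArg (fun u => Y' *ᵥ u) hYv
    simp only [Matrix.mulVec_mulVec, hY'Y, Matrix.one_mulVec, Matrix.mulVec_zero] at this
    exact hv0 this
  -- the difference
  have hM : c • (θ - θ') = θ' * Matrix.vecMulVec w ψ - Matrix.vecMulVec w ψ * θ := by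
    have h1 := hYθ
    rw [hy, Matrix.add_mul, Matrix.mul_add, Matrix.smul_mul, Matrix.mul_smul, Matrix.one_mul,
      Matrix.mul_one] at h1
    rw [smul_sub, sub_eq_sub_iff_add_eq_add, h1, add_comm]
  have hMv : (c • (θ - θ')) *ᵥ v = 0 := by
    rw [hM, Matrix.sub_mulVec, Matrix.mul_vecMulVec, Matrix.vecMulVec_mul, vecMulVec_mulVec',
      vecMulVec_mulVec', hv1, hv2, zero_smul, zero_smul, sub_zero]
  have hθθ' : θ' = θ := by
    by_contra hne
    have hne' : θ - θ' ≠ 0 := fun h => hne (sub_eq_zero.mp h).symm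
    obtain ⟨κ, _, hκ⟩ := hQ.inv _ (K.sub_mem hQ.mem hθ') hne'
    rw [Matrix.smul_mulVec] at hMv
    have h2 : (θ - θ') *ᵥ v = 0 := by
      rcases smul_eq_zero.mp hMv with h | h
      · exact absurd h hc
      · exact h
    have := congrArg (fun u => κ *ᵥ u) h2
    simp only [Matrix.mulVec_mulVec, hκ, Matrix.one_mulVec, Matrix.mulVec_zero] at this
    exact hv0 this
  rw [hθθ', sub_self, smul_zero, Matrix.mul_vecMulVec, Matrix.vecMulVec_mul] at hM
  -- `ψ` is a left eigenvector of `θ`
  obtain ⟨i₀, hi₀⟩ : ∃ i, w i ≠ 0 := by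
    by_contra hcon
    push Not at hcon
    exact hw (funext hcon)
  set lam : F := (θ *ᵥ w) i₀ / w i₀ with hlam
  have hψθ : ψ ᵥ* θ = lam • ψ := by
    funext j
    have h1 := congrFun (congrFun hM i₀) j
    rw [Matrix.zero_apply, Matrix.sub_apply, Matrix.vecMulVec_apply, Matrix.vecMulVec_apply] at h1
    rw [Pi.smul_apply, smul_eq_mul, hlam, div_mul_eq_mul_div, eq_div_iff hi₀]
    linear_combination h1
  have hne : θ - lam • (1 : Matrix (Fin n) (Fin n) F) ≠ 0 := by
    intro h; exact hQ.nonscalar lam (sub_eq_zero.mp h)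
  obtain ⟨κ, hκ, _⟩ := hQ.inv _ (K.sub_mem hQ.mem (K.smul_mem K.one_mem lam)) hne
  have h3 : ψ ᵥ* (θ - lam • (1 : Matrix (Fin n) (Fin n) F)) = 0 := by
    rw [Matrix.vecMul_sub, hψθ, Matrix.vecMul_smul, Matrix.vecMul_one, sub_self]
  have h4 := congrArg (fun u => u ᵥ* κ) h3
  simp only [Matrix.vecMul_vecMul, hκ, Matrix.vecMul_one, Matrix.zero_vecMul] at h4
  exact hψ h4

/-- conjugates of `c + u φᵀ` by elements of `SL` do not normalise a quadratic field subalgebra -/
theorem QuadGen.not_conj_mem_of_rank_one {K : Subalgebra F (Matrix (Fin n) (Fin n) F)}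
    {θ : Matrix (Fin n) (Fin n) F} {s d : F} (hQ : QuadGen K θ s d) (hn3 : 3 ≤ n)
    (x : Matrix.SpecialLinearGroup (Fin n) F) (c : F) (u φ : Fin n → F) (hu : u ≠ 0) (hφ : φ ≠ 0)
    (hx : (x : Matrix (Fin n) (Fin n) F) = c • (1 : Matrix (Fin n) (Fin n) F) + Matrix.vecMulVec u φ)
    (P : Matrix.SpecialLinearGroup (Fin n) F) :
    P⁻¹ * x * P ∉ (Cfsg.Geo.subalgebraNormalizer K).comap
      (Matrix.SpecialLinearGroup.toGL : Matrix.SpecialLinearGroup (Fin n) F →* GL (Fin n) F) := by
  intro hP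
  rw [Subgroup.mem_comap] at hP
  set Pm : Matrix (Fin n) (Fin n) F := (P : Matrix (Fin n) (Fin n) F) with hPm
  set Q : Matrix (Fin n) (Fin n) F :=
    ((P⁻¹ : Matrix.SpecialLinearGroup (Fin n) F) : Matrix (Fin n) (Fin n) F) with hQdef
  have hQP : Q * Pm = 1 := by
    have h := congrArg (fun g : Matrix.SpecialLinearGroup (Fin n) F =>
      (g : Matrix (Fin n) (Fin n) F)) (inv_mul_cancel P)
    simp only [Matrix.SpecialLinearGroup.coe_mul, Matrix.SpecialLinearGroup.coe_one] at h
    exact h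
  have hPQ : Pm * Q = 1 := by
    have h := congrArg (fun g : Matrix.SpecialLinearGroup (Fin n) F =>
      (g : Matrix (Fin n) (Fin n) F)) (mul_inv_cancel P)
    simp only [Matrix.SpecialLinearGroup.coe_mul, Matrix.SpecialLinearGroup.coe_one] at h
    exact h
  have hy : ((Matrix.SpecialLinearGroup.toGL (P⁻¹ * x * P) : GL (Fin n) F) :
      Matrix (Fin n) (Fin n) F) =
      c • (1 : Matrix (Fin n) (Fin n) F) + Matrix.vecMulVec (Q *ᵥ u) (φ ᵥ* Pm) := by
    change ((P⁻¹ * x * P : Matrix.SpecialLinearGroup (Fin n) F) : Matrix (Fin n) (Fin n) F) = _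
    rw [Matrix.SpecialLinearGroup.coe_mul, Matrix.SpecialLinearGroup.coe_mul, hx, Matrix.mul_add,
      Matrix.add_mul, Matrix.mul_smul, Matrix.smul_mul, Matrix.mul_one, hQP,
      Matrix.mul_vecMulVec, Matrix.vecMulVec_mul]
  refine hQ.not_mem_normalizer_of_rank_one hn3 _ c _ _ ?_ ?_ hy hP
  · intro h0
    have := congrArg (fun z => Pm *ᵥ z) h0
    simp only [Matrix.mulVec_mulVec, hPQ, Matrix.one_mulVec, Matrix.mulVec_zero] at this
    exact hu this
  · intro h0
    have := congrArg (fun z => z ᵥ* Q) h0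
    simp only [Matrix.vecMul_vecMul, hPQ, Matrix.vecMul_one, Matrix.zero_vecMul] at this
    exact hφ this

/-- odd characteristic: `l • diag(-1, 1, …, 1)` with `l ^ n = -1` is a derangement -/
theorem QuadGen.exists_derangement_odd {K : Subalgebra F (Matrix (Fin n) (Fin n) F)}
    {θ : Matrix (Fin n) (Fin n) F} {s d : F} (hQ : QuadGen K θ s d) (h2 : (2 : F) ≠ 0)
    (hn3 : 3 ≤ n) (l : F) (hl : l ^ n = -1) :
    ∃ x : Matrix.SpecialLinearGroup (Fin n) F,
      ((x ^ 2 : Matrix.SpecialLinearGroup (Fin n) F) : Matrix (Fin n) (Fin n) F) =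
        (l ^ 2) • (1 : Matrix (Fin n) (Fin n) F) ∧
      (∀ z : F, (x : Matrix (Fin n) (Fin n) F) ≠ z • (1 : Matrix (Fin n) (Fin n) F)) ∧
      ∀ P : Matrix.SpecialLinearGroup (Fin n) F, P⁻¹ * x * P ∉
        (Cfsg.Geo.subalgebraNormalizer K).comap
          (Matrix.SpecialLinearGroup.toGL : Matrix.SpecialLinearGroup (Fin n) F →* GL (Fin n) F) := by
  classical
  have hl0 : l ≠ 0 := by
    rintro rfl
    rw [zero_pow (by omega)] at hl
    have : (1 : F) = 0 := by
      have := congrArg (fun t : F => -t) hl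
      simpa using this.symm
    exact one_ne_zero this
  let i₀ : Fin n := ⟨0, by omega⟩
  let i₁ : Fin n := ⟨1, by omega⟩
  have h01 : i₀ ≠ i₁ := by intro h; exact absurd (congrArg Fin.val h) (by simp [i₀, i₁])
  let ev : Fin n → F := Function.update (fun _ => (1 : F)) i₀ (-1)
  have hev0 : ev i₀ = -1 := Function.update_self _ _ _
  have hevne : ∀ i, i ≠ i₀ → ev i = 1 := fun i hi => Function.update_of_ne hi _ _
  have hevsq : ∀ i, ev i * ev i = 1 := by
    intro i
    by_cases hi : i = i₀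
    · rw [hi, hev0]; ring
    · rw [hevne i hi]; ring
  have hevdet : (Matrix.diagonal ev).det = -1 := by
    rw [Matrix.det_diagonal, Finset.prod_eq_single i₀]
    · exact hev0
    · intro b _ hb
      exact hevne b hb
    · intro h; exact absurd (Finset.mem_univ _) h
  set X : Matrix (Fin n) (Fin n) F := l • Matrix.diagonal ev with hX
  have hXdet : X.det = 1 := by
    rw [hX, Matrix.det_smul, hevdet, Fintype.card_fin, hl]; ring
  let x : Matrix.SpecialLinearGroup (Fin n) F := ⟨X, hXdet⟩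
  have hXrk : X = l • (1 : Matrix (Fin n) (Fin n) F) +
      Matrix.vecMulVec ((-(2 * l)) • (Pi.single i₀ 1 : Fin n → F)) (Pi.single i₀ 1) := by
    ext i j
    rw [hX, Matrix.add_apply, Matrix.smul_apply, Matrix.smul_apply, Matrix.vecMulVec_apply,
      Matrix.diagonal_apply, Matrix.one_apply, Pi.smul_apply, Pi.single_apply, Pi.single_apply]
    by_cases hij : i = j
    · subst hij
      by_cases hi : i = i₀
      · rw [hi, hev0]; simp; ring
      · rw [hevne i hi]; simp [hi]
    · by_cases hi : i = i₀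
      · have : j ≠ i₀ := fun h => hij (hi.trans h.symm)
        simp [hij, this]
      · simp [hij, hi]
  refine ⟨x, ?_, ?_, ?_⟩
  · rw [Matrix.SpecialLinearGroup.coe_pow]
    change X ^ 2 = _
    rw [hX, _root_.smul_pow, pow_two (Matrix.diagonal ev), Matrix.diagonal_mul_diagonal]
    congr 1
    rw [← Matrix.diagonal_one]
    congr 1
    funext i
    exact hevsq i
  · intro z hz
    change X = z • 1 at hz
    have e0 := congrFun (congrFun hz i₀) i₀
    have e1 := congrFun (congrFun hz i₁) i₁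
    rw [hX, Matrix.smul_apply, Matrix.smul_apply, Matrix.diagonal_apply_eq, Matrix.one_apply_eq,
      smul_eq_mul, smul_eq_mul, mul_one] at e0 e1
    rw [hev0] at e0
    rw [hevne i₁ h01.symm] at e1
    have : (2 : F) * l = 0 := by
      have : l * 1 = l * -1 := by rw [e1, e0]
      linear_combination this
    rcases mul_eq_zero.mp this with h | h
    · exact h2 h
    · exact hl0 h
  · intro P
    apply hQ.not_conj_mem_of_rank_one hn3 x l _ _ _ _ hXrk P
    · intro h0
      have := congrFun h0 i₀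
      simp only [Pi.smul_apply, Pi.single_eq_same, smul_eq_mul, mul_one, Pi.zero_apply,
        neg_eq_zero] at this
      rcases mul_eq_zero.mp this with h | h
      · exact h2 h
      · exact hl0 h
    · intro h0
      have := congrFun h0 i₀
      simp at this

/-- characteristic two: a transvection is a derangement -/
theorem QuadGen.exists_derangement_two {K : Subalgebra F (Matrix (Fin n) (Fin n) F)}
    {θ : Matrix (Fin n) (Fin n) F} {s d : F} (hQ : QuadGen K θ s d) [CharP F 2]
    (hn3 : 3 ≤ n) :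
    ∃ x : Matrix.SpecialLinearGroup (Fin n) F,
      ((x ^ 2 : Matrix.SpecialLinearGroup (Fin n) F) : Matrix (Fin n) (Fin n) F) =
        (1 : F) • (1 : Matrix (Fin n) (Fin n) F) ∧
      (∀ z : F, (x : Matrix (Fin n) (Fin n) F) ≠ z • (1 : Matrix (Fin n) (Fin n) F)) ∧
      ∀ P : Matrix.SpecialLinearGroup (Fin n) F, P⁻¹ * x * P ∉
        (Cfsg.Geo.subalgebraNormalizer K).comap
          (Matrix.SpecialLinearGroup.toGL : Matrix.SpecialLinearGroup (Fin n) F →* GL (Fin n) F) := by
  classical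
  have h2 : (2 : F) = 0 := CharP.ofNat_eq_zero F 2
  let i₀ : Fin n := ⟨0, by omega⟩
  let i₁ : Fin n := ⟨1, by omega⟩
  have h01 : i₀ ≠ i₁ := by intro h; exact absurd (congrArg Fin.val h) (by simp [i₀, i₁])
  set R : Matrix (Fin n) (Fin n) F :=
    Matrix.vecMulVec (Pi.single i₀ 1 : Fin n → F) (Pi.single i₁ 1) with hR
  have hRs : R = Matrix.single i₀ i₁ 1 := by
    ext i j
    rw [hR, Matrix.vecMulVec_apply, Matrix.single_apply, Pi.single_apply, Pi.single_apply]
    by_cases hi : i = i₀ <;> by_cases hj : j = i₁ <;> simp [hi, hj, eq_comm]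
  set X : Matrix (Fin n) (Fin n) F := 1 + R with hX
  have hXdet : X.det = 1 := by
    rw [hX, hRs]
    exact Matrix.det_transvection_of_ne i₀ i₁ h01 1
  have hRR : R * R = 0 := by
    rw [hR, Matrix.vecMulVec_mul_vecMulVec]
    have : (Pi.single i₁ 1 : Fin n → F) ⬝ᵥ (Pi.single i₀ 1 : Fin n → F) = 0 := by
      rw [single_dotProduct, one_mul, Pi.single_apply, if_neg h01.symm]
    rw [this, zero_smul]
    ext i j
    simp [Matrix.vecMulVec_apply]
  let x : Matrix.SpecialLinearGroup (Fin n) F := ⟨X, hXdet⟩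
  refine ⟨x, ?_, ?_, ?_⟩
  · rw [Matrix.SpecialLinearGroup.coe_pow]
    change X ^ 2 = _
    rw [pow_two, hX, Matrix.add_mul, Matrix.mul_add, Matrix.mul_add, hRR, Matrix.one_mul,
      Matrix.mul_one, Matrix.one_mul, one_smul, add_zero]
    have : R + R = 0 := by rw [← two_smul F R, h2, zero_smul]
    rw [add_assoc, this, add_zero]
  · intro z hz
    change X = z • 1 at hz
    have e0 := congrFun (congrFun hz i₀) i₁
    rw [hX, hRs, Matrix.add_apply, Matrix.one_apply_ne h01, Matrix.single_apply_same,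
      Matrix.smul_apply, Matrix.one_apply_ne h01, smul_zero, zero_add] at e0
    exact one_ne_zero e0
  · intro P
    apply hQ.not_conj_mem_of_rank_one hn3 x 1 _ _ _ _ (by rw [one_smul]) P
    · intro h0
      have := congrFun h0 i₀
      simp at this
    · intro h0
      have := congrFun h0 i₁
      simp at this

end Der

end Cfsg.Agent.Lib.Helper49
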