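import Cfsg.Agent.Lib.Helper49.SimInvolDer

set_option autoImplicit false
open scoped MatrixGroups

namespace Cfsg.Agent.Lib.Helper49

open Matrix Module

section QuadGen

variable {F : Type*} [Field F] {n : ℕ}

/-- a generator `θ` of a quadratic field subalgebra `K`, with its minimal polynomial
`X² - s X + d` (which has no root in `F`) -/
structure QuadGen (K : Subalgebra F (Matrix (Fin n) (Fin n) F)) (θ : Matrix (Fin n) (Fin n) F)
    (s d : F) : Prop where
  mem : θ ∈ K
  span : ∀ k, k ∈ K ↔ ∃ a b : F, k = a • (1 : Matrix (Fin n) (Fin n) F) + b • θ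
  sq : θ * θ = s • θ - d • (1 : Matrix (Fin n) (Fin n) F)
  noroot : ∀ l : F, l * l - s * l + d ≠ 0
  inv : ∀ x ∈ K, x ≠ 0 → ∃ y, x * y = 1 ∧ y * x = 1
  nonscalar : ∀ a : F, θ ≠ a • (1 : Matrix (Fin n) (Fin n) F)

theorem exists_quadGen (hn : 0 < n) (K : Subalgebra F (Matrix (Fin n) (Fin n) F))
    (hK : Cfsg.Geo.IsFieldSubalgebra 2 K) : ∃ θ s d, QuadGen K θ s d := by
  classical
  haveI : Nonempty (Fin n) := ⟨⟨0, hn⟩⟩
  have hinv : ∀ x ∈ K, x ≠ 0 → ∃ y, x * y = 1 ∧ y * x = 1 := by
    intro x hx hx0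
    obtain ⟨y, hy, hxy⟩ := hK.inv x hx hx0
    exact ⟨y, hxy, by rw [← hK.comm x hx y hy]; exact hxy⟩
  -- a non-scalar element
  obtain ⟨θ, hθ, hθns⟩ : ∃ θ ∈ K, ∀ a : F, θ ≠ a • (1 : Matrix (Fin n) (Fin n) F) := by
    by_contra hcon
    push Not at hcon
    have hbot : K = ⊥ := by
      rw [eq_bot_iff]
      intro x hx
      obtain ⟨a, ha⟩ := hcon x hx
      rw [Algebra.mem_bot]
      exact ⟨a, by rw [Algebra.algebraMap_eq_smul_one, ha]⟩
    have h1 := hK.finrank_eq
    rw [hbot, Subalgebra.finrank_bot] at h1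
    omega
  let θ' : K := ⟨θ, hθ⟩
  have hli : LinearIndependent F ![(1 : K), θ'] := by
    rw [LinearIndependent.pair_iff]
    intro a b hab
    have hab' : a • (1 : Matrix (Fin n) (Fin n) F) + b • θ = 0 := by
      have := congrArg (fun k : K => (k : Matrix (Fin n) (Fin n) F)) hab
      simpa using this
    have hb : b = 0 := by
      by_contra hb
      apply hθns (-(a / b))
      have h1 : b • θ = -(a • (1 : Matrix (Fin n) (Fin n) F)) := by
        rw [eq_neg_iff_add_eq_zero, add_comm]; exact hab'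
      have h2 : θ = b⁻¹ • (b • θ) := by rw [smul_smul, inv_mul_cancel₀ hb, one_smul]
      rw [h2, h1, smul_neg, smul_smul, neg_smul]
      congr 2
      field_simp
    refine ⟨?_, hb⟩
    rw [hb, zero_smul, add_zero] at hab'
    by_contra ha
    have h1 : (1 : Matrix (Fin n) (Fin n) F) = a⁻¹ • (a • (1 : Matrix (Fin n) (Fin n) F)) := by
      rw [smul_smul, inv_mul_cancel₀ ha, one_smul]
    rw [hab', smul_zero] at h1
    exact one_ne_zero h1
  have hspan : Submodule.span F (Set.range ![(1 : K), θ']) = ⊤ := by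
    apply hli.span_eq_top_of_card_eq_finrank'
    rw [Fintype.card_fin, hK.finrank_eq]
  have hmem : ∀ k, k ∈ K ↔ ∃ a b : F, k = a • (1 : Matrix (Fin n) (Fin n) F) + b • θ := by
    intro k
    constructor
    · intro hk
      have h1 : (⟨k, hk⟩ : K) ∈ Submodule.span F (Set.range ![(1 : K), θ']) := by
        rw [hspan]; exact Submodule.mem_top
      rw [Submodule.mem_span_range_iff_exists_fun] at h1
      obtain ⟨c, hc⟩ := h1
      rw [Fin.sum_univ_two] at hc
      refine ⟨c 0, c 1, ?_⟩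
      have := congrArg (fun k : K => (k : Matrix (Fin n) (Fin n) F)) hc
      simpa using this.symm
    · rintro ⟨a, b, rfl⟩
      exact K.add_mem (K.smul_mem K.one_mem a) (K.smul_mem hθ b)
  obtain ⟨a, b, hab⟩ := (hmem (θ * θ)).mp (K.mul_mem hθ hθ)
  have hsq : θ * θ = b • θ - (-a) • (1 : Matrix (Fin n) (Fin n) F) := by
    rw [hab, neg_smul, sub_neg_eq_add, add_comm]
  refine ⟨θ, b, -a, hθ, hmem, hsq, ?_, hinv, hθns⟩
  intro l hl
  have h1 : (θ - l • (1 : Matrix (Fin n) (Fin n) F)) * (θ - (b - l) • (1 : Matrix (Fin n) (Fin n) F)) = 0 := by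
    have e1 : (θ - l • (1 : Matrix (Fin n) (Fin n) F)) * (θ - (b - l) • (1 : Matrix (Fin n) (Fin n) F)) =
        θ * θ - b • θ + (l * (b - l)) • (1 : Matrix (Fin n) (Fin n) F) := by
      rw [Matrix.sub_mul, Matrix.mul_sub, Matrix.mul_sub, Matrix.smul_mul, Matrix.mul_smul,
        Matrix.smul_mul, Matrix.mul_smul, Matrix.one_mul, Matrix.mul_one, Matrix.mul_one, smul_smul]
      module
    rw [e1, hsq]
    have : l * (b - l) = -a := by linear_combination -hl
    rw [this]
    module
  have hne : θ - l • (1 : Matrix (Fin n) (Fin n) F) ≠ 0 := by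
    intro h; exact hθns l (sub_eq_zero.mp h)
  have hmem1 : θ - l • (1 : Matrix (Fin n) (Fin n) F) ∈ K :=
    K.sub_mem hθ (K.smul_mem K.one_mem l)
  obtain ⟨y, _, hyx⟩ := hinv _ hmem1 hne
  have h2 : θ - (b - l) • (1 : Matrix (Fin n) (Fin n) F) = 0 := by
    calc θ - (b - l) • (1 : Matrix (Fin n) (Fin n) F)
        = y * ((θ - l • (1 : Matrix (Fin n) (Fin n) F)) * (θ - (b - l) • (1 : Matrix (Fin n) (Fin n) F))) := by
          rw [← mul_assoc, hyx, one_mul]
      _ = 0 := by rw [h1, mul_zero]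
  exact hθns (b - l) (sub_eq_zero.mp h2)

/-- membership in the normaliser from the action on the generator -/
theorem QuadGen.mem_normalizer {K : Subalgebra F (Matrix (Fin n) (Fin n) F)}
    {θ : Matrix (Fin n) (Fin n) F} {s d : F} (hQ : QuadGen K θ s d) (y : GL (Fin n) F)
    (h : (y : Matrix (Fin n) (Fin n) F) * θ = θ * (y : Matrix (Fin n) (Fin n) F) ∨
      (y : Matrix (Fin n) (Fin n) F) * θ =
        (s • (1 : Matrix (Fin n) (Fin n) F) - θ) * (y : Matrix (Fin n) (Fin n) F)) :
    y ∈ Cfsg.Geo.subalgebraNormalizer K := by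
  have key : ∀ (Y Y' : Matrix (Fin n) (Fin n) F), Y * Y' = 1 → Y' * Y = 1 →
      (Y * θ = θ * Y ∨ Y * θ = (s • (1 : Matrix (Fin n) (Fin n) F) - θ) * Y) →
      ∀ k ∈ K, Y * k * Y' ∈ K := by
    intro Y Y' hYY' _ hY k hk
    obtain ⟨a, b, rfl⟩ := (hQ.span k).mp hk
    rcases hY with hY | hY
    · have : Y * (a • (1 : Matrix (Fin n) (Fin n) F) + b • θ) * Y' =
          a • (1 : Matrix (Fin n) (Fin n) F) + b • θ := by
        rw [Matrix.mul_add, Matrix.mul_smul, Matrix.mul_smul, Matrix.mul_one, hY, Matrix.add_mul,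
          Matrix.smul_mul, Matrix.smul_mul, hYY', mul_assoc, hYY', mul_one]
      rw [this]
      exact (hQ.span _).mpr ⟨a, b, rfl⟩
    · have : Y * (a • (1 : Matrix (Fin n) (Fin n) F) + b • θ) * Y' =
          (a + b * s) • (1 : Matrix (Fin n) (Fin n) F) + (-b) • θ := by
        rw [Matrix.mul_add, Matrix.mul_smul, Matrix.mul_smul, Matrix.mul_one, hY, Matrix.add_mul,
          Matrix.smul_mul, Matrix.smul_mul, hYY', mul_assoc, hYY', mul_one]
        module
      rw [this]
      exact (hQ.span _).mpr ⟨_, _, rfl⟩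
  have hinvrel : ∀ (Y Y' : Matrix (Fin n) (Fin n) F), Y * Y' = 1 → Y' * Y = 1 →
      (Y * θ = θ * Y ∨ Y * θ = (s • (1 : Matrix (Fin n) (Fin n) F) - θ) * Y) →
      (Y' * θ = θ * Y' ∨ Y' * θ = (s • (1 : Matrix (Fin n) (Fin n) F) - θ) * Y') := by
    intro Y Y' hYY' hY'Y hY
    rcases hY with hY | hY
    · left
      calc Y' * θ = Y' * (θ * Y) * Y' := by rw [mul_assoc, mul_assoc, hYY', mul_one]
        _ = Y' * (Y * θ) * Y' := by rw [hY]
        _ = θ * Y' := by rw [← mul_assoc, hY'Y, one_mul]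
    · right
      have e1 : Y' * (s • (1 : Matrix (Fin n) (Fin n) F) - θ) = θ * Y' := by
        calc Y' * (s • (1 : Matrix (Fin n) (Fin n) F) - θ)
            = Y' * ((s • (1 : Matrix (Fin n) (Fin n) F) - θ) * Y) * Y' := by
              rw [mul_assoc, mul_assoc, hYY', mul_one]
          _ = Y' * (Y * θ) * Y' := by rw [hY]
          _ = θ * Y' := by rw [← mul_assoc, hY'Y, one_mul]
      rw [Matrix.mul_sub, Matrix.mul_smul, Matrix.mul_one] at e1
      rw [Matrix.sub_mul, Matrix.smul_mul, Matrix.one_mul, ← e1]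
      abel
  have hyy' : (y : Matrix (Fin n) (Fin n) F) * ((y⁻¹ : GL (Fin n) F) : Matrix (Fin n) (Fin n) F) = 1 := by
    rw [← Units.val_mul, mul_inv_cancel, Units.val_one]
  have hy'y : ((y⁻¹ : GL (Fin n) F) : Matrix (Fin n) (Fin n) F) * (y : Matrix (Fin n) (Fin n) F) = 1 := by
    rw [← Units.val_mul, inv_mul_cancel, Units.val_one]
  intro k
  constructor
  · intro hk
    exact key _ _ hyy' hy'y h k hk
  · intro hk
    have h2 := key _ _ hy'y hyy' (hinvrel _ _ hyy' hy'y h) _ hk
    have e : ((y⁻¹ : GL (Fin n) F) : Matrix (Fin n) (Fin n) F) *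
        ((y : Matrix (Fin n) (Fin n) F) * k * ((y⁻¹ : GL (Fin n) F) : Matrix (Fin n) (Fin n) F)) *
        (y : Matrix (Fin n) (Fin n) F) = k := by
      simp only [mul_assoc]
      rw [hy'y, mul_one, ← mul_assoc, hy'y, one_mul]
    rw [e] at h2
    exact h2

end QuadGen

section NormQ

variable {F : Type*} [Field F]

/-- `U` normalises a subalgebra `F[η]` with `η² = s η - d` -/
def NormQ {ι : Type*} [Fintype ι] [DecidableEq ι] (s d : F) (U : Matrix ι ι F) : Prop :=
  ∃ η : Matrix ι ι F, η * η = s • η - d • (1 : Matrix ι ι F) ∧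
    (U * η = η * U ∨ U * η = (s • (1 : Matrix ι ι F) - η) * U)

theorem NormQ.smul {ι : Type*} [Fintype ι] [DecidableEq ι] {s d : F} {U : Matrix ι ι F}
    (h : NormQ s d U) (l : F) : NormQ s d (l • U) := by
  obtain ⟨η, hη, hU⟩ := h
  refine ⟨η, hη, ?_⟩
  rcases hU with hU | hU
  · left; rw [Matrix.smul_mul, Matrix.mul_smul, hU]
  · right; rw [Matrix.smul_mul, Matrix.mul_smul, hU]

theorem NormQ.conj {ι : Type*} [Fintype ι] [DecidableEq ι] {s d : F} {U : Matrix ι ι F}
    (h : NormQ s d U) (P Q : Matrix ι ι F) (hPQ : P * Q = 1) (hQP : Q * P = 1) :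
    NormQ s d (P * U * Q) := by
  obtain ⟨η, hη, hU⟩ := h
  refine ⟨P * η * Q, ?_, ?_⟩
  · calc P * η * Q * (P * η * Q) = P * (η * (Q * P) * η) * Q := by simp only [mul_assoc]
      _ = P * (η * η) * Q := by rw [hQP, mul_one]
      _ = s • (P * η * Q) - d • (1 : Matrix ι ι F) := by
        rw [hη, Matrix.mul_sub, Matrix.sub_mul, Matrix.mul_smul, Matrix.smul_mul, Matrix.mul_smul,
          Matrix.smul_mul, Matrix.mul_one, hPQ]
  · rcases hU with hU | hU
    · left
      calc P * U * Q * (P * η * Q) = P * (U * (Q * P) * η) * Q := by simp only [mul_assoc]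
        _ = P * (U * η) * Q := by rw [hQP, mul_one]
        _ = P * (η * (Q * P) * U) * Q := by rw [hU, hQP, mul_one]
        _ = P * η * Q * (P * U * Q) := by simp only [mul_assoc]
    · right
      calc P * U * Q * (P * η * Q) = P * (U * (Q * P) * η) * Q := by simp only [mul_assoc]
        _ = P * (U * η) * Q := by rw [hQP, mul_one]
        _ = P * ((s • (1 : Matrix ι ι F) - η) * (Q * P) * U) * Q := by rw [hU, hQP, mul_one]
        _ = P * (s • (1 : Matrix ι ι F) - η) * Q * (P * U * Q) := by simp only [mul_assoc]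
        _ = (s • (1 : Matrix ι ι F) - P * η * Q) * (P * U * Q) := by
          congr 1
          rw [Matrix.mul_sub, Matrix.sub_mul, Matrix.mul_smul, Matrix.smul_mul, Matrix.mul_one, hPQ]

theorem NormQ.reindex {ι κ : Type*} [Fintype ι] [DecidableEq ι] [Fintype κ] [DecidableEq κ]
    {s d : F} {U : Matrix ι ι F} (h : NormQ s d U) (e : ι ≃ κ) :
    NormQ s d (Matrix.reindex e e U) := by
  obtain ⟨η, hη, hU⟩ := h
  have hone : (1 : Matrix ι ι F).submatrix e.symm e.symm = 1 := by
    ext i j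
    rw [Matrix.submatrix_apply, Matrix.one_apply, Matrix.one_apply]
    simp only [e.symm.injective.eq_iff]
  refine ⟨Matrix.reindex e e η, ?_, ?_⟩
  · rw [Matrix.reindex_apply, Matrix.submatrix_mul_equiv, hη]
    ext i j
    simp only [Matrix.submatrix_apply, Matrix.sub_apply, Matrix.smul_apply, Matrix.one_apply,
      e.symm.injective.eq_iff]
  · rcases hU with hU | hU
    · left
      rw [Matrix.reindex_apply, Matrix.reindex_apply, Matrix.submatrix_mul_equiv,
        Matrix.submatrix_mul_equiv, hU]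
    · right
      rw [Matrix.reindex_apply, Matrix.reindex_apply, Matrix.submatrix_mul_equiv, hU,
        ← Matrix.submatrix_mul_equiv _ _ _ e.symm]
      congr 1
      ext i j
      simp only [Matrix.submatrix_apply, Matrix.sub_apply, Matrix.smul_apply, Matrix.one_apply,
        e.symm.injective.eq_iff]

variable {n : ℕ}

theorem aeval_toLin'_quad (A : Matrix (Fin n) (Fin n) F) (s d : F)
    (hA : A * A = s • A - d • (1 : Matrix (Fin n) (Fin n) F)) :
    Polynomial.aeval (Matrix.toLin' A)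
      (Polynomial.X ^ 2 - Polynomial.C s * Polynomial.X + Polynomial.C d : Polynomial F) = 0 := by
  rw [map_add, map_sub, map_pow, map_mul, Polynomial.aeval_X, Polynomial.aeval_C,
    Polynomial.aeval_C, pow_two, Module.End.mul_eq_comp, ← Matrix.toLin'_mul, hA,
    Algebra.algebraMap_eq_smul_one, Algebra.algebraMap_eq_smul_one, map_sub, map_smul, map_smul,
    Matrix.toLin'_one, smul_mul_assoc, one_mul]
  simp only [Module.End.one_eq_id]
  abel

/-- transfer to a given quadratic field subalgebra -/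
theorem NormQ.exists_conj_mem [Finite F] {K : Subalgebra F (Matrix (Fin n) (Fin n) F)}
    {θ : Matrix (Fin n) (Fin n) F} {s d : F} (hQ : QuadGen K θ s d) (U : GL (Fin n) F)
    (h : NormQ s d (U : Matrix (Fin n) (Fin n) F)) :
    ∃ g : GL (Fin n) F, g⁻¹ * U * g ∈ Cfsg.Geo.subalgebraNormalizer K := by
  classical
  obtain ⟨η, hη, hU⟩ := h
  have hirr : Irreducible
      (Polynomial.X ^ 2 - Polynomial.C s * Polynomial.X + Polynomial.C d : Polynomial F) := by
    have hdeg : (Polynomial.X ^ 2 - Polynomial.C s * Polynomial.X + Polynomial.C d :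
        Polynomial F).natDegree = 2 := by
      have : (Polynomial.X ^ 2 - Polynomial.C s * Polynomial.X + Polynomial.C d : Polynomial F) =
          Polynomial.C 1 * Polynomial.X ^ 2 + Polynomial.C (-s) * Polynomial.X + Polynomial.C d := by
        rw [Polynomial.C_1, Polynomial.C_neg]; ring
      rw [this]
      exact Polynomial.natDegree_quadratic one_ne_zero
    apply Polynomial.irreducible_of_degree_le_three_of_not_isRoot
    · rw [hdeg]; decide
    · intro l hl
      rw [Polynomial.IsRoot.def] at hl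
      simp only [Polynomial.eval_add, Polynomial.eval_sub, Polynomial.eval_pow, Polynomial.eval_X,
        Polynomial.eval_mul, Polynomial.eval_C] at hl
      exact hQ.noroot l (by linear_combination hl)
  obtain ⟨φ, hφ⟩ := exists_equiv_of_irreducible (Matrix.toLin' θ) (Matrix.toLin' η) _ hirr
    (aeval_toLin'_quad θ s d hQ.sq) (aeval_toLin'_quad η s d hη) rfl
  let G : Matrix (Fin n) (Fin n) F := LinearMap.toMatrix' (φ : (Fin n → F) →ₗ[F] (Fin n → F))
  let G' : Matrix (Fin n) (Fin n) F := LinearMap.toMatrix' (φ.symm : (Fin n → F) →ₗ[F] (Fin n → F))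
  have hGG' : G * G' = 1 := by
    rw [← LinearMap.toMatrix'_comp]; simp
  have hG'G : G' * G = 1 := by
    rw [← LinearMap.toMatrix'_comp]; simp
  have hGθ : G * θ = η * G := by
    apply Matrix.toLin'.injective
    apply LinearMap.ext
    intro v
    rw [Matrix.toLin'_mul, Matrix.toLin'_mul, LinearMap.comp_apply, LinearMap.comp_apply]
    have e1 : Matrix.toLin' G = (φ : (Fin n → F) →ₗ[F] (Fin n → F)) := Matrix.toLin'_toMatrix' _
    rw [e1]
    exact hφ v
  have hθG' : θ * G' = G' * η := by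
    calc θ * G' = G' * (G * θ) * G' := by rw [← mul_assoc G' G θ, hG'G, one_mul]
      _ = G' * (η * G) * G' := by rw [hGθ]
      _ = G' * η := by rw [mul_assoc, mul_assoc, hGG', mul_one]
  let g : GL (Fin n) F := ⟨G, G', hGG', hG'G⟩
  refine ⟨g, ?_⟩
  apply hQ.mem_normalizer
  have hval : ((g⁻¹ * U * g : GL (Fin n) F) : Matrix (Fin n) (Fin n) F) =
      G' * (U : Matrix (Fin n) (Fin n) F) * G := rfl
  rw [hval]
  rcases hU with hU | hU
  · left
    calc G' * (U : Matrix (Fin n) (Fin n) F) * G * θ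
        = G' * ((U : Matrix (Fin n) (Fin n) F) * η) * G := by
          rw [mul_assoc, hGθ]; simp only [mul_assoc]
      _ = G' * η * (U : Matrix (Fin n) (Fin n) F) * G := by rw [hU]; simp only [mul_assoc]
      _ = θ * (G' * (U : Matrix (Fin n) (Fin n) F) * G) := by rw [← hθG']; simp only [mul_assoc]
  · right
    have e1 : G' * (s • (1 : Matrix (Fin n) (Fin n) F) - η) =
        (s • (1 : Matrix (Fin n) (Fin n) F) - θ) * G' := by
      rw [Matrix.mul_sub, Matrix.sub_mul, Matrix.mul_smul, Matrix.smul_mul, Matrix.mul_one,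
        Matrix.one_mul, hθG']
    calc G' * (U : Matrix (Fin n) (Fin n) F) * G * θ
        = G' * ((U : Matrix (Fin n) (Fin n) F) * η) * G := by
          rw [mul_assoc, hGθ]; simp only [mul_assoc]
      _ = G' * (s • (1 : Matrix (Fin n) (Fin n) F) - η) * (U : Matrix (Fin n) (Fin n) F) * G := by
          rw [hU]; simp only [mul_assoc]
      _ = (s • (1 : Matrix (Fin n) (Fin n) F) - θ) * (G' * (U : Matrix (Fin n) (Fin n) F) * G) := by
          rw [e1]; simp only [mul_assoc]

/-- `SL`-conjugacy into a subgroup from `GL`-conjugacy and a centraliser with all determinants -/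
theorem exists_sl_conj_mem_of_cent (H : Subgroup (GL (Fin n) F))
    (x : Matrix.SpecialLinearGroup (Fin n) F) (g : GL (Fin n) F)
    (hg : g⁻¹ * Matrix.SpecialLinearGroup.toGL x * g ∈ H)
    (hcent : ∀ δ : F, δ ≠ 0 → ∃ c : GL (Fin n) F,
      c * Matrix.SpecialLinearGroup.toGL x = Matrix.SpecialLinearGroup.toGL x * c ∧
        (c : Matrix (Fin n) (Fin n) F).det = δ) :
    ∃ P : Matrix.SpecialLinearGroup (Fin n) F, P⁻¹ * x * P ∈ H.comap
      (Matrix.SpecialLinearGroup.toGL : Matrix.SpecialLinearGroup (Fin n) F →* GL (Fin n) F) := by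
  have hgdet : (g : Matrix (Fin n) (Fin n) F).det ≠ 0 := by
    have h2 : IsUnit (g : Matrix (Fin n) (Fin n) F).det :=
      (Matrix.isUnit_iff_isUnit_det _).mp g.isUnit
    exact h2.ne_zero
  obtain ⟨c, hc, hcdet⟩ := hcent _ (inv_ne_zero hgdet)
  have hPdet : ((c * g : GL (Fin n) F) : Matrix (Fin n) (Fin n) F).det = 1 := by
    rw [Units.val_mul, Matrix.det_mul, hcdet, inv_mul_cancel₀ hgdet]
  let PS : Matrix.SpecialLinearGroup (Fin n) F :=
    ⟨((c * g : GL (Fin n) F) : Matrix (Fin n) (Fin n) F), hPdet⟩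
  have hPS : Matrix.SpecialLinearGroup.toGL PS = c * g := Units.ext rfl
  refine ⟨PS, ?_⟩
  rw [Subgroup.mem_comap, map_mul, map_mul, map_inv, hPS]
  have e1 : c⁻¹ * Matrix.SpecialLinearGroup.toGL x * c = Matrix.SpecialLinearGroup.toGL x := by
    rw [mul_assoc, ← hc, ← mul_assoc, inv_mul_cancel, one_mul]
  have e2 : (c * g)⁻¹ * Matrix.SpecialLinearGroup.toGL x * (c * g) =
      g⁻¹ * (c⁻¹ * Matrix.SpecialLinearGroup.toGL x * c) * g := by group
  rw [e2, e1]
  exact hg

end NormQ

end Cfsg.Agent.Lib.Helper49
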