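import Mathlib
import Cfsg.Agent.Lib.Helper50.TypeCriteria
import Cfsg.Agent.Lib.Helper50.MinusParam
import Cfsg.Agent.Lib.Helper50.ElusiveCount

set_option autoImplicit false

namespace Cfsg.Agent.Lib.Helper49

open Module

section FixedCongr

variable {F : Type*} [Field F] {V : Type*} [AddCommGroup V] [Module F V] [Finite V]

/-- the number of singular vectors is congruent to the number of fixed singular vectors, for an
isometry of prime order -/
theorem card_zeros_modEq_fixed (Q : QuadraticForm F V) (g : V →ₗ[F] V)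
    (hg : ∀ v, Q (g v) = Q v) (r : ℕ) [Fact r.Prime] (hgr : g ^ r = 1) :
    Nat.card {v : V // Q v = 0} ≡ Nat.card {v : V // Q v = 0 ∧ g v = v} [MOD r] := by
  classical
  haveI : Fintype V := Fintype.ofFinite V
  let f : Function.End {v : V // Q v = 0} := fun v => ⟨g v.1, by rw [hg]; exact v.2⟩
  have hpow : ∀ (k : ℕ) (v : {v : V // Q v = 0}), ((f ^ k) v).1 = (g ^ k) v.1 := by
    intro k
    induction k with
    | zero => intro v; rfl
    | succ k ih =>
      intro v
      rw [pow_succ', pow_succ']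
      show g ((f ^ k) v).1 = g ((g ^ k) v.1)
      rw [ih]
  have hf : f ^ r ^ 1 = 1 := by
    rw [pow_one]
    funext v
    apply Subtype.ext
    rw [hpow, hgr]
    rfl
  have h1 := Equiv.Perm.card_fixedPoints_modEq (p := r) (n := 1) hf
  rw [Nat.card_eq_fintype_card, Nat.card_eq_fintype_card]
  refine h1.trans ?_
  have e : ↥(Function.fixedPoints f) ≃ {v : V // Q v = 0 ∧ g v = v} :=
    { toFun := fun x => ⟨x.1.1, x.1.2, congrArg Subtype.val x.2⟩
      invFun := fun v => ⟨⟨v.1, v.2.1⟩, Subtype.ext v.2.2⟩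
      left_inv := fun _ => rfl
      right_inv := fun _ => rfl }
  rw [Fintype.card_congr e]

end FixedCongr

section ZC

variable {r : ℕ} [Fact r.Prime]

/-- the shape of the number of singular vectors of a quadratic space of dimension `2n` and
sign `ε`, in terms of `x = q mod r` -/
def ZC (x : ZMod r) (N n : ℕ) (ε : ZMod r) : Prop :=
  x * (N : ZMod r) = x ^ (2 * n) + ε * (x ^ (n + 1) - x ^ n)

theorem zc_compare (x : ZMod r) (hx0 : x ≠ 0) (hx1 : x ≠ 1) {N₁ N₂ k j : ℕ} {ε₁ δ σ : ZMod r}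
    (h₁ : ZC x N₁ (k + j) ε₁) (h₂ : ZC x N₂ j δ) (hN : (N₁ : ZMod r) = N₂) (hσ : x ^ k = σ)
    (hσ2 : σ * σ = 1) : ε₁ * σ = δ := by
  unfold ZC at h₁ h₂
  rw [hN, h₂] at h₁
  have e1 : x ^ (2 * (k + j)) = x ^ (2 * j) := by
    rw [show 2 * (k + j) = k + k + 2 * j by ring, pow_add, pow_add, hσ, hσ2, one_mul]
  have e2 : x ^ (k + j + 1) - x ^ (k + j) = σ * (x ^ (j + 1) - x ^ j) := by
    rw [show k + j + 1 = k + (j + 1) by ring, pow_add x k (j + 1), pow_add x k j, hσ]; ring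
  rw [e1, e2] at h₁
  have hu : x ^ (j + 1) - x ^ j ≠ 0 := by
    rw [pow_succ]
    have : x ^ j * x - x ^ j = x ^ j * (x - 1) := by ring
    rw [this]
    exact mul_ne_zero (pow_ne_zero _ hx0) (sub_ne_zero.mpr hx1)
  have h3 : (ε₁ * σ - δ) * (x ^ (j + 1) - x ^ j) = 0 := by linear_combination -h₁
  rcases mul_eq_zero.mp h3 with h | h
  · exact sub_eq_zero.mp h
  · exact absurd h hu

variable {F : Type*} [Field F] [Fintype F]

theorem zc_plus (n : ℕ) :
    ZC ((Fintype.card F : ℕ) : ZMod r)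
      (Nat.card {v : Fin n ⊕ Fin n → F // Cfsg.quadFormPlus n F v = 0}) n 1 := by
  unfold ZC
  rw [Helper50.card_zeros_plus]
  have hq : 1 ≤ Fintype.card F := Fintype.card_pos
  cases n with
  | zero => simp
  | succ n =>
    have h1 : 1 ≤ Fintype.card F ^ (n + 1) := Nat.one_le_pow _ _ hq
    rw [Nat.add_sub_cancel]
    push_cast [Nat.cast_sub h1]
    ring

theorem zc_minus (m : ℕ) (a b : F)
    (hab : ∀ x y : F, x ^ 2 + a * x * y + b * y ^ 2 = 0 → x = 0 ∧ y = 0) :
    ZC ((Fintype.card F : ℕ) : ZMod r)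
      (Nat.card {v : (Fin m ⊕ Fin m) ⊕ Fin 2 → F // Cfsg.quadFormMinus m F a b v = 0})
      (m + 1) (-1) := by
  unfold ZC
  have h := congrArg (fun k : ℕ => (k : ZMod r)) (Helper50.card_zeros_minus m a b hab)
  push_cast at h
  linear_combination ((Fintype.card F : ℕ) : ZMod r) * h

theorem zc_of_plusType {V : Type*} [AddCommGroup V] [Module F V] (Q : QuadraticForm F V) (n : ℕ)
    (h : Helper50.IsPlusType Q n) :
    ZC ((Fintype.card F : ℕ) : ZMod r) (Nat.card {v : V // Q v = 0}) n 1 := by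
  obtain ⟨φ, hφ⟩ := h
  have e : {v : V // Q v = 0} ≃ {v : Fin n ⊕ Fin n → F // Cfsg.quadFormPlus n F v = 0} :=
    φ.toEquiv.subtypeEquiv (fun v => by
      show Q v = 0 ↔ Cfsg.quadFormPlus n F (φ v) = 0
      rw [hφ])
  rw [Nat.card_congr e]
  exact zc_plus n

theorem zc_of_minusType {V : Type*} [AddCommGroup V] [Module F V] (Q : QuadraticForm F V) (n : ℕ)
    (ζ : F) (hζ : ∀ t : F, t ^ 2 + t + ζ ≠ 0) (h : Helper50.IsMinusType Q n ζ) :
    ZC ((Fintype.card F : ℕ) : ZMod r) (Nat.card {v : V // Q v = 0}) (n + 1) (-1) := by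
  obtain ⟨φ, hφ⟩ := h
  have e : {v : V // Q v = 0} ≃
      {v : (Fin n ⊕ Fin n) ⊕ Fin 2 → F // Cfsg.quadFormMinus n F 1 ζ v = 0} :=
    φ.toEquiv.subtypeEquiv (fun v => by
      show Q v = 0 ↔ Cfsg.quadFormMinus n F 1 ζ (φ v) = 0
      rw [hφ])
  rw [Nat.card_congr e]
  exact zc_minus n 1 ζ (Helper50.anis_of_irred ζ hζ)

end ZC

end Cfsg.Agent.Lib.Helper49
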