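import Mathlib

set_option autoImplicit false

namespace Cfsg.Agent.Lib.Helper49

open Module

section Glue

variable {K X Y : Type*} [Field K] [AddCommGroup X] [Module K X] [AddCommGroup Y] [Module K Y]

/-- Gluing a linear equivalence between hyperplanes with a choice of transversal vectors. -/
theorem glue_hyperplane [FiniteDimensional K X] [FiniteDimensional K Y]
    (hdim : finrank K X = finrank K Y)
    (ψ : Dual K X) (ψ' : Dual K Y) (u : X) (u' : Y) (hu : ψ u = 1) (hu' : ψ' u' = 1)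
    (f₁ : LinearMap.ker ψ ≃ₗ[K] LinearMap.ker ψ') :
    ∃ g : X ≃ₗ[K] Y, g u = u' ∧ (∀ x, ψ' (g x) = ψ x) ∧ (∀ k : LinearMap.ker ψ, g k = f₁ k) := by
  let pK : X →ₗ[K] LinearMap.ker ψ := (LinearMap.id - ψ.smulRight u).codRestrict (LinearMap.ker ψ) (by
    intro x
    simp [hu])
  have hpK : ∀ x, (pK x : X) = x - ψ x • u := fun x => rfl
  let gl : X →ₗ[K] Y := (LinearMap.ker ψ').subtype ∘ₗ f₁.toLinearMap ∘ₗ pK + ψ.smulRight u'
  have hgl : ∀ x, gl x = (f₁ (pK x) : Y) + ψ x • u' := fun x => rfl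
  have hψ' : ∀ x, ψ' (gl x) = ψ x := by
    intro x
    rw [hgl, map_add, map_smul, hu']
    have : ψ' (f₁ (pK x) : Y) = 0 := (f₁ (pK x)).2
    rw [this]
    simp
  have hinj : Function.Injective gl := by
    rw [← LinearMap.ker_eq_bot, LinearMap.ker_eq_bot']
    intro x hx
    have h1 : ψ x = 0 := by rw [← hψ', hx, map_zero]
    rw [hgl, h1, zero_smul, add_zero] at hx
    have h2 : f₁ (pK x) = 0 := Subtype.ext hx
    have h3 : pK x = 0 := by simpa using h2
    have h4 := congrArg Subtype.val h3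
    rw [hpK, h1, zero_smul, sub_zero] at h4
    exact h4
  have hsurj : Function.Surjective gl :=
    (LinearMap.injective_iff_surjective_of_finrank_eq_finrank hdim).mp hinj
  refine ⟨LinearEquiv.ofBijective gl ⟨hinj, hsurj⟩, ?_, ?_, ?_⟩
  · change gl u = u'
    rw [hgl]
    have : pK u = 0 := by
      apply Subtype.ext
      rw [hpK, hu, one_smul, sub_self]
      rfl
    rw [this, map_zero, hu, one_smul]
    simp
  · exact hψ'
  · intro k
    change gl k = f₁ k
    rw [hgl]
    have hk : ψ (k : X) = 0 := k.2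
    have : pK k = k := by
      apply Subtype.ext
      rw [hpK, hk, zero_smul, sub_zero]
    rw [this, hk, zero_smul, add_zero]

theorem finrank_ker_dual [FiniteDimensional K X] (ψ : Dual K X) (u : X) (hu : ψ u = 1) :
    finrank K (LinearMap.ker ψ) + 1 = finrank K X := by
  have h1 := LinearMap.finrank_range_add_finrank_ker ψ
  have h2 : LinearMap.range ψ = ⊤ := by
    rw [LinearMap.range_eq_top]
    intro c
    exact ⟨c • u, by simp [hu]⟩
  rw [h2, finrank_top, finrank_self] at h1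
  omega

/-- transitivity of linear equivalences on nonzero vectors -/
theorem exists_equiv_apply_eq [FiniteDimensional K X] [FiniteDimensional K Y]
    (hdim : finrank K X = finrank K Y) (x : X) (y : Y) (hx : x ≠ 0) (hy : y ≠ 0) :
    ∃ f : X ≃ₗ[K] Y, f x = y := by
  obtain ⟨ψ, hψ⟩ := Module.Projective.exists_dual_eq_one K hx
  obtain ⟨ψ', hψ'⟩ := Module.Projective.exists_dual_eq_one K hy
  have h1 := finrank_ker_dual ψ x hψ
  have h2 := finrank_ker_dual ψ' y hψ'
  have h3 : finrank K (LinearMap.ker ψ) = finrank K (LinearMap.ker ψ') := by omega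
  obtain ⟨g, hg, _, _⟩ := glue_hyperplane hdim ψ ψ' x y hψ hψ' (LinearEquiv.ofFinrankEq _ _ h3)
  exact ⟨g, hg⟩

/-- transitivity on pairs (vector, functional) with the functional vanishing on the vector -/
theorem exists_equiv_flag [FiniteDimensional K X]
    (φ φ' : Dual K X) (v v' : X) (hv : v ≠ 0) (hv' : v' ≠ 0) (hφ : φ ≠ 0) (hφ' : φ' ≠ 0)
    (h0 : φ v = 0) (h0' : φ' v' = 0) :
    ∃ g : X ≃ₗ[K] X, g v = v' ∧ ∀ x, φ' (g x) = φ x := by
  obtain ⟨u, hu⟩ : ∃ u, φ u = 1 := by
    obtain ⟨x, hx⟩ : ∃ x, φ x ≠ 0 := by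
      by_contra hcon
      push Not at hcon
      exact hφ (LinearMap.ext hcon)
    exact ⟨(φ x)⁻¹ • x, by simp [hx]⟩
  obtain ⟨u', hu'⟩ : ∃ u, φ' u = 1 := by
    obtain ⟨x, hx⟩ : ∃ x, φ' x ≠ 0 := by
      by_contra hcon
      push Not at hcon
      exact hφ' (LinearMap.ext hcon)
    exact ⟨(φ' x)⁻¹ • x, by simp [hx]⟩
  have h1 := finrank_ker_dual φ u hu
  have h2 := finrank_ker_dual φ' u' hu'
  have h3 : finrank K (LinearMap.ker φ) = finrank K (LinearMap.ker φ') := by omega
  obtain ⟨f₁, hf₁⟩ := exists_equiv_apply_eq h3 (⟨v, h0⟩ : LinearMap.ker φ) (⟨v', h0'⟩ : LinearMap.ker φ')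
    (by intro h; exact hv (congrArg Subtype.val h)) (by intro h; exact hv' (congrArg Subtype.val h))
  obtain ⟨g, _, hg2, hg3⟩ := glue_hyperplane rfl φ φ' u u' hu hu' f₁
  refine ⟨g, ?_, hg2⟩
  have := hg3 ⟨v, h0⟩
  rw [hf₁] at this
  exact this

/-- a dilation fixing `v` and `φ` with prescribed determinant, in dimension at least 3 -/
theorem exists_dilation_fix [FiniteDimensional K X] (hdim : 3 ≤ finrank K X)
    (φ : Dual K X) (v : X) (hφ : φ ≠ 0) (h0 : φ v = 0) (c : K) (hc : c ≠ 0) :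
    ∃ d : X ≃ₗ[K] X, d v = v ∧ (∀ x, φ (d x) = φ x) ∧ LinearMap.det (d : X →ₗ[K] X) = c := by
  obtain ⟨u, hu⟩ : ∃ u, φ u = 1 := by
    obtain ⟨x, hx⟩ : ∃ x, φ x ≠ 0 := by
      by_contra hcon
      push Not at hcon
      exact hφ (LinearMap.ext hcon)
    exact ⟨(φ x)⁻¹ • x, by simp [hx]⟩
  have h1 := finrank_ker_dual φ u hu
  -- find w in ker φ outside span {v}
  have hlt : Submodule.span K {v} < LinearMap.ker φ := by
    refine lt_of_le_of_ne ?_ ?_
    · rw [Submodule.span_singleton_le_iff_mem]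
      exact h0
    · intro heq
      have h2 : finrank K (Submodule.span K {v}) ≤ 1 := by
        by_cases hv : v = 0
        · rw [hv, Submodule.span_zero_singleton, finrank_bot]; omega
        · rw [finrank_span_singleton hv]
      rw [heq] at h2
      omega
  obtain ⟨w, hwK, hwv⟩ := SetLike.exists_of_lt hlt
  -- functional vanishing on v with value 1 at w
  have hw' : (Submodule.span K {v}).mkQ w ≠ 0 := by
    rw [Ne, Submodule.mkQ_apply, Submodule.Quotient.mk_eq_zero]
    exact hwv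
  obtain ⟨ψ₀, hψ₀⟩ := Module.Projective.exists_dual_eq_one K hw'
  let ψ : Dual K X := ψ₀ ∘ₗ (Submodule.span K {v}).mkQ
  have hψw : ψ w = 1 := hψ₀
  have hψv : ψ v = 0 := by
    change ψ₀ ((Submodule.span K {v}).mkQ v) = 0
    have : (Submodule.span K {v}).mkQ v = 0 := by
      rw [Submodule.mkQ_apply, Submodule.Quotient.mk_eq_zero]
      exact Submodule.mem_span_singleton_self v
    rw [this, map_zero]
  let dl : X →ₗ[K] X := LinearMap.transvection ((c - 1) • ψ) w
  have hdl : ∀ x, dl x = x + ((c - 1) * ψ x) • w := by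
    intro x
    simp [dl, LinearMap.transvection.apply]
  have hdet : LinearMap.det dl = c := by
    simp [dl, LinearMap.transvection.det, hψw]
  have hunit : IsUnit (LinearMap.det dl) := by
    rw [hdet]; exact isUnit_iff_ne_zero.mpr hc
  refine ⟨LinearMap.equivOfIsUnitDet hunit, ?_, ?_, ?_⟩
  · rw [LinearMap.equivOfIsUnitDet_apply, hdl, hψv]; simp
  · intro x
    rw [LinearMap.equivOfIsUnitDet_apply, hdl, map_add, map_smul]
    have : φ w = 0 := hwK
    rw [this]; simp
  · rw [LinearMap.coe_equivOfIsUnitDet]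
    exact hdet

end Glue

end Cfsg.Agent.Lib.Helper49
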