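import Mathlib
import Cfsg.Agent.Lib.Helper49.Transv

set_option autoImplicit false

namespace Cfsg.Agent.Lib.Helper49

open Matrix Module

/-- pairs (column vector, row vector), both nonzero, with vanishing pairing -/
def FlagPair (F : Type*) [Field F] (n : ℕ) : Type _ :=
  {p : (Fin n → F) × (Fin n → F) // p.1 ≠ 0 ∧ p.2 ≠ 0 ∧ p.2 ⬝ᵥ p.1 = 0}

section

variable {F : Type*} [Field F] {n : ℕ}

theorem gl_mulVec_inv (g : GL (Fin n) F) (v : Fin n → F) :
    ((g⁻¹ : GL (Fin n) F) : Matrix (Fin n) (Fin n) F) *ᵥ ((g : Matrix (Fin n) (Fin n) F) *ᵥ v) = v := by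
  rw [Matrix.mulVec_mulVec, ← Units.val_mul, inv_mul_cancel, Units.val_one, Matrix.one_mulVec]

theorem gl_vecMul_inv (g : GL (Fin n) F) (w : Fin n → F) :
    (w ᵥ* ((g⁻¹ : GL (Fin n) F) : Matrix (Fin n) (Fin n) F)) ᵥ* (g : Matrix (Fin n) (Fin n) F) = w := by
  rw [Matrix.vecMul_vecMul, ← Units.val_mul, inv_mul_cancel, Units.val_one, Matrix.vecMul_one]

theorem gl_vecMul_inv' (g : GL (Fin n) F) (w : Fin n → F) :
    (w ᵥ* (g : Matrix (Fin n) (Fin n) F)) ᵥ* ((g⁻¹ : GL (Fin n) F) : Matrix (Fin n) (Fin n) F) = w := by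
  rw [Matrix.vecMul_vecMul, ← Units.val_mul, mul_inv_cancel, Units.val_one, Matrix.vecMul_one]

noncomputable instance flagPairMulAction : MulAction (GL (Fin n) F) (FlagPair F n) where
  smul g x := ⟨((g : Matrix (Fin n) (Fin n) F) *ᵥ x.1.1,
      x.1.2 ᵥ* ((g⁻¹ : GL (Fin n) F) : Matrix (Fin n) (Fin n) F)), by
    refine ⟨?_, ?_, ?_⟩
    · intro h
      apply x.2.1
      have := gl_mulVec_inv g x.1.1
      rw [show (g : Matrix (Fin n) (Fin n) F) *ᵥ x.1.1 = 0 from h, Matrix.mulVec_zero] at this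
      exact this.symm
    · intro h
      apply x.2.2.1
      have := gl_vecMul_inv g x.1.2
      rw [show x.1.2 ᵥ* ((g⁻¹ : GL (Fin n) F) : Matrix (Fin n) (Fin n) F) = 0 from h,
        Matrix.zero_vecMul] at this
      exact this.symm
    · change (x.1.2 ᵥ* ((g⁻¹ : GL (Fin n) F) : Matrix (Fin n) (Fin n) F)) ⬝ᵥ
        ((g : Matrix (Fin n) (Fin n) F) *ᵥ x.1.1) = 0
      rw [Matrix.dotProduct_mulVec, gl_vecMul_inv]
      exact x.2.2.2⟩
  one_smul x := by
    apply Subtype.ext
    change (((1 : GL (Fin n) F) : Matrix (Fin n) (Fin n) F) *ᵥ x.1.1,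
      x.1.2 ᵥ* (((1 : GL (Fin n) F)⁻¹ : GL (Fin n) F) : Matrix (Fin n) (Fin n) F)) = x.1
    rw [inv_one, Units.val_one, Matrix.one_mulVec, Matrix.vecMul_one]
  mul_smul g h x := by
    apply Subtype.ext
    change (((g * h : GL (Fin n) F) : Matrix (Fin n) (Fin n) F) *ᵥ x.1.1,
      x.1.2 ᵥ* (((g * h)⁻¹ : GL (Fin n) F) : Matrix (Fin n) (Fin n) F)) =
      ((g : Matrix (Fin n) (Fin n) F) *ᵥ ((h : Matrix (Fin n) (Fin n) F) *ᵥ x.1.1),
      (x.1.2 ᵥ* ((h⁻¹ : GL (Fin n) F) : Matrix (Fin n) (Fin n) F)) ᵥ*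
        ((g⁻¹ : GL (Fin n) F) : Matrix (Fin n) (Fin n) F))
    rw [_root_.mul_inv_rev, Units.val_mul, Units.val_mul, Matrix.mulVec_mulVec, Matrix.vecMul_vecMul]

theorem flagPair_smul_fst (g : GL (Fin n) F) (x : FlagPair F n) :
    (g • x).1.1 = (g : Matrix (Fin n) (Fin n) F) *ᵥ x.1.1 := rfl

theorem flagPair_smul_snd (g : GL (Fin n) F) (x : FlagPair F n) :
    (g • x).1.2 = x.1.2 ᵥ* ((g⁻¹ : GL (Fin n) F) : Matrix (Fin n) (Fin n) F) := rfl

instance flagPair_pretransitive : MulAction.IsPretransitive (GL (Fin n) F) (FlagPair F n) := by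
  constructor
  intro x y
  obtain ⟨e, he1, he2⟩ := exists_equiv_flag (dotProductEquiv F (Fin n) x.1.2)
    (dotProductEquiv F (Fin n) y.1.2) x.1.1 y.1.1 x.2.1 y.2.1
    (by intro h; exact x.2.2.1 ((dotProductEquiv F (Fin n)).map_eq_zero_iff.mp h))
    (by intro h; exact y.2.2.1 ((dotProductEquiv F (Fin n)).map_eq_zero_iff.mp h))
    x.2.2.2 y.2.2.2
  let M : Matrix (Fin n) (Fin n) F := LinearMap.toMatrix' (e : (Fin n → F) →ₗ[F] (Fin n → F))
  let M' : Matrix (Fin n) (Fin n) F := LinearMap.toMatrix' (e.symm : (Fin n → F) →ₗ[F] (Fin n → F))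
  have hMM' : M * M' = 1 := by
    rw [← LinearMap.toMatrix'_comp]
    simp
  have hM'M : M' * M = 1 := by
    rw [← LinearMap.toMatrix'_comp]
    simp
  let g : GL (Fin n) F := ⟨M, M', hMM', hM'M⟩
  have hgM : ∀ u, (g : Matrix (Fin n) (Fin n) F) *ᵥ u = e u := by
    intro u
    change M *ᵥ u = e u
    rw [← Matrix.toLin'_apply, Matrix.toLin'_toMatrix']
    rfl
  refine ⟨g, ?_⟩
  apply Subtype.ext
  apply Prod.ext
  · rw [flagPair_smul_fst, hgM, he1]
  · rw [flagPair_smul_snd]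
    have h1 : x.1.2 = y.1.2 ᵥ* (g : Matrix (Fin n) (Fin n) F) := by
      apply dotProduct_eq
      intro u
      rw [← Matrix.dotProduct_mulVec, hgM]
      exact (he2 u).symm
    rw [h1, gl_vecMul_inv']

end

section

variable {F : Type*} [Field F] [Fintype F] {n : ℕ}

theorem card_orth_nonzero (v : Fin n → F) (hv : v ≠ 0) :
    Nat.card {w : Fin n → F // w ≠ 0 ∧ w ⬝ᵥ v = 0} = Fintype.card F ^ (n - 1) - 1 := by
  classical
  set ψ : Dual F (Fin n → F) := dotProductEquiv F (Fin n) v with hψ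
  have hψne : ψ ≠ 0 := by
    intro h; exact hv ((dotProductEquiv F (Fin n)).map_eq_zero_iff.mp h)
  obtain ⟨u, hu⟩ : ∃ u, ψ u = 1 := by
    obtain ⟨x, hx⟩ : ∃ x, ψ x ≠ 0 := by
      by_contra hcon
      push Not at hcon
      exact hψne (LinearMap.ext hcon)
    exact ⟨(ψ x)⁻¹ • x, by simp [hx]⟩
  have h1 := finrank_ker_dual ψ u hu
  rw [Module.finrank_fintype_fun_eq_card, Fintype.card_fin] at h1
  have h2 : Nat.card (LinearMap.ker ψ) = Fintype.card F ^ (n - 1) := by
    rw [Module.natCard_eq_pow_finrank (K := F), Nat.card_eq_fintype_card]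
    congr 1
    omega
  have hset : {w : Fin n → F | w ≠ 0 ∧ w ⬝ᵥ v = 0} = ((LinearMap.ker ψ : Submodule F (Fin n → F)) : Set (Fin n → F)) \ {0} := by
    ext w
    simp only [Set.mem_ofPred_eq, Set.mem_sdiff, SetLike.mem_coe, LinearMap.mem_ker, Set.mem_singleton_iff]
    rw [hψ, dotProductEquiv_apply_apply, dotProduct_comm]
    tauto
  have h3 : Nat.card {w : Fin n → F // w ≠ 0 ∧ w ⬝ᵥ v = 0} = Set.ncard {w : Fin n → F | w ≠ 0 ∧ w ⬝ᵥ v = 0} := rfl
  rw [h3, hset, Set.ncard_sdiff_singleton_of_mem (by simp), ← h2]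
  rfl

theorem card_flagPair : Nat.card (FlagPair F n) =
    (Fintype.card F ^ n - 1) * (Fintype.card F ^ (n - 1) - 1) := by
  classical
  unfold FlagPair
  rw [Nat.card_congr (Equiv.subtypeProdEquivSigmaSubtype
    (fun (v w : Fin n → F) => v ≠ 0 ∧ w ≠ 0 ∧ w ⬝ᵥ v = 0)), Nat.card_sigma]
  have h : ∀ v : Fin n → F, Nat.card {w : Fin n → F // v ≠ 0 ∧ w ≠ 0 ∧ w ⬝ᵥ v = 0} =
      if v ≠ 0 then (Fintype.card F ^ (n - 1) - 1) else 0 := by
    intro v
    split_ifs with hv
    · rw [← card_orth_nonzero v hv]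
      apply Nat.card_congr
      exact Equiv.subtypeEquivRight (fun w => by tauto)
    · rw [Nat.card_eq_zero]
      left
      constructor
      rintro ⟨w, h1, _⟩
      exact hv h1
  simp_rw [h]
  rw [Finset.sum_ite, Finset.sum_const_zero, add_zero, Finset.sum_const, smul_eq_mul]
  congr 1
  rw [Finset.filter_ne', Finset.card_erase_of_mem (Finset.mem_univ _), Finset.card_univ]
  simp

end

section

variable {F : Type*} [Field F] {n : ℕ}

theorem vecMulVec_eq_imp (v w v' w' : Fin n → F) (hv : v ≠ 0) (hw : w ≠ 0)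
    (h : vecMulVec v w' = vecMulVec v' w) : ∃ c : F, v' = c • v ∧ w' = c • w := by
  obtain ⟨i, hi⟩ : ∃ i, v i ≠ 0 := by
    by_contra hcon; push Not at hcon; exact hv (funext hcon)
  obtain ⟨j, hj⟩ : ∃ j, w j ≠ 0 := by
    by_contra hcon; push Not at hcon; exact hw (funext hcon)
  have hent : ∀ a b, v a * w' b = v' a * w b := by
    intro a b
    have := congrFun (congrFun h a) b
    simpa [vecMulVec_apply] using this
  refine ⟨w' j / w j, ?_, ?_⟩
  · funext a
    have := hent a j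
    simp only [Pi.smul_apply, smul_eq_mul]
    field_simp
    rw [← this]; ring
  · have h1 : v' i = (w' j / w j) * v i := by
      have := hent i j
      field_simp
      rw [← this]; ring
    funext b
    have := hent i b
    rw [h1] at this
    simp only [Pi.smul_apply, smul_eq_mul]
    have h2 : v i * w' b = v i * (w' j / w j * w b) := by rw [this]; ring
    exact mul_left_cancel₀ hi h2

theorem transv_commute_iff (v w : Fin n → F) (t g : GL (Fin n) F)
    (ht : (t : Matrix (Fin n) (Fin n) F) = 1 + vecMulVec v w) :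
    t * g = g * t ↔ vecMulVec v (w ᵥ* (g : Matrix (Fin n) (Fin n) F)) =
      vecMulVec ((g : Matrix (Fin n) (Fin n) F) *ᵥ v) w := by
  rw [← Units.val_inj, Units.val_mul, Units.val_mul, ht, add_mul, mul_add, one_mul, mul_one,
    vecMulVec_mul, mul_vecMulVec, add_right_inj]

/-- constructor for `FlagPair` -/
def mkFlagPair (v w : Fin n → F) (hv : v ≠ 0) (hw : w ≠ 0) (hvw : w ⬝ᵥ v = 0) : FlagPair F n :=
  ⟨(v, w), hv, hw, hvw⟩

variable [Fintype F]

theorem card_centralizer_transv (v w : Fin n → F) (hv : v ≠ 0) (hw : w ≠ 0) (hvw : w ⬝ᵥ v = 0)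
    (t : GL (Fin n) F) (ht : (t : Matrix (Fin n) (Fin n) F) = 1 + vecMulVec v w) :
    Nat.card (Subgroup.centralizer ({t} : Set (GL (Fin n) F))) =
      (Fintype.card F - 1) * Nat.card (MulAction.stabilizer (GL (Fin n) F)
        (mkFlagPair v w hv hw hvw)) := by
  classical
  set x₀ : FlagPair F n := mkFlagPair v w hv hw hvw with hx₀
  have hstab : ∀ s : GL (Fin n) F, s ∈ MulAction.stabilizer (GL (Fin n) F) x₀ ↔
      (s : Matrix (Fin n) (Fin n) F) *ᵥ v = v ∧ w ᵥ* (s : Matrix (Fin n) (Fin n) F) = w := by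
    intro s
    rw [MulAction.mem_stabilizer_iff]
    constructor
    · intro h
      have h1 : (s • x₀).1.1 = v := by rw [h]; rfl
      have h2 : (s • x₀).1.2 = w := by rw [h]; rfl
      rw [flagPair_smul_fst] at h1
      rw [flagPair_smul_snd] at h2
      refine ⟨h1, ?_⟩
      have h3 := gl_vecMul_inv s w
      change w ᵥ* ((s⁻¹ : GL (Fin n) F) : Matrix (Fin n) (Fin n) F) = w at h2
      rw [h2] at h3
      exact h3
    · rintro ⟨h1, h2⟩
      apply Subtype.ext
      apply Prod.ext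
      · rw [flagPair_smul_fst]; exact h1
      · rw [flagPair_smul_snd]
        change w ᵥ* ((s⁻¹ : GL (Fin n) F) : Matrix (Fin n) (Fin n) F) = w
        have h3 := gl_vecMul_inv' s w
        rw [h2] at h3
        exact h3
  have hcent : ∀ g : GL (Fin n) F, g ∈ Subgroup.centralizer ({t} : Set (GL (Fin n) F)) ↔
      t * g = g * t := by
    intro g
    rw [Subgroup.mem_centralizer_iff]
    simp
  have hf : ∀ p : Fˣ × MulAction.stabilizer (GL (Fin n) F) x₀,
      Matrix.GeneralLinearGroup.scalar (Fin n) p.1 * (p.2 : GL (Fin n) F) ∈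
        Subgroup.centralizer ({t} : Set (GL (Fin n) F)) := by
    intro p
    rw [hcent]
    obtain ⟨h1, h2⟩ := (hstab p.2.1).mp p.2.2
    have hts : t * (p.2 : GL (Fin n) F) = (p.2 : GL (Fin n) F) * t := by
      rw [transv_commute_iff v w t _ ht, h1, h2]
    rw [← mul_assoc, ← Matrix.GeneralLinearGroup.scalar_commute, mul_assoc, hts, mul_assoc]
  let f : Fˣ × MulAction.stabilizer (GL (Fin n) F) x₀ →
      Subgroup.centralizer ({t} : Set (GL (Fin n) F)) := fun p => ⟨_, hf p⟩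
  have hscal_mulVec : ∀ (c : Fˣ) (g : GL (Fin n) F) (u : Fin n → F),
      ((Matrix.GeneralLinearGroup.scalar (Fin n) c * g : GL (Fin n) F) : Matrix (Fin n) (Fin n) F) *ᵥ u
        = (c : F) • ((g : Matrix (Fin n) (Fin n) F) *ᵥ u) := by
    intro c g u
    rw [Units.val_mul, Matrix.GeneralLinearGroup.coe_scalar, ← Matrix.mulVec_mulVec]
    ext i
    simp [Matrix.mulVec, Matrix.scalar_apply, Matrix.diagonal_apply, dotProduct]
  have hscal_vecMul : ∀ (c : Fˣ) (g : GL (Fin n) F) (u : Fin n → F),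
      u ᵥ* ((Matrix.GeneralLinearGroup.scalar (Fin n) c * g : GL (Fin n) F) : Matrix (Fin n) (Fin n) F)
        = (c : F) • (u ᵥ* (g : Matrix (Fin n) (Fin n) F)) := by
    intro c g u
    rw [Matrix.GeneralLinearGroup.scalar_commute, Units.val_mul, Matrix.GeneralLinearGroup.coe_scalar,
      ← Matrix.vecMul_vecMul]
    ext i
    simp [Matrix.vecMul, Matrix.scalar_apply, Matrix.diagonal_apply, dotProduct, mul_comm]
  have hinj : Function.Injective f := by
    rintro ⟨c, s⟩ ⟨c', s'⟩ h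
    have h0 : Matrix.GeneralLinearGroup.scalar (Fin n) c * (s : GL (Fin n) F) =
        Matrix.GeneralLinearGroup.scalar (Fin n) c' * (s' : GL (Fin n) F) := congrArg Subtype.val h
    have h1 := hscal_mulVec c s v
    rw [h0, hscal_mulVec c' s' v, ((hstab s.1).mp s.2).1, ((hstab s'.1).mp s'.2).1] at h1
    obtain ⟨i, hi⟩ : ∃ i, v i ≠ 0 := by
      by_contra hcon; push Not at hcon; exact hv (funext hcon)
    have h2 : (c' : F) = c := by
      have := congrFun h1 i
      simp only [Pi.smul_apply, smul_eq_mul] at this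
      exact mul_right_cancel₀ hi this
    have h3 : c' = c := Units.ext h2
    subst h3
    have h4 : (s : GL (Fin n) F) = s' := mul_left_cancel h0
    rw [Subtype.ext h4]
  have hsurj : Function.Surjective f := by
    rintro ⟨g, hg⟩
    rw [hcent, transv_commute_iff v w t g ht] at hg
    obtain ⟨c, hc1, hc2⟩ := vecMulVec_eq_imp v w _ _ hv hw hg
    have hc0 : c ≠ 0 := by
      intro h
      rw [h, zero_smul] at hc1
      have := gl_mulVec_inv g v
      rw [hc1, Matrix.mulVec_zero] at this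
      exact hv this.symm
    let cu : Fˣ := Units.mk0 c hc0
    let s : GL (Fin n) F := Matrix.GeneralLinearGroup.scalar (Fin n) cu⁻¹ * g
    have hs : s ∈ MulAction.stabilizer (GL (Fin n) F) x₀ := by
      rw [hstab]
      constructor
      · rw [hscal_mulVec, hc1, smul_smul]
        simp [cu, hc0]
      · rw [hscal_vecMul, hc2, smul_smul]
        simp [cu, hc0]
    refine ⟨(cu, ⟨s, hs⟩), ?_⟩
    apply Subtype.ext
    change Matrix.GeneralLinearGroup.scalar (Fin n) cu * (Matrix.GeneralLinearGroup.scalar (Fin n) cu⁻¹ * g) = g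
    rw [← mul_assoc, ← map_mul, mul_inv_cancel, map_one, one_mul]
  rw [← Nat.card_congr (Equiv.ofBijective f ⟨hinj, hsurj⟩), Nat.card_prod, Nat.card_units,
    Nat.card_eq_fintype_card]

end

end Cfsg.Agent.Lib.Helper49
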