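import Mathlib

set_option autoImplicit false

namespace Cfsg.Agent.Lib.Helper49

open Polynomial

section FrobPair

variable {F : Type*} [Field F]

/-- the monic normalisation -/
noncomputable def monicOf (g : F[X]) : F[X] := g * C g.leadingCoeff⁻¹

theorem monicOf_monic {g : F[X]} (hg : g ≠ 0) : (monicOf g).Monic :=
  monic_mul_leadingCoeff_inv hg

theorem monicOf_natDegree {g : F[X]} (hg : g ≠ 0) : (monicOf g).natDegree = g.natDegree :=
  natDegree_mul_leadingCoeff_inv g hg

theorem monicOf_dvd_iff {g : F[X]} (hg : g ≠ 0) (x : F[X]) : monicOf g ∣ x ↔ g ∣ x := by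
  unfold monicOf
  apply IsUnit.mul_right_dvd
  rw [Polynomial.isUnit_C]
  exact (inv_ne_zero (leadingCoeff_ne_zero.mpr hg)).isUnit

/-- the Frobenius pairing on polynomials modulo `g` -/
noncomputable def frobPair (g f h : F[X]) : F :=
  ((f * h) %ₘ monicOf g).coeff (g.natDegree - 1)

theorem frobPair_comm (g f h : F[X]) : frobPair g f h = frobPair g h f := by
  unfold frobPair; rw [mul_comm]

theorem frobPair_add_left (g f f' h : F[X]) :
    frobPair g (f + f') h = frobPair g f h + frobPair g f' h := by
  unfold frobPair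
  rw [add_mul, add_modByMonic, coeff_add]

theorem frobPair_C_mul_left (g : F[X]) (c : F) (f h : F[X]) :
    frobPair g (C c * f) h = c * frobPair g f h := by
  unfold frobPair
  rw [mul_assoc, C_mul', smul_modByMonic, coeff_smul, smul_eq_mul]

theorem frobPair_congr_left {g : F[X]} (hg : g ≠ 0) {f f' : F[X]} (h : F[X]) (hd : g ∣ f - f') :
    frobPair g f h = frobPair g f' h := by
  unfold frobPair
  rw [modByMonic_eq_of_dvd_sub (monicOf_monic hg)]
  rw [monicOf_dvd_iff hg, ← sub_mul]
  exact Dvd.dvd.mul_right hd h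

theorem frobPair_congr_right {g : F[X]} (hg : g ≠ 0) (f : F[X]) {h h' : F[X]} (hd : g ∣ h - h') :
    frobPair g f h = frobPair g f h' := by
  rw [frobPair_comm, frobPair_congr_left hg f hd, frobPair_comm]

theorem frobPair_zero_right (g f : F[X]) : frobPair g f 0 = 0 := by
  unfold frobPair
  rw [mul_zero, zero_modByMonic, coeff_zero]

theorem frobPair_X_mul (g f h : F[X]) : frobPair g (X * f) h = frobPair g f (X * h) := by
  unfold frobPair
  congr 2
  ring

theorem frobPair_nondeg {g : F[X]} (hg : g ≠ 0) {f : F[X]} (hf : ¬ g ∣ f) :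
    ∃ h, frobPair g f h ≠ 0 := by
  have hm := monicOf_monic hg
  set gm := monicOf g with hgm
  set r := f %ₘ gm with hr
  have hr0 : r ≠ 0 := by
    intro h0
    apply hf
    rw [← monicOf_dvd_iff hg]
    exact (modByMonic_eq_zero_iff_dvd hm).mp h0
  have hgm1 : gm ≠ 1 := by
    intro h1
    apply hf
    rw [← monicOf_dvd_iff hg, ← hgm, h1]
    exact one_dvd f
  have hlt : r.natDegree < g.natDegree := by
    rw [← monicOf_natDegree hg]
    exact natDegree_modByMonic_lt f hm hgm1
  refine ⟨X ^ (g.natDegree - 1 - r.natDegree), ?_⟩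
  have hsub : g ∣ f - r := by
    rw [← monicOf_dvd_iff hg]
    have := modByMonic_add_div f gm
    refine ⟨f /ₘ gm, ?_⟩
    rw [← hgm]
    nth_rewrite 1 [← this]
    rw [← hr]; ring
  rw [frobPair_congr_left hg _ hsub]
  unfold frobPair
  rw [← hgm]
  have hdeg : (r * X ^ (g.natDegree - 1 - r.natDegree)).degree < gm.degree := by
    rw [degree_eq_natDegree hm.ne_zero, hgm, monicOf_natDegree hg]
    rw [degree_mul, degree_X_pow, degree_eq_natDegree hr0]
    norm_cast
    omega
  rw [(modByMonic_eq_self_iff hm).mpr hdeg, coeff_mul_X_pow']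
  rw [if_pos (by omega)]
  have : g.natDegree - 1 - (g.natDegree - 1 - r.natDegree) = r.natDegree := by omega
  rw [this]
  exact leadingCoeff_ne_zero.mpr hr0

end FrobPair

end Cfsg.Agent.Lib.Helper49
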