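import Cfsg.Agent.Lib.Helper49.UnipotentClasses

set_option autoImplicit false

namespace Cfsg.Agent.Lib.Helper49

open Module

section JC

universe u

variable {F : Type u} [Field F] {n : ℕ}

/-- a linear automorphism commuting with `nilOf g` gives a matrix commuting with `g` -/
theorem exists_gl_of_commute_nilOf (g : GL (Fin n) F) (Φ : (Fin n → F) ≃ₗ[F] (Fin n → F))
    (hΦ : ∀ x, Φ (nilOf g x) = nilOf g (Φ x)) :
    ∃ c : GL (Fin n) F, c * g = g * c ∧
      (c : Matrix (Fin n) (Fin n) F).det = LinearMap.det (Φ : (Fin n → F) →ₗ[F] (Fin n → F)) := by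
  classical
  let c : Matrix (Fin n) (Fin n) F := LinearMap.toMatrix' (Φ : (Fin n → F) →ₗ[F] (Fin n → F))
  let c' : Matrix (Fin n) (Fin n) F := LinearMap.toMatrix' (Φ.symm : (Fin n → F) →ₗ[F] (Fin n → F))
  have hcc' : c * c' = 1 := by
    rw [← LinearMap.toMatrix'_comp]; simp
  have hc'c : c' * c = 1 := by
    rw [← LinearMap.toMatrix'_comp]; simp
  let cG : GL (Fin n) F := ⟨c, c', hcc', hc'c⟩
  have hcomm : c * ((g : Matrix (Fin n) (Fin n) F) - 1) = ((g : Matrix (Fin n) (Fin n) F) - 1) * c := by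
    apply Matrix.toLin'.injective
    apply LinearMap.ext
    intro x
    rw [Matrix.toLin'_mul, Matrix.toLin'_mul, LinearMap.comp_apply, LinearMap.comp_apply]
    have e1 : Matrix.toLin' c = (Φ : (Fin n → F) →ₗ[F] (Fin n → F)) := Matrix.toLin'_toMatrix' _
    rw [e1]
    exact hΦ x
  refine ⟨cG, ?_, ?_⟩
  · apply Units.ext
    rw [Units.val_mul, Units.val_mul]
    change c * (g : Matrix (Fin n) (Fin n) F) = (g : Matrix (Fin n) (Fin n) F) * c
    have := hcomm
    rw [mul_sub, sub_mul, mul_one, one_mul] at this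
    exact sub_left_injective this
  · change c.det = _
    exact LinearMap.det_toMatrix' _

/-- scaling the Jordan blocks: a centralising matrix of prescribed determinant -/
theorem exists_commute_det {g : GL (Fin n) F} {t : ℕ} {d : Fin t → ℕ}
    {b : Basis ((k : Fin t) × Fin (d k)) F (Fin n → F)}
    (hb : IsJordanBasis (nilOf g) d b) (w : Fin t → Fˣ) :
    ∃ c : GL (Fin n) F, c * g = g * c ∧
      (c : Matrix (Fin n) (Fin n) F).det = ∏ k, ((w k : Fˣ) : F) ^ d k := by
  classical
  let W : ((k : Fin t) × Fin (d k)) → Fˣ := fun i => w i.1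
  let Φ : (Fin n → F) ≃ₗ[F] (Fin n → F) := b.equiv (b.unitsSMul W) (Equiv.refl _)
  have hΦb : ∀ i, Φ (b i) = (W i : F) • b i := by
    intro i
    change b.equiv (b.unitsSMul W) (Equiv.refl _) (b i) = _
    rw [Basis.equiv_apply, Equiv.refl_apply, Basis.unitsSMul_apply]
    rfl
  have hΦ : ∀ x, Φ (nilOf g x) = nilOf g (Φ x) := by
    intro x
    have : (Φ : (Fin n → F) →ₗ[F] (Fin n → F)) ∘ₗ nilOf g = nilOf g ∘ₗ (Φ : (Fin n → F) →ₗ[F] (Fin n → F)) := by
      apply b.ext
      rintro ⟨k, j⟩
      rw [LinearMap.comp_apply, LinearMap.comp_apply, LinearEquiv.coe_coe, hΦb, map_smul, hb k j]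
      split_ifs with hlt
      · rw [hΦb]
      · rw [map_zero, smul_zero]
    exact LinearMap.congr_fun this x
  obtain ⟨c, hc, hdet⟩ := exists_gl_of_commute_nilOf g Φ hΦ
  refine ⟨c, hc, ?_⟩
  rw [hdet, ← LinearMap.det_toMatrix b]
  have hM : LinearMap.toMatrix b b (Φ : (Fin n → F) →ₗ[F] (Fin n → F)) =
      Matrix.diagonal (fun i => (W i : F)) := by
    ext i j
    rw [LinearMap.toMatrix_apply, LinearEquiv.coe_coe, hΦb, map_smul, Basis.repr_self,
      Finsupp.smul_apply, Finsupp.single_apply, Matrix.diagonal_apply]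
    by_cases hij : i = j
    · subst hij; simp
    · rw [if_neg hij, if_neg (Ne.symm hij)]; simp
  rw [hM, Matrix.det_diagonal, Fintype.prod_sigma]
  apply Finset.prod_congr rfl
  intro k _
  change ∏ _y : Fin (d k), ((w k : Fˣ) : F) = _
  rw [Finset.prod_const, Finset.card_univ, Fintype.card_fin]

/-- for Jordan type `2^m`, every centralising matrix has square determinant -/
theorem isSquare_det_of_commute {g c : GL (Fin n) F} {t : ℕ} {d : Fin t → ℕ}
    {b : Basis ((k : Fin t) × Fin (d k)) F (Fin n → F)}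
    (hb : IsJordanBasis (nilOf g) d b) (hd : ∀ k, d k = 2) (hc : c * g = g * c) :
    IsSquare (c : Matrix (Fin n) (Fin n) F).det := by
  classical
  obtain rfl : d = fun _ => 2 := funext hd
  let e : ((_ : Fin t) × Fin 2) ≃ Fin t ⊕ Fin t :=
    { toFun := fun x => if x.2 = 0 then Sum.inl x.1 else Sum.inr x.1
      invFun := Sum.elim (fun k => ⟨k, 0⟩) (fun k => ⟨k, 1⟩)
      left_inv := by
        rintro ⟨k, j⟩
        fin_cases j <;> simp
      right_inv := by
        rintro (k | k) <;> simp }
  let b' : Basis (Fin t ⊕ Fin t) F (Fin n → F) := b.reindex e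
  have hbl : ∀ k, b' (Sum.inl k) = b ⟨k, 0⟩ := fun k => by
    rw [Basis.reindex_apply]; rfl
  have hbr : ∀ k, b' (Sum.inr k) = b ⟨k, 1⟩ := fun k => by
    rw [Basis.reindex_apply]; rfl
  set N := nilOf g with hN
  have hNl : ∀ k, N (b' (Sum.inl k)) = b' (Sum.inr k) := by
    intro k
    rw [hbl, hbr, hb k 0]
    rw [dif_pos (by simp)]
    rfl
  have hNr : ∀ k, N (b' (Sum.inr k)) = 0 := by
    intro k
    rw [hbr, hb k 1]
    rw [dif_neg (by simp)]
  -- coordinates of `N v`
  have key1 : ∀ v l, b'.repr (N v) (Sum.inr l) = b'.repr v (Sum.inl l) := by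
    intro v l
    have : (b'.coord (Sum.inr l)) ∘ₗ N = b'.coord (Sum.inl l) := by
      apply b'.ext
      rintro (k | k)
      · rw [LinearMap.comp_apply, hNl, Basis.coord_apply, Basis.coord_apply, Basis.repr_self,
          Basis.repr_self, Finsupp.single_apply, Finsupp.single_apply]
        simp
      · rw [LinearMap.comp_apply, hNr, map_zero, Basis.coord_apply, Basis.repr_self,
          Finsupp.single_apply]
        simp
    exact LinearMap.congr_fun this v
  have key2 : ∀ v l, b'.repr (N v) (Sum.inl l) = 0 := by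
    intro v l
    have : (b'.coord (Sum.inl l)) ∘ₗ N = 0 := by
      apply b'.ext
      rintro (k | k)
      · rw [LinearMap.comp_apply, hNl, Basis.coord_apply, Basis.repr_self, Finsupp.single_apply]
        simp
      · rw [LinearMap.comp_apply, hNr, map_zero]
        simp
    exact LinearMap.congr_fun this v
  -- the linear map of `c` commutes with `N`
  let C : (Fin n → F) →ₗ[F] (Fin n → F) := Matrix.toLin' (c : Matrix (Fin n) (Fin n) F)
  have hCN : ∀ v, C (N v) = N (C v) := by
    intro v
    have h1 : (c : Matrix (Fin n) (Fin n) F) * ((g : Matrix (Fin n) (Fin n) F) - 1) =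
        ((g : Matrix (Fin n) (Fin n) F) - 1) * (c : Matrix (Fin n) (Fin n) F) := by
      have := congrArg (fun x : GL (Fin n) F => (x : Matrix (Fin n) (Fin n) F)) hc
      simp only [Units.val_mul] at this
      rw [mul_sub, sub_mul, mul_one, one_mul, this]
    have h2 := congrArg (fun M => Matrix.toLin' M v) h1
    simp only [Matrix.toLin'_mul, LinearMap.comp_apply] at h2
    exact h2
  set M := LinearMap.toMatrix b' b' C with hM
  have h12 : M.toBlocks₁₂ = 0 := by
    ext l k
    change M (Sum.inl l) (Sum.inr k) = 0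
    rw [hM, LinearMap.toMatrix_apply, ← hNl, hCN, key2]
  have h22 : M.toBlocks₂₂ = M.toBlocks₁₁ := by
    ext l k
    change M (Sum.inr l) (Sum.inr k) = M (Sum.inl l) (Sum.inl k)
    rw [hM, LinearMap.toMatrix_apply, LinearMap.toMatrix_apply, ← hNl, hCN, key1]
  have hdet : (c : Matrix (Fin n) (Fin n) F).det = M.det := by
    rw [hM, LinearMap.det_toMatrix b']
    exact (LinearMap.det_toLin' _).symm
  rw [hdet, ← Matrix.fromBlocks_toBlocks M, h12, h22, Matrix.det_fromBlocks_zero₁₂]
  exact ⟨_, rfl⟩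

end JC

end Cfsg.Agent.Lib.Helper49
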