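import Mathlib

set_option autoImplicit false

namespace Cfsg.Agent.Lib.Helper49

section JD

variable {ι : Type*} [DecidableEq ι] (d : ι → ℕ) (good : ℕ → Prop)

/-- a finset of block indices decomposes into single blocks of good size and pairs of blocks of
equal size -/
inductive JDecomp : Finset ι → Prop
  | empty : JDecomp ∅
  | single (k₀ : ι) (S : Finset ι) (h : k₀ ∉ S) (hg : good (d k₀)) :
      JDecomp S → JDecomp ({k₀} ∪ S)
  | pair (k₀ k₁ : ι) (S : Finset ι) (hne : k₀ ≠ k₁) (h0 : k₀ ∉ S) (h1 : k₁ ∉ S)
      (he : d k₀ = d k₁) : JDecomp S → JDecomp (({k₀} ∪ {k₁}) ∪ S)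

theorem jdecomp_of_parity : ∀ (n : ℕ) (S : Finset ι), S.card = n →
    (∀ j, ¬ good j → Even (S.filter (fun k => d k = j)).card) → JDecomp d good S := by
  classical
  intro n
  induction n using Nat.strong_induction_on with
  | _ n ih =>
    intro S hS hpar
    rcases S.eq_empty_or_nonempty with hemp | ⟨k₀, hk₀⟩
    · subst hemp
      exact JDecomp.empty
    · by_cases hev : good (d k₀)
      · have hSeq : {k₀} ∪ S.erase k₀ = S := by
          rw [← Finset.insert_eq, Finset.insert_erase hk₀]
        have hcard : (S.erase k₀).card = n - 1 := by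
          rw [Finset.card_erase_of_mem hk₀, hS]
        have hn : 0 < n := by
          rw [← hS]
          exact Finset.card_pos.mpr ⟨k₀, hk₀⟩
        have hpar' : ∀ j, ¬ good j → Even ((S.erase k₀).filter (fun k => d k = j)).card := by
          intro j hj
          rw [Finset.filter_erase, Finset.erase_eq_of_notMem]
          · exact hpar j hj
          · intro hmem
            have := (Finset.mem_filter.mp hmem).2
            rw [this] at hev
            exact hj hev
        have hrec := ih (n - 1) (by omega) (S.erase k₀) hcard hpar'
        rw [← hSeq]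
        exact JDecomp.single k₀ _ (Finset.notMem_erase k₀ S) hev hrec
      · have hT := hpar (d k₀) hev
        have hk₀T : k₀ ∈ S.filter (fun k => d k = d k₀) := Finset.mem_filter.mpr ⟨hk₀, rfl⟩
        have hTcard : 1 < (S.filter (fun k => d k = d k₀)).card := by
          have hpos : 0 < (S.filter (fun k => d k = d k₀)).card := Finset.card_pos.mpr ⟨k₀, hk₀T⟩
          obtain ⟨r, hr⟩ := hT
          omega
        obtain ⟨k₁, hk₁T, hk₁ne⟩ := Finset.exists_mem_ne hTcard k₀
        have hk₁S : k₁ ∈ S := (Finset.mem_filter.mp hk₁T).1
        have hdk₁ : d k₁ = d k₀ := (Finset.mem_filter.mp hk₁T).2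
        have hk₁S' : k₁ ∈ S.erase k₀ := Finset.mem_erase.mpr ⟨hk₁ne, hk₁S⟩
        have hSeq : ({k₀} ∪ {k₁}) ∪ (S.erase k₀).erase k₁ = S := by
          rw [Finset.union_assoc, ← Finset.insert_eq k₁, Finset.insert_erase hk₁S',
            ← Finset.insert_eq, Finset.insert_erase hk₀]
        have hcard : ((S.erase k₀).erase k₁).card = n - 2 := by
          rw [Finset.card_erase_of_mem hk₁S', Finset.card_erase_of_mem hk₀, hS]
          omega
        have hn : 2 ≤ n := by
          rw [← hS]
          calc 2 ≤ (S.filter (fun k => d k = d k₀)).card := hTcard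
            _ ≤ S.card := Finset.card_filter_le _ _
        have hpar' : ∀ j, ¬ good j →
            Even (((S.erase k₀).erase k₁).filter (fun k => d k = j)).card := by
          intro j hj
          rw [Finset.filter_erase, Finset.filter_erase]
          by_cases hjj : d k₀ = j
          · subst hjj
            have h1 : k₁ ∈ (S.filter (fun k => d k = d k₀)).erase k₀ :=
              Finset.mem_erase.mpr ⟨hk₁ne, hk₁T⟩
            rw [Finset.card_erase_of_mem h1, Finset.card_erase_of_mem hk₀T]
            obtain ⟨r, hr⟩ := hT
            rw [hr]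
            exact ⟨r - 1, by omega⟩
          · rw [Finset.erase_eq_of_notMem, Finset.erase_eq_of_notMem]
            · exact hpar j hj
            · intro hmem
              exact hjj (Finset.mem_filter.mp hmem).2
            · intro hmem
              have := (Finset.mem_filter.mp (Finset.mem_of_mem_erase hmem)).2
              exact hjj (hdk₁ ▸ this)
        have hrec := ih (n - 2) (by omega) ((S.erase k₀).erase k₁) hcard hpar'
        rw [← hSeq]
        refine JDecomp.pair k₀ k₁ _ (Ne.symm hk₁ne) ?_ ?_ hdk₁.symm hrec
        · intro hmem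
          exact Finset.notMem_erase k₀ S (Finset.mem_of_mem_erase hmem)
        · exact Finset.notMem_erase k₁ _

end JD

end Cfsg.Agent.Lib.Helper49
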