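import Mathlib
import Cfsg.Agent.Lib.Helper18.SympWitt

set_option autoImplicit false

/-! Pairs of complementary totally isotropic subspaces of the standard symplectic space:
transitivity of the symplectic group, the stabilizer of the standard pair, and the count. -/

namespace Cfsg.Agent.Lib.Helper49

open Matrix Module

section Std

variable {F : Type*} [Field F] (d : ℕ)

local notation "V" => (Fin d ⊕ Fin d → F)
local notation "ff" => Cfsg.sympForm d F

/-- the first standard Lagrangian: vectors supported on the `inl` coordinates -/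
def stdU (F : Type*) [Field F] (d : ℕ) : Submodule F (Fin d ⊕ Fin d → F) :=
  Submodule.span F (Set.range fun i : Fin d => (Pi.single (Sum.inl i) 1 : Fin d ⊕ Fin d → F))

/-- the second standard Lagrangian: vectors supported on the `inr` coordinates -/
def stdW (F : Type*) [Field F] (d : ℕ) : Submodule F (Fin d ⊕ Fin d → F) :=
  Submodule.span F (Set.range fun i : Fin d => (Pi.single (Sum.inr i) 1 : Fin d ⊕ Fin d → F))

theorem mem_stdU_iff (v : V) : v ∈ stdU F d ↔ ∀ i : Fin d, v (Sum.inr i) = 0 := by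
  constructor
  · intro hv
    refine Submodule.span_induction (p := fun v _ => ∀ i : Fin d, v (Sum.inr i) = 0)
      ?_ ?_ ?_ ?_ hv
    · rintro _ ⟨j, rfl⟩ i
      simp
    · intro i; rfl
    · intro x y _ _ hx hy i
      rw [Pi.add_apply, hx i, hy i, add_zero]
    · intro a x _ hx i
      rw [Pi.smul_apply, hx i, smul_zero]
  · intro hv
    have h1 : v = ∑ i : Fin d, v (Sum.inl i) • (Pi.single (Sum.inl i) 1 : V) := by
      funext k
      rw [Finset.sum_apply]
      rcases k with k | k
      · simp [Pi.single_apply]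
      · simp [hv k]
    rw [h1]
    exact Submodule.sum_mem _ fun i _ =>
      Submodule.smul_mem _ _ (Submodule.subset_span ⟨i, rfl⟩)

theorem mem_stdW_iff (v : V) : v ∈ stdW F d ↔ ∀ i : Fin d, v (Sum.inl i) = 0 := by
  constructor
  · intro hv
    refine Submodule.span_induction (p := fun v _ => ∀ i : Fin d, v (Sum.inl i) = 0)
      ?_ ?_ ?_ ?_ hv
    · rintro _ ⟨j, rfl⟩ i
      simp
    · intro i; rfl
    · intro x y _ _ hx hy i
      rw [Pi.add_apply, hx i, hy i, add_zero]
    · intro a x _ hx i
      rw [Pi.smul_apply, hx i, smul_zero]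
  · intro hv
    have h1 : v = ∑ i : Fin d, v (Sum.inr i) • (Pi.single (Sum.inr i) 1 : V) := by
      funext k
      rw [Finset.sum_apply]
      rcases k with k | k
      · simp [hv k]
      · simp [Pi.single_apply]
    rw [h1]
    exact Submodule.sum_mem _ fun i _ =>
      Submodule.smul_mem _ _ (Submodule.subset_span ⟨i, rfl⟩)

theorem stdU_isotropic (u v : V) (hu : u ∈ stdU F d) (hv : v ∈ stdU F d) : ff u v = 0 := by
  rw [mem_stdU_iff] at hu hv
  rw [Cfsg.Agent.Lib.Helper18.sympForm_eq]
  apply Finset.sum_eq_zero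
  intro i _
  rw [hu i, hv i]; ring

theorem stdW_isotropic (u v : V) (hu : u ∈ stdW F d) (hv : v ∈ stdW F d) : ff u v = 0 := by
  rw [mem_stdW_iff] at hu hv
  rw [Cfsg.Agent.Lib.Helper18.sympForm_eq]
  apply Finset.sum_eq_zero
  intro i _
  rw [hu i, hv i]; ring

theorem std_isCompl : IsCompl (stdU F d) (stdW F d) := by
  constructor
  · rw [Submodule.disjoint_def]
    intro v hU hW
    rw [mem_stdU_iff] at hU
    rw [mem_stdW_iff] at hW
    funext k
    rcases k with k | k
    · exact hW k
    · exact hU k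
  · rw [codisjoint_iff, eq_top_iff]
    intro v _
    rw [Submodule.mem_sup]
    refine ⟨fun k => Sum.elim (fun i => v (Sum.inl i)) (fun _ => 0) k, ?_,
      fun k => Sum.elim (fun _ => 0) (fun i => v (Sum.inr i)) k, ?_, ?_⟩
    · rw [mem_stdU_iff]; intro i; rfl
    · rw [mem_stdW_iff]; intro i; rfl
    · funext k
      rcases k with k | k
      · simp
      · simp

end Std

section Act

variable (F : Type*) [Field F] (d : ℕ)

local notation "V" => (Fin d ⊕ Fin d → F)
local notation "ff" => Cfsg.sympForm d F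
local notation "Sp" => Matrix.symplecticGroup (Fin d) F

/-- the action of the symplectic group on pairs of subspaces -/
@[reducible] def spPairAction :
    MulAction (Matrix.symplecticGroup (Fin d) F)
      (Submodule F (Fin d ⊕ Fin d → F) × Submodule F (Fin d ⊕ Fin d → F)) where
  smul g P := (P.1.map (Matrix.toLin' g.1), P.2.map (Matrix.toLin' g.1))
  one_smul P := by
    change (P.1.map (Matrix.toLin' (1 : Sp).1), P.2.map (Matrix.toLin' (1 : Sp).1)) = P
    have h1 : ((1 : Sp) : Matrix (Fin d ⊕ Fin d) (Fin d ⊕ Fin d) F) = 1 := rfl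
    rw [h1, Matrix.toLin'_one, Submodule.map_id, Submodule.map_id]
  mul_smul g h P := by
    change (P.1.map (Matrix.toLin' (g * h).1), P.2.map (Matrix.toLin' (g * h).1)) =
      ((P.1.map (Matrix.toLin' h.1)).map (Matrix.toLin' g.1),
        (P.2.map (Matrix.toLin' h.1)).map (Matrix.toLin' g.1))
    have h1 : ((g * h : Sp) : Matrix (Fin d ⊕ Fin d) (Fin d ⊕ Fin d) F) = g.1 * h.1 := rfl
    rw [h1, Matrix.toLin'_mul, Submodule.map_comp, Submodule.map_comp]

variable {F} in
theorem spPairAction_smul (g : Sp) (P : Submodule F V × Submodule F V) :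
    (spPairAction F d).smul g P = (P.1.map (Matrix.toLin' g.1), P.2.map (Matrix.toLin' g.1)) :=
  rfl

/-- a symplectic matrix as a linear equivalence -/
noncomputable def spEquiv {F : Type*} [Field F] (d : ℕ)
    (g : Matrix.symplecticGroup (Fin d) F) : (Fin d ⊕ Fin d → F) ≃ₗ[F] (Fin d ⊕ Fin d → F) :=
  LinearEquiv.ofLinear (Matrix.toLin' g.1) (Matrix.toLin' (g⁻¹).1)
    (by
      rw [← Matrix.toLin'_mul]
      have h1 : g.1 * (g⁻¹).1 = ((g * g⁻¹ : Matrix.symplecticGroup (Fin d) F) : Matrix _ _ F) := rfl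
      rw [h1, mul_inv_cancel]
      exact Matrix.toLin'_one)
    (by
      rw [← Matrix.toLin'_mul]
      have h1 : (g⁻¹).1 * g.1 = ((g⁻¹ * g : Matrix.symplecticGroup (Fin d) F) : Matrix _ _ F) := rfl
      rw [h1, inv_mul_cancel]
      exact Matrix.toLin'_one)

variable {F}

theorem spEquiv_coe (g : Sp) : ((spEquiv d g : V ≃ₗ[F] V) : V →ₗ[F] V) = Matrix.toLin' g.1 := rfl

theorem spEquiv_apply (g : Sp) (v : V) : spEquiv d g v = g.1 *ᵥ v := rfl

/-- symplectic matrices preserve complementarity -/
theorem isCompl_map_sp (g : Sp) (U W : Submodule F V) (h : IsCompl U W) :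
    IsCompl (U.map (Matrix.toLin' g.1)) (W.map (Matrix.toLin' g.1)) := by
  rw [← spEquiv_coe]
  exact (Submodule.orderIsoMapComap (spEquiv d g)).isCompl_iff.mp h

/-- symplectic matrices preserve total isotropy -/
theorem isotropic_map_sp (g : Sp) (U : Submodule F V) (h : ∀ u ∈ U, ∀ v ∈ U, ff u v = 0) :
    ∀ u ∈ U.map (Matrix.toLin' g.1), ∀ v ∈ U.map (Matrix.toLin' g.1), ff u v = 0 := by
  rintro _ ⟨u, hu, rfl⟩ _ ⟨v, hv, rfl⟩
  rw [Matrix.toLin'_apply, Matrix.toLin'_apply,
    Cfsg.Agent.Lib.Helper18.sf_mulVec_of_mem d g.1 g.2]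
  exact h u hu v hv

end Act

section Trans

variable {F : Type*} [Field F] (d : ℕ)

local notation "V" => (Fin d ⊕ Fin d → F)
local notation "ff" => Cfsg.sympForm d F
local notation "Sp" => Matrix.symplecticGroup (Fin d) F

/-- `Sp` is transitive on linearly independent frames indexed by `Fin d ⊕ Fin d` with the same
Gram matrix -/
theorem exists_symp_map_frame_sum [Finite F] (s s' : Fin d ⊕ Fin d → V)
    (hs : LinearIndependent F s) (hs' : LinearIndependent F s')
    (h : ∀ i j, ff (s i) (s j) = ff (s' i) (s' j)) : ∃ A : Sp, ∀ i, A.1 *ᵥ s i = s' i := by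
  let e := Fintype.equivFin (Fin d ⊕ Fin d)
  obtain ⟨A, hA⟩ := Cfsg.Agent.Lib.Helper18.exists_symp_map_frame (s ∘ e.symm) (s' ∘ e.symm)
    (hs.comp _ e.symm.injective) (hs'.comp _ e.symm.injective) (fun i j => h _ _)
  refine ⟨A, fun i => ?_⟩
  have := hA (e i)
  simpa using this

/-- the pairing between two complementary subspaces, the second totally isotropic, is
injective on the second -/
theorem pair_injective (U W : Submodule F V) (hc : IsCompl U W)
    (hW : ∀ u ∈ W, ∀ v ∈ W, ff u v = 0) :
    Function.Injective ((Cfsg.Agent.Lib.Helper18.sB d F).domRestrict₁₂ W U) := by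
  rw [← LinearMap.ker_eq_bot, LinearMap.ker_eq_bot']
  intro w hw
  have h1 : ∀ u ∈ U, ff (w : V) u = 0 := by
    intro u hu
    have := LinearMap.congr_fun hw ⟨u, hu⟩
    rw [LinearMap.domRestrict₁₂_apply, Cfsg.Agent.Lib.Helper18.sB_apply] at this
    exact this
  have h2 : ∀ v : V, Cfsg.Agent.Lib.Helper18.sB d F (w : V) v = 0 := by
    intro v
    have hv : v ∈ U ⊔ W := by rw [hc.sup_eq_top]; exact Submodule.mem_top
    obtain ⟨u, hu, w', hw', rfl⟩ := Submodule.mem_sup.mp hv
    rw [map_add, Cfsg.Agent.Lib.Helper18.sB_apply, Cfsg.Agent.Lib.Helper18.sB_apply, h1 u hu,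
      hW _ w.2 _ hw', add_zero]
  have h3 := (Cfsg.Agent.Lib.Helper18.sB_nondegenerate (m := d) (F := F)).1 (w : V) h2
  exact Subtype.ext h3

theorem finrank_std_space : finrank F V = 2 * d := by
  rw [Module.finrank_fintype_fun_eq_card, Fintype.card_sum, Fintype.card_fin]; ring

/-- both members of a complementary totally isotropic pair have dimension `d` -/
theorem finrank_pair (U W : Submodule F V) (hc : IsCompl U W)
    (hU : ∀ u ∈ U, ∀ v ∈ U, ff u v = 0) (hW : ∀ u ∈ W, ∀ v ∈ W, ff u v = 0) :
    finrank F U = d ∧ finrank F W = d := by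
  have hUW : finrank F W ≤ finrank F U := by
    have := LinearMap.finrank_le_finrank_of_injective (pair_injective d U W hc hW)
    rwa [Subspace.dual_finrank_eq] at this
  have hWU : finrank F U ≤ finrank F W := by
    have := LinearMap.finrank_le_finrank_of_injective (pair_injective d W U hc.symm hU)
    rwa [Subspace.dual_finrank_eq] at this
  have hsum := Submodule.finrank_add_eq_of_isCompl hc
  rw [finrank_std_space] at hsum
  omega

theorem span_range_coe_basis {ι : Type*} (U : Submodule F V) (b : Basis ι F U) :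
    Submodule.span F (Set.range fun i => (b i : V)) = U := by
  have h1 := b.span_eq
  have h2 := congrArg (Submodule.map U.subtype) h1
  rw [Submodule.map_span, Submodule.map_subtype_top, ← Set.range_comp] at h2
  exact h2

theorem linearIndependent_coe_basis {ι : Type*} (U : Submodule F V) (b : Basis ι F U) :
    LinearIndependent F (fun i => (b i : V)) :=
  b.linearIndependent.map' U.subtype (Submodule.ker_subtype U)

/-- a frame adapted to a complementary totally isotropic pair -/
theorem exists_dual_frame (U W : Submodule F V) (hc : IsCompl U W)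
    (hU : ∀ u ∈ U, ∀ v ∈ U, ff u v = 0) (hW : ∀ u ∈ W, ∀ v ∈ W, ff u v = 0) :
    ∃ u w : Fin d → V, LinearIndependent F (Sum.elim u w) ∧
      Submodule.span F (Set.range u) = U ∧ Submodule.span F (Set.range w) = W ∧
      ∀ i j, ff (w i) (u j) = if j = i then 1 else 0 := by
  classical
  obtain ⟨hdU, hdW⟩ := finrank_pair d U W hc hU hW
  let b : Basis (Fin d) F U := Module.finBasisOfFinrankEq F U hdU
  let e : W ≃ₗ[F] Module.Dual F U :=
    LinearMap.linearEquivOfInjective ((Cfsg.Agent.Lib.Helper18.sB d F).domRestrict₁₂ W U)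
      (pair_injective d U W hc hW) (by rw [Subspace.dual_finrank_eq, hdU, hdW])
  let bw : Basis (Fin d) F W := b.dualBasis.map e.symm
  refine ⟨fun i => (b i : V), fun i => (bw i : V), ?_, span_range_coe_basis d U b,
    span_range_coe_basis d W bw, ?_⟩
  · apply LinearIndependent.sum_type (linearIndependent_coe_basis d U b)
      (linearIndependent_coe_basis d W bw)
    rw [span_range_coe_basis d U b, span_range_coe_basis d W bw]
    exact hc.disjoint
  · intro i j
    have h1 : e (bw i) = b.dualBasis i := by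
      change e ((b.dualBasis.map e.symm) i) = _
      rw [Basis.map_apply, LinearEquiv.apply_symm_apply]
    have h2 : e (bw i) (b j) = ff ((bw i : W) : V) ((b j : U) : V) := by
      rw [show e (bw i) = ((Cfsg.Agent.Lib.Helper18.sB d F).domRestrict₁₂ W U) (bw i) from
        LinearMap.linearEquivOfInjective_apply _ _ _, LinearMap.domRestrict₁₂_apply,
        Cfsg.Agent.Lib.Helper18.sB_apply]
    rw [← h2, h1, Basis.dualBasis_apply_self]

/-- transitivity of `Sp` on complementary totally isotropic pairs -/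
theorem exists_symp_map_std [Finite F] (U W : Submodule F V) (hc : IsCompl U W)
    (hU : ∀ u ∈ U, ∀ v ∈ U, ff u v = 0) (hW : ∀ u ∈ W, ∀ v ∈ W, ff u v = 0) :
    ∃ A : Sp, (stdU F d).map (Matrix.toLin' A.1) = U ∧ (stdW F d).map (Matrix.toLin' A.1) = W := by
  classical
  obtain ⟨u, w, hlin, hu, hw, hdual⟩ := exists_dual_frame d U W hc hU hW
  have hmemU : ∀ i, u i ∈ U := fun i => by rw [← hu]; exact Submodule.subset_span ⟨i, rfl⟩
  have hmemW : ∀ i, w i ∈ W := fun i => by rw [← hw]; exact Submodule.subset_span ⟨i, rfl⟩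
  obtain ⟨A, hA⟩ := exists_symp_map_frame_sum d
    (fun a => (Pi.single a 1 : V)) (Sum.elim u w) (Pi.linearIndependent_single_one _ F) hlin (by
      intro a b
      rcases a with i | i <;> rcases b with j | j
      · rw [Sum.elim_inl, Sum.elim_inl, hU _ (hmemU i) _ (hmemU j),
          Cfsg.Agent.Lib.Helper18.sf_single_inl]
        simp
      · rw [Sum.elim_inl, Sum.elim_inr, Cfsg.Agent.Lib.Helper18.sf_swap d (u i) (w j), hdual,
          Cfsg.Agent.Lib.Helper18.sf_single_inr, Pi.single_apply]
        by_cases hij : i = j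
        · subst hij; simp
        · rw [if_neg hij, if_neg (fun h => hij (Sum.inl_injective h).symm)]
      · rw [Sum.elim_inr, Sum.elim_inl, hdual, Cfsg.Agent.Lib.Helper18.sf_single_inl,
          Pi.single_apply]
        by_cases hij : j = i
        · subst hij; simp
        · rw [if_neg hij, if_neg (fun h => hij (Sum.inr_injective h))]
      · rw [Sum.elim_inr, Sum.elim_inr, hW _ (hmemW i) _ (hmemW j),
          Cfsg.Agent.Lib.Helper18.sf_single_inr]
        simp)
  refine ⟨A, ?_, ?_⟩
  · unfold stdU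
    rw [Submodule.map_span, ← Set.range_comp, ← hu]
    congr 2
    funext i
    have := hA (Sum.inl i)
    simpa using this
  · unfold stdW
    rw [Submodule.map_span, ← Set.range_comp, ← hw]
    congr 2
    funext i
    have := hA (Sum.inr i)
    simpa using this

end Trans

section Stab

variable {F : Type*} [Field F] (d : ℕ)

local notation "V" => (Fin d ⊕ Fin d → F)
local notation "ff" => Cfsg.sympForm d F
local notation "Sp" => Matrix.symplecticGroup (Fin d) F

theorem diag_mem_symp_iff (A D : Matrix (Fin d) (Fin d) F) :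
    Matrix.fromBlocks A 0 0 D ∈ Matrix.symplecticGroup (Fin d) F ↔ Aᵀ * D = 1 := by
  rw [SymplecticGroup.fromBlocks_mem_iff]
  simp

/-- `diag(h, h⁻ᵀ)` as a symplectic matrix -/
def diagSp (h : GL (Fin d) F) : Sp :=
  ⟨Matrix.fromBlocks (h : Matrix (Fin d) (Fin d) F) 0 0
    ((h⁻¹ : GL (Fin d) F) : Matrix (Fin d) (Fin d) F)ᵀ, by
    rw [diag_mem_symp_iff, ← Matrix.transpose_mul, ← Units.val_mul, inv_mul_cancel, Units.val_one,
      Matrix.transpose_one]⟩

theorem diagSp_val (h : GL (Fin d) F) :
    ((diagSp d h : Sp) : Matrix (Fin d ⊕ Fin d) (Fin d ⊕ Fin d) F) =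
      Matrix.fromBlocks (h : Matrix (Fin d) (Fin d) F) 0 0
        ((h⁻¹ : GL (Fin d) F) : Matrix (Fin d) (Fin d) F)ᵀ := rfl

theorem diagSp_injective : Function.Injective (diagSp (F := F) d) := by
  intro h h' hh
  have h1 := congrArg Subtype.val hh
  rw [diagSp_val, diagSp_val, Matrix.fromBlocks_inj] at h1
  exact Units.ext h1.1

/-- for an invertible map, mapping a subspace into itself maps it onto itself -/
theorem map_sp_eq_of_le (g : Sp) (U : Submodule F V) (h : U.map (Matrix.toLin' g.1) ≤ U) :
    U.map (Matrix.toLin' g.1) = U := by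
  apply Submodule.eq_of_le_of_finrank_le h
  rw [← spEquiv_coe, LinearEquiv.finrank_map_eq]

/-- the stabilizer of the standard pair consists of the matrices `diag(h, h⁻ᵀ)` -/
theorem fix_std_iff (g : Sp) :
    ((stdU F d).map (Matrix.toLin' g.1) = stdU F d ∧
      (stdW F d).map (Matrix.toLin' g.1) = stdW F d) ↔ ∃ h : GL (Fin d) F, g = diagSp d h := by
  constructor
  · rintro ⟨hU, hW⟩
    have h21 : g.1.toBlocks₂₁ = 0 := by
      ext i j
      have h1 : g.1 *ᵥ (Pi.single (Sum.inl j) 1 : V) ∈ stdU F d := by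
        rw [← hU]
        exact ⟨_, Submodule.subset_span ⟨j, rfl⟩, rfl⟩
      rw [mem_stdU_iff] at h1
      have := h1 i
      rw [Matrix.mulVec_single_one] at this
      exact this
    have h12 : g.1.toBlocks₁₂ = 0 := by
      ext i j
      have h1 : g.1 *ᵥ (Pi.single (Sum.inr j) 1 : V) ∈ stdW F d := by
        rw [← hW]
        exact ⟨_, Submodule.subset_span ⟨j, rfl⟩, rfl⟩
      rw [mem_stdW_iff] at h1
      have := h1 i
      rw [Matrix.mulVec_single_one] at this
      exact this
    have hg : g.1 = Matrix.fromBlocks g.1.toBlocks₁₁ 0 0 g.1.toBlocks₂₂ := by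
      conv_lhs => rw [← Matrix.fromBlocks_toBlocks g.1]
      rw [h12, h21]
    have hmem := g.2
    rw [hg, diag_mem_symp_iff] at hmem
    have hmem' : g.1.toBlocks₂₂ᵀ * g.1.toBlocks₁₁ = 1 := by
      have := congrArg Matrix.transpose hmem
      rwa [Matrix.transpose_mul, Matrix.transpose_transpose, Matrix.transpose_one] at this
    refine ⟨⟨g.1.toBlocks₁₁, g.1.toBlocks₂₂ᵀ, mul_eq_one_comm.mp hmem', hmem'⟩, ?_⟩
    apply Subtype.ext
    rw [diagSp_val]
    change g.1 = Matrix.fromBlocks g.1.toBlocks₁₁ 0 0 (g.1.toBlocks₂₂ᵀ)ᵀ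
    rw [Matrix.transpose_transpose]
    exact hg
  · rintro ⟨h, rfl⟩
    constructor
    · apply map_sp_eq_of_le
      rintro _ ⟨v, hv, rfl⟩
      rw [SetLike.mem_coe, mem_stdU_iff] at hv
      rw [mem_stdU_iff]
      intro i
      rw [Matrix.toLin'_apply, diagSp_val, Matrix.fromBlocks_mulVec]
      have hv0 : v ∘ Sum.inr = 0 := funext hv
      simp [hv0]
    · apply map_sp_eq_of_le
      rintro _ ⟨v, hv, rfl⟩
      rw [SetLike.mem_coe, mem_stdW_iff] at hv
      rw [mem_stdW_iff]
      intro i
      rw [Matrix.toLin'_apply, diagSp_val, Matrix.fromBlocks_mulVec]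
      have hv0 : v ∘ Sum.inl = 0 := funext hv
      simp [hv0]

/-- the number of symplectic matrices fixing both standard Lagrangians -/
theorem card_fix_std :
    Nat.card {g : Sp // (stdU F d).map (Matrix.toLin' g.1) = stdU F d ∧
      (stdW F d).map (Matrix.toLin' g.1) = stdW F d} = Nat.card (GL (Fin d) F) := by
  symm
  apply Nat.card_eq_of_bijective
    (fun h : GL (Fin d) F => (⟨diagSp d h, (fix_std_iff d _).mpr ⟨h, rfl⟩⟩ :
      {g : Sp // (stdU F d).map (Matrix.toLin' g.1) = stdU F d ∧
        (stdW F d).map (Matrix.toLin' g.1) = stdW F d}))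
  constructor
  · intro h h' hh
    exact diagSp_injective d (congrArg Subtype.val hh)
  · rintro ⟨g, hg⟩
    obtain ⟨h, rfl⟩ := (fix_std_iff d g).mp hg
    exact ⟨h, rfl⟩

/-- orbit-stabilizer count of the complementary totally isotropic pairs -/
theorem card_lagr_pairs [Finite F] :
    Nat.card {P : Submodule F V × Submodule F V // IsCompl P.1 P.2 ∧
      (∀ u ∈ P.1, ∀ v ∈ P.1, ff u v = 0) ∧ (∀ u ∈ P.2, ∀ v ∈ P.2, ff u v = 0)} *
      Nat.card (GL (Fin d) F) = Nat.card Sp := by
  let _ := spPairAction F d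
  have h1 := Subgroup.card_mul_index (MulAction.stabilizer Sp (stdU F d, stdW F d))
  rw [MulAction.index_stabilizer] at h1
  have h2 : Nat.card (MulAction.stabilizer Sp (stdU F d, stdW F d)) = Nat.card (GL (Fin d) F) := by
    rw [← card_fix_std d]
    apply Nat.card_congr
    apply Equiv.subtypeEquivRight
    intro g
    rw [MulAction.mem_stabilizer_iff]
    change ((stdU F d).map (Matrix.toLin' g.1), (stdW F d).map (Matrix.toLin' g.1)) =
      (stdU F d, stdW F d) ↔ _
    rw [Prod.mk.injEq]
  have h3 : (MulAction.orbit Sp (stdU F d, stdW F d)).ncard =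
      Nat.card {P : Submodule F V × Submodule F V // IsCompl P.1 P.2 ∧
      (∀ u ∈ P.1, ∀ v ∈ P.1, ff u v = 0) ∧ (∀ u ∈ P.2, ∀ v ∈ P.2, ff u v = 0)} := by
    rw [← Nat.card_coe_set_eq]
    apply Nat.card_congr
    apply Equiv.subtypeEquivRight
    intro P
    rw [MulAction.mem_orbit_iff]
    constructor
    · rintro ⟨g, rfl⟩
      change IsCompl ((stdU F d).map (Matrix.toLin' g.1)) ((stdW F d).map (Matrix.toLin' g.1)) ∧
        (∀ u ∈ (stdU F d).map (Matrix.toLin' g.1), ∀ v ∈ (stdU F d).map (Matrix.toLin' g.1),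
          ff u v = 0) ∧
        (∀ u ∈ (stdW F d).map (Matrix.toLin' g.1), ∀ v ∈ (stdW F d).map (Matrix.toLin' g.1),
          ff u v = 0)
      exact ⟨isCompl_map_sp d g _ _ (std_isCompl d),
        isotropic_map_sp d g _ (fun u hu v hv => stdU_isotropic d u v hu hv),
        isotropic_map_sp d g _ (fun u hu v hv => stdW_isotropic d u v hu hv)⟩
    · rintro ⟨hc, hU, hW⟩
      obtain ⟨A, hA1, hA2⟩ := exists_symp_map_std d P.1 P.2 hc hU hW
      exact ⟨A, Prod.ext hA1 hA2⟩
  rw [h2, h3, mul_comm] at h1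
  exact h1

end Stab

end Cfsg.Agent.Lib.Helper49
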