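import Mathlib
import Cfsg.Agent.Lib.Helper49.LagrPair
import Cfsg.Agent.Lib.Helper49.OrthOddI

set_option autoImplicit false

/-! Symplectic matrices fixing a pair of complementary totally isotropic subspaces: they are
conjugate to `diag(h, h⁻ᵀ)`, so their kernel dimension profile is star-symmetric "twice over". -/

namespace Cfsg.Agent.Lib.Helper49

open Matrix Module Polynomial

section Fix

variable {F : Type*} [Field F] (d : ℕ)

local notation "V" => (Fin d ⊕ Fin d → F)
local notation "ff" => Cfsg.sympForm d F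
local notation "Sp" => Matrix.symplecticGroup (Fin d) F

/-- an element fixing a complementary totally isotropic pair is conjugate to some
`diag(h, h⁻ᵀ)` -/
theorem exists_conj_diagSp [Finite F] (x : Sp) (U W : Submodule F V) (hc : IsCompl U W)
    (hU : ∀ u ∈ U, ∀ v ∈ U, ff u v = 0) (hW : ∀ u ∈ W, ∀ v ∈ W, ff u v = 0)
    (hfU : U.map (Matrix.toLin' x.1) = U) (hfW : W.map (Matrix.toLin' x.1) = W) :
    ∃ (g : Sp) (h : GL (Fin d) F), g⁻¹ * x * g = diagSp d h := by
  obtain ⟨A, hA1, hA2⟩ := exists_symp_map_std d U W hc hU hW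
  refine ⟨A, ?_⟩
  rw [← fix_std_iff]
  let _ := spPairAction F d
  have h1 : A • (stdU F d, stdW F d) = (U, W) := Prod.ext hA1 hA2
  have h2 : x • (U, W) = (U, W) := Prod.ext hfU hfW
  have h3 : (A⁻¹ * x * A) • (stdU F d, stdW F d) = (stdU F d, stdW F d) := by
    rw [mul_smul, mul_smul, h1, h2, ← h1, inv_smul_smul]
  exact ⟨congrArg Prod.fst h3, congrArg Prod.snd h3⟩

/-- an element of odd order swapping two subspaces fixes both -/
theorem fix_of_swap (x : Sp) {r : ℕ} (hodd : Odd r) (hx : x ^ r = 1) (U W : Submodule F V)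
    (h1 : U.map (Matrix.toLin' x.1) = W) (h2 : W.map (Matrix.toLin' x.1) = U) :
    U.map (Matrix.toLin' x.1) = U ∧ W.map (Matrix.toLin' x.1) = W := by
  let _ := spPairAction F d
  have e1 : x • (U, W) = (W, U) := Prod.ext h1 h2
  have e2 : x • (W, U) = (U, W) := Prod.ext h2 h1
  have e3 : (x ^ 2) ∈ MulAction.stabilizer Sp (U, W) := by
    rw [MulAction.mem_stabilizer_iff, pow_two, mul_smul, e1, e2]
  obtain ⟨k, hk⟩ := hodd
  have e4 : x = (x ^ 2) ^ (k + 1) := by
    rw [← pow_mul, show 2 * (k + 1) = r + 1 by omega, pow_succ, hx, one_mul]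
  have e5 : x ∈ MulAction.stabilizer Sp (U, W) := by
    rw [e4]
    exact Subgroup.pow_mem _ e3 _
  rw [MulAction.mem_stabilizer_iff] at e5
  exact ⟨congrArg Prod.fst e5, congrArg Prod.snd e5⟩

theorem kdim_sp_conj (x g : Sp) (P : F[X]) :
    kdim (Matrix.toLin' (g⁻¹ * x * g : Sp).1) P = kdim (Matrix.toLin' x.1) P := by
  apply kdim_conj _ _ (spEquiv d g)
  intro v
  rw [spEquiv_apply, Matrix.toLin'_apply, Matrix.toLin'_apply, spEquiv_apply,
    Matrix.mulVec_mulVec, Matrix.mulVec_mulVec]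
  congr 1
  have h1 : g.1 * (g⁻¹ * x * g : Sp).1 = ((g * (g⁻¹ * x * g) : Sp) : Matrix _ _ F) := rfl
  have h2 : x.1 * g.1 = ((x * g : Sp) : Matrix _ _ F) := rfl
  rw [h1, h2]
  congr 1
  group

theorem diagSp_pow_eq_one {r : ℕ} (h : GL (Fin d) F) (hh : (diagSp d h) ^ r = 1) : h ^ r = 1 := by
  have h1 := congrArg Subtype.val hh
  rw [SubmonoidClass.coe_pow, diagSp_val, fromBlocks_diag_pow] at h1
  have h2 : ((1 : Sp) : Matrix (Fin d ⊕ Fin d) (Fin d ⊕ Fin d) F) = 1 := rfl
  rw [h2, ← Matrix.fromBlocks_one, Matrix.fromBlocks_inj] at h1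
  apply Units.ext
  rw [Units.val_pow_eq_pow_val, h1.1, Units.val_one]

end Fix

section Profile

variable {F : Type*} [Field F] [Fintype F] {r i : ℕ} {PP : Finset F[X]} (d : ℕ)

local notation "V" => (Fin d ⊕ Fin d → F)
local notation "ff" => Cfsg.sympForm d F
local notation "Sp" => Matrix.symplecticGroup (Fin d) F

/-- the kernel dimension profile of an element of order dividing `r` fixing a complementary
totally isotropic pair -/
theorem FactorData.kdim_of_fix_pair (D : FactorData F r i PP) (hmon : ∀ P ∈ PP, P.Monic)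
    (hr : 2 ≤ r) (x : Sp) (hx : x ^ r = 1) (U W : Submodule F V) (hc : IsCompl U W)
    (hU : ∀ u ∈ U, ∀ v ∈ U, ff u v = 0) (hW : ∀ u ∈ W, ∀ v ∈ W, ff u v = 0)
    (hfU : U.map (Matrix.toLin' x.1) = U) (hfW : W.map (Matrix.toLin' x.1) = W) :
    ∃ h : GL (Fin d) F, ∀ P : PP, kdim (Matrix.toLin' x.1) (P : F[X]) =
      kdim (Matrix.toLin' (h : Matrix (Fin d) (Fin d) F)) (P : F[X]) +
        kdim (Matrix.toLin' (h : Matrix (Fin d) (Fin d) F)) (D.star hmon P : F[X]) := by
  obtain ⟨g, h, hgh⟩ := exists_conj_diagSp d x U W hc hU hW hfU hfW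
  have hpow : (diagSp d h) ^ r = 1 := by
    rw [← hgh]
    have h0 : g⁻¹ * x * g = g⁻¹ * x * (g⁻¹)⁻¹ := by rw [inv_inv]
    rw [h0, conj_pow, hx, mul_one, mul_inv_cancel]
  have hh := diagSp_pow_eq_one d h hpow
  refine ⟨h, fun P => ?_⟩
  rw [← kdim_sp_conj d x g, hgh, diagSp_val]
  exact D.kdim_diagPlus hmon hr h hh P

end Profile

end Cfsg.Agent.Lib.Helper49
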