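import Mathlib

set_option autoImplicit false

namespace Cfsg.Agent.Lib.Helper49

section Necklace

variable (H : Type*) [Group H] [Fintype H] (n : ℕ)

/-- profiles: functions on `H` with sum `n`, not concentrated at a point -/
def Prof : Type _ := {a : H → ℕ // ∑ ω, a ω = n ∧ ∀ ω, a ω ≠ n}

variable {H n}

theorem Prof.ext {a b : Prof H n} (h : ∀ ω, a.1 ω = b.1 ω) : a = b :=
  Subtype.ext (funext h)

instance : MulAction H (Prof H n) where
  smul c a := ⟨fun ω => a.1 (c⁻¹ * ω), by
    refine ⟨?_, fun ω => a.2.2 _⟩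
    exact (Fintype.sum_equiv (Equiv.mulLeft c⁻¹) _ _ (fun ω => rfl)).trans a.2.1⟩
  one_smul a := by
    apply Prof.ext
    intro ω
    change a.1 (1⁻¹ * ω) = a.1 ω
    rw [inv_one, one_mul]
  mul_smul c d a := by
    apply Prof.ext
    intro ω
    change a.1 ((c * d)⁻¹ * ω) = a.1 (d⁻¹ * (c⁻¹ * ω))
    rw [mul_inv_rev, mul_assoc]

theorem Prof.smul_apply (c : H) (a : Prof H n) (ω : H) : (c • a).1 ω = a.1 (c⁻¹ * ω) := rfl

instance : Finite (Prof H n) := by
  have hle : ∀ (a : Prof H n) (ω : H), a.1 ω < n + 1 := by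
    intro a ω
    have := Finset.single_le_sum (f := a.1) (fun i _ => Nat.zero_le _) (Finset.mem_univ ω)
    rw [a.2.1] at this
    omega
  apply Finite.of_injective (fun (a : Prof H n) (ω : H) => (⟨a.1 ω, hle a ω⟩ : Fin (n + 1)))
  intro a b h
  apply Prof.ext
  intro ω
  have := congrFun h ω
  exact Fin.mk.inj_iff.mp this

theorem card_sum_eq [DecidableEq H] :
    Nat.card {a : H → ℕ // ∑ ω, a ω = n} =
      Nat.choose (n + Fintype.card H - 1) (Fintype.card H - 1) := by
  rw [Nat.card_congr (Sym.equivNatSumOfFintype H n).symm, Nat.card_eq_fintype_card,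
    Sym.card_sym_eq_choose]
  rcases Nat.eq_zero_or_pos (Fintype.card H) with h | h
  · exact absurd (Fintype.card_pos (α := H)) (by omega)
  · have h1 : Fintype.card H + n - 1 = n + (Fintype.card H - 1) := by omega
    have h2 : n + Fintype.card H - 1 = n + (Fintype.card H - 1) := by omega
    rw [h1, h2, Nat.choose_symm_add]

theorem finite_sum_eq : Finite {a : H → ℕ // ∑ ω, a ω = n} := by
  classical
  exact Finite.of_equiv _ (Sym.equivNatSumOfFintype H n)

theorem eq_single_of_apply_eq [DecidableEq H] (a : H → ℕ) (ha : ∑ ω, a ω = n) (ω : H)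
    (hω : a ω = n) : a = Pi.single ω n := by
  funext ω'
  by_cases h : ω' = ω
  · subst h
    rw [Pi.single_eq_same, hω]
  · rw [Pi.single_eq_of_ne h]
    have h1 : a ω + a ω' ≤ ∑ x, a x := by
      have h2 : ∑ x ∈ ({ω, ω'} : Finset H), a x ≤ ∑ x, a x :=
        Finset.sum_le_sum_of_subset (Finset.subset_univ _)
      rw [Finset.sum_pair (Ne.symm h)] at h2
      exact h2
    omega

theorem card_prof (hn : 1 ≤ n) :
    Nat.card (Prof H n) =
      Nat.choose (n + Fintype.card H - 1) (Fintype.card H - 1) - Fintype.card H := by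
  classical
  have := finite_sum_eq (H := H) (n := n)
  let p : {a : H → ℕ // ∑ ω, a ω = n} → Prop := fun a => ∀ ω, a.1 ω ≠ n
  have e1 : {a : {a : H → ℕ // ∑ ω, a ω = n} // p a} ≃ Prof H n :=
    Equiv.subtypeSubtypeEquivSubtypeInter (fun a : H → ℕ => ∑ ω, a ω = n)
      (fun a => ∀ ω, a ω ≠ n)
  have e2 : H ≃ {a : {a : H → ℕ // ∑ ω, a ω = n} // ¬ p a} := by
    refine Equiv.ofBijective (fun ω => ⟨⟨Pi.single ω n, by simp⟩, fun h => h ω (by simp)⟩) ⟨?_, ?_⟩
    · intro ω ω' h
      have h1 : (Pi.single ω n : H → ℕ) = Pi.single ω' n :=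
        congrArg (fun x : {a : {a : H → ℕ // ∑ ω, a ω = n} // ¬ p a} => x.1.1) h
      have h2 := congrFun h1 ω
      rw [Pi.single_eq_same] at h2
      by_contra hne
      rw [Pi.single_eq_of_ne hne] at h2
      omega
    · rintro ⟨⟨a, ha⟩, hp⟩
      have hp' : ∃ ω, a ω = n := by
        by_contra hcon
        push Not at hcon
        exact hp hcon
      obtain ⟨ω, hω⟩ := hp'
      refine ⟨ω, ?_⟩
      apply Subtype.ext
      apply Subtype.ext
      exact (eq_single_of_apply_eq a ha ω hω).symm
  have h1 := Nat.card_congr (Equiv.sumCompl p).symm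
  rw [Nat.card_sum, Nat.card_congr e1, ← Nat.card_congr e2, card_sum_eq,
    Nat.card_eq_fintype_card (α := H)] at h1
  omega

theorem const_of_fixed (hprime : (Fintype.card H).Prime) (c : H) (hc : c ≠ 1) (a : Prof H n)
    (ha : c • a = a) (ω ω' : H) : a.1 ω = a.1 ω' := by
  have hstep : ∀ x : H, a.1 (c⁻¹ * x) = a.1 x := by
    intro x
    have := congrArg (fun b : Prof H n => b.1 x) ha
    exact this
  have hpow : ∀ (k : ℕ) (x : H), a.1 (c⁻¹ ^ k * x) = a.1 x := by
    intro k
    induction k with
    | zero => intro x; rw [pow_zero, one_mul]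
    | succ k ih =>
      intro x
      rw [pow_succ, mul_assoc, ih, hstep]
  have : Fact (Fintype.card H).Prime := ⟨hprime⟩
  have hc' : c⁻¹ ≠ 1 := fun h => hc (inv_eq_one.mp h)
  have hgen : ω * ω'⁻¹ ∈ Subgroup.zpowers c⁻¹ := by
    have htop := zpowers_eq_top_of_prime_card (G := H) (p := Fintype.card H)
      (by rw [Nat.card_eq_fintype_card]) hc'
    rw [htop]
    trivial
  obtain ⟨k, hk⟩ := Submonoid.mem_powers_iff _ _ |>.mp (mem_powers_iff_mem_zpowers.mpr hgen)
  have : ω = c⁻¹ ^ k * ω' := by rw [hk, inv_mul_cancel_right]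
  rw [this, hpow]

theorem sum_const_prof (a : Prof H n) (h : ∀ ω ω', a.1 ω = a.1 ω') :
    Fintype.card H * a.1 1 = n := by
  have h1 : ∑ ω, a.1 ω = ∑ _ω : H, a.1 1 := Finset.sum_congr rfl (fun ω _ => h ω 1)
  rw [a.2.1, Finset.sum_const, Finset.card_univ, smul_eq_mul] at h1
  exact h1.symm

/-- the constant profile -/
def constProf (hn : 1 ≤ n) (hH : 2 ≤ Fintype.card H) (hdvd : Fintype.card H ∣ n) : Prof H n :=
  ⟨fun _ => n / Fintype.card H, by
    refine ⟨?_, fun _ => ?_⟩
    · rw [Finset.sum_const, Finset.card_univ, smul_eq_mul, Nat.mul_div_cancel' hdvd]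
    · exact (Nat.div_lt_self (by omega) (by omega)).ne⟩

theorem card_fixedBy (hprime : (Fintype.card H).Prime) (hn : 1 ≤ n) (c : H) (hc : c ≠ 1) :
    Nat.card (MulAction.fixedBy (Prof H n) c) = if Fintype.card H ∣ n then 1 else 0 := by
  split_ifs with hdvd
  · rw [Nat.card_eq_one_iff_unique]
    constructor
    · constructor
      intro a b
      apply Subtype.ext
      apply Prof.ext
      intro ω
      have ha := const_of_fixed hprime c hc a.1 a.2
      have hb := const_of_fixed hprime c hc b.1 b.2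
      have h1 := sum_const_prof a.1 ha
      have h2 := sum_const_prof b.1 hb
      rw [ha ω 1, hb ω 1]
      have hpos := hprime.pos
      exact Nat.eq_of_mul_eq_mul_left hpos (h1.trans h2.symm)
    · refine ⟨⟨constProf hn hprime.two_le hdvd, ?_⟩⟩
      rw [MulAction.mem_fixedBy]
      apply Prof.ext
      intro ω
      rfl
  · rw [Nat.card_eq_zero]
    left
    constructor
    intro a
    apply hdvd
    have ha := const_of_fixed hprime c hc a.1 a.2
    exact ⟨_, (sum_const_prof a.1 ha).symm⟩

theorem card_orbits (hprime : (Fintype.card H).Prime) (hn : 1 ≤ n) :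
    Nat.card (MulAction.orbitRel.Quotient H (Prof H n)) =
      (Nat.choose (n + Fintype.card H - 1) (Fintype.card H - 1) - Fintype.card H -
        (if Fintype.card H ∣ n then 1 else 0)) / Fintype.card H +
        (if Fintype.card H ∣ n then 1 else 0) := by
  classical
  letI : Fintype (Prof H n) := Fintype.ofFinite _
  letI : Fintype (MulAction.orbitRel.Quotient H (Prof H n)) := Fintype.ofFinite _
  letI : ∀ c : H, Fintype (MulAction.fixedBy (Prof H n) c) := fun c => Fintype.ofFinite _
  have hB := MulAction.sum_card_fixedBy_eq_card_orbits_mul_card_group H (Prof H n)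
  have h1 : ∀ c : H, c ≠ 1 → Fintype.card (MulAction.fixedBy (Prof H n) c) =
      if Fintype.card H ∣ n then 1 else 0 := by
    intro c hc
    rw [← Nat.card_eq_fintype_card]
    exact card_fixedBy hprime hn c hc
  have h2 : Fintype.card (MulAction.fixedBy (Prof H n) (1 : H)) =
      Nat.choose (n + Fintype.card H - 1) (Fintype.card H - 1) - Fintype.card H := by
    rw [← Nat.card_eq_fintype_card, ← card_prof hn]
    apply Nat.card_congr
    exact (Equiv.subtypeUnivEquiv (fun a => by rw [MulAction.mem_fixedBy, one_smul]))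
  rw [← Finset.add_sum_erase _ _ (Finset.mem_univ (1 : H)), h2,
    Finset.sum_congr rfl (fun c hc => h1 c (Finset.ne_of_mem_erase hc)), Finset.sum_const,
    Finset.card_erase_of_mem (Finset.mem_univ _), Finset.card_univ, smul_eq_mul,
    ← Nat.card_eq_fintype_card (α := MulAction.orbitRel.Quotient H (Prof H n))] at hB
  have hr := hprime.two_le
  split_ifs at hB ⊢ with hdvd
  · have hpos : 0 < Nat.card (Prof H n) := by
      haveI : Nonempty (Prof H n) := ⟨constProf hn hr hdvd⟩
      exact Nat.card_pos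
    rw [card_prof hn] at hpos
    set C := Nat.choose (n + Fintype.card H - 1) (Fintype.card H - 1) with hC
    set r := Fintype.card H with hr'
    set Ω := Nat.card (MulAction.orbitRel.Quotient H (Prof H n)) with hΩ
    have hΩ1 : 1 ≤ Ω := by
      by_contra hcon
      have : Ω = 0 := by omega
      rw [this] at hB
      omega
    have h3 : C - r - 1 = (Ω - 1) * r := by
      have : (Ω - 1) * r = Ω * r - r := by rw [Nat.sub_mul, one_mul]
      omega
    rw [h3, Nat.mul_div_cancel _ (by omega)]
    omega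
  · rw [mul_zero, add_zero] at hB
    rw [Nat.sub_zero, add_zero, hB, Nat.mul_div_cancel _ (by omega)]

end Necklace

end Cfsg.Agent.Lib.Helper49
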