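import Mathlib

set_option autoImplicit false

namespace Cfsg.Agent.Lib.Helper49

theorem two_pow_padic_mul_odd (N : ℕ) (hN : N ≠ 0) :
    ∃ N' : ℕ, Odd N' ∧ N = 2 ^ padicValNat 2 N * N' := by
  refine ⟨N / 2 ^ padicValNat 2 N, ?_, ?_⟩
  · have h1 := Nat.not_dvd_ordCompl Nat.prime_two hN
    rw [Nat.factorization_def N Nat.prime_two] at h1
    exact Nat.odd_iff.mpr (Nat.two_dvd_ne_zero.mp h1)
  · have h1 := Nat.ordProj_mul_ordCompl_eq_self N 2
    rw [Nat.factorization_def N Nat.prime_two] at h1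
    exact h1.symm

theorem neg_one_ne_one_of_odd_card (F : Type*) [Field F] [Fintype F] (hodd : Odd (Fintype.card F)) :
    (-1 : F) ≠ 1 := by
  apply Ring.neg_one_ne_one_of_char_ne_two
  intro h
  rw [FiniteField.even_card_iff_char_two] at h
  have := Nat.odd_iff.mp hodd
  omega

/-- In a finite field of odd order, `-1` is an `n`-th power iff the 2-part of `n` is smaller than
that of `q - 1`. -/
theorem exists_pow_eq_neg_one_iff (F : Type*) [Field F] [Fintype F] (hodd : Odd (Fintype.card F))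
    (n : ℕ) (hn : n ≠ 0) :
    (∃ c : F, c ^ n = -1) ↔ padicValNat 2 n < padicValNat 2 (Fintype.card F - 1) := by
  classical
  have hne := neg_one_ne_one_of_odd_card F hodd
  have hcard : 1 < Fintype.card F := Fintype.one_lt_card
  have hN : Fintype.card F - 1 ≠ 0 := by omega
  obtain ⟨N', hN'odd, hN'⟩ := two_pow_padic_mul_odd _ hN
  obtain ⟨n', hn'odd, hn'⟩ := two_pow_padic_mul_odd n hn
  set a := padicValNat 2 n with ha
  set b := padicValNat 2 (Fintype.card F - 1) with hb
  constructor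
  · rintro ⟨c, hc⟩
    by_contra hcon
    push Not at hcon
    have hc0 : c ≠ 0 := by
      rintro rfl
      rw [zero_pow hn] at hc
      exact neg_ne_zero.mpr one_ne_zero hc.symm
    have h1 : c ^ (Fintype.card F - 1) = 1 := FiniteField.pow_card_sub_one_eq_one c hc0
    have h2 : (c ^ n) ^ N' = -1 := by rw [hc, hN'odd.neg_one_pow]
    have h3 : (c ^ n) ^ N' = 1 := by
      obtain ⟨d, hd⟩ := Nat.exists_eq_add_of_le hcon
      rw [← pow_mul, hn', hd, pow_add]
      have : 2 ^ b * 2 ^ d * n' * N' = (2 ^ b * N') * (2 ^ d * n') := by ring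
      rw [this, ← hN', pow_mul, h1, one_pow]
    rw [h2] at h3
    exact hne h3
  · intro hlt
    obtain ⟨g, hg⟩ := IsCyclic.exists_ofOrder_eq_natCard (α := Fˣ)
    rw [Nat.card_eq_fintype_card, Fintype.card_units] at hg
    have hdvd : 2 ^ (a + 1) ∣ orderOf g := by
      rw [hg, hN']
      exact Dvd.dvd.mul_right (pow_dvd_pow 2 hlt) _
    have hg0 : orderOf g ≠ 0 := by rw [hg]; exact hN
    set ζ := g ^ (orderOf g / 2 ^ (a + 1)) with hζ
    have hζo : orderOf ζ = 2 ^ (a + 1) := orderOf_pow_orderOf_div hg0 hdvd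
    have hηo : orderOf (ζ ^ 2 ^ a) = 2 := by
      rw [orderOf_pow_of_dvd (by positivity) (by rw [hζo]; exact pow_dvd_pow 2 (by omega)), hζo, pow_succ]
      exact Nat.mul_div_cancel_left 2 (by positivity)
    have hη2 : ((ζ ^ 2 ^ a : Fˣ) : F) ^ 2 = 1 := by
      have h := pow_orderOf_eq_one (ζ ^ 2 ^ a)
      rw [hηo] at h
      rw [← Units.val_pow_eq_pow_val, h, Units.val_one]
    have hη1 : ((ζ ^ 2 ^ a : Fˣ) : F) ≠ 1 := by
      intro h
      have : (ζ ^ 2 ^ a : Fˣ) = 1 := Units.ext h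
      rw [← orderOf_eq_one_iff, hηo] at this
      omega
    have hη : ((ζ ^ 2 ^ a : Fˣ) : F) = -1 := by
      rcases sq_eq_one_iff.mp hη2 with h | h
      · exact absurd h hη1
      · exact h
    refine ⟨(ζ : F), ?_⟩
    rw [hn', pow_mul, ← Units.val_pow_eq_pow_val, hη, hn'odd.neg_one_pow]

end Cfsg.Agent.Lib.Helper49
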