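/-
K-OEl pack (S5988, S5990; architect helper49): the count K1 in its exact spec form
(helper84's core `exists_of_dvd_card_ell_q_of` + helper54's K0 `card_aniso_pairs`).
-/
import Cfsg.Agent.Lib.Helper84.OElK1
import Cfsg.Agent.Lib.Helper54.OElK0

set_option autoImplicit false
set_option linter.unusedSectionVars false
set_option linter.unusedVariables false

namespace Cfsg.Agent.Lib.Helper49.OEl

open Module Cfsg.Agent.Lib.Helper98.Elus Cfsg.Agent.Lib.Helper98.Sy Cfsg.Agent.Lib.Helper38.OhP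

universe u
variable {F : Type u} [Field F] {V : Type u} [AddCommGroup V] [Module F V]

/-- LEAF K1 (598813), exact spec signature -/
theorem exists_of_dvd_card_ell_q [Fintype F] [FiniteDimensional F V] (Q : QuadraticForm F V)
    (hV : NonDeg (pB Q) ⊤) (d e : ℕ) (hdim : finrank F V = 2 * d) (he : 1 ≤ e) (hed : e < d)
    (r : ℕ) [Fact r.Prime] (hr2 : r ≠ 2) (hrF : (r : F) ≠ 0)
    (hr : r ∣ Nat.card {W : Submodule F V // finrank F W = 2 * e ∧ NonDeg (pB Q) W ∧ ¬ PlusQ Q W}) :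
    (PlusQ Q ⊤ →
      (∃ j : ℕ, j + 1 < e ∧ r ∣ (Fintype.card F ^ (d - j) - 1) * (Fintype.card F ^ (d - j - 1) + 1)) ∨
        r ∣ (Fintype.card F ^ (d - e + 1) - 1) * (Fintype.card F ^ (d - e) - 1) ∨ r ∣ Fintype.card F - 1) ∧
    (¬ PlusQ Q ⊤ →
      (∃ j : ℕ, j + 1 < e ∧ r ∣ (Fintype.card F ^ (d - j) + 1) * (Fintype.card F ^ (d - j - 1) - 1)) ∨
        r ∣ (Fintype.card F ^ (d - e + 1) + 1) * (Fintype.card F ^ (d - e) + 1) ∨ r ∣ Fintype.card F - 1) :=
  Cfsg.Agent.Lib.Helper84.OEl.exists_of_dvd_card_ell_q_of Q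
    (fun O hO D hD1 hD => Cfsg.Agent.Lib.Helper54.OEl.card_aniso_pairs Q O hO D hD1 hD)
    hV d e hdim he hed r hrF hr

end Cfsg.Agent.Lib.Helper49.OEl
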