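/-
K-OEl pack (S5988; architect helper49): the three CASE leaves of S5988 in their exact spec form, wired from the delivered leaves.
-/
import Cfsg.Agent.Lib.Helper56.OElCP
import Cfsg.Agent.Lib.Helper67.OElPP
import Cfsg.Agent.Lib.Helper22.OElTP
import Cfsg.Agent.Lib.Helper66.OElFC0t
import Cfsg.Agent.Lib.Helper30.OElFC1t
import Cfsg.Agent.Lib.Helper89.OElFC2t
import Cfsg.Agent.Lib.Helper42.OElAR1P
import Cfsg.Agent.Lib.Helper61.OElAR2P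
import Cfsg.Agent.Lib.Helper80.OElD3t
import Cfsg.Agent.Lib.Helper29.OElBRP
import Cfsg.Agent.Lib.Helper28.OElN
import Cfsg.Agent.Lib.Helper84.OElK1x
import Cfsg.Agent.Lib.Helper40.OElH
import Cfsg.Agent.Lib.Helper93.OElI

set_option autoImplicit false
set_option linter.unusedSectionVars false
set_option linter.unusedVariables false
set_option maxHeartbeats 1600000

namespace Cfsg.Agent.Lib.Helper49.OEl

open Module Cfsg.Agent.Lib.Helper98.Elus Cfsg.Agent.Lib.Helper98.Sy Cfsg.Agent.Lib.Helper38.OhP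

universe u
variable {F : Type u} [Field F]

/-- CASE LEAF CP (598821), exact spec form: helper56's glue with the delivered leaves -/
theorem case_odd_ellP [Fintype F] {p : ℕ} [Fact p.Prime] [CharP F p] (d m : ℕ) (hd : 4 ≤ d) (hm : 2 ≤ m)
    (hme : Even m) (hmd : m < d) (r : ℕ) [Fact r.Prime] (hrp : r ≠ p) (hr2 : r ≠ 2)
    (hrΩ : r ∣ Nat.card {W : Submodule F (Fin d ⊕ Fin d → F) // IsEllP d m W}) :
    (∀ x : GL (Fin d ⊕ Fin d) F, x ∈ Cfsg.Geo.omegaGL (Cfsg.quadFormPlus d F) →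
      (∃ z : F, ((x ^ r : GL (Fin d ⊕ Fin d) F) : Matrix (Fin d ⊕ Fin d) (Fin d ⊕ Fin d) F) =
        z • (1 : Matrix (Fin d ⊕ Fin d) (Fin d ⊕ Fin d) F)) →
      (∀ z : F, (x : Matrix (Fin d ⊕ Fin d) (Fin d ⊕ Fin d) F) ≠
        z • (1 : Matrix (Fin d ⊕ Fin d) (Fin d ⊕ Fin d) F)) →
      ∃ W : Submodule F (Fin d ⊕ Fin d → F), IsEllP d m W ∧
        W.map (Matrix.toLin' (x : Matrix (Fin d ⊕ Fin d) (Fin d ⊕ Fin d) F)) ≤ W) ↔
    RhsOddP (orderOf ((Fintype.card F : ℕ) : ZMod r)) (cOf (orderOf ((Fintype.card F : ℕ) : ZMod r))) d m :=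
  Cfsg.Agent.Lib.Helper56.OEl.case_odd_ellP_of
    (fun {V} _ _ _ => Cfsg.Agent.Lib.Helper66.OEl.exists_shape_t)
    (fun {V} _ _ _ => Cfsg.Agent.Lib.Helper30.OEl.goodT_of_fixed)
    (fun {V} _ _ _ => Cfsg.Agent.Lib.Helper89.OEl.fixed_of_goodT)
    Cfsg.Agent.Lib.Helper42.OEl.arith_fix_ellP
    Cfsg.Agent.Lib.Helper61.OEl.arith_derange_ellP
    Cfsg.Agent.Lib.Helper80.OEl.exists_model_t
    Cfsg.Agent.Lib.Helper29.OEl.isEllP_iff
    Cfsg.Agent.Lib.Helper29.OEl.exists_Q0_ne_zero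
    (fun {ι} _ _ => Cfsg.Agent.Lib.Helper28.OEl.exists_normalized_gen)
    (fun {V} _ _ _ => Cfsg.Agent.Lib.Helper84.OEl.exists_of_dvd_card_ell_q)
    d m hd hm hme hmd r hrp hr2 hrΩ

/-- CASE LEAF PP (598825), exact spec form: helper67's glue with H (helper40), I (helper93), BRP (helper29) -/
theorem case_p_ellP [Fintype F] {p : ℕ} [Fact p.Prime] [CharP F p] (d m : ℕ) (hd : 4 ≤ d) (hme : Even m) :
    ∃ x : GL (Fin d ⊕ Fin d) F, x ∈ Cfsg.Geo.omegaGL (Cfsg.quadFormPlus d F) ∧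
      (∃ z : F, ((x ^ p : GL (Fin d ⊕ Fin d) F) : Matrix (Fin d ⊕ Fin d) (Fin d ⊕ Fin d) F) =
        z • (1 : Matrix (Fin d ⊕ Fin d) (Fin d ⊕ Fin d) F)) ∧
      (∀ z : F, (x : Matrix (Fin d ⊕ Fin d) (Fin d ⊕ Fin d) F) ≠
        z • (1 : Matrix (Fin d ⊕ Fin d) (Fin d ⊕ Fin d) F)) ∧
      ∀ W : Submodule F (Fin d ⊕ Fin d → F), IsEllP d m W →
        ¬ W.map (Matrix.toLin' (x : Matrix (Fin d ⊕ Fin d) (Fin d ⊕ Fin d) F)) ≤ W :=
  Cfsg.Agent.Lib.Helper67.OEl.case_p_ellP_of d m hme (Cfsg.Agent.Lib.Helper29.OEl.isEllP_iff d m)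
    (fun E hE u hR hEK hK W hW hWe =>
      Cfsg.Agent.Lib.Helper40.OEl.plusQ_of_unip (Q0 d F) E hE u hR hEK hK W hW hWe)
    (Cfsg.Agent.Lib.Helper93.OEl.exists_unip_plus d hd)

end Cfsg.Agent.Lib.Helper49.OEl
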