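import Mathlib
import Cfsg.Agent.Lib.Helper49.SpInvDefs
import Cfsg.Agent.Lib.Helper43.SpCount
import Cfsg.Agent.Lib.Helper18.SympWitt

set_option autoImplicit false

/-!
# K-SpInv-5: the centraliser of an involution of `Sp_{2m}(q)`, `q` even

`|C(t)| = |PwStab W| * |Isom γ|`, `W = im (t - 1)`, `γ (N u) (N v) = f u (N v)`.
-/

namespace Cfsg.Agent.Lib.Helper49.SpInv

open Matrix Cfsg Cfsg.Agent.S2166 Cfsg.Agent.S2167 Cfsg.Agent.Lib.Helper43

variable {F : Type*} [Field F] {m : ℕ}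

theorem fB_swap [CharP F 2] (u v : Fin m ⊕ Fin m → F) : fB m F u v = fB m F v u := by
  have h := fB_alt (F := F) (m := m) (u + v)
  simp only [map_add, LinearMap.add_apply, fB_alt, add_zero, zero_add] at h
  have h2 := CharTwo.add_self_eq_zero (fB m F v u)
  linear_combination h - h2

section LinAlg

variable (N : (Fin m ⊕ Fin m → F) →ₗ[F] (Fin m ⊕ Fin m → F))

/-- a preimage under `N` -/
noncomputable def sec (w : LinearMap.range N) : Fin m ⊕ Fin m → F := Classical.choose w.2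

theorem N_sec (w : LinearMap.range N) : N (sec N w) = w := Classical.choose_spec w.2

variable {N}

theorem fB_eq_of_N_eq (hNf : ∀ u v, fB m F (N u) v = fB m F u (N v))
    {u u' : Fin m ⊕ Fin m → F} (h : N u = N u') (w : LinearMap.range N) :
    fB m F u (w : Fin m ⊕ Fin m → F) = fB m F u' (w : Fin m ⊕ Fin m → F) := by
  obtain ⟨v, hv⟩ := w.2
  rw [← hv, ← hNf, ← hNf, h]

variable (N)

/-- the induced form on the image of `N` -/
noncomputable def gam (hNf : ∀ u v, fB m F (N u) v = fB m F u (N v)) :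
    LinearMap.BilinForm F (LinearMap.range N) :=
  LinearMap.mk₂ F (fun w w' => fB m F (sec N w) (w' : Fin m ⊕ Fin m → F))
    (fun w₁ w₂ w' => by
      have h : N (sec N (w₁ + w₂)) = N (sec N w₁ + sec N w₂) := by
        rw [map_add, N_sec, N_sec, N_sec, Submodule.coe_add]
      rw [fB_eq_of_N_eq hNf h w', map_add, LinearMap.add_apply])
    (fun c w w' => by
      have h : N (sec N (c • w)) = N (c • sec N w) := by
        rw [map_smul, N_sec, N_sec, Submodule.coe_smul]
      rw [fB_eq_of_N_eq hNf h w', map_smul, LinearMap.smul_apply])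
    (fun w w₁ w₂ => by rw [Submodule.coe_add, map_add])
    (fun c w w' => by rw [Submodule.coe_smul, map_smul])

variable {N}

theorem gam_eq (hNf : ∀ u v, fB m F (N u) v = fB m F u (N v)) (w : LinearMap.range N)
    (u : Fin m ⊕ Fin m → F) (hu : N u = w) (w' : LinearMap.range N) :
    gam N hNf w w' = fB m F u (w' : Fin m ⊕ Fin m → F) := by
  show fB m F (sec N w) (w' : Fin m ⊕ Fin m → F) = _
  exact fB_eq_of_N_eq hNf ((N_sec N w).trans hu.symm) w'

theorem gam_symm [CharP F 2] (hNf : ∀ u v, fB m F (N u) v = fB m F u (N v)) :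
    (gam N hNf).IsSymm := by
  refine ⟨fun w w' => ?_⟩
  rw [gam_eq hNf w (sec N w) (N_sec N w) w', gam_eq hNf w' (sec N w') (N_sec N w') w,
    ← N_sec N w', ← hNf, N_sec N w, fB_swap]

theorem gam_nondeg [CharP F 2] (hNf : ∀ u v, fB m F (N u) v = fB m F u (N v)) :
    (gam N hNf).Nondegenerate := by
  have hleft : ∀ w : LinearMap.range N, (∀ w', gam N hNf w w' = 0) → w = 0 := by
    intro w hw
    have h1 : ∀ v, fB m F v (N (sec N w)) = 0 := by
      intro v
      rw [fB_swap, hNf]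
      have := hw ⟨N v, v, rfl⟩
      rw [gam_eq hNf w (sec N w) (N_sec N w)] at this
      exact this
    have h2 := fB_nondeg _ h1
    rw [N_sec] at h2
    exact Subtype.ext h2
  refine ⟨hleft, ?_⟩
  intro w hw
  apply hleft
  intro w'
  rw [(gam_symm hNf).eq]
  exact hw w'

theorem range_isotropic (hN : ∀ v, N (N v) = 0)
    (hNf : ∀ u v, fB m F (N u) v = fB m F u (N v)) :
    ∀ x ∈ LinearMap.range N, ∀ y ∈ LinearMap.range N, sympForm m F x y = 0 := by
  rintro x ⟨u, rfl⟩ y ⟨v, rfl⟩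
  rw [← fB_apply, hNf, hN, map_zero]

end LinAlg

section Group

/-- the nilpotent part `t - 1` of an involution, as a linear map -/
noncomputable def Nl (t : Matrix.symplecticGroup (Fin m) F) :
    (Fin m ⊕ Fin m → F) →ₗ[F] (Fin m ⊕ Fin m → F) :=
  ((t : Matrix (Fin m ⊕ Fin m) (Fin m ⊕ Fin m) F) - 1).mulVecLin

theorem Nl_facts [CharP F 2] (t : Matrix.symplecticGroup (Fin m) F) (ht : t ^ 2 = 1) :
    (∀ v, Nl t (Nl t v) = 0) ∧ (∀ u v, fB m F (Nl t u) v = fB m F u (Nl t v)) ∧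
      (∀ v, fB m F v (Nl t v) = sympForm m F v
        ((t : Matrix (Fin m ⊕ Fin m) (Fin m ⊕ Fin m) F) *ᵥ v)) := by
  have hT2 : (t : Matrix (Fin m ⊕ Fin m) (Fin m ⊕ Fin m) F) *
      (t : Matrix (Fin m ⊕ Fin m) (Fin m ⊕ Fin m) F) = 1 := by
    have := congrArg Subtype.val ht
    rw [pow_two] at this
    exact this
  have hTJ : (t : Matrix (Fin m ⊕ Fin m) (Fin m ⊕ Fin m) F)ᵀ * J (Fin m) F *
      (t : Matrix (Fin m ⊕ Fin m) (Fin m ⊕ Fin m) F) = J (Fin m) F :=
    (SymplecticGroup.mem_iff').1 t.2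
  exact sp_gen _ hT2 hTJ

theorem symp_pres (g : Matrix.symplecticGroup (Fin m) F) (u v : Fin m ⊕ Fin m → F) :
    fB m F ((g : Matrix (Fin m ⊕ Fin m) (Fin m ⊕ Fin m) F) *ᵥ u)
      ((g : Matrix (Fin m ⊕ Fin m) (Fin m ⊕ Fin m) F) *ᵥ v) = fB m F u v := by
  rw [fB_apply, fB_apply]
  exact sympForm_mulVec_mulVec ((SymplecticGroup.mem_iff').1 g.2) u v

theorem inv_mulVec (g : Matrix.symplecticGroup (Fin m) F) (v : Fin m ⊕ Fin m → F) :
    ((g⁻¹ : Matrix.symplecticGroup (Fin m) F) : Matrix (Fin m ⊕ Fin m) (Fin m ⊕ Fin m) F) *ᵥ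
      ((g : Matrix (Fin m ⊕ Fin m) (Fin m ⊕ Fin m) F) *ᵥ v) = v := by
  have h : ((g⁻¹ : Matrix.symplecticGroup (Fin m) F) : Matrix (Fin m ⊕ Fin m) (Fin m ⊕ Fin m) F) *
      (g : Matrix (Fin m ⊕ Fin m) (Fin m ⊕ Fin m) F) = 1 :=
    congrArg Subtype.val (inv_mul_cancel g)
  rw [Matrix.mulVec_mulVec, h, Matrix.one_mulVec]

theorem mulVec_inv (g : Matrix.symplecticGroup (Fin m) F) (v : Fin m ⊕ Fin m → F) :
    (g : Matrix (Fin m ⊕ Fin m) (Fin m ⊕ Fin m) F) *ᵥ
      (((g⁻¹ : Matrix.symplecticGroup (Fin m) F) : Matrix (Fin m ⊕ Fin m) (Fin m ⊕ Fin m) F) *ᵥ v)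
        = v := by
  have h : (g : Matrix (Fin m ⊕ Fin m) (Fin m ⊕ Fin m) F) *
      ((g⁻¹ : Matrix.symplecticGroup (Fin m) F) : Matrix (Fin m ⊕ Fin m) (Fin m ⊕ Fin m) F) = 1 :=
    congrArg Subtype.val (mul_inv_cancel g)
  rw [Matrix.mulVec_mulVec, h, Matrix.one_mulVec]

theorem comm_iff (t g : Matrix.symplecticGroup (Fin m) F) :
    t * g = g * t ↔ ∀ v, (g : Matrix (Fin m ⊕ Fin m) (Fin m ⊕ Fin m) F) *ᵥ (Nl t v) =
      Nl t ((g : Matrix (Fin m ⊕ Fin m) (Fin m ⊕ Fin m) F) *ᵥ v) := by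
  constructor
  · intro h v
    have hm : (t : Matrix (Fin m ⊕ Fin m) (Fin m ⊕ Fin m) F) *
        (g : Matrix (Fin m ⊕ Fin m) (Fin m ⊕ Fin m) F) =
        (g : Matrix (Fin m ⊕ Fin m) (Fin m ⊕ Fin m) F) *
        (t : Matrix (Fin m ⊕ Fin m) (Fin m ⊕ Fin m) F) := congrArg Subtype.val h
    simp only [Nl, Matrix.mulVecLin_apply, Matrix.mulVec_mulVec]
    congr 1
    rw [mul_sub, sub_mul, hm, mul_one, one_mul]
  · intro h
    apply Subtype.ext
    show (t : Matrix (Fin m ⊕ Fin m) (Fin m ⊕ Fin m) F) *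
        (g : Matrix (Fin m ⊕ Fin m) (Fin m ⊕ Fin m) F) =
        (g : Matrix (Fin m ⊕ Fin m) (Fin m ⊕ Fin m) F) *
        (t : Matrix (Fin m ⊕ Fin m) (Fin m ⊕ Fin m) F)
    have h2 : (g : Matrix (Fin m ⊕ Fin m) (Fin m ⊕ Fin m) F) *
        ((t : Matrix (Fin m ⊕ Fin m) (Fin m ⊕ Fin m) F) - 1) =
        ((t : Matrix (Fin m ⊕ Fin m) (Fin m ⊕ Fin m) F) - 1) *
        (g : Matrix (Fin m ⊕ Fin m) (Fin m ⊕ Fin m) F) := by
      rw [Matrix.ext_iff_mulVec]
      intro v
      have := h v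
      simp only [Nl, Matrix.mulVecLin_apply, Matrix.mulVec_mulVec] at this
      exact this
    rw [mul_sub, sub_mul, mul_one, one_mul] at h2
    exact (sub_left_inj.1 h2).symm

/-- an element of `Sp` inducing an isometry of `γ` on `W` centralises `t` -/
theorem comm_of_isom [CharP F 2] (t : Matrix.symplecticGroup (Fin m) F) (ht : t ^ 2 = 1)
    (g : Matrix.symplecticGroup (Fin m) F)
    (A : LinearMap.range (Nl t) ≃ₗ[F] LinearMap.range (Nl t))
    (hA : ∀ x y, gam (Nl t) (Nl_facts t ht).2.1 (A x) (A y) = gam (Nl t) (Nl_facts t ht).2.1 x y)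
    (hgA : ∀ x : LinearMap.range (Nl t),
      (g : Matrix (Fin m ⊕ Fin m) (Fin m ⊕ Fin m) F) *ᵥ (x : Fin m ⊕ Fin m → F) = A x) :
    t * g = g * t := by
  rw [comm_iff]
  intro u
  set hNf := (Nl_facts t ht).2.1
  set x : LinearMap.range (Nl t) := ⟨Nl t u, u, rfl⟩ with hx
  set y : LinearMap.range (Nl t) :=
    ⟨Nl t ((g : Matrix (Fin m ⊕ Fin m) (Fin m ⊕ Fin m) F) *ᵥ u), _, rfl⟩ with hy
  have hxy : A x = y := by
    rw [← sub_eq_zero]
    apply (gam_nondeg hNf).1
    intro w'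
    obtain ⟨w'', rfl⟩ := A.surjective w'
    rw [map_sub, LinearMap.sub_apply, hA, gam_eq hNf x u rfl, gam_eq hNf y _ rfl, ← hgA w'',
      symp_pres, sub_self]
  have h1 := hgA x
  rw [hxy] at h1
  exact h1

end Group

section Count

theorem maps_range (t : Matrix.symplecticGroup (Fin m) F)
    (c : Subgroup.centralizer ({t} : Set (Matrix.symplecticGroup (Fin m) F))) :
    ∀ w ∈ LinearMap.range (Nl t),
      ((c : Matrix.symplecticGroup (Fin m) F) : Matrix (Fin m ⊕ Fin m) (Fin m ⊕ Fin m) F).mulVecLin w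
        ∈ LinearMap.range (Nl t) := by
  rintro w ⟨u, rfl⟩
  have hc : t * (c : Matrix.symplecticGroup (Fin m) F) = (c : Matrix.symplecticGroup (Fin m) F) * t :=
    (Subgroup.mem_centralizer_iff.1 c.2) t rfl
  rw [Matrix.mulVecLin_apply, (comm_iff t _).1 hc u]
  exact ⟨_, rfl⟩

/-- the restriction of a centralising element to `W` as a linear map -/
noncomputable def resLin (t : Matrix.symplecticGroup (Fin m) F)
    (c : Subgroup.centralizer ({t} : Set (Matrix.symplecticGroup (Fin m) F))) :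
    LinearMap.range (Nl t) →ₗ[F] LinearMap.range (Nl t) :=
  (((c : Matrix.symplecticGroup (Fin m) F) : Matrix (Fin m ⊕ Fin m) (Fin m ⊕ Fin m) F).mulVecLin).restrict
    (maps_range t c)

theorem resLin_apply (t : Matrix.symplecticGroup (Fin m) F)
    (c : Subgroup.centralizer ({t} : Set (Matrix.symplecticGroup (Fin m) F)))
    (w : LinearMap.range (Nl t)) :
    ((resLin t c w : LinearMap.range (Nl t)) : Fin m ⊕ Fin m → F) =
      ((c : Matrix.symplecticGroup (Fin m) F) : Matrix (Fin m ⊕ Fin m) (Fin m ⊕ Fin m) F) *ᵥ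
        (w : Fin m ⊕ Fin m → F) := rfl

/-- the restriction as a linear equivalence -/
noncomputable def resEquiv (t : Matrix.symplecticGroup (Fin m) F)
    (c : Subgroup.centralizer ({t} : Set (Matrix.symplecticGroup (Fin m) F))) :
    LinearMap.range (Nl t) ≃ₗ[F] LinearMap.range (Nl t) :=
  LinearEquiv.ofLinearMap (resLin t c) (resLin t c⁻¹)
    (by
      apply LinearMap.ext
      intro w
      apply Subtype.ext
      rw [LinearMap.comp_apply, resLin_apply, resLin_apply, Subgroup.coe_inv]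
      exact mulVec_inv _ _)
    (by
      apply LinearMap.ext
      intro w
      apply Subtype.ext
      rw [LinearMap.comp_apply, resLin_apply, resLin_apply, Subgroup.coe_inv]
      exact inv_mulVec _ _)

theorem resEquiv_apply (t : Matrix.symplecticGroup (Fin m) F)
    (c : Subgroup.centralizer ({t} : Set (Matrix.symplecticGroup (Fin m) F)))
    (w : LinearMap.range (Nl t)) :
    ((resEquiv t c w : LinearMap.range (Nl t)) : Fin m ⊕ Fin m → F) =
      ((c : Matrix.symplecticGroup (Fin m) F) : Matrix (Fin m ⊕ Fin m) (Fin m ⊕ Fin m) F) *ᵥ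
        (w : Fin m ⊕ Fin m → F) := rfl

/-- the restriction homomorphism `C(t) → GL(W)` -/
noncomputable def resHom (t : Matrix.symplecticGroup (Fin m) F) :
    Subgroup.centralizer ({t} : Set (Matrix.symplecticGroup (Fin m) F)) →*
      (LinearMap.range (Nl t) ≃ₗ[F] LinearMap.range (Nl t)) where
  toFun := resEquiv t
  map_one' := by
    apply LinearEquiv.ext
    intro w
    apply Subtype.ext
    rw [resEquiv_apply]
    show (1 : Matrix (Fin m ⊕ Fin m) (Fin m ⊕ Fin m) F) *ᵥ (w : Fin m ⊕ Fin m → F) = _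
    rw [Matrix.one_mulVec]
    rfl
  map_mul' c₁ c₂ := by
    apply LinearEquiv.ext
    intro w
    apply Subtype.ext
    rw [LinearEquiv.mul_apply, resEquiv_apply, resEquiv_apply, resEquiv_apply,
      Matrix.mulVec_mulVec]
    rfl

end Count

section Main

variable [Fintype F] [CharP F 2]

theorem mem_range_resHom_iff (t : Matrix.symplecticGroup (Fin m) F) (ht : t ^ 2 = 1)
    (A : LinearMap.range (Nl t) ≃ₗ[F] LinearMap.range (Nl t)) :
    A ∈ (resHom t).range ↔
      ∀ x y, gam (Nl t) (Nl_facts t ht).2.1 (A x) (A y) = gam (Nl t) (Nl_facts t ht).2.1 x y := by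
  set hNf := (Nl_facts t ht).2.1
  constructor
  · rintro ⟨c, rfl⟩ x y
    have hc : t * (c : Matrix.symplecticGroup (Fin m) F) =
        (c : Matrix.symplecticGroup (Fin m) F) * t :=
      (Subgroup.mem_centralizer_iff.1 c.2) t rfl
    have h1 : Nl t (((c : Matrix.symplecticGroup (Fin m) F) :
        Matrix (Fin m ⊕ Fin m) (Fin m ⊕ Fin m) F) *ᵥ sec (Nl t) x) =
        ((resHom t c x : LinearMap.range (Nl t)) : Fin m ⊕ Fin m → F) := by
      rw [← (comm_iff t _).1 hc, N_sec]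
      rfl
    rw [gam_eq hNf _ _ h1, gam_eq hNf x (sec (Nl t) x) (N_sec _ x)]
    show fB m F _ (((c : Matrix.symplecticGroup (Fin m) F) :
        Matrix (Fin m ⊕ Fin m) (Fin m ⊕ Fin m) F) *ᵥ (y : Fin m ⊕ Fin m → F)) = _
    rw [symp_pres]
  · intro hA
    have hiso := range_isotropic (Nl_facts t ht).1 hNf
    obtain ⟨g, hg⟩ := Cfsg.Agent.Lib.Helper18.witt_symp (LinearMap.range (Nl t))
      (LinearMap.range (Nl t)) A (fun x x' => by
        rw [hiso _ (A x).2 _ (A x').2, hiso _ x.2 _ x'.2])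
    have hcomm : t * g = g * t := comm_of_isom t ht g A hA hg
    have hgc : g ∈ Subgroup.centralizer ({t} : Set (Matrix.symplecticGroup (Fin m) F)) := by
      rw [Subgroup.mem_centralizer_iff]
      intro h hh
      rw [Set.mem_singleton_iff.1 hh]
      exact hcomm
    refine ⟨⟨g, hgc⟩, ?_⟩
    apply LinearEquiv.ext
    intro w
    apply Subtype.ext
    exact hg w

theorem card_centralizer_eq (t : Matrix.symplecticGroup (Fin m) F) (ht : t ^ 2 = 1) :
    Nat.card ↥(Subgroup.centralizer ({t} : Set ↥(Matrix.symplecticGroup (Fin m) F))) =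
      Nat.card (PwStab (LinearMap.range (Nl t))) *
        Nat.card (IsomSet (gam (Nl t) (Nl_facts t ht).2.1)) := by
  have h1 := Subgroup.card_mul_index (resHom t).ker
  rw [Subgroup.index_ker] at h1
  rw [← h1]
  congr 1
  · -- the kernel
    refine Nat.card_congr
      { toFun := fun c => ⟨(c.1 : Matrix.symplecticGroup (Fin m) F), fun w hw => ?_⟩
        invFun := fun g => ⟨⟨g.1, ?_⟩, ?_⟩
        left_inv := fun c => rfl
        right_inv := fun g => rfl }
    · have h2 : resHom t c.1 = 1 := c.2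
      have h3 := LinearEquiv.congr_fun h2 ⟨w, hw⟩
      exact congrArg Subtype.val h3
    · rw [Subgroup.mem_centralizer_iff]
      intro h hh
      rw [Set.mem_singleton_iff.1 hh]
      exact comm_of_isom t ht g.1 (LinearEquiv.refl F _) (fun x y => rfl) (fun x => g.2 x x.2)
    · show resHom t _ = 1
      apply LinearEquiv.ext
      intro w
      apply Subtype.ext
      exact g.2 w w.2
  · -- the range
    exact Nat.card_congr (Equiv.subtypeEquivRight (mem_range_resHom_iff t ht))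

/-- K-SpInv-5. -/
theorem exists_form_of_involution {m : ℕ} (t : Matrix.symplecticGroup (Fin m) F)
    (ht : t ^ 2 = 1) :
    ∃ (W : Submodule F (Fin m ⊕ Fin m → F)) (γ : LinearMap.BilinForm F W),
      Module.finrank F W = ((t : Matrix (Fin m ⊕ Fin m) (Fin m ⊕ Fin m) F) - 1).rank ∧
      Module.finrank F W ≤ m ∧
      (∀ x ∈ W, ∀ y ∈ W, Cfsg.sympForm m F x y = 0) ∧ γ.IsSymm ∧ γ.Nondegenerate ∧
      ((∀ x, γ x x = 0) ↔ ∀ v : Fin m ⊕ Fin m → F, Cfsg.sympForm m F v
        ((t : Matrix (Fin m ⊕ Fin m) (Fin m ⊕ Fin m) F) *ᵥ v) = 0) ∧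
      Nat.card ↥(Subgroup.centralizer ({t} : Set ↥(Matrix.symplecticGroup (Fin m) F))) =
        Nat.card (PwStab W) * Nat.card (IsomSet γ) := by
  obtain ⟨hN, hNf, hdiag⟩ := Nl_facts t ht
  have hT2 : (t : Matrix (Fin m ⊕ Fin m) (Fin m ⊕ Fin m) F) *
      (t : Matrix (Fin m ⊕ Fin m) (Fin m ⊕ Fin m) F) = 1 := by
    have := congrArg Subtype.val ht
    rw [pow_two] at this
    exact this
  refine ⟨LinearMap.range (Nl t), gam (Nl t) hNf, rfl, sp_rank_le t hT2,
    range_isotropic hN hNf, gam_symm hNf, gam_nondeg hNf, ⟨fun h v => ?_, fun h x => ?_⟩,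
    card_centralizer_eq t ht⟩
  · have := h ⟨Nl t v, v, rfl⟩
    rw [gam_eq hNf _ v rfl, hdiag] at this
    exact this
  · rw [gam_eq hNf x (sec (Nl t) x) (N_sec _ x), ← N_sec (Nl t) x, hdiag]
    exact h _

end Main

end Cfsg.Agent.Lib.Helper49.SpInv
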