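import Mathlib
import Cfsg.Agent.Lib.Helper49.OInvDefs
import Cfsg.Agent.Lib.Helper49.SpInv5
import Cfsg.Agent.Lib.Helper43.OmegaSimple2

set_option autoImplicit false

/-!
# K-OInv-5: the centraliser in `O⁺_{2m}(q)` of an involution, `q` even

`|C_O(x)| = |OPwStab W| * |Isom γ|`, `W = im (x - 1)`, `γ (N u) (N v) = B u (N v)`, `γ w w = Q w`.
-/

namespace Cfsg.Agent.Lib.Helper49.OInv

open Matrix Cfsg Cfsg.Agent.S2166 Cfsg.Agent.S2167 Cfsg.Agent.Lib.Helper43
  Cfsg.Agent.Lib.Helper49.SpInv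

variable {F : Type*} [Field F] [CharP F 2] {m : ℕ}

/-- the matrix of an element of `O⁺` -/
abbrev mat (g : ↥(Cfsg.isometryGroup F (Cfsg.quadFormPlus m F))) :
    Matrix (Fin m ⊕ Fin m) (Fin m ⊕ Fin m) F :=
  ((g : Matrix.GeneralLinearGroup (Fin m ⊕ Fin m) F) : Matrix (Fin m ⊕ Fin m) (Fin m ⊕ Fin m) F)

/-- `O⁺_{2m}(F) → Sp_{2m}(F)` in characteristic two -/
noncomputable def toSp : ↥(Cfsg.isometryGroup F (Cfsg.quadFormPlus m F)) →*
    ↥(Matrix.symplecticGroup (Fin m) F) where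
  toFun g := ⟨mat g, sp_of_orth (F := F) (m := m) g⟩
  map_one' := rfl
  map_mul' _ _ := rfl

theorem toSp_val (g : ↥(Cfsg.isometryGroup F (Cfsg.quadFormPlus m F))) :
    ((toSp g : ↥(Matrix.symplecticGroup (Fin m) F)) : Matrix (Fin m ⊕ Fin m) (Fin m ⊕ Fin m) F) =
      mat g := rfl

theorem toSp_injective :
    Function.Injective (toSp : ↥(Cfsg.isometryGroup F (Cfsg.quadFormPlus m F)) → _) := by
  intro g h hgh
  have h1 : mat g = mat h := congrArg Subtype.val hgh
  exact Subtype.ext (Units.ext h1)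

theorem polar_eq_fB (u v : Fin m ⊕ Fin m → F) :
    QuadraticMap.polar (Cfsg.quadFormPlus m F) u v = fB m F u v := by
  rw [fB_apply, sympForm_eq_polar]
  rfl

omit [CharP F 2] in
theorem quad_isom (g : ↥(Cfsg.isometryGroup F (Cfsg.quadFormPlus m F))) (v : Fin m ⊕ Fin m → F) :
    Cfsg.quadFormPlus m F (mat g *ᵥ v) = Cfsg.quadFormPlus m F v :=
  g.2 v v

theorem toSp_sq (x : ↥(Cfsg.isometryGroup F (Cfsg.quadFormPlus m F))) (hx : x ^ 2 = 1) :
    (toSp x) ^ 2 = 1 := by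
  rw [← map_pow, hx, map_one]

theorem Nl_toSp_apply (x : ↥(Cfsg.isometryGroup F (Cfsg.quadFormPlus m F)))
    (v : Fin m ⊕ Fin m → F) : Nl (toSp x) v = (mat x - 1) *ᵥ v := rfl

/-- the diagonal of `γ` is the quadratic form -/
theorem gam_diag (x : ↥(Cfsg.isometryGroup F (Cfsg.quadFormPlus m F))) (hx : x ^ 2 = 1)
    (w : LinearMap.range (Nl (toSp x))) :
    gam (Nl (toSp x)) (Nl_facts (toSp x) (toSp_sq x hx)).2.1 w w =
      Cfsg.quadFormPlus m F (w : Fin m ⊕ Fin m → F) := by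
  obtain ⟨hN, hNf, hdiag⟩ := Nl_facts (toSp x) (toSp_sq x hx)
  rw [gam_eq hNf w (sec (Nl (toSp x)) w) (N_sec _ w), ← N_sec (Nl (toSp x)) w, hdiag]
  set v := sec (Nl (toSp x)) w
  rw [← fB_apply, ← polar_eq_fB, toSp_val, Nl_toSp_apply, Matrix.sub_mulVec, Matrix.one_mulVec]
  have h1 := quad_isom x v
  have h2 : mat x *ᵥ v - v = v + mat x *ᵥ v := by
    have hvv : v + v = 0 := by
      ext i
      exact CharTwo.add_self_eq_zero (v i)
    rw [sub_eq_iff_eq_add, add_right_comm, hvv, zero_add]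
  have h3 : Cfsg.quadFormPlus m F v + Cfsg.quadFormPlus m F v = 0 := CharTwo.add_self_eq_zero _
  rw [h2, QuadraticMap.polar, h1]
  linear_combination -h3

/-- the centraliser of `x` in `O⁺` maps to the centraliser of `toSp x` in `Sp` -/
noncomputable def centHom (x : ↥(Cfsg.isometryGroup F (Cfsg.quadFormPlus m F))) :
    ↥(Subgroup.centralizer ({x} : Set ↥(Cfsg.isometryGroup F (Cfsg.quadFormPlus m F)))) →*
      ↥(Subgroup.centralizer ({toSp x} : Set ↥(Matrix.symplecticGroup (Fin m) F))) where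
  toFun c := ⟨toSp c.1, by
    rw [Subgroup.mem_centralizer_iff]
    intro h hh
    rw [Set.mem_singleton_iff.1 hh, ← map_mul, ← map_mul,
      (Subgroup.mem_centralizer_iff.1 c.2) x rfl]⟩
  map_one' := rfl
  map_mul' _ _ := rfl

/-- restriction to `W` of the centraliser of `x` in `O⁺` -/
noncomputable def resO (x : ↥(Cfsg.isometryGroup F (Cfsg.quadFormPlus m F))) :
    ↥(Subgroup.centralizer ({x} : Set ↥(Cfsg.isometryGroup F (Cfsg.quadFormPlus m F)))) →*
      (LinearMap.range (Nl (toSp x)) ≃ₗ[F] LinearMap.range (Nl (toSp x))) :=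
  (resHom (toSp x)).comp (centHom x)

theorem resO_apply (x : ↥(Cfsg.isometryGroup F (Cfsg.quadFormPlus m F)))
    (c : ↥(Subgroup.centralizer ({x} : Set ↥(Cfsg.isometryGroup F (Cfsg.quadFormPlus m F)))))
    (w : LinearMap.range (Nl (toSp x))) :
    ((resO x c w : LinearMap.range (Nl (toSp x))) : Fin m ⊕ Fin m → F) =
      mat c.1 *ᵥ (w : Fin m ⊕ Fin m → F) := rfl

theorem comm_of_fix (x : ↥(Cfsg.isometryGroup F (Cfsg.quadFormPlus m F))) (hx : x ^ 2 = 1)
    (g : ↥(Cfsg.isometryGroup F (Cfsg.quadFormPlus m F)))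
    (A : LinearMap.range (Nl (toSp x)) ≃ₗ[F] LinearMap.range (Nl (toSp x)))
    (hA : ∀ a b, gam (Nl (toSp x)) (Nl_facts (toSp x) (toSp_sq x hx)).2.1 (A a) (A b) =
      gam (Nl (toSp x)) (Nl_facts (toSp x) (toSp_sq x hx)).2.1 a b)
    (hgA : ∀ w : LinearMap.range (Nl (toSp x)), mat g *ᵥ (w : Fin m ⊕ Fin m → F) = A w) :
    g ∈ Subgroup.centralizer ({x} : Set ↥(Cfsg.isometryGroup F (Cfsg.quadFormPlus m F))) := by
  rw [Subgroup.mem_centralizer_iff]
  intro h hh
  rw [Set.mem_singleton_iff.1 hh]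
  apply toSp_injective
  rw [map_mul, map_mul]
  exact comm_of_isom (toSp x) (toSp_sq x hx) (toSp g) A hA hgA

section Main

variable [Fintype F]

theorem mem_range_resO_iff (x : ↥(Cfsg.isometryGroup F (Cfsg.quadFormPlus m F))) (hx : x ^ 2 = 1)
    (A : LinearMap.range (Nl (toSp x)) ≃ₗ[F] LinearMap.range (Nl (toSp x))) :
    A ∈ (resO x).range ↔
      ∀ a b, gam (Nl (toSp x)) (Nl_facts (toSp x) (toSp_sq x hx)).2.1 (A a) (A b) =
        gam (Nl (toSp x)) (Nl_facts (toSp x) (toSp_sq x hx)).2.1 a b := by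
  constructor
  · rintro ⟨c, rfl⟩
    exact (mem_range_resHom_iff (toSp x) (toSp_sq x hx) _).1 ⟨centHom x c, rfl⟩
  · intro hA
    obtain ⟨p, hp⟩ := LinearMap.exists_leftInverse_of_injective
      (LinearMap.range (Nl (toSp x))).subtype (Submodule.ker_subtype _)
    have hp' : ∀ w : LinearMap.range (Nl (toSp x)), p (w : Fin m ⊕ Fin m → F) = w :=
      fun w => LinearMap.congr_fun hp w
    set f : (Fin m ⊕ Fin m → F) →ₗ[F] (Fin m ⊕ Fin m → F) :=
      (LinearMap.range (Nl (toSp x))).subtype ∘ₗ (A : _ →ₗ[F] _) ∘ₗ p with hf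
    have hfw : ∀ w : LinearMap.range (Nl (toSp x)), f (w : Fin m ⊕ Fin m → F) = A w := by
      intro w
      rw [hf, LinearMap.comp_apply, LinearMap.comp_apply, hp']
      rfl
    obtain ⟨g, hg⟩ := witt_O (qfPlus m F) (qfPlus_nondegenerate m F)
      (LinearMap.range (Nl (toSp x))) f
      (fun u hu => by
        rw [hfw ⟨u, hu⟩]
        show Cfsg.quadFormPlus m F _ = Cfsg.quadFormPlus m F u
        rw [← gam_diag x hx (A ⟨u, hu⟩), hA, gam_diag x hx])
      (fun u hu h0 => by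
        rw [hfw ⟨u, hu⟩] at h0
        have h1 : A ⟨u, hu⟩ = 0 := Subtype.ext h0
        have h2 := (LinearEquiv.map_eq_zero_iff A).1 h1
        exact congrArg Subtype.val h2)
    have hgA : ∀ w : LinearMap.range (Nl (toSp x)),
        mat (g : ↥(Cfsg.isometryGroup F (Cfsg.quadFormPlus m F))) *ᵥ
          (w : Fin m ⊕ Fin m → F) = A w := by
      intro w
      have := hg w w.2
      rw [linOf_apply, hfw] at this
      exact this
    refine ⟨⟨g, comm_of_fix x hx g A hA hgA⟩, ?_⟩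
    apply LinearEquiv.ext
    intro w
    apply Subtype.ext
    exact hgA w

theorem card_centralizer_O_eq (x : ↥(Cfsg.isometryGroup F (Cfsg.quadFormPlus m F)))
    (hx : x ^ 2 = 1) :
    Nat.card ↥(Subgroup.centralizer ({x} : Set ↥(Cfsg.isometryGroup F (Cfsg.quadFormPlus m F)))) =
      Nat.card (OPwStab (LinearMap.range (Nl (toSp x)))) *
        Nat.card (IsomSet (gam (Nl (toSp x)) (Nl_facts (toSp x) (toSp_sq x hx)).2.1)) := by
  have h1 := Subgroup.card_mul_index (resO x).ker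
  rw [Subgroup.index_ker] at h1
  rw [← h1]
  congr 1
  · refine Nat.card_congr
      { toFun := fun c => ⟨c.1.1, fun w hw => ?_⟩
        invFun := fun g => ⟨⟨g.1, ?_⟩, ?_⟩
        left_inv := fun c => rfl
        right_inv := fun g => rfl }
    · have h2 : resO x c.1 = 1 := c.2
      have h3 := LinearEquiv.congr_fun h2 ⟨w, hw⟩
      exact congrArg Subtype.val h3
    · exact comm_of_fix x hx g.1 (LinearEquiv.refl F _) (fun a b => rfl) (fun w => g.2 w w.2)
    · show resO x _ = 1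
      apply LinearEquiv.ext
      intro w
      apply Subtype.ext
      exact g.2 w w.2
  · exact Nat.card_congr (Equiv.subtypeEquivRight (mem_range_resO_iff x hx))

/-- K-OInv-5. -/
theorem exists_form_of_involution_O
    (x : ↥(Cfsg.isometryGroup F (Cfsg.quadFormPlus m F))) (hx : x ^ 2 = 1) :
    ∃ (W : Submodule F (Fin m ⊕ Fin m → F)) (γ : LinearMap.BilinForm F W),
      Module.finrank F W = (((x : Matrix.GeneralLinearGroup (Fin m ⊕ Fin m) F) :
        Matrix (Fin m ⊕ Fin m) (Fin m ⊕ Fin m) F) - 1).rank ∧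
      Module.finrank F W ≤ m ∧
      (∀ a ∈ W, ∀ b ∈ W, QuadraticMap.polar (Cfsg.quadFormPlus m F) a b = 0) ∧
      (∀ w ∈ W, ((x : Matrix.GeneralLinearGroup (Fin m ⊕ Fin m) F) :
        Matrix (Fin m ⊕ Fin m) (Fin m ⊕ Fin m) F) *ᵥ w = w) ∧
      (∀ v, (((x : Matrix.GeneralLinearGroup (Fin m ⊕ Fin m) F) :
        Matrix (Fin m ⊕ Fin m) (Fin m ⊕ Fin m) F) - 1) *ᵥ v ∈ W) ∧
      γ.IsSymm ∧ γ.Nondegenerate ∧
      (∀ w : W, γ w w = Cfsg.quadFormPlus m F (w : Fin m ⊕ Fin m → F)) ∧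
      Nat.card {g : ↥(Cfsg.isometryGroup F (Cfsg.quadFormPlus m F)) // g * x = x * g} =
        Nat.card (OPwStab W) * Nat.card (IsomSet γ) := by
  obtain ⟨hN, hNf, hdiag⟩ := Nl_facts (toSp x) (toSp_sq x hx)
  have hT2 : ((toSp x : ↥(Matrix.symplecticGroup (Fin m) F)) :
      Matrix (Fin m ⊕ Fin m) (Fin m ⊕ Fin m) F) *
      ((toSp x : ↥(Matrix.symplecticGroup (Fin m) F)) :
        Matrix (Fin m ⊕ Fin m) (Fin m ⊕ Fin m) F) = 1 := by
    have := congrArg Subtype.val (toSp_sq x hx)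
    rw [pow_two] at this
    exact this
  refine ⟨LinearMap.range (Nl (toSp x)), gam (Nl (toSp x)) hNf, rfl, sp_rank_le (toSp x) hT2,
    ?_, ?_, fun v => ⟨v, rfl⟩, gam_symm hNf, gam_nondeg hNf, gam_diag x hx, ?_⟩
  · intro a ha b hb
    rw [polar_eq_fB, fB_apply]
    exact range_isotropic hN hNf a ha b hb
  · rintro _ ⟨v, rfl⟩
    have h1 := hN v
    rw [Nl_toSp_apply (x := x) (v := Nl (toSp x) v), Matrix.sub_mulVec, Matrix.one_mulVec,
      sub_eq_zero] at h1
    exact h1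
  · rw [← card_centralizer_O_eq x hx]
    refine Nat.card_congr (Equiv.subtypeEquivRight fun g => ?_)
    rw [Subgroup.mem_centralizer_iff]
    constructor
    · intro h y hy
      rw [Set.mem_singleton_iff.1 hy]
      exact h.symm
    · intro h
      exact (h x rfl).symm

end Main

end Cfsg.Agent.Lib.Helper49.OInv
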