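import Mathlib
import Cfsg.Agent.Lib.Helper49.SpInvDefs
import Cfsg.Agent.Lib.Helper49.SpInv5
import Cfsg.Agent.Lib.Helper07.SpCardD
import Cfsg.Agent.Lib.Helper32.SpInv1
import Cfsg.Agent.Lib.Helper63.SpInv2
import Cfsg.Agent.Lib.Helper68.SpInv3
import Cfsg.Agent.Lib.Helper93.SpInv4a
import Cfsg.Agent.Lib.Helper45.SpInv4d
import Cfsg.Agent.Lib.Helper81.SpInv4b
import Cfsg.Agent.Lib.Helper60.SpInv4c

/-!
# Centraliser orders of involutions in `Sp_2m(q)`, `q` even (S2680, S2681, S2682)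

Assembly of the K-SpInv keystone pack (leaves by helper32, helper63, helper68, helper93, helper45,
helper81, helper60 and K-SpInv-5 by helper49).
-/

set_option autoImplicit false

namespace Cfsg.Agent.Lib.Helper49.SpInvGlue

open Matrix Cfsg.Agent.Lib.Helper49.SpInv

variable {F : Type*} [Field F] [Fintype F]

/-! ## glue -/

theorem spOrd_eq (q k : ℕ) :
    spOrd q k = (q : ℕ) ^ (k ^ 2) * ∏ i : Fin k, (q ^ (2 * ((i : ℕ) + 1)) - 1) := by
  rw [spOrd, Fin.prod_univ_eq_prod_range (fun i => q ^ (2 * (i + 1)) - 1) k]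

theorem two_le_q {q : ℕ} (hF : Fintype.card F = q) : 2 ≤ q := by
  rw [← hF]
  exact Fintype.one_lt_card

theorem card_pwStab {q : ℕ} (hF : Fintype.card F = q) {m s : ℕ}
    (W : Submodule F (Fin m ⊕ Fin m → F))
    (hW : ∀ x ∈ W, ∀ y ∈ W, Cfsg.sympForm m F x y = 0) (hs : Module.finrank F W = s)
    (hsm : s ≤ m) :
    Nat.card (PwStab W) = q ^ (2 * m * s - (3 * s ^ 2 - s) / 2) * spOrd q (m - s) := by
  apply Cfsg.Agent.Lib.Helper68.SpInv.arith_stab q m s _ (two_le_q hF) hsm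
  rw [← Cfsg.Agent.Lib.Helper32.SpInv.card_isoFrame hF m s hsm, Cfsg.Agent.Lib.Helper63.SpInv.card_pwStab_mul W hW hs, spOrd,
    Cfsg.Agent.Lib.Helper07.card_symplecticGroup hF m]

theorem s2681 [CharP F 2] {q : ℕ} (hF : Fintype.card F = q) {m s : ℕ} (t : Matrix.symplecticGroup (Fin m) F) (ht : t ^ 2 = 1) (_ht1 : t ≠ 1) (hs : ((t : Matrix (Fin m ⊕ Fin m) (Fin m ⊕ Fin m) F) - 1).rank = s) (heven : Even s) (halt : ∀ v : Fin m ⊕ Fin m → F, Cfsg.sympForm m F v ((t : Matrix (Fin m ⊕ Fin m) (Fin m ⊕ Fin m) F).mulVec v) = 0) : Nat.card ↥(Subgroup.centralizer ({t} : Set ↥(Matrix.symplecticGroup (Fin m) F))) = q ^ (2 * m * s - (3 * s ^ 2 - s) / 2) * ((q : ℕ) ^ ((s / 2) ^ 2) * ∏ i : Fin (s / 2), (q ^ (2 * ((i : ℕ) + 1)) - 1)) * ((q : ℕ) ^ ((m - s) ^ 2) * ∏ i : Fin (m - s), (q ^ (2 * ((i : ℕ) + 1)) - 1)) := by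
  obtain ⟨W, γ, hdim, hle, hW, hsym, hnd, haltiff, hcard⟩ := exists_form_of_involution t ht
  rw [hs] at hdim
  rw [hdim] at hle
  obtain ⟨k, hk⟩ := heven
  have hk2 : s = 2 * k := by omega
  have hγalt : γ.IsAlt := fun x => haltiff.2 halt x
  rw [hcard, card_pwStab hF W hW hdim hle, Cfsg.Agent.Lib.Helper93.SpInv.card_isom_alt hF γ hnd hγalt k (hdim.trans hk2),
    ← spOrd_eq, ← spOrd_eq]
  have : s / 2 = k := by omega
  rw [this]
  ring

theorem s2680 [CharP F 2] {q : ℕ} (hF : Fintype.card F = q) {m s : ℕ} (t : Matrix.symplecticGroup (Fin m) F) (ht : t ^ 2 = 1) (hs : ((t : Matrix (Fin m ⊕ Fin m) (Fin m ⊕ Fin m) F) - 1).rank = s) (hodd : Odd s) : Nat.card ↥(Subgroup.centralizer ({t} : Set ↥(Matrix.symplecticGroup (Fin m) F))) = q ^ (2 * m * s - (3 * s ^ 2 - s) / 2) * ((q : ℕ) ^ (((s - 1) / 2) ^ 2) * ∏ i : Fin ((s - 1) / 2), (q ^ (2 * ((i : ℕ) + 1)) - 1)) * ((q : ℕ) ^ ((m - s) ^ 2)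 * ∏ i : Fin (m - s), (q ^ (2 * ((i : ℕ) + 1)) - 1)) := by
  obtain ⟨W, γ, hdim, hle, hW, hsym, hnd, haltiff, hcard⟩ := exists_form_of_involution t ht
  rw [hs] at hdim
  rw [hdim] at hle
  obtain ⟨k, hk⟩ := hodd
  rw [hcard, card_pwStab hF W hW hdim hle, Cfsg.Agent.Lib.Helper81.SpInv.card_isom_odd hF γ hnd hsym k (hdim.trans hk)
      (fun U₀ h1 h2 h3 => Cfsg.Agent.Lib.Helper93.SpInv.card_isom_alt hF _ h1 h2 k h3)
      (fun C h1 h2 => by
        have h := Cfsg.Agent.Lib.Helper45.SpInv.even_finrank_of_alt (K := F) (U := C) (γ.restrict C) h1 h2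
        exact h),
    ← spOrd_eq, ← spOrd_eq]
  have : (s - 1) / 2 = k := by omega
  rw [this]
  ring

theorem s2682 [CharP F 2] {q : ℕ} (hF : Fintype.card F = q) {m s : ℕ} (t : Matrix.symplecticGroup (Fin m) F) (ht : t ^ 2 = 1) (hs : ((t : Matrix (Fin m ⊕ Fin m) (Fin m ⊕ Fin m) F) - 1).rank = s) (heven : Even s) (hna : ∃ v : Fin m ⊕ Fin m → F, Cfsg.sympForm m F v ((t : Matrix (Fin m ⊕ Fin m) (Fin m ⊕ Fin m) F).mulVec v) ≠ 0) : Nat.card ↥(Subgroup.centralizer ({t} : Set ↥(Matrix.symplecticGroup (Fin m) F))) = q ^ (2 * m * s - (3 * s ^ 2 - 3 * s) / 2 - 1) * ((q : ℕ) ^ (((s - 2) / 2) ^ 2) * ∏ i : Fin ((s - 2) / 2), (q ^ (2 * ((i : ℕ) + 1)) - 1)) * ((q : ℕ) ^ ((m - s) ^ 2) * ∏ i : Fin (m - s), (q ^ (2 * ((i : ℕ) + 1)) - 1)) := by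
  obtain ⟨W, γ, hdim, hle, hW, hsym, hnd, haltiff, hcard⟩ := exists_form_of_involution t ht
  rw [hs] at hdim
  rw [hdim] at hle
  have hγna : ∃ x, γ x x ≠ 0 := by
    by_contra hcon
    push Not at hcon
    obtain ⟨v, hv⟩ := hna
    exact hv (haltiff.1 hcon v)
  obtain ⟨k0, hk0⟩ := heven
  have hs0 : s ≠ 0 := by
    rintro rfl
    obtain ⟨x, hx⟩ := hγna
    have : Subsingleton W := (Module.finrank_zero_iff (R := F) (M := W)).1 hdim
    apply hx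
    rw [Subsingleton.elim x 0]
    simp
  obtain ⟨k, rfl⟩ : ∃ k, k0 = k + 1 := ⟨k0 - 1, by omega⟩
  have hk2 : s = 2 * k + 2 := by omega
  rw [hcard, card_pwStab hF W hW hdim hle,
    Cfsg.Agent.Lib.Helper60.SpInv.card_isom_even_nonalt hF γ hnd hsym hγna k (hdim.trans hk2)
      (fun γ' h1 h2 => Cfsg.Agent.Lib.Helper93.SpInv.card_isom_alt hF γ' h1 h2 (k + 1)
        ((hdim.trans hk2).trans (by ring)))
      (fun C h1 h2 => by
        have h := Cfsg.Agent.Lib.Helper45.SpInv.even_finrank_of_alt (K := F) (U := C) (γ.restrict C) h1 h2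
        exact h), ← spOrd_eq, ← spOrd_eq]
  have h1 : (s - 2) / 2 = k := by omega
  rw [h1]
  have h2 : 2 * m * s - (3 * s ^ 2 - 3 * s) / 2 - 1 =
      (2 * m * s - (3 * s ^ 2 - s) / 2) + (2 * k + 1) := by
    obtain ⟨d, rfl⟩ : ∃ d, m = s + d := ⟨m - s, by omega⟩
    have e1 : 3 * s ^ 2 - 3 * s = 2 * (6 * (k * k) + 9 * k + 3) := by
      rw [hk2]
      apply Nat.sub_eq_of_eq_add
      ring
    have e2 : 3 * s ^ 2 - s = 2 * (6 * (k * k) + 11 * k + 5) := by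
      rw [hk2]
      apply Nat.sub_eq_of_eq_add
      ring
    have e3 : 2 * (s + d) * s = 8 * (k * k) + 16 * k + 8 + 4 * (k * d) + 4 * d := by
      rw [hk2]
      ring
    rw [e1, e2, e3, Nat.mul_div_cancel_left _ (by norm_num : 0 < 2),
      Nat.mul_div_cancel_left _ (by norm_num : 0 < 2)]
    omega
  rw [h2, pow_add]
  ring

end Cfsg.Agent.Lib.Helper49.SpInvGlue
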