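import Mathlib
import Cfsg.Agent.Lib.Helper49.OInvDefs
import Cfsg.Agent.Lib.Helper49.OInv5
import Cfsg.Agent.Lib.Helper49.SpInvGlue
import Cfsg.Agent.Lib.Helper43.OrthSingular
import Cfsg.Agent.Lib.Helper08.GOPlus
import Cfsg.Agent.Lib.Helper63.OInv1a
import Cfsg.Agent.Lib.Helper80.OInv1b
import Cfsg.Agent.Lib.Helper18.OInv2
import Cfsg.Agent.Lib.Helper45.OInv3a
import Cfsg.Agent.Lib.Helper32.OInv3b
import Cfsg.Agent.Lib.Helper54.OInv4
import Cfsg.Agent.Lib.Helper82.OInv6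

/-!
# Centraliser orders in `Ω⁺_{2m}(q)` of involutions of `O⁺_{2m}(q)`, `q` even (S2683, S2684, S2685)

Assembly of the K-OInv keystone pack (leaves by helper63, helper80, helper18, helper45, helper32,
helper54, helper82; K-OInv-5 and the K-SpInv pack by helper49 and its leaf authors).
-/

set_option autoImplicit false

namespace Cfsg.Agent.Lib.Helper49.OInvGlue

open Matrix Cfsg.Agent.Lib.Helper49.SpInv Cfsg.Agent.Lib.Helper49.OInv

variable {F : Type*} [Field F] [Fintype F] [CharP F 2]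

/-! ## glue -/

theorem card_oPwStab_s {q : ℕ} (hF : Fintype.card F = q) {m s : ℕ} (hm : 1 ≤ m)
    (W : Submodule F (Fin m ⊕ Fin m → F)) (hW : ∀ w ∈ W, Cfsg.quadFormPlus m F w = 0)
    (hs : Module.finrank F W = s) (hsm : s ≤ m) :
    Nat.card (OPwStab W) = q ^ (2 * m * s - (3 * s ^ 2 + s) / 2) *
      (if s = m then 1 else 2 * (q ^ ((m - s) * (m - s - 1)) * (q ^ (m - s) - 1) *
        ∏ i ∈ Finset.range (m - s - 1), (q ^ (2 * (i + 1)) - 1))) := by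
  obtain ⟨v, hv⟩ := Cfsg.Agent.Lib.Helper82.OInv.exists_sFrame W hW hs
  apply Cfsg.Agent.Lib.Helper45.OInv.arith_stab_s q m s _ (Cfsg.Agent.Lib.Helper49.SpInvGlue.two_le_q hF) hsm hm
  rw [← Cfsg.Agent.Lib.Helper63.OInv.card_sFrame hF m s hsm, ← hv, Cfsg.Agent.Lib.Helper18.OInv.card_oPwStab_mul _ v, oPlusOrd,
    Cfsg.Agent.Lib.Helper08.card_GOplus hF m hm]

theorem card_oPwStab_m {q : ℕ} (hF : Fintype.card F = q) {m k : ℕ}
    (W : Submodule F (Fin m ⊕ Fin m → F))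
    (hW : ∀ a ∈ W, ∀ b ∈ W, QuadraticMap.polar (Cfsg.quadFormPlus m F) a b = 0)
    (hns : ∃ w ∈ W, Cfsg.quadFormPlus m F w ≠ 0) (hs : Module.finrank F W = k + 1)
    (hkm : k < m) :
    Nat.card (OPwStab W) =
      2 * (q ^ (2 * m * k - (3 * (k + 1) ^ 2 - 3 * (k + 1)) / 2) * spOrd q (m - k - 1)) := by
  obtain ⟨v, hv⟩ := Cfsg.Agent.Lib.Helper82.OInv.exists_mFrame W hW hns hs
  apply Cfsg.Agent.Lib.Helper32.OInv.arith_stab_m q m k _ (Cfsg.Agent.Lib.Helper49.SpInvGlue.two_le_q hF) hkm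
  rw [← Cfsg.Agent.Lib.Helper80.OInv.card_mFrame hF m k hkm (Cfsg.Agent.Lib.Helper63.OInv.card_sFrame hF m k hkm.le), ← hv, Cfsg.Agent.Lib.Helper18.OInv.card_oPwStab_mul _ v, oPlusOrd,
    Cfsg.Agent.Lib.Helper08.card_GOplus hF m (by omega)]

theorem two_mul_cancel' {a b : ℕ} (h : 2 * a = 2 * b) : a = b := by omega

/-- S2683 -/
theorem s2683 {q : ℕ} (hF : Fintype.card F = q) {m s : ℕ} (h : Fintype.card F ≠ 2 ∨ m ≠ 2) (x : ↥(Cfsg.isometryGroup F (Cfsg.quadFormPlus m F))) (hx : x ^ 2 = 1) (hs : (((x : Matrix.GeneralLinearGroup (Fin m ⊕ Fin m) F) : Matrix (Fin m ⊕ Fin m) (Fin m ⊕ Fin m) F) - 1).rank = s) (hodd : Odd s) : Nat.card {g : ↥(Cfsg.Omega F (Cfsg.quadFormPlus m F)) // (g : ↥(Cfsg.isometryGroup F (Cfsg.quadFormPlus m F))) * x = x * (g : ↥(Cfsg.isometryGroup F (Cfsg.quadFormPlus m F)))} = q ^ (2 * m * (s - 1) - (3 * s ^ 2 - 3 * s) / 2) * ((q : ℕ) ^ (((s - 1) / 2) ^ 2) * ∏ i :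 Fin ((s - 1) / 2), (q ^ (2 * ((i : ℕ) + 1)) - 1)) * ((q : ℕ) ^ ((m - s) ^ 2) * ∏ i : Fin (m - s), (q ^ (2 * ((i : ℕ) + 1)) - 1)) := by
  obtain ⟨W, γ, hdim, hle, hiso, hfix, hNW, hsym, hnd, hdiag, hcard⟩ :=
    exists_form_of_involution_O x hx
  rw [hs] at hdim
  rw [hdim] at hle
  obtain ⟨k, hk⟩ := hodd
  -- γ is not alternating
  have hna : ∃ w ∈ W, Cfsg.quadFormPlus m F w ≠ 0 := by
    by_contra hcon
    push Not at hcon
    have halt : γ.IsAlt := fun w => by rw [hdiag]; exact hcon w w.2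
    have hev := Cfsg.Agent.Lib.Helper45.SpInv.even_finrank_of_alt (K := F) (U := W) γ hnd halt
    rw [hdim, hk] at hev
    exact (Nat.not_even_iff_odd.2 ⟨k, rfl⟩) hev
  have hI : Nat.card (IsomSet γ) = spOrd q k :=
    Cfsg.Agent.Lib.Helper81.SpInv.card_isom_odd hF γ hnd hsym k (hdim.trans hk)
      (fun U₀ h1 h2 h3 => Cfsg.Agent.Lib.Helper93.SpInv.card_isom_alt hF _ h1 h2 k h3)
      (fun C h1 h2 => by
        have h := Cfsg.Agent.Lib.Helper45.SpInv.even_finrank_of_alt (K := F) (U := C)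
          (γ.restrict C) h1 h2
        exact h)
  have hP := card_oPwStab_m hF (k := 2 * k) W hiso hna (hdim.trans hk) (by omega)
  have hxΩ : x ∉ Cfsg.Omega F (Cfsg.quadFormPlus m F) :=
    Cfsg.Agent.Lib.Helper54.OInv.not_mem_Omega_of_odd_rank h x (by rw [hs, hk]; exact ⟨k, rfl⟩)
  have h2 := Cfsg.Agent.Lib.Helper54.OInv.two_mul_card_centralizer_Omega h x x rfl hxΩ
  rw [hcard, hP, hI] at h2
  apply two_mul_cancel'
  rw [h2, ← Cfsg.Agent.Lib.Helper49.SpInvGlue.spOrd_eq, ← Cfsg.Agent.Lib.Helper49.SpInvGlue.spOrd_eq]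
  have e1 : (s - 1) / 2 = k := by omega
  have e2 : s - 1 = 2 * k := by omega
  have e3 : m - 2 * k - 1 = m - s := by omega
  have e4 : 3 * (2 * k + 1) ^ 2 - 3 * (2 * k + 1) = 3 * s ^ 2 - 3 * s := by rw [hk]
  rw [e1, e2, e3, e4]
  ring

/-- S2685 -/
theorem s2685 {q : ℕ} (hF : Fintype.card F = q) {m s : ℕ} (h : Fintype.card F ≠ 2 ∨ m ≠ 2) (x : ↥(Cfsg.isometryGroup F (Cfsg.quadFormPlus m F))) (hx : x ^ 2 = 1) (hs : (((x : Matrix.GeneralLinearGroup (Fin m ⊕ Fin m) F) : Matrix (Fin m ⊕ Fin m) (Fin m ⊕ Fin m) F) - 1).rank = s) (heven : Even s) (hna : ∃ v : Fin m ⊕ Fin m → F, Cfsg.quadFormPlus m F ((((x : Matrix.GeneralLinearGroup (Fin m ⊕ Fin m) F) : Matrix (Fin m ⊕ Fin m) (Fin m ⊕ Fin m) F) - 1).mulVec v) ≠ 0) : Nat.card {g : ↥(Cfsg.Omega F (Cfsg.quadFormPlus m F)) // (g : ↥(Cfsg.isometryGroup F (Cfsg.quadFormPlus m F))) * x = x * (g : ↥(Cfsg.isometryGroup F (Cfsg.quadFormPlus m F)))}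 = q ^ (2 * m * (s - 1) - (3 * s ^ 2 - 5 * s) / 2 - 1) * ((q : ℕ) ^ (((s - 2) / 2) ^ 2) * ∏ i : Fin ((s - 2) / 2), (q ^ (2 * ((i : ℕ) + 1)) - 1)) * ((q : ℕ) ^ ((m - s) ^ 2) * ∏ i : Fin (m - s), (q ^ (2 * ((i : ℕ) + 1)) - 1)) := by
  obtain ⟨W, γ, hdim, hle, hiso, hfix, hNW, hsym, hnd, hdiag, hcard⟩ :=
    exists_form_of_involution_O x hx
  rw [hs] at hdim
  rw [hdim] at hle
  obtain ⟨v, hv⟩ := hna
  set w : Fin m ⊕ Fin m → F := (((x : Matrix.GeneralLinearGroup (Fin m ⊕ Fin m) F) :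
    Matrix (Fin m ⊕ Fin m) (Fin m ⊕ Fin m) F) - 1).mulVec v with hw
  have hwW : w ∈ W := hNW v
  have hnaW : ∃ w ∈ W, Cfsg.quadFormPlus m F w ≠ 0 := ⟨w, hwW, hv⟩
  have hγna : ∃ y, γ y y ≠ 0 := ⟨⟨w, hwW⟩, by rw [hdiag]; exact hv⟩
  obtain ⟨k0, hk0⟩ := heven
  have hs0 : s ≠ 0 := by
    rintro rfl
    have : Subsingleton W := (Module.finrank_zero_iff (R := F) (M := W)).1 hdim
    have h0 : (⟨w, hwW⟩ : W) = 0 := Subsingleton.elim _ _
    have h1 : w = 0 := congrArg Subtype.val h0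
    apply hv
    rw [h1]
    simp [Cfsg.quadFormPlus]
  obtain ⟨k, rfl⟩ : ∃ k, k0 = k + 1 := ⟨k0 - 1, by omega⟩
  have hk2 : s = 2 * k + 2 := by omega
  have hI : Nat.card (IsomSet γ) = q ^ (2 * k + 1) * spOrd q k :=
    Cfsg.Agent.Lib.Helper60.SpInv.card_isom_even_nonalt hF γ hnd hsym hγna k (hdim.trans hk2)
      (fun γ' h1 h2 => Cfsg.Agent.Lib.Helper93.SpInv.card_isom_alt hF γ' h1 h2 (k + 1)
        ((hdim.trans hk2).trans (by ring)))
      (fun C h1 h2 => by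
        have h := Cfsg.Agent.Lib.Helper45.SpInv.even_finrank_of_alt (K := F) (U := C)
          (γ.restrict C) h1 h2
        exact h)
  have hP := card_oPwStab_m hF (k := 2 * k + 1) W hiso hnaW (hdim.trans hk2) (by omega)
  obtain ⟨g, hgx, hgΩ⟩ := Cfsg.Agent.Lib.Helper54.OInv.exists_comm_not_mem_Omega h x w hv (hfix w hwW)
  have h2 := Cfsg.Agent.Lib.Helper54.OInv.two_mul_card_centralizer_Omega h x g hgx hgΩ
  rw [hcard, hP, hI] at h2
  apply two_mul_cancel'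
  rw [h2, ← Cfsg.Agent.Lib.Helper49.SpInvGlue.spOrd_eq, ← Cfsg.Agent.Lib.Helper49.SpInvGlue.spOrd_eq]
  have e1 : (s - 2) / 2 = k := by omega
  have e2 : s - 1 = 2 * k + 1 := by omega
  have e3 : m - (2 * k + 1) - 1 = m - s := by omega
  rw [e1, e2, e3]
  have e5 : 2 * m * (2 * k + 1) - (3 * s ^ 2 - 5 * s) / 2 - 1 =
      (2 * m * (2 * k + 1) - (3 * (2 * k + 1 + 1) ^ 2 - 3 * (2 * k + 1 + 1)) / 2) + (2 * k + 1) := by
    obtain ⟨d, rfl⟩ : ∃ d, m = s + d := ⟨m - s, by omega⟩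
    have a1 : 3 * s ^ 2 - 5 * s = 2 * (6 * (k * k) + 7 * k + 1) := by
      rw [hk2]
      apply Nat.sub_eq_of_eq_add
      ring
    have a2 : 3 * (2 * k + 1 + 1) ^ 2 - 3 * (2 * k + 1 + 1) = 2 * (6 * (k * k) + 9 * k + 3) := by
      apply Nat.sub_eq_of_eq_add
      ring
    have a3 : 2 * (s + d) * (2 * k + 1) = 8 * (k * k) + 12 * k + 4 + 4 * (k * d) + 2 * d := by
      rw [hk2]
      ring
    rw [a1, a2, a3, Nat.mul_div_cancel_left _ (by norm_num : 0 < 2),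
      Nat.mul_div_cancel_left _ (by norm_num : 0 < 2)]
    omega
  rw [e5, pow_add]
  ring

/-- S2684 -/
theorem s2684 {q : ℕ} (hF : Fintype.card F = q) {m s : ℕ} (h : Fintype.card F ≠ 2 ∨ m ≠ 2) (x : ↥(Cfsg.isometryGroup F (Cfsg.quadFormPlus m F))) (hx : x ^ 2 = 1) (hx1 : x ≠ 1) (hs : (((x : Matrix.GeneralLinearGroup (Fin m ⊕ Fin m) F) : Matrix (Fin m ⊕ Fin m) (Fin m ⊕ Fin m) F) - 1).rank = s) (heven : Even s) (halt : ∀ v : Fin m ⊕ Fin m → F, Cfsg.quadFormPlus m F ((((x : Matrix.GeneralLinearGroup (Fin m ⊕ Fin m) F) : Matrix (Fin m ⊕ Fin m) (Fin m ⊕ Fin m) F) - 1).mulVec v) = 0) : Nat.card {g : ↥(Cfsg.Omega F (Cfsg.quadFormPlus m F)) // (g : ↥(Cfsg.isometryGroup F (Cfsg.quadFormPlus m F))) * x = x * (g : ↥(Cfsg.isometryGroup F (Cfsg.quadFormPlus m F)))} = q ^ (2 * m * s - (3 * s ^ 2 + s) / 2) * ((q : ℕ) ^ ((s / 2) ^ 2) * ∏ i : Fin (s / 2), (q ^ (2 * ((i : ℕ) + 1)) - 1)) * (if s =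 m then 1 else q ^ ((m - s) * (m - s - 1)) * (q ^ (m - s) - 1) * ∏ i : Fin (m - s - 1), (q ^ (2 * ((i : ℕ) + 1)) - 1)) := by
  obtain ⟨W, γ, hdim, hle, hiso, hfix, hNW, hsym, hnd, hdiag, hcard⟩ :=
    exists_form_of_involution_O x hx
  rw [hs] at hdim
  rw [hdim] at hle
  set X : Matrix (Fin m ⊕ Fin m) (Fin m ⊕ Fin m) F :=
    ((x : Matrix.GeneralLinearGroup (Fin m ⊕ Fin m) F) : Matrix (Fin m ⊕ Fin m) (Fin m ⊕ Fin m) F)
    with hX
  -- `W` is the range of `x - 1`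
  have hRW : LinearMap.range (X - 1).mulVecLin = W := by
    apply Submodule.eq_of_le_of_finrank_eq
    · rintro _ ⟨v, rfl⟩
      exact hNW v
    · rw [hdim, ← hs]
      rfl
  have hWQ : ∀ w ∈ W, Cfsg.quadFormPlus m F w = 0 := by
    intro w hw
    rw [← hRW] at hw
    obtain ⟨v, rfl⟩ := hw
    exact halt v
  have hγalt : γ.IsAlt := fun w => by rw [hdiag]; exact hWQ w w.2
  have hm : 1 ≤ m := by
    by_contra hm0
    have hm0' : m = 0 := by omega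
    subst hm0'
    apply hx1
    apply Subtype.ext
    apply Units.ext
    exact Subsingleton.elim _ _
  obtain ⟨k, hk⟩ := heven
  have hk2 : s = 2 * k := by omega
  have hI : Nat.card (IsomSet γ) = spOrd q k :=
    Cfsg.Agent.Lib.Helper93.SpInv.card_isom_alt hF γ hnd hγalt k (hdim.trans hk2)
  have hP := card_oPwStab_s hF hm W hWQ hdim hle
  have e1 : s / 2 = k := by omega
  rw [← Cfsg.Agent.Lib.Helper49.SpInvGlue.spOrd_eq, e1]
  by_cases hsm : s = m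
  · have h2 := Cfsg.Agent.Lib.Helper54.OInv.card_centralizer_Omega_eq h x hx (hs.trans hsm) halt
    rw [h2, hcard, hP, hI, if_pos hsm, if_pos hsm]
    ring
  · have hlt : s < m := lt_of_le_of_ne hle hsm
    -- a nonsingular fixed vector
    have hker : m < Module.finrank F (LinearMap.ker (X - 1).mulVecLin) := by
      have h1 := LinearMap.finrank_range_add_finrank_ker (X - 1).mulVecLin
      rw [Module.finrank_fintype_fun_eq_card, Fintype.card_sum, Fintype.card_fin, hRW, hdim] at h1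
      omega
    obtain ⟨u, huK, huQ⟩ := Cfsg.Agent.Lib.Helper43.exists_nonsingular_plus m _ hker
    have hxu : X *ᵥ u = u := by
      have h1 : (X - 1).mulVecLin u = 0 := huK
      rw [Matrix.mulVecLin_apply, Matrix.sub_mulVec, Matrix.one_mulVec, sub_eq_zero] at h1
      exact h1
    obtain ⟨g, hgx, hgΩ⟩ := Cfsg.Agent.Lib.Helper54.OInv.exists_comm_not_mem_Omega h x u huQ hxu
    have h2 := Cfsg.Agent.Lib.Helper54.OInv.two_mul_card_centralizer_Omega h x g hgx hgΩ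
    rw [hcard, hP, hI, if_neg hsm] at h2
    apply two_mul_cancel'
    rw [h2, if_neg hsm, Fin.prod_univ_eq_prod_range (fun i => q ^ (2 * (i + 1)) - 1) (m - s - 1)]
    ring

end Cfsg.Agent.Lib.Helper49.OInvGlue
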