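import Mathlib
import Cfsg.Agent.Lib.Helper49.OrthCount
import Cfsg.Agent.Lib.Helper49.FixedCongr
import Cfsg.Agent.Lib.Helper49.MinusUnique
import Cfsg.Agent.Lib.Helper50.PlusForm

set_option autoImplicit false

namespace Cfsg.Agent.Lib.Helper49

open Polynomial Module

section Nondeg

variable {F : Type*} [Field F] [Fintype F]

theorem QMinus_nondegenerate_all (m : ℕ) (a b : F)
    (hab : ∀ x y : F, x ^ 2 + a * x * y + b * y ^ 2 = 0 → x = 0 ∧ y = 0) :
    (QuadraticMap.polarBilin (Helper50.QMinus m F a b)).Nondegenerate := by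
  by_cases h2 : (2 : F) = 0
  · haveI : CharP F 2 := CharTwo.of_one_ne_zero_of_two_eq_zero one_ne_zero h2
    exact Helper50.QMinus_nondegenerate m a b hab
  · apply Helper50.qfOfPolar_nondegenerate
    rw [Helper50.det_minus_gram]
    have hΔ := Helper50.disc_not_isSquare h2 a b hab
    have hΔ0 : a ^ 2 - 4 * b ≠ 0 := fun h => hΔ (h ▸ ⟨0, by ring⟩)
    exact mul_ne_zero (pow_ne_zero _ (neg_ne_zero.mpr one_ne_zero)) hΔ0

/-- an irreducible polynomial `t² + t + ζ` exists over a finite field -/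
theorem exists_irred_quadratic : ∃ ζ : F, ∀ t : F, t ^ 2 + t + ζ ≠ 0 := by
  classical
  have hni : ¬ Function.Injective (fun t : F => t ^ 2 + t) := by
    intro h
    have h1 : (fun t : F => t ^ 2 + t) 0 = (fun t : F => t ^ 2 + t) (-1) := by
      simp
    have := h h1
    have h3 : (1 : F) = 0 := by linear_combination this
    exact one_ne_zero h3
  have hns : ¬ Function.Surjective (fun t : F => t ^ 2 + t) := fun h =>
    hni (Finite.injective_iff_surjective.mpr h)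
  rw [Function.Surjective] at hns
  push Not at hns
  obtain ⟨y, hy⟩ := hns
  refine ⟨-y, fun t ht => hy t ?_⟩
  show t ^ 2 + t = y
  linear_combination ht

end Nondeg

section Signs

variable {r : ℕ} [Fact r.Prime]

theorem neg_one_ne_one_zmod (hr2 : r ≠ 2) : (-1 : ZMod r) ≠ 1 := by
  intro h
  have h2 : ((2 : ℕ) : ZMod r) = 0 := by
    push_cast
    linear_combination -h
  rw [ZMod.natCast_eq_zero_iff] at h2
  have hr : r.Prime := Fact.out
  have := (Nat.prime_dvd_prime_iff_eq hr Nat.prime_two).mp h2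
  exact hr2 this

theorem pow_half_order (x : ZMod r) (l : ℕ) (hl : 1 ≤ l) (hx : orderOf x = l + l) :
    x ^ l = -1 := by
  have h1 : x ^ (l + l) = 1 := by rw [← hx]; exact pow_orderOf_eq_one x
  have h2 : (x ^ l - 1) * (x ^ l + 1) = 0 := by
    rw [pow_add] at h1
    linear_combination h1
  rcases mul_eq_zero.mp h2 with h | h
  · exfalso
    have h3 : x ^ l = 1 := sub_eq_zero.mp h
    have := orderOf_dvd_of_pow_eq_one h3
    rw [hx] at this
    have := Nat.le_of_dvd (by omega) this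
    omega
  · exact eq_neg_of_add_eq_zero_left h

theorem order_ne (x : ZMod r) (i : ℕ) (hi : 2 ≤ i) (hx : orderOf x = i) : x ≠ 0 ∧ x ≠ 1 := by
  constructor
  · rintro rfl
    have := pow_orderOf_eq_one (0 : ZMod r)
    rw [hx, zero_pow (by omega)] at this
    exact zero_ne_one this
  · rintro rfl
    rw [orderOf_one] at hx
    omega

end Signs

section Iso

universe u v w

variable {F : Type u} [Field F] [Fintype F] {r : ℕ} [Fact r.Prime]

/-- nondegenerate quadratic spaces of the same even dimension whose numbers of singular vectors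
agree modulo `r` are isometric -/
theorem exists_isometry_of_card_zeros (hr2 : r ≠ 2)
    (hx0 : ((Fintype.card F : ℕ) : ZMod r) ≠ 0) (hx1 : ((Fintype.card F : ℕ) : ZMod r) ≠ 1)
    {V₁ : Type v} {V₀ : Type w} [AddCommGroup V₁] [Module F V₁] [FiniteDimensional F V₁]
    [AddCommGroup V₀] [Module F V₀] [FiniteDimensional F V₀]
    (Q₁ : QuadraticForm F V₁) (Q₀ : QuadraticForm F V₀) (h₁ : Helper50.QND Q₁)
    (h₀ : Helper50.QND Q₀) (m : ℕ) (hd₁ : finrank F V₁ = 2 * m) (hd₀ : finrank F V₀ = 2 * m)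
    (hN : ((Nat.card {v : V₁ // Q₁ v = 0} : ℕ) : ZMod r) =
      ((Nat.card {v : V₀ // Q₀ v = 0} : ℕ) : ZMod r)) :
    ∃ φ : V₁ ≃ₗ[F] V₀, ∀ v, Q₀ (φ v) = Q₁ v := by
  have hmixed : ∀ {N N' : ℕ}, ZC ((Fintype.card F : ℕ) : ZMod r) N m 1 →
      ZC ((Fintype.card F : ℕ) : ZMod r) N' m (-1) → ((N : ℕ) : ZMod r) = N' → False := by
    intro N N' hp hm hNN
    have hp' : ZC ((Fintype.card F : ℕ) : ZMod r) N (0 + m) 1 := by rwa [zero_add]
    have := zc_compare _ hx0 hx1 hp' hm hNN (pow_zero _) (one_mul 1)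
    rw [mul_one] at this
    exact neg_one_ne_one_zmod hr2 this.symm
  rcases Helper50.witt_type (2 * m) Q₁ hd₁ h₁ with
    ⟨m₁, hm₁, hp₁⟩ | ⟨m₁, ζ₁, hm₁, hζ₁, hp₁⟩ | ⟨m₁, c₁, hm₁, -, -⟩
  · rcases Helper50.witt_type (2 * m) Q₀ hd₀ h₀ with
      ⟨m₀, hm₀, hp₀⟩ | ⟨m₀, ζ₀, hm₀, hζ₀, hp₀⟩ | ⟨m₀, c₀, hm₀, -, -⟩
    · obtain rfl : m₁ = m := by omega
      obtain rfl : m₀ = m₁ := by omega
      obtain ⟨φ₁, hφ₁⟩ := hp₁
      obtain ⟨φ₀, hφ₀⟩ := hp₀
      refine ⟨φ₁.trans φ₀.symm, fun v => ?_⟩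
      rw [← hφ₀, LinearEquiv.trans_apply, LinearEquiv.apply_symm_apply, hφ₁]
    · exfalso
      obtain rfl : m₁ = m := by omega
      obtain rfl : m₁ = m₀ + 1 := by omega
      exact hmixed (zc_of_plusType Q₁ _ hp₁) (zc_of_minusType Q₀ m₀ ζ₀ hζ₀ hp₀) hN
    · omega
  · rcases Helper50.witt_type (2 * m) Q₀ hd₀ h₀ with
      ⟨m₀, hm₀, hp₀⟩ | ⟨m₀, ζ₀, hm₀, hζ₀, hp₀⟩ | ⟨m₀, c₀, hm₀, -, -⟩
    · exfalso
      obtain rfl : m₀ = m := by omega
      obtain rfl : m₀ = m₁ + 1 := by omega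
      exact hmixed (zc_of_plusType Q₀ _ hp₀) (zc_of_minusType Q₁ m₁ ζ₁ hζ₁ hp₁) hN.symm
    · obtain rfl : m₁ = m₀ := by omega
      obtain ⟨φ₁, hφ₁⟩ := hp₁
      obtain ⟨φ₀, hφ₀⟩ := hp₀
      obtain ⟨ψ, hψ⟩ := exists_equiv_minus_all m₁ 1 ζ₀ (Helper50.anis_of_irred ζ₀ hζ₀) ζ₁ hζ₁
      refine ⟨φ₁.trans (ψ.trans φ₀.symm), fun v => ?_⟩
      rw [← hφ₀, LinearEquiv.trans_apply, LinearEquiv.trans_apply, LinearEquiv.apply_symm_apply,
        hψ, hφ₁]
    · omega
  · omega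

end Iso

section Generic

variable {F : Type*} [Field F] [Fintype F] {r i : ℕ} {PP : Finset F[X]}

theorem fix_of_kdim_zero {V : Type*} [AddCommGroup V] [Module F V] [FiniteDimensional F V]
    (φ : V →ₗ[F] V) (h : kdim φ (X - 1) = 0) (v : V) (hv : φ v = v) : v = 0 := by
  have hker : LinearMap.ker (aeval φ (X - 1 : F[X])) = ⊥ := Submodule.finrank_eq_zero.mp h
  have hmem : v ∈ LinearMap.ker (aeval φ (X - 1 : F[X])) := by
    rw [LinearMap.mem_ker]
    simp only [map_sub, aeval_X, map_one, LinearMap.sub_apply, Module.End.one_apply]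
    rw [hv, sub_self]
  rw [hker] at hmem
  exact (Submodule.mem_bot F).mp hmem

theorem prodMap_id_pow {V W : Type*} [AddCommGroup V] [Module F V] [AddCommGroup W] [Module F W]
    (a : V →ₗ[F] V) (n : ℕ) (hn : a ^ n = 1) :
    (a.prodMap (LinearMap.id : W →ₗ[F] W)) ^ n = 1 := by
  have hpow : ∀ (k : ℕ) v, ((a.prodMap (LinearMap.id : W →ₗ[F] W)) ^ k) v = ((a ^ k) v.1, v.2) := by
    intro k
    induction k with
    | zero => intro v; rfl
    | succ k ih =>
      intro v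
      rw [pow_succ, Module.End.mul_apply, ih, LinearMap.prodMap_apply, pow_succ,
        Module.End.mul_apply, LinearMap.id_apply]
  apply LinearMap.ext
  intro v
  rw [hpow, hn]
  rfl

/-- the sign `x ^ k` for `2 k = i s` with `i` even -/
theorem pow_eq_neg_one_pow [Fact r.Prime] (x : ZMod r) (hi1 : 1 ≤ i) (hx : orderOf x = i)
    (hev : Even i) (k s : ℕ) (hk : i * s = 2 * k) : x ^ k = (-1) ^ s := by
  obtain ⟨l, hl⟩ := hev
  have hl1 : 1 ≤ l := by omega
  have h1 := pow_half_order x l hl1 (by rw [hx, hl])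
  have hk' : k = l * s := by
    rw [hl] at hk
    have : (l + l) * s = 2 * (l * s) := by ring
    omega
  rw [hk', pow_mul, h1]

/-- generic realisation of a profile (`i` even) in an orthogonal group whose sign matches that
of the model plus complement -/
theorem FactorData.exists_orth_realize_even (p : ℕ) [Fact p.Prime] [CharP F p] [Fact r.Prime]
    (D : FactorData F r i PP) (hmon : ∀ P ∈ PP, P.Monic) (hr2 : r ≠ 2)
    (hrF : (r : F) ≠ 0) (hi : i = orderOf ((Fintype.card F : ℕ) : ZMod r)) (hev : Even i)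
    {ι : Type} [Fintype ι] [DecidableEq ι] (Q₀ : QuadraticForm F (ι → F))
    (hQ₀ : Helper50.QND Q₀) (m : ℕ) (hι : Fintype.card ι = 2 * m) (ε₀ : ZMod r)
    (hZ₀ : ZC ((Fintype.card F : ℕ) : ZMod r) (Nat.card {v : ι → F // Q₀ v = 0}) m ε₀)
    {κ : Type} [Fintype κ] [DecidableEq κ] (Q'' : QuadraticForm F (κ → F))
    (hQ'' : Helper50.QND Q'') (j : ℕ) (hκ : Fintype.card κ = 2 * j) (δ : ZMod r)
    (hZ'' : ZC ((Fintype.card F : ℕ) : ZMod r) (Nat.card {w : κ → F // Q'' w = 0}) j δ)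
    (k : ℕ) (hm : k + j = m) (a : PP → ℕ) (ha : i * ∑ P, a P = 2 * k)
    (hsign : ε₀ * (-1) ^ (∑ P, a P) = δ) :
    ∃ g : ↥(Cfsg.isometryGroup F ⇑Q₀), g ^ r = 1 ∧
      ∀ P : PP, kdim (Matrix.toLin' (omat Q₀ g)) (P : F[X]) = i * a P := by
  classical
  have hr : r.Prime := Fact.out
  have hi1 := D.hi
  have hi2 : 2 ≤ i := by
    obtain ⟨l, hl⟩ := hev
    omega
  obtain ⟨hx0, hx1⟩ := order_ne _ i hi2 hi.symm
  have hσ := pow_eq_neg_one_pow _ hi1 hi.symm hev k (∑ P, a P) ha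
  have hσ2 : ((-1 : ZMod r) ^ (∑ P, a P)) * ((-1 : ZMod r) ^ (∑ P, a P)) = 1 := by
    rw [← mul_pow]; simp
  obtain ⟨Q', a', hQ', ha'Q, ha'r, ha'k, ha'0⟩ := D.exists_orth_model p hmon hrF
    (hr.odd_of_ne_two hr2) k a ha (D.palin_even hmon hr hi hev a)
  have hQ₁ : Helper50.QND (Q'.prod Q'') := QND_prod _ _ hQ' hQ''
  have hfin : Module.finrank F ((Fin k ⊕ Fin k → F) × (κ → F)) = 2 * m := by
    rw [Module.finrank_prod, Module.finrank_fintype_fun_eq_card, Module.finrank_fintype_fun_eq_card,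
      hκ]
    simp only [Fintype.card_sum, Fintype.card_fin]
    omega
  have hfin₀ : Module.finrank F (ι → F) = 2 * m := by
    rw [Module.finrank_fintype_fun_eq_card, hι]
  have hg₁ : ∀ v, (Q'.prod Q'') ((a'.prodMap LinearMap.id) v) = (Q'.prod Q'') v := by
    intro v
    rw [QuadraticMap.prod_apply, QuadraticMap.prod_apply, LinearMap.prodMap_apply, ha'Q,
      LinearMap.id_apply]
  have hg₁r : (a'.prodMap (LinearMap.id : (κ → F) →ₗ[F] (κ → F))) ^ r = 1 :=
    prodMap_id_pow a' r ha'r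
  -- the fixed singular vectors
  have e : {v : (Fin k ⊕ Fin k → F) × (κ → F) // (Q'.prod Q'') v = 0 ∧
      (a'.prodMap (LinearMap.id : (κ → F) →ₗ[F] (κ → F))) v = v} ≃ {w : κ → F // Q'' w = 0} :=
    { toFun := fun v => ⟨v.1.2, by
        have h1 := v.2.1
        have h2 : a' v.1.1 = v.1.1 := congrArg Prod.fst v.2.2
        have h3 := fix_of_kdim_zero a' ha'0 _ h2
        rw [QuadraticMap.prod_apply, h3, map_zero, zero_add] at h1
        exact h1⟩
      invFun := fun w => ⟨(0, w.1), by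
        rw [QuadraticMap.prod_apply, map_zero, zero_add]; exact w.2, by
        rw [LinearMap.prodMap_apply, map_zero, LinearMap.id_apply]⟩
      left_inv := fun v => by
        have h2 : a' v.1.1 = v.1.1 := congrArg Prod.fst v.2.2
        have h3 := fix_of_kdim_zero a' ha'0 _ h2
        apply Subtype.ext
        exact Prod.ext h3.symm rfl
      right_inv := fun w => rfl }
  have hcong := card_zeros_modEq_fixed (Q'.prod Q'') _ hg₁ r hg₁r
  rw [Nat.card_congr e] at hcong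
  have hcong' := (ZMod.natCast_eq_natCast_iff _ _ _).mpr hcong
  -- compare with the target
  have hN : ((Nat.card {v : (Fin k ⊕ Fin k → F) × (κ → F) // (Q'.prod Q'') v = 0} : ℕ) : ZMod r) =
      ((Nat.card {v : ι → F // Q₀ v = 0} : ℕ) : ZMod r) := by
    rw [hcong']
    unfold ZC at hZ₀ hZ''
    have e1 : ((Fintype.card F : ℕ) : ZMod r) ^ (2 * m) =
        ((Fintype.card F : ℕ) : ZMod r) ^ (2 * j) := by
      rw [← hm, show 2 * (k + j) = k + k + 2 * j by ring, pow_add, pow_add, hσ, hσ2, one_mul]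
    have e2 : ((Fintype.card F : ℕ) : ZMod r) ^ (m + 1) - ((Fintype.card F : ℕ) : ZMod r) ^ m =
        (-1) ^ (∑ P, a P) * (((Fintype.card F : ℕ) : ZMod r) ^ (j + 1) -
          ((Fintype.card F : ℕ) : ZMod r) ^ j) := by
      rw [← hm, show k + j + 1 = k + (j + 1) by ring,
        pow_add ((Fintype.card F : ℕ) : ZMod r) k (j + 1),
        pow_add ((Fintype.card F : ℕ) : ZMod r) k j, hσ]
      ring
    rw [e1, e2, ← mul_assoc, hsign, ← hZ''] at hZ₀
    exact (mul_left_cancel₀ hx0 hZ₀).symm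
  obtain ⟨φ, hφ⟩ := exists_isometry_of_card_zeros hr2 hx0 hx1 (Q'.prod Q'') Q₀ hQ₁ hQ₀ m hfin hfin₀
    hN
  obtain ⟨g, hg1, hg2⟩ := exists_isometryGroup_of_similar Q₀ (Q'.prod Q'') _ hg₁ r hr.pos hg₁r
    φ 1 (by intro v; rw [hφ, one_mul])
  refine ⟨g, hg1, fun P => ?_⟩
  rw [hg2, kdim_prodMap, ha'k, kdim_id_eq_zero _ (D.X_sub_one_not_dvd P.2), add_zero]

/-- the sign of an orthogonal group containing a fixed-point-free element of order `r` -/
theorem FactorData.orth_full_sign [Fact r.Prime] (D : FactorData F r i PP)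
    (hi : i = orderOf ((Fintype.card F : ℕ) : ZMod r)) (hev : Even i)
    {ι : Type} [Fintype ι] [DecidableEq ι] (Q₀ : QuadraticForm F (ι → F))
    (m : ℕ) (hι : Fintype.card ι = 2 * m) (ε₀ : ZMod r)
    (hZ₀ : ZC ((Fintype.card F : ℕ) : ZMod r) (Nat.card {v : ι → F // Q₀ v = 0}) m ε₀)
    (g : ↥(Cfsg.isometryGroup F ⇑Q₀)) (hg : g ^ r = 1) (a : PP → ℕ)
    (hκ : ∀ P : PP, kdim (Matrix.toLin' (omat Q₀ g)) (P : F[X]) = i * a P)
    (ha : i * ∑ P, a P = 2 * m) : ε₀ * (-1) ^ (∑ P, a P) = 1 := by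
  classical
  have hi1 := D.hi
  have hi2 : 2 ≤ i := by
    obtain ⟨l, hl⟩ := hev
    omega
  obtain ⟨hx0, hx1⟩ := order_ne _ i hi2 hi.symm
  have hσ := pow_eq_neg_one_pow _ hi1 hi.symm hev m (∑ P, a P) ha
  have hσ2 : ((-1 : ZMod r) ^ (∑ P, a P)) * ((-1 : ZMod r) ^ (∑ P, a P)) = 1 := by
    rw [← mul_pow]; simp
  have hfin := D.finrank_eq (Matrix.toLin' (omat Q₀ g)) (orth_aeval_of_pow_eq_one Q₀ g r hg)
  have hsum : ∑ P ∈ PP, kdim (Matrix.toLin' (omat Q₀ g)) P = 2 * m := by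
    rw [← Finset.sum_coe_sort PP (fun P => kdim (Matrix.toLin' (omat Q₀ g)) P)]
    rw [Finset.sum_congr rfl (fun P _ => hκ P), ← Finset.mul_sum, ha]
  have hk0 : kdim (Matrix.toLin' (omat Q₀ g)) (X - 1) = 0 := by
    rw [Module.finrank_fintype_fun_eq_card, hι, hsum] at hfin
    omega
  have hpow : (Matrix.toLin' (omat Q₀ g)) ^ r = 1 := by
    rw [← Matrix.toLin'_pow, ← omat_pow, hg, omat_one, Matrix.toLin'_one]; rfl
  have hcong := card_zeros_modEq_fixed Q₀ (Matrix.toLin' (omat Q₀ g)) (omat_preserves Q₀ g) r hpow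
  have hone : Nat.card {v : ι → F // Q₀ v = 0 ∧ Matrix.toLin' (omat Q₀ g) v = v} = 1 := by
    rw [Nat.card_eq_one_iff_unique]
    refine ⟨⟨fun v w => ?_⟩, ⟨⟨0, map_zero _, map_zero _⟩⟩⟩
    apply Subtype.ext
    rw [fix_of_kdim_zero _ hk0 _ v.2.2, fix_of_kdim_zero _ hk0 _ w.2.2]
  rw [hone] at hcong
  have hcong' := (ZMod.natCast_eq_natCast_iff _ _ _).mpr hcong
  have h₁ : ZC ((Fintype.card F : ℕ) : ZMod r) (Nat.card {v : ι → F // Q₀ v = 0}) (m + 0) ε₀ := hZ₀
  have h₂ : ZC ((Fintype.card F : ℕ) : ZMod r) 1 0 1 := by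
    unfold ZC
    push_cast
    ring
  exact zc_compare _ hx0 hx1 h₁ h₂ hcong' hσ hσ2

end Generic

end Cfsg.Agent.Lib.Helper49
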