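import Mathlib
import Cfsg.Agent.Lib.Helper49.ClassProfile

set_option autoImplicit false

namespace Cfsg.Agent.Lib.Helper49

section ProfileCount

variable {ι : Type*} [Fintype ι]

theorem card_sumEq (hι : 1 ≤ Fintype.card ι) (s : ℕ) :
    Nat.card {a : ι → ℕ // ∑ x, a x = s} =
      Nat.choose (s + Fintype.card ι - 1) (Fintype.card ι - 1) := by
  classical
  rw [Nat.card_congr (Sym.equivNatSumOfFintype ι s).symm, Nat.card_eq_fintype_card,
    Sym.card_sym_eq_choose]
  have h1 : Fintype.card ι + s - 1 = s + Fintype.card ι - 1 := by omega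
  rw [h1, ← Nat.choose_symm (by omega : s ≤ s + Fintype.card ι - 1)]
  congr 1
  omega

theorem finite_profiles_bound (i : ℕ) (hi : 1 ≤ i) (N : ℕ) :
    Finite {a : ι → ℕ // a ≠ 0 ∧ i * ∑ x, a x ≤ N} := by
  haveI := finite_sumLe ι (N / i)
  apply Finite.of_injective
    (fun a : {a : ι → ℕ // a ≠ 0 ∧ i * ∑ x, a x ≤ N} =>
      (⟨a.1, by
        rw [Nat.le_div_iff_mul_le hi, mul_comm]; exact a.2.2⟩ : {a : ι → ℕ // ∑ x, a x ≤ N / i}))
  intro a b h
  have h1 := congrArg Subtype.val h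
  exact Subtype.ext h1

/-- profiles with bounded weight, with some of the profiles of full weight excluded -/
theorem card_profiles_excl (hι : 1 ≤ Fintype.card ι) (i : ℕ) (hi : 1 ≤ i) (N : ℕ) (hN : 1 ≤ N)
    (Bad : ℕ → Prop) [Decidable (i ∣ N ∧ Bad (N / i))] :
    Nat.card {a : ι → ℕ // a ≠ 0 ∧ i * ∑ x, a x ≤ N ∧
      (i * ∑ x, a x = N → ¬ Bad (∑ x, a x))} =
    Nat.choose (N / i + Fintype.card ι) (Fintype.card ι) - 1 -
      (if i ∣ N ∧ Bad (N / i) then
        Nat.choose (N / i + Fintype.card ι - 1) (Fintype.card ι - 1) else 0) := by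
  classical
  haveI := finite_profiles_bound (ι := ι) i hi N
  haveI : Fintype {a : ι → ℕ // a ≠ 0 ∧ i * ∑ x, a x ≤ N} := Fintype.ofFinite _
  let p : {a : ι → ℕ // a ≠ 0 ∧ i * ∑ x, a x ≤ N} → Prop :=
    fun a => i * ∑ x, a.1 x = N ∧ Bad (∑ x, a.1 x)
  have e : {a : ι → ℕ // a ≠ 0 ∧ i * ∑ x, a x ≤ N ∧
      (i * ∑ x, a x = N → ¬ Bad (∑ x, a x))} ≃
      {a : {a : ι → ℕ // a ≠ 0 ∧ i * ∑ x, a x ≤ N} // ¬ p a} :=
    { toFun := fun a => ⟨⟨a.1, a.2.1, a.2.2.1⟩, fun h => a.2.2.2 h.1 h.2⟩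
      invFun := fun b => ⟨b.1.1, b.1.2.1, b.1.2.2, fun h hg => b.2 ⟨h, hg⟩⟩
      left_inv := fun _ => rfl
      right_inv := fun _ => rfl }
  rw [Nat.card_congr e, Nat.card_eq_fintype_card, Fintype.card_subtype_compl p,
    ← Nat.card_eq_fintype_card, ← Nat.card_eq_fintype_card, card_profiles_bound i hi N]
  congr 1
  by_cases h : i ∣ N ∧ Bad (N / i)
  · rw [if_pos h, ← card_sumEq hι]
    apply Nat.card_congr
    have hNi : 1 ≤ N / i := by
      obtain ⟨c, hc⟩ := h.1
      rw [hc, Nat.mul_div_cancel_left _ hi]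
      by_contra h0
      have : c = 0 := by omega
      rw [this, mul_zero] at hc
      omega
    exact
      { toFun := fun a => ⟨a.1.1, (Nat.div_eq_of_eq_mul_right hi a.2.1.symm).symm⟩
        invFun := fun a => ⟨⟨a.1, by
            intro h0
            have := a.2
            rw [h0] at this
            simp only [Pi.zero_apply, Finset.sum_const_zero] at this
            omega, by
            rw [a.2, Nat.mul_div_cancel' h.1]⟩, by
            show i * ∑ x, a.1 x = N ∧ Bad (∑ x, a.1 x)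
            rw [a.2]
            exact ⟨Nat.mul_div_cancel' h.1, h.2⟩⟩
        left_inv := fun _ => rfl
        right_inv := fun _ => rfl }
  · rw [if_neg h]
    rw [Nat.card_eq_zero]
    left
    constructor
    rintro ⟨a, ha1, ha2⟩
    apply h
    have hs : ∑ x, a.1 x = N / i := (Nat.div_eq_of_eq_mul_right hi ha1.symm).symm
    refine ⟨⟨_, ha1.symm⟩, ?_⟩
    rw [← hs]
    exact ha2

end ProfileCount

section StarProfiles

variable {ι : Type*} [Fintype ι] {σ : ι → ι}

/-- star-invariant profiles are the profiles on a transversal -/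
noncomputable def starProfileEquiv (hσ : ∀ x, σ (σ x) = x) (hne : ∀ x, σ x ≠ x) :
    {a : ι → ℕ // ∀ x, a (σ x) = a x} ≃ (Transv σ → ℕ) where
  toFun a := fun Q => a.1 Q.1
  invFun b := ⟨fun x => Sum.elim b b ((transvEquiv hσ hne).symm x), by
    intro x
    have h1 := (transvEquiv hσ hne).apply_symm_apply x
    rcases hx : (transvEquiv hσ hne).symm x with Q | Q
    · rw [hx, transvEquiv_inl] at h1
      rw [← h1, ← transvEquiv_inr hσ hne Q, ← transvEquiv_inl hσ hne Q]
      beta_reduce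
      rw [Equiv.symm_apply_apply, Equiv.symm_apply_apply]
      rfl
    · rw [hx, transvEquiv_inr] at h1
      rw [← h1, hσ, ← transvEquiv_inr hσ hne Q, ← transvEquiv_inl hσ hne Q]
      beta_reduce
      rw [Equiv.symm_apply_apply, Equiv.symm_apply_apply]
      rfl⟩
  left_inv a := by
    apply Subtype.ext
    funext x
    show Sum.elim (fun Q : Transv σ => a.1 Q.1) (fun Q : Transv σ => a.1 Q.1)
      ((transvEquiv hσ hne).symm x) = a.1 x
    have h1 := (transvEquiv hσ hne).apply_symm_apply x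
    rcases hx : (transvEquiv hσ hne).symm x with Q | Q
    · rw [hx, transvEquiv_inl] at h1
      rw [← h1]; rfl
    · rw [hx, transvEquiv_inr] at h1
      rw [← h1, a.2]; rfl
  right_inv b := by
    funext Q
    show Sum.elim b b ((transvEquiv hσ hne).symm Q.1) = b Q
    rw [← transvEquiv_inl hσ hne Q, Equiv.symm_apply_apply]
    rfl

theorem starProfileEquiv_apply (hσ : ∀ x, σ (σ x) = x) (hne : ∀ x, σ x ≠ x)
    (a : {a : ι → ℕ // ∀ x, a (σ x) = a x}) (Q : Transv σ) :
    starProfileEquiv hσ hne a Q = a.1 Q.1 := rfl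

theorem starProfileEquiv_sum (hσ : ∀ x, σ (σ x) = x) (hne : ∀ x, σ x ≠ x)
    (a : {a : ι → ℕ // ∀ x, a (σ x) = a x}) :
    ∑ x, a.1 x = 2 * ∑ Q, starProfileEquiv hσ hne a Q := by
  rw [sum_transv hσ hne a.1, Finset.mul_sum]
  apply Finset.sum_congr rfl
  intro Q _
  rw [a.2, starProfileEquiv_apply]; ring

theorem starProfileEquiv_eq_zero (hσ : ∀ x, σ (σ x) = x) (hne : ∀ x, σ x ≠ x)
    (a : {a : ι → ℕ // ∀ x, a (σ x) = a x}) :
    a.1 = 0 ↔ starProfileEquiv hσ hne a = 0 := by
  constructor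
  · intro h
    funext Q
    rw [starProfileEquiv_apply, h]; rfl
  · intro h
    have h1 : a = (starProfileEquiv hσ hne).symm 0 := by
      rw [← h, Equiv.symm_apply_apply]
    rw [h1]
    funext x
    show Sum.elim (0 : Transv σ → ℕ) 0 ((transvEquiv hσ hne).symm x) = 0
    rcases (transvEquiv hσ hne).symm x with Q | Q <;> rfl

/-- counting star-invariant profiles through the transversal -/
theorem card_star_profiles (hσ : ∀ x, σ (σ x) = x) (hne : ∀ x, σ x ≠ x) (R : ℕ → Prop) :
    Nat.card {a : ι → ℕ // a ≠ 0 ∧ (∀ x, a (σ x) = a x) ∧ R (∑ x, a x)} =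
      Nat.card {b : Transv σ → ℕ // b ≠ 0 ∧ R (2 * ∑ Q, b Q)} := by
  apply Nat.card_congr
  exact
    { toFun := fun a => ⟨starProfileEquiv hσ hne ⟨a.1, a.2.2.1⟩, by
        refine ⟨fun h => a.2.1 ((starProfileEquiv_eq_zero hσ hne ⟨a.1, a.2.2.1⟩).mpr h), ?_⟩
        rw [← starProfileEquiv_sum hσ hne ⟨a.1, a.2.2.1⟩]
        exact a.2.2.2⟩
      invFun := fun b => ⟨((starProfileEquiv hσ hne).symm b.1).1, by
        refine ⟨fun h => b.2.1 ?_, ((starProfileEquiv hσ hne).symm b.1).2, ?_⟩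
        · have := (starProfileEquiv_eq_zero hσ hne ((starProfileEquiv hσ hne).symm b.1)).mp h
          rwa [Equiv.apply_symm_apply] at this
        · rw [starProfileEquiv_sum hσ hne, Equiv.apply_symm_apply]
          exact b.2.2⟩
      left_inv := fun a => by
        apply Subtype.ext
        show ((starProfileEquiv hσ hne).symm (starProfileEquiv hσ hne ⟨a.1, a.2.2.1⟩)).1 = a.1
        rw [Equiv.symm_apply_apply]
      right_inv := fun b => by
        apply Subtype.ext
        show starProfileEquiv hσ hne ⟨((starProfileEquiv hσ hne).symm b.1).1, _⟩ = b.1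
        exact (starProfileEquiv hσ hne).apply_symm_apply b.1 }

end StarProfiles

end Cfsg.Agent.Lib.Helper49
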