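import Mathlib
import Cfsg.Agent.Lib.Helper49.OrthEvenI
import Cfsg.Agent.Lib.Helper49.OrthOddI
import Cfsg.Agent.Lib.Helper49.ProfileCount

set_option autoImplicit false

namespace Cfsg.Agent.Lib.Helper49

open Polynomial Module

section EvenIff

variable {F : Type*} [Field F] [Fintype F] {r i : ℕ} {PP : Finset F[X]}

theorem card_plus_index (m : ℕ) : Fintype.card (Fin m ⊕ Fin m) = 2 * m := by
  simp only [Fintype.card_sum, Fintype.card_fin]; omega

theorem card_minus_index (m : ℕ) : Fintype.card ((Fin m ⊕ Fin m) ⊕ Fin 2) = 2 * (m + 1) := by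
  simp only [Fintype.card_sum, Fintype.card_fin]; omega

/-- realisable profiles in the orthogonal group of plus type, `i` even -/
theorem FactorData.orth_plus_even_iff (p : ℕ) [Fact p.Prime] [CharP F p] [Fact r.Prime]
    (D : FactorData F r i PP) (hmon : ∀ P ∈ PP, P.Monic) (hr2 : r ≠ 2)
    (hrF : (r : F) ≠ 0) (hi : i = orderOf ((Fintype.card F : ℕ) : ZMod r)) (hev : Even i)
    (m : ℕ) (a : PP → ℕ) :
    (∃ g : ↥(Cfsg.isometryGroup F ⇑(Helper50.QPlus m F)), g ^ r = 1 ∧
      ∀ P : PP, kdim (Matrix.toLin' (omat (Helper50.QPlus m F) g)) (P : F[X]) = i * a P) ↔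
    i * ∑ P, a P ≤ 2 * m ∧ (i * ∑ P, a P = 2 * m → ¬ Odd (∑ P, a P)) := by
  classical
  have hZ₀ : ZC ((Fintype.card F : ℕ) : ZMod r)
      (Nat.card {v : Fin m ⊕ Fin m → F // Helper50.QPlus m F v = 0}) m 1 := zc_plus m
  constructor
  · rintro ⟨g, hg, hκ⟩
    have h3 := D.orth_sum_le g hg
    rw [card_plus_index, Finset.sum_congr rfl (fun P _ => hκ P), ← Finset.mul_sum] at h3
    refine ⟨h3, fun hfull hodd => ?_⟩
    have := D.orth_full_sign hi hev (Helper50.QPlus m F) m (card_plus_index m) 1 hZ₀ g hg a hκ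
      hfull
    rw [hodd.neg_one_pow, one_mul] at this
    exact neg_one_ne_one_zmod hr2 this
  · rintro ⟨hle, hfull⟩
    obtain ⟨l, hl⟩ := hev
    have ha : i * ∑ P, a P = 2 * (l * ∑ P, a P) := by rw [hl]; ring
    have hkm : l * ∑ P, a P ≤ m := by omega
    obtain ⟨j, hj⟩ : ∃ j, l * ∑ P, a P + j = m := ⟨m - l * ∑ P, a P, by omega⟩
    have hQ₀ : Helper50.QND (Helper50.QPlus m F) :=
      Helper50.QND_of_nondegenerate _ Helper50.QPlus_nondegenerate
    by_cases hs : Odd (∑ P, a P)
    · have hj1 : 1 ≤ j := by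
        by_contra h0
        have : j = 0 := by omega
        apply hfull _ hs
        rw [ha]; omega
      obtain ⟨ζ, hζ⟩ := exists_irred_quadratic (F := F)
      have hanis := Helper50.anis_of_irred ζ hζ
      have hZ'' : ZC ((Fintype.card F : ℕ) : ZMod r)
          (Nat.card {w : (Fin (j - 1) ⊕ Fin (j - 1)) ⊕ Fin 2 → F //
            Helper50.QMinus (j - 1) F 1 ζ w = 0}) j (-1) := by
        have := zc_minus (r := r) (j - 1) 1 ζ hanis
        rwa [Nat.sub_add_cancel hj1] at this
      exact D.exists_orth_realize_even p hmon hr2 hrF hi ⟨l, hl⟩ (Helper50.QPlus m F) hQ₀ m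
        (card_plus_index m) 1 hZ₀ (Helper50.QMinus (j - 1) F 1 ζ)
        (Helper50.QND_of_nondegenerate _ (QMinus_nondegenerate_all (j - 1) 1 ζ hanis)) j
        (by rw [card_minus_index]; omega) (-1) hZ'' _ hj a ha (by rw [hs.neg_one_pow, one_mul])
    · have hs' : Even (∑ P, a P) := Nat.not_odd_iff_even.mp hs
      exact D.exists_orth_realize_even p hmon hr2 hrF hi ⟨l, hl⟩ (Helper50.QPlus m F) hQ₀ m
        (card_plus_index m) 1 hZ₀ (Helper50.QPlus j F)
        (Helper50.QND_of_nondegenerate _ Helper50.QPlus_nondegenerate) j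
        (card_plus_index j) 1 (zc_plus j) _ hj a ha (by rw [hs'.neg_one_pow, one_mul])

/-- realisable profiles in the orthogonal group of minus type, `i` even -/
theorem FactorData.orth_minus_even_iff (p : ℕ) [Fact p.Prime] [CharP F p] [Fact r.Prime]
    (D : FactorData F r i PP) (hmon : ∀ P ∈ PP, P.Monic) (hr2 : r ≠ 2)
    (hrF : (r : F) ≠ 0) (hi : i = orderOf ((Fintype.card F : ℕ) : ZMod r)) (hev : Even i)
    (m : ℕ) (a₀ c₀ : F)
    (hac : ∀ x y : F, x ^ 2 + a₀ * x * y + c₀ * y ^ 2 = 0 → x = 0 ∧ y = 0) (a : PP → ℕ) :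
    (∃ g : ↥(Cfsg.isometryGroup F ⇑(Helper50.QMinus m F a₀ c₀)), g ^ r = 1 ∧
      ∀ P : PP, kdim (Matrix.toLin' (omat (Helper50.QMinus m F a₀ c₀) g)) (P : F[X]) = i * a P) ↔
    i * ∑ P, a P ≤ 2 * (m + 1) ∧ (i * ∑ P, a P = 2 * (m + 1) → ¬ Even (∑ P, a P)) := by
  classical
  have hZ₀ : ZC ((Fintype.card F : ℕ) : ZMod r)
      (Nat.card {v : (Fin m ⊕ Fin m) ⊕ Fin 2 → F // Helper50.QMinus m F a₀ c₀ v = 0}) (m + 1)
      (-1) := zc_minus m a₀ c₀ hac
  constructor
  · rintro ⟨g, hg, hκ⟩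
    have h3 := D.orth_sum_le g hg
    rw [card_minus_index, Finset.sum_congr rfl (fun P _ => hκ P), ← Finset.mul_sum] at h3
    refine ⟨h3, fun hfull heven => ?_⟩
    have := D.orth_full_sign hi hev (Helper50.QMinus m F a₀ c₀) (m + 1) (card_minus_index m) (-1)
      hZ₀ g hg a hκ hfull
    rw [heven.neg_one_pow, mul_one] at this
    exact neg_one_ne_one_zmod hr2 this
  · rintro ⟨hle, hfull⟩
    obtain ⟨l, hl⟩ := hev
    have ha : i * ∑ P, a P = 2 * (l * ∑ P, a P) := by rw [hl]; ring
    have hkm : l * ∑ P, a P ≤ m + 1 := by omega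
    obtain ⟨j, hj⟩ : ∃ j, l * ∑ P, a P + j = m + 1 := ⟨m + 1 - l * ∑ P, a P, by omega⟩
    have hQ₀ : Helper50.QND (Helper50.QMinus m F a₀ c₀) :=
      Helper50.QND_of_nondegenerate _ (QMinus_nondegenerate_all m a₀ c₀ hac)
    by_cases hs : Even (∑ P, a P)
    · have hj1 : 1 ≤ j := by
        by_contra h0
        have : j = 0 := by omega
        apply hfull _ hs
        rw [ha]; omega
      have hZ'' : ZC ((Fintype.card F : ℕ) : ZMod r)
          (Nat.card {w : (Fin (j - 1) ⊕ Fin (j - 1)) ⊕ Fin 2 → F //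
            Helper50.QMinus (j - 1) F a₀ c₀ w = 0}) j (-1) := by
        have := zc_minus (r := r) (j - 1) a₀ c₀ hac
        rwa [Nat.sub_add_cancel hj1] at this
      exact D.exists_orth_realize_even p hmon hr2 hrF hi ⟨l, hl⟩ (Helper50.QMinus m F a₀ c₀) hQ₀
        (m + 1) (card_minus_index m) (-1) hZ₀ (Helper50.QMinus (j - 1) F a₀ c₀)
        (Helper50.QND_of_nondegenerate _ (QMinus_nondegenerate_all (j - 1) a₀ c₀ hac)) j
        (by rw [card_minus_index]; omega) (-1) hZ'' _ hj a ha (by rw [hs.neg_one_pow, mul_one])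
    · have hs' : Odd (∑ P, a P) := Nat.not_even_iff_odd.mp hs
      exact D.exists_orth_realize_even p hmon hr2 hrF hi ⟨l, hl⟩ (Helper50.QMinus m F a₀ c₀) hQ₀
        (m + 1) (card_minus_index m) (-1) hZ₀ (Helper50.QPlus j F)
        (Helper50.QND_of_nondegenerate _ Helper50.QPlus_nondegenerate) j
        (card_plus_index j) 1 (zc_plus j) _ hj a ha (by rw [hs'.neg_one_pow]; ring)

end EvenIff

section OddIff

variable {F : Type*} [Field F] [Fintype F] {r i : ℕ} {PP : Finset F[X]}

theorem nondegenerate_comp_equiv {V W : Type*} [AddCommGroup V] [Module F V] [AddCommGroup W]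
    [Module F W] (Q : QuadraticForm F W) (e : V ≃ₗ[F] W)
    (hN : (QuadraticMap.polarBilin Q).Nondegenerate) :
    (QuadraticMap.polarBilin (Q.comp (e : V →ₗ[F] W))).Nondegenerate := by
  have hp : ∀ x y, QuadraticMap.polarBilin (Q.comp (e : V →ₗ[F] W)) x y =
      QuadraticMap.polarBilin Q (e x) (e y) := by
    intro x y
    simp only [QuadraticMap.polarBilin_apply_apply, QuadraticMap.polar, QuadraticMap.comp_apply,
      LinearEquiv.coe_coe, map_add]
  constructor
  · intro x hx
    apply e.injective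
    rw [map_zero]
    apply hN.1
    intro y
    have := hx (e.symm y)
    rwa [hp, e.apply_symm_apply] at this
  · intro y hy
    apply e.injective
    rw [map_zero]
    apply hN.2
    intro x
    have := hy (e.symm x)
    rwa [hp, e.apply_symm_apply] at this

/-- realisable profiles in the orthogonal group of plus type, `i` odd -/
theorem FactorData.orth_plus_odd_iff (D : FactorData F r i PP) (hmon : ∀ P ∈ PP, P.Monic)
    (hr : r.Prime) (hr2 : r ≠ 2) (hodd : Odd i) (m : ℕ) (a : PP → ℕ) :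
    (∃ g : ↥(Cfsg.isometryGroup F ⇑(Helper50.QPlus m F)), g ^ r = 1 ∧
      ∀ P : PP, kdim (Matrix.toLin' (omat (Helper50.QPlus m F) g)) (P : F[X]) = i * a P) ↔
    (∀ P, a (D.star hmon P) = a P) ∧ i * ∑ P, a P ≤ 2 * m := by
  classical
  have hi1 := D.hi
  constructor
  · rintro ⟨g, hg, hκ⟩
    refine ⟨fun P => ?_, ?_⟩
    · have h1 := D.kdim_star_orth hmon hr.two_le Helper50.QPlus_nondegenerate g hg P
      rw [hκ, hκ] at h1
      exact Nat.eq_of_mul_eq_mul_left (by omega) h1
    · have h3 := D.orth_sum_le g hg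
      rwa [card_plus_index, Finset.sum_congr rfl (fun P _ => hκ P), ← Finset.mul_sum] at h3
  · rintro ⟨hst, hle⟩
    exact D.exists_orth_realize_plus_odd hmon hr hr2 hodd m a hst hle

/-- a fixed-point-free element of odd prime order with `i` odd does not exist in the orthogonal
group of minus type -/
theorem FactorData.orth_minus_odd_not_full (D : FactorData F r i PP) (hmon : ∀ P ∈ PP, P.Monic)
    (hr : r.Prime) (hr2 : r ≠ 2) (hrF : (r : F) ≠ 0) (hodd : Odd i) (m : ℕ) (a₀ c₀ : F)
    (hac : ∀ x y : F, x ^ 2 + a₀ * x * y + c₀ * y ^ 2 = 0 → x = 0 ∧ y = 0)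
    (g : ↥(Cfsg.isometryGroup F ⇑(Helper50.QMinus m F a₀ c₀))) (hg : g ^ r = 1) (a : PP → ℕ)
    (hκ : ∀ P : PP,
      kdim (Matrix.toLin' (omat (Helper50.QMinus m F a₀ c₀) g)) (P : F[X]) = i * a P) :
    i * ∑ P, a P ≠ 2 * (m + 1) := by
  classical
  intro hfull
  have hi1 := D.hi
  have hN := QMinus_nondegenerate_all m a₀ c₀ hac
  have hst : ∀ P, a (D.star hmon P) = a P := by
    intro P
    have h1 := D.kdim_star_orth hmon hr.two_le hN g hg P
    rw [hκ, hκ] at h1
    exact Nat.eq_of_mul_eq_mul_left (by omega) h1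
  obtain ⟨g', hg', hκ'⟩ := D.exists_orth_realize_plus_odd hmon hr hr2 hodd (m + 1) a hst hfull.le
  set φ := Matrix.toLin' (omat (Helper50.QMinus m F a₀ c₀) g) with hφ
  set φ' := Matrix.toLin' (omat (Helper50.QPlus (m + 1) F) g') with hφ'
  have hdim : Module.finrank F ((Fin m ⊕ Fin m) ⊕ Fin 2 → F) =
      Module.finrank F (Fin (m + 1) ⊕ Fin (m + 1) → F) := by
    rw [Module.finrank_fintype_fun_eq_card, Module.finrank_fintype_fun_eq_card, card_minus_index,
      card_plus_index]
  obtain ⟨e, he⟩ := D.exists_equiv φ φ' (orth_aeval_of_pow_eq_one _ g r hg)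
    (orth_aeval_of_pow_eq_one _ g' r hg') hdim (fun P hP => by
      rw [hφ, hφ', hκ ⟨P, hP⟩, hκ' ⟨P, hP⟩])
  -- the second invariant form
  set Q₂ : QuadraticForm F ((Fin m ⊕ Fin m) ⊕ Fin 2 → F) :=
    (Helper50.QPlus (m + 1) F).comp (e : _ →ₗ[F] _) with hQ₂
  have hN₂ : (QuadraticMap.polarBilin Q₂).Nondegenerate :=
    nondegenerate_comp_equiv _ e Helper50.QPlus_nondegenerate
  have h₁ : ∀ v, Helper50.QMinus m F a₀ c₀ (φ v) = Helper50.QMinus m F a₀ c₀ v :=
    omat_preserves _ g
  have h₂ : ∀ v, Q₂ (φ v) = Q₂ v := by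
    intro v
    show Helper50.QPlus (m + 1) F (e (φ v)) = Helper50.QPlus (m + 1) F (e v)
    rw [he]
    exact omat_preserves _ g' (e v)
  have hpow : φ ^ r = 1 := by
    rw [hφ, ← Matrix.toLin'_pow, ← omat_pow, hg, omat_one, Matrix.toLin'_one]; rfl
  obtain ⟨ψ, -, hψQ, -, hψinj⟩ := exists_isometry_on_range r hrF (hr.odd_of_ne_two hr2) φ hpow
    (Helper50.QMinus m F a₀ c₀) Q₂ hN hN₂ h₁ h₂
  -- `φ` has no fixed points, so `φ - 1` is surjective
  have hfin := D.finrank_eq φ (orth_aeval_of_pow_eq_one _ g r hg)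
  have hsum : ∑ P ∈ PP, kdim φ P = 2 * (m + 1) := by
    rw [← Finset.sum_coe_sort PP (fun P => kdim φ P)]
    rw [Finset.sum_congr rfl (fun P _ => hκ P), ← Finset.mul_sum, hfull]
  have hk0 : kdim φ (X - 1) = 0 := by
    rw [Module.finrank_fintype_fun_eq_card, card_minus_index, hsum] at hfin
    omega
  have hinj : Function.Injective ⇑(φ - 1) := by
    rw [← LinearMap.ker_eq_bot, LinearMap.ker_eq_bot']
    intro v hv
    apply fix_of_kdim_zero φ hk0
    rw [LinearMap.sub_apply, Module.End.one_apply, sub_eq_zero] at hv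
    exact hv
  have hsurj : Function.Surjective ⇑(φ - 1) := LinearMap.injective_iff_surjective.mp hinj
  have hrange : ∀ w, w ∈ LinearMap.range (φ - 1) := fun w => hsurj w
  have hψ_inj : Function.Injective ψ := by
    rw [← LinearMap.ker_eq_bot, LinearMap.ker_eq_bot']
    intro w hw
    exact hψinj w (hrange w) hw
  have hψ_bij : Function.Bijective ψ := ⟨hψ_inj, LinearMap.injective_iff_surjective.mp hψ_inj⟩
  -- compare the numbers of singular vectors
  have e1 : {w : (Fin m ⊕ Fin m) ⊕ Fin 2 → F // Q₂ w = 0} ≃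
      {v : (Fin m ⊕ Fin m) ⊕ Fin 2 → F // Cfsg.quadFormMinus m F a₀ c₀ v = 0} :=
    (Equiv.ofBijective ψ hψ_bij).subtypeEquiv (fun w => by
      show Q₂ w = 0 ↔ Helper50.QMinus m F a₀ c₀ (ψ w) = 0
      rw [hψQ w (hrange w)])
  have e2 : {w : (Fin m ⊕ Fin m) ⊕ Fin 2 → F // Q₂ w = 0} ≃
      {u : Fin (m + 1) ⊕ Fin (m + 1) → F // Cfsg.quadFormPlus (m + 1) F u = 0} :=
    e.toEquiv.subtypeEquiv (fun w => Iff.rfl)
  have hcard := (Nat.card_congr e1).symm.trans (Nat.card_congr e2)
  rw [Helper50.natCard_zeros_eq_zeroCount, Helper50.natCard_zeros_eq_zeroCount,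
    Helper50.zeroCount_plus_eq_minus_add m a₀ c₀ hac] at hcard
  have hq : 2 ≤ Fintype.card F := Fintype.one_lt_card
  have hpos : 0 < 2 * (Fintype.card F - 1) * Fintype.card F ^ m := by
    apply Nat.mul_pos
    · omega
    · exact pow_pos (by omega) m
  omega

/-- realisable profiles in the orthogonal group of minus type, `i` odd -/
theorem FactorData.orth_minus_odd_iff (D : FactorData F r i PP) (hmon : ∀ P ∈ PP, P.Monic)
    (hr : r.Prime) (hr2 : r ≠ 2) (hrF : (r : F) ≠ 0) (hodd : Odd i) (m : ℕ) (a₀ c₀ : F)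
    (hac : ∀ x y : F, x ^ 2 + a₀ * x * y + c₀ * y ^ 2 = 0 → x = 0 ∧ y = 0) (a : PP → ℕ) :
    (∃ g : ↥(Cfsg.isometryGroup F ⇑(Helper50.QMinus m F a₀ c₀)), g ^ r = 1 ∧
      ∀ P : PP, kdim (Matrix.toLin' (omat (Helper50.QMinus m F a₀ c₀) g)) (P : F[X]) = i * a P) ↔
    (∀ P, a (D.star hmon P) = a P) ∧ i * ∑ P, a P ≤ 2 * (m + 1) ∧
      i * ∑ P, a P ≠ 2 * (m + 1) := by
  classical
  have hi1 := D.hi
  have hN := QMinus_nondegenerate_all m a₀ c₀ hac
  have hσ : ∀ P : PP, D.star hmon (D.star hmon P) = P := D.star_star hmon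
  have hne : ∀ P : PP, D.star hmon P ≠ P := D.star_ne hmon hr hr2 hodd
  constructor
  · rintro ⟨g, hg, hκ⟩
    refine ⟨fun P => ?_, ?_, ?_⟩
    · have h1 := D.kdim_star_orth hmon hr.two_le hN g hg P
      rw [hκ, hκ] at h1
      exact Nat.eq_of_mul_eq_mul_left (by omega) h1
    · have h3 := D.orth_sum_le g hg
      rwa [card_minus_index, Finset.sum_congr rfl (fun P _ => hκ P), ← Finset.mul_sum] at h3
    · exact D.orth_minus_odd_not_full hmon hr hr2 hrF hodd m a₀ c₀ hac g hg a hκ
  · rintro ⟨hst, hle, hnf⟩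
    apply D.exists_orth_realize_minus_odd hmon hr hr2 hodd m a₀ c₀ a hst
    have hsum2 : ∑ P, a P = 2 * ∑ Q : Transv (D.star hmon), a Q.1 := by
      rw [sum_transv hσ hne a, Finset.mul_sum]
      apply Finset.sum_congr rfl
      intro Q _
      rw [hst]; ring
    rw [hsum2] at hle hnf ⊢
    have : i * (2 * ∑ Q : Transv (D.star hmon), a Q.1) =
        2 * (i * ∑ Q : Transv (D.star hmon), a Q.1) := by ring
    omega

end OddIff

section Counting

variable {F : Type*} [Field F] [Fintype F] {r i : ℕ} {PP : Finset F[X]}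

/-- classes of elements of odd prime order in the orthogonal group of plus type -/
theorem FactorData.card_classes_orth_plus (p : ℕ) [Fact p.Prime] [CharP F p]
    (D : FactorData F r i PP) (hmon : ∀ P ∈ PP, P.Monic) (hr : r.Prime) (hr2 : r ≠ 2)
    (hrF : (r : F) ≠ 0) (hi : i = orderOf ((Fintype.card F : ℕ) : ZMod r))
    (hPP : 1 ≤ PP.card) (m : ℕ) (hm : 1 ≤ m) :
    Nat.card {C : ConjClasses ↥(Cfsg.isometryGroup F ⇑(Helper50.QPlus m F)) //
      ∃ g : ↥(Cfsg.isometryGroup F ⇑(Helper50.QPlus m F)), ConjClasses.mk g = C ∧ orderOf g = r} =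
    if Odd i then Nat.choose (m / i + PP.card / 2) (PP.card / 2) - 1
    else Nat.choose (2 * m / i + PP.card) PP.card - 1 -
      (if i ∣ 2 * m ∧ Odd (2 * m / i) then Nat.choose (2 * m / i + PP.card - 1) (PP.card - 1)
        else 0) := by
  classical
  haveI : Fact r.Prime := ⟨hr⟩
  have hi1 := D.hi
  rw [D.card_classes_orth hr hr2 hrF _ Helper50.QPlus_nondegenerate]
  by_cases hodd : Odd i
  · rw [if_pos hodd]
    have hσ : ∀ P : PP, D.star hmon (D.star hmon P) = P := D.star_star hmon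
    have hne : ∀ P : PP, D.star hmon P ≠ P := D.star_ne hmon hr hr2 hodd
    have hcount := card_profiles_star hσ hne i hi1 (2 * m)
    rw [Nat.mul_div_mul_left m i (by norm_num : 0 < 2), Fintype.card_coe] at hcount
    rw [← hcount]
    apply Nat.card_congr
    apply Equiv.subtypeEquivRight
    intro a
    apply and_congr_right
    intro _
    exact D.orth_plus_odd_iff hmon hr hr2 hodd m a
  · rw [if_neg hodd]
    have hev : Even i := Nat.not_odd_iff_even.mp hodd
    have hcount := card_profiles_excl (ι := PP) (by rw [Fintype.card_coe]; exact hPP) i hi1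
      (2 * m) (by omega) Odd
    rw [Fintype.card_coe] at hcount
    rw [← hcount]
    apply Nat.card_congr
    apply Equiv.subtypeEquivRight
    intro a
    apply and_congr_right
    intro _
    exact D.orth_plus_even_iff p hmon hr2 hrF hi hev m a

/-- classes of elements of odd prime order in the orthogonal group of minus type -/
theorem FactorData.card_classes_orth_minus (p : ℕ) [Fact p.Prime] [CharP F p]
    (D : FactorData F r i PP) (hmon : ∀ P ∈ PP, P.Monic) (hr : r.Prime) (hr2 : r ≠ 2)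
    (hrF : (r : F) ≠ 0) (hi : i = orderOf ((Fintype.card F : ℕ) : ZMod r))
    (hPP : 1 ≤ PP.card) (m : ℕ) (a₀ c₀ : F)
    (hac : ∀ x y : F, x ^ 2 + a₀ * x * y + c₀ * y ^ 2 = 0 → x = 0 ∧ y = 0) :
    Nat.card {C : ConjClasses ↥(Cfsg.isometryGroup F ⇑(Helper50.QMinus m F a₀ c₀)) //
      ∃ g : ↥(Cfsg.isometryGroup F ⇑(Helper50.QMinus m F a₀ c₀)),
        ConjClasses.mk g = C ∧ orderOf g = r} =
    if Odd i then Nat.choose ((m + 1) / i + PP.card / 2) (PP.card / 2) - 1 -
      (if i ∣ (m + 1) then Nat.choose ((m + 1) / i + PP.card / 2 - 1) (PP.card / 2 - 1) else 0)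
    else Nat.choose (2 * (m + 1) / i + PP.card) PP.card - 1 -
      (if i ∣ 2 * (m + 1) ∧ Even (2 * (m + 1) / i) then
        Nat.choose (2 * (m + 1) / i + PP.card - 1) (PP.card - 1) else 0) := by
  classical
  haveI : Fact r.Prime := ⟨hr⟩
  have hi1 := D.hi
  rw [D.card_classes_orth hr hr2 hrF _ (QMinus_nondegenerate_all m a₀ c₀ hac)]
  by_cases hodd : Odd i
  · rw [if_pos hodd]
    have hσ : ∀ P : PP, D.star hmon (D.star hmon P) = P := D.star_star hmon
    have hne : ∀ P : PP, D.star hmon P ≠ P := D.star_ne hmon hr hr2 hodd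
    have hcardT : Fintype.card (Transv (D.star hmon)) = PP.card / 2 := by
      have := card_transv hσ hne
      rw [Fintype.card_coe] at this
      omega
    have hT1 : 1 ≤ Fintype.card (Transv (D.star hmon)) := by
      have := card_transv hσ hne
      rw [Fintype.card_coe] at this
      omega
    have hcount := card_profiles_excl (ι := Transv (D.star hmon)) hT1 i hi1 (m + 1) (by omega)
      (fun _ => True)
    rw [hcardT] at hcount
    have hif : (if i ∣ (m + 1) ∧ True then
        Nat.choose ((m + 1) / i + PP.card / 2 - 1) (PP.card / 2 - 1) else 0) =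
        (if i ∣ (m + 1) then Nat.choose ((m + 1) / i + PP.card / 2 - 1) (PP.card / 2 - 1)
          else 0) := by
      by_cases hd : i ∣ (m + 1)
      · rw [if_pos hd, if_pos ⟨hd, trivial⟩]
      · rw [if_neg hd, if_neg (fun h => hd h.1)]
    rw [hif] at hcount
    rw [← hcount]
    refine Eq.trans ?_ (Eq.trans (card_star_profiles hσ hne
      (fun s => i * s ≤ 2 * (m + 1) ∧ i * s ≠ 2 * (m + 1))) ?_)
    · apply Nat.card_congr
      apply Equiv.subtypeEquivRight
      intro a
      apply and_congr_right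
      intro _
      exact D.orth_minus_odd_iff hmon hr hr2 hrF hodd m a₀ c₀ hac a
    · apply Nat.card_congr
      apply Equiv.subtypeEquivRight
      intro b
      apply and_congr_right
      intro _
      have e1 : i * (2 * ∑ Q, b Q) = 2 * (i * ∑ Q, b Q) := by ring
      beta_reduce
      rw [e1]
      constructor
      · rintro ⟨h1, h2⟩
        exact ⟨by omega, fun h _ => h2 (by omega)⟩
      · rintro ⟨h1, h2⟩
        exact ⟨by omega, fun h => h2 (by omega) trivial⟩
  · rw [if_neg hodd]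
    have hev : Even i := Nat.not_odd_iff_even.mp hodd
    have hcount := card_profiles_excl (ι := PP) (by rw [Fintype.card_coe]; exact hPP) i hi1
      (2 * (m + 1)) (by omega) Even
    rw [Fintype.card_coe] at hcount
    rw [← hcount]
    apply Nat.card_congr
    apply Equiv.subtypeEquivRight
    intro a
    apply and_congr_right
    intro _
    exact D.orth_minus_even_iff p hmon hr2 hrF hi hev m a₀ c₀ hac a

end Counting

end Cfsg.Agent.Lib.Helper49
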