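import Mathlib
import Cfsg.Agent.Lib.Helper49.EigDim
import Cfsg.Agent.Lib.Helper49.PrimeOrderGL

set_option autoImplicit false

namespace Cfsg.Agent.Lib.Helper49

open Polynomial

section PGLTools

variable {F : Type*} [Field F] {n : ℕ}

theorem gl_mem_center_iff (z : GL (Fin n) F) :
    z ∈ Subgroup.center (GL (Fin n) F) ↔ ∃ c : F, c ≠ 0 ∧
      (z : Matrix (Fin n) (Fin n) F) = c • (1 : Matrix (Fin n) (Fin n) F) := by
  rw [Matrix.GeneralLinearGroup.mem_center_iff_val_mem_range_scalar]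
  constructor
  · rintro ⟨c, hc⟩
    rcases Nat.eq_zero_or_pos n with hn | hn
    · subst hn
      exact ⟨1, one_ne_zero, Subsingleton.elim _ _⟩
    · refine ⟨c, ?_, ?_⟩
      · rintro rfl
        have h1 := (Matrix.isUnit_iff_isUnit_det _).mp z.isUnit
        rw [← hc] at h1
        haveI : Nonempty (Fin n) := Fin.pos_iff_nonempty.mp hn
        rw [map_zero, Matrix.det_zero] at h1
        exact not_isUnit_zero h1
      · rw [← hc]
        ext i j
        simp [Matrix.scalar_apply, Matrix.diagonal_apply, Matrix.one_apply]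
  · rintro ⟨c, _, hc⟩
    refine ⟨c, ?_⟩
    rw [hc]
    ext i j
    simp [Matrix.scalar_apply, Matrix.diagonal_apply, Matrix.one_apply]

/-- the scalar matrix as an element of `GL` -/
noncomputable def gsc (n : ℕ) (c : F) (hc : c ≠ 0) : GL (Fin n) F :=
  Matrix.GeneralLinearGroup.scalar (Fin n) (Units.mk0 c hc)

theorem gsc_val (c : F) (hc : c ≠ 0) :
    ((gsc n c hc : GL (Fin n) F) : Matrix (Fin n) (Fin n) F) =
      c • (1 : Matrix (Fin n) (Fin n) F) := by
  unfold gsc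
  rw [Matrix.GeneralLinearGroup.coe_scalar]
  ext i j
  simp [Matrix.scalar_apply, Matrix.diagonal_apply, Matrix.one_apply]

theorem gsc_mem_center (c : F) (hc : c ≠ 0) : gsc n c hc ∈ Subgroup.center (GL (Fin n) F) :=
  (gl_mem_center_iff _).mpr ⟨c, hc, gsc_val c hc⟩

theorem toLin'_gsc_mul (c : F) (hc : c ≠ 0) (g : GL (Fin n) F) :
    Matrix.toLin' ((gsc n c hc * g : GL (Fin n) F) : Matrix (Fin n) (Fin n) F) =
      c • Matrix.toLin' (g : Matrix (Fin n) (Fin n) F) := by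
  rw [Units.val_mul, gsc_val, Matrix.smul_mul, Matrix.one_mul, map_smul]

theorem mk_gsc_mul (c : F) (hc : c ≠ 0) (g : GL (Fin n) F) :
    (QuotientGroup.mk (gsc n c hc * g) : GL (Fin n) F ⧸ Subgroup.center (GL (Fin n) F)) =
      QuotientGroup.mk g := by
  rw [QuotientGroup.mk_mul, (QuotientGroup.eq_one_iff _).mpr (gsc_mem_center c hc), one_mul]

theorem isConj_mk_iff (g g' : GL (Fin n) F) :
    IsConj (QuotientGroup.mk g : GL (Fin n) F ⧸ Subgroup.center (GL (Fin n) F))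
      (QuotientGroup.mk g') ↔
    ∃ (c : GL (Fin n) F) (μ : F) (hμ : μ ≠ 0), g' = gsc n μ hμ * (c * g * c⁻¹) := by
  constructor
  · intro h
    obtain ⟨c', hc'⟩ := isConj_iff.mp h
    obtain ⟨c, rfl⟩ := QuotientGroup.mk_surjective c'
    rw [← QuotientGroup.mk_inv, ← QuotientGroup.mk_mul, ← QuotientGroup.mk_mul,
      QuotientGroup.eq] at hc'
    obtain ⟨μ, hμ, hz⟩ := (gl_mem_center_iff _).mp hc'
    refine ⟨c, μ, hμ, ?_⟩
    have h1 : (c * g * c⁻¹)⁻¹ * g' = gsc n μ hμ := by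
      apply Units.ext
      rw [hz, gsc_val]
    rw [← h1, (Subgroup.mem_center_iff.mp hc' _).symm, mul_inv_cancel_left]
  · rintro ⟨c, μ, hμ, rfl⟩
    rw [mk_gsc_mul, isConj_iff]
    exact ⟨QuotientGroup.mk c, by
      rw [← QuotientGroup.mk_inv, ← QuotientGroup.mk_mul, ← QuotientGroup.mk_mul]⟩

theorem orderOf_mk_eq_prime_iff {r : ℕ} (hr : r.Prime) (g : GL (Fin n) F) :
    orderOf (QuotientGroup.mk g : GL (Fin n) F ⧸ Subgroup.center (GL (Fin n) F)) = r ↔
      (g ^ r ∈ Subgroup.center (GL (Fin n) F) ∧ g ∉ Subgroup.center (GL (Fin n) F)) := by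
  haveI : Fact r.Prime := ⟨hr⟩
  rw [orderOf_eq_prime_iff, ← QuotientGroup.mk_pow, QuotientGroup.eq_one_iff, Ne,
    QuotientGroup.eq_one_iff]

theorem gl_mem_center_of_ed_eq (hn : 0 < n) (g : GL (Fin n) F) (μ : F)
    (h : ed (Matrix.toLin' (g : Matrix (Fin n) (Fin n) F)) μ = n) :
    g ∈ Subgroup.center (GL (Fin n) F) := by
  have h1 : LinearMap.ker (aeval (Matrix.toLin' (g : Matrix (Fin n) (Fin n) F)) (X - C μ)) = ⊤ := by
    apply Submodule.eq_top_of_finrank_eq
    rw [Module.finrank_fin_fun]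
    exact h
  have h2 : ∀ v, Matrix.toLin' (g : Matrix (Fin n) (Fin n) F) v = μ • v := by
    intro v
    rw [← mem_ker_aeval_X_sub_C, h1]
    trivial
  have h3 : (g : Matrix (Fin n) (Fin n) F) = μ • (1 : Matrix (Fin n) (Fin n) F) := by
    apply Matrix.toLin'.injective
    apply LinearMap.ext
    intro v
    rw [h2, map_smul, Matrix.toLin'_one, LinearMap.smul_apply, LinearMap.id_apply]
  rw [gl_mem_center_iff]
  refine ⟨μ, ?_, h3⟩
  rintro rfl
  have h4 := (Matrix.isUnit_iff_isUnit_det _).mp g.isUnit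
  rw [h3, zero_smul] at h4
  haveI : Nonempty (Fin n) := Fin.pos_iff_nonempty.mp hn
  rw [Matrix.det_zero] at h4
  exact not_isUnit_zero h4

theorem ed_of_scalar (g : GL (Fin n) F) (c : F)
    (hc : (g : Matrix (Fin n) (Fin n) F) = c • (1 : Matrix (Fin n) (Fin n) F)) :
    ed (Matrix.toLin' (g : Matrix (Fin n) (Fin n) F)) c = n := by
  unfold ed
  rw [kdim_of_aeval_eq_zero, Module.finrank_fin_fun]
  apply LinearMap.ext
  intro v
  rw [map_sub, aeval_X, aeval_C, LinearMap.sub_apply, Module.algebraMap_end_apply, hc, map_smul,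
    Matrix.toLin'_one, LinearMap.smul_apply, LinearMap.id_apply, sub_self, LinearMap.zero_apply]

/-- `GL` element from a matrix with a scalar power -/
noncomputable def glOfPow (G : Matrix (Fin n) (Fin n) F) (r : ℕ) (lam : F) (hlam : lam ≠ 0)
    (h : G ^ (r + 1) = lam • (1 : Matrix (Fin n) (Fin n) F)) : GL (Fin n) F :=
  ⟨G, lam⁻¹ • G ^ r, by
    rw [Matrix.mul_smul, ← pow_succ', h, smul_smul, inv_mul_cancel₀ hlam, one_smul], by
    rw [Matrix.smul_mul, ← pow_succ, h, smul_smul, inv_mul_cancel₀ hlam, one_smul]⟩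

theorem glOfPow_val (G : Matrix (Fin n) (Fin n) F) (r : ℕ) (lam : F) (hlam : lam ≠ 0)
    (h : G ^ (r + 1) = lam • (1 : Matrix (Fin n) (Fin n) F)) :
    ((glOfPow G r lam hlam h : GL (Fin n) F) : Matrix (Fin n) (Fin n) F) = G := rfl

theorem aeval_toLin'_X_pow_sub_C (G : Matrix (Fin n) (Fin n) F) (r : ℕ) (lam : F)
    (h : G ^ r = lam • (1 : Matrix (Fin n) (Fin n) F)) :
    aeval (Matrix.toLin' G) (X ^ r - C lam : F[X]) = 0 := by
  rw [map_sub, map_pow, aeval_X, aeval_C, ← Matrix.toLin'_pow, h, map_smul, Matrix.toLin'_one]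
  apply LinearMap.ext
  intro v
  simp [Module.algebraMap_end_apply]

theorem pow_eq_of_aeval_X_pow_sub_C (G : Matrix (Fin n) (Fin n) F) (r : ℕ) (lam : F)
    (h : aeval G (X ^ r - C lam : F[X]) = 0) :
    G ^ r = lam • (1 : Matrix (Fin n) (Fin n) F) := by
  rw [map_sub, map_pow, aeval_X, aeval_C, sub_eq_zero] at h
  rw [h, Algebra.algebraMap_eq_smul_one]

theorem gsc_mul_gsc (a b : F) (ha : a ≠ 0) (hb : b ≠ 0) :
    gsc n a ha * gsc n b hb = gsc n (a * b) (mul_ne_zero ha hb) := by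
  apply Units.ext
  rw [Units.val_mul, gsc_val, gsc_val, gsc_val, Matrix.smul_mul, Matrix.one_mul, smul_smul]

theorem gsc_one : gsc n (1 : F) one_ne_zero = 1 := by
  apply Units.ext
  rw [gsc_val, one_smul, Units.val_one]

theorem gsc_congr {a b : F} (ha : a ≠ 0) (h : a = b) : gsc n a ha = gsc n b (h ▸ ha) := by
  subst h; rfl

theorem gsc_pow (a : F) (ha : a ≠ 0) (k : ℕ) :
    (gsc n a ha) ^ k = gsc n (a ^ k) (pow_ne_zero k ha) := by
  apply Units.ext
  rw [Units.val_pow_eq_pow_val, gsc_val, gsc_val, _root_.smul_pow, one_pow]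

theorem gsc_inj (hn : 0 < n) {a b : F} (ha : a ≠ 0) (hb : b ≠ 0) (h : gsc n a ha = gsc n b hb) :
    a = b := by
  have h1 := congrArg (fun g : GL (Fin n) F => (g : Matrix (Fin n) (Fin n) F) ⟨0, hn⟩ ⟨0, hn⟩) h
  simp only [gsc_val, Matrix.smul_apply, Matrix.one_apply_eq, smul_eq_mul, mul_one] at h1
  exact h1

theorem gsc_mul_pow (c : F) (hc : c ≠ 0) (g : GL (Fin n) F) (k : ℕ) (lam : F) (hlam : lam ≠ 0)
    (hg : g ^ k = gsc n lam hlam) :
    (gsc n c hc * g) ^ k = gsc n (c ^ k * lam) (mul_ne_zero (pow_ne_zero k hc) hlam) := by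
  have hcomm : Commute (gsc n c hc) g :=
    (Subgroup.mem_center_iff.mp (gsc_mem_center c hc) g).symm
  rw [hcomm.mul_pow, gsc_pow, hg, gsc_mul_gsc]

theorem conj_gsc (c : GL (Fin n) F) (a : F) (ha : a ≠ 0) : c * gsc n a ha * c⁻¹ = gsc n a ha := by
  rw [Subgroup.mem_center_iff.mp (gsc_mem_center a ha) c, mul_inv_cancel_right]

theorem exists_gsc_of_mem_center (z : GL (Fin n) F) (hz : z ∈ Subgroup.center (GL (Fin n) F)) :
    ∃ (lam : F) (hlam : lam ≠ 0), z = gsc n lam hlam := by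
  obtain ⟨c, hc0, hc⟩ := (gl_mem_center_iff z).mp hz
  exact ⟨c, hc0, Units.ext (by rw [hc, gsc_val])⟩

end PGLTools

end Cfsg.Agent.Lib.Helper49
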