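import Mathlib

set_option autoImplicit false

namespace Cfsg.Agent.Lib.Helper49

open Classical in
/-- the map on `Ω` induced by a permutation of the indices of chosen points -/
noncomputable def liftFun {H Ω : Type*} [Group H] [MulAction H Ω] {r : ℕ} (x : Fin r → Ω)
    (σ : Equiv.Perm (Fin r)) (y : Ω) : Ω :=
  if hy : ∃ p : H × Fin r, p.1 • x p.2 = y then hy.choose.1 • x (σ hy.choose.2) else y

section

variable {H Ω : Type*} [Group H] [MulAction H Ω] {r : ℕ} (x : Fin r → Ω)
  (hstab : ∀ i j, MulAction.stabilizer H (x i) = MulAction.stabilizer H (x j))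
  (horb : ∀ i j (h : H), h • x i = x j → i = j)

include hstab horb in
theorem liftFun_smul (σ : Equiv.Perm (Fin r)) (h : H) (i : Fin r) :
    liftFun (H := H) x σ (h • x i) = h • x (σ i) := by
  have hy : ∃ p : H × Fin r, p.1 • x p.2 = h • x i := ⟨(h, i), rfl⟩
  unfold liftFun
  rw [dif_pos hy]
  have h1 := hy.choose_spec
  set h' := hy.choose.1
  set i' := hy.choose.2
  have h2 : (h⁻¹ * h') • x i' = x i := by
    rw [mul_smul, h1, smul_smul, inv_mul_cancel, one_smul]
  have h3 : i' = i := horb _ _ _ h2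
  rw [h3] at h2 ⊢
  have h4 : h⁻¹ * h' ∈ MulAction.stabilizer H (x (σ i)) := by
    rw [← hstab i (σ i)]
    exact h2
  have h5 : (h⁻¹ * h') • x (σ i) = x (σ i) := h4
  calc h' • x (σ i) = h • ((h⁻¹ * h') • x (σ i)) := by rw [smul_smul, mul_inv_cancel_left]
    _ = h • x (σ i) := by rw [h5]

theorem liftFun_of_not (σ : Equiv.Perm (Fin r)) (y : Ω)
    (hy : ¬ ∃ p : H × Fin r, p.1 • x p.2 = y) : liftFun (H := H) x σ y = y := by
  unfold liftFun
  rw [dif_neg hy]

include hstab horb in
theorem liftFun_mul (σ τ : Equiv.Perm (Fin r)) (y : Ω) :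
    liftFun (H := H) x (σ * τ) y = liftFun (H := H) x σ (liftFun (H := H) x τ y) := by
  by_cases hy : ∃ p : H × Fin r, p.1 • x p.2 = y
  · obtain ⟨⟨h, i⟩, rfl⟩ := hy
    rw [liftFun_smul x hstab horb, liftFun_smul x hstab horb, liftFun_smul x hstab horb]
    rfl
  · rw [liftFun_of_not x _ y hy, liftFun_of_not x _ y hy, liftFun_of_not x _ y hy]

include hstab horb in
theorem liftFun_one (y : Ω) : liftFun (H := H) x 1 y = y := by
  by_cases hy : ∃ p : H × Fin r, p.1 • x p.2 = y
  · obtain ⟨⟨h, i⟩, rfl⟩ := hy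
    rw [liftFun_smul x hstab horb]
    rfl
  · rw [liftFun_of_not x _ y hy]

include hstab horb in
theorem liftFun_equivariant (σ : Equiv.Perm (Fin r)) (g : H) (y : Ω) :
    liftFun (H := H) x σ (g • y) = g • liftFun (H := H) x σ y := by
  by_cases hy : ∃ p : H × Fin r, p.1 • x p.2 = y
  · obtain ⟨⟨h, i⟩, rfl⟩ := hy
    change liftFun x σ (g • h • x i) = g • liftFun x σ (h • x i)
    rw [smul_smul, liftFun_smul x hstab horb, liftFun_smul x hstab horb, smul_smul]
  · have hy' : ¬ ∃ p : H × Fin r, p.1 • x p.2 = g • y := by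
      rintro ⟨⟨h, i⟩, hp⟩
      apply hy
      refine ⟨(g⁻¹ * h, i), ?_⟩
      change (g⁻¹ * h) • x i = y
      rw [mul_smul]
      change h • x i = g • y at hp
      rw [hp, smul_smul, inv_mul_cancel, one_smul]
    rw [liftFun_of_not x _ y hy, liftFun_of_not x _ _ hy']

include hstab horb in
theorem exists_perm_hom :
    ∃ Φ : Equiv.Perm (Fin r) →* Equiv.Perm Ω, Function.Injective Φ ∧
      ∀ σ (h : H) y, Φ σ (h • y) = h • Φ σ y := by
  let P : Equiv.Perm (Fin r) → Equiv.Perm Ω := fun σ =>
    { toFun := liftFun (H := H) x σ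
      invFun := liftFun (H := H) x σ⁻¹
      left_inv := fun y => by
        rw [← liftFun_mul x hstab horb, inv_mul_cancel, liftFun_one x hstab horb]
      right_inv := fun y => by
        rw [← liftFun_mul x hstab horb, mul_inv_cancel, liftFun_one x hstab horb] }
  have hP : ∀ σ y, P σ y = liftFun (H := H) x σ y := fun _ _ => rfl
  let Φ : Equiv.Perm (Fin r) →* Equiv.Perm Ω :=
    { toFun := P
      map_one' := by
        ext y
        rw [hP, liftFun_one x hstab horb]; rfl
      map_mul' := fun σ τ => by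
        ext y
        rw [hP, liftFun_mul x hstab horb]; rfl }
  have hΦ : ∀ σ y, Φ σ y = liftFun (H := H) x σ y := fun _ _ => rfl
  refine ⟨Φ, ?_, ?_⟩
  · intro σ τ hστ
    ext i
    have h1 : Φ σ ((1 : H) • x i) = Φ τ ((1 : H) • x i) := by rw [hστ]
    rw [hΦ, hΦ, liftFun_smul x hstab horb, liftFun_smul x hstab horb] at h1
    have := horb _ _ 1 (by rw [h1, one_smul] : (1 : H) • x (σ i) = x (τ i))
    rw [this]
  · intro σ h y
    rw [hΦ, hΦ, liftFun_equivariant x hstab horb]

end

theorem sign_hom_alternating {α β : Type*} [Fintype α] [DecidableEq α] [Fintype β] [DecidableEq β]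
    (Φ : Equiv.Perm α →* Equiv.Perm β) (σ : Equiv.Perm α) (hσ : σ ∈ alternatingGroup α) :
    Equiv.Perm.sign (Φ σ) = 1 := by
  have hle : alternatingGroup α ≤ (Equiv.Perm.sign.comp Φ).ker := by
    rw [← Equiv.Perm.closure_three_cycles_eq_alternating, Subgroup.closure_le]
    intro c hc
    have h3 : c ^ 3 = 1 := by rw [← hc.orderOf]; exact pow_orderOf_eq_one c
    have h4 : (Equiv.Perm.sign (Φ c)) ^ 3 = 1 := by
      rw [← map_pow, ← map_pow, h3, map_one, map_one]
    change Equiv.Perm.sign (Φ c) = 1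
    rcases Int.units_eq_one_or (Equiv.Perm.sign (Φ c)) with h | h
    · exact h
    · rw [h] at h4
      exact absurd h4 (by decide)
  exact hle hσ

theorem exists_points {H Ω : Type*} [Group H] [Fintype H] [MulAction H Ω] [Fintype Ω] [DecidableEq Ω]
    (r : ℕ) (hcard : 2 ^ Fintype.card H * (Fintype.card H * r) < Fintype.card Ω) :
    ∃ x : Fin r → Ω, (∀ i j, MulAction.stabilizer H (x i) = MulAction.stabilizer H (x j)) ∧
      (∀ i j (h : H), h • x i = x j → i = j) := by
  classical
  let f : Ω → Set H := fun y => (MulAction.stabilizer H y : Set H)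
  obtain ⟨L, hL⟩ := Fintype.exists_lt_card_fiber_of_mul_lt_card f
    (n := Fintype.card H * r) (by rw [Fintype.card_set]; exact hcard)
  set P : Finset Ω := Finset.univ.filter (fun y => f y = L) with hP
  let orb : Ω → Finset Ω := fun y => Finset.univ.image (fun h : H => h • y)
  have horb_self : ∀ y, y ∈ orb y := fun y => Finset.mem_image.mpr ⟨1, Finset.mem_univ _, one_smul _ _⟩
  have horb_card : ∀ y, (orb y).card ≤ Fintype.card H := fun y => Finset.card_image_le
  have horb_smul : ∀ (h : H) y, orb (h • y) = orb y := by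
    intro h y
    ext z
    simp only [orb, Finset.mem_image, Finset.mem_univ, true_and]
    constructor
    · rintro ⟨g, rfl⟩
      exact ⟨g * h, mul_smul _ _ _⟩
    · rintro ⟨g, rfl⟩
      exact ⟨g * h⁻¹, by rw [smul_smul, inv_mul_cancel_right]⟩
  have h1 : P.card ≤ Fintype.card H * (P.image orb).card := by
    apply Finset.card_le_mul_card_image
    intro a ha
    obtain ⟨y₀, _, rfl⟩ := Finset.mem_image.mp ha
    refine le_trans (Finset.card_le_card ?_) (horb_card y₀)
    intro y hy
    rw [Finset.mem_filter] at hy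
    rw [← hy.2]
    exact horb_self y
  have h2 : r < (P.image orb).card := by
    have : Fintype.card H * r < Fintype.card H * (P.image orb).card := lt_of_lt_of_le hL h1
    exact lt_of_mul_lt_mul_left this (Nat.zero_le _)
  have h3 : Fintype.card (Fin r) ≤ Fintype.card ↥(P.image orb) := by
    rw [Fintype.card_fin, Fintype.card_coe]; exact h2.le
  obtain ⟨e⟩ := Function.Embedding.nonempty_of_card_le h3
  have hex : ∀ i, ∃ y ∈ P, orb y = (e i : Finset Ω) := fun i => Finset.mem_image.mp (e i).2
  choose x hxP hxe using hex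
  refine ⟨x, ?_, ?_⟩
  · intro i j
    have hi := (Finset.mem_filter.mp (hxP i)).2
    have hj := (Finset.mem_filter.mp (hxP j)).2
    apply SetLike.coe_injective
    change f (x i) = f (x j)
    rw [hi, hj]
  · intro i j h hij
    apply e.injective
    apply Subtype.ext
    rw [← hxe i, ← hxe j, ← hij, horb_smul]

end Cfsg.Agent.Lib.Helper49
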