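import Mathlib
import Cfsg.Prelude.Def_Classical

set_option autoImplicit false

namespace Cfsg.Agent.Lib.Helper49

open Cfsg

/-- The polar form of the plus-type quadratic form over `ZMod 2`. -/
def polarPlus (m : ℕ) (u v : Fin m ⊕ Fin m → ZMod 2) : ZMod 2 :=
  Cfsg.quadFormPlus m (ZMod 2) (u + v) - Cfsg.quadFormPlus m (ZMod 2) u - Cfsg.quadFormPlus m (ZMod 2) v

theorem polarPlus_eq (m : ℕ) (u v : Fin m ⊕ Fin m → ZMod 2) :
    polarPlus m u v = ∑ i : Fin m, (u (.inl i) * v (.inr i) + v (.inl i) * u (.inr i)) := by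
  unfold polarPlus Cfsg.quadFormPlus
  rw [← Finset.sum_sub_distrib, ← Finset.sum_sub_distrib]
  apply Finset.sum_congr rfl
  intro i _
  simp only [Pi.add_apply]
  ring

theorem polarPlus_add_left (m : ℕ) (u v w : Fin m ⊕ Fin m → ZMod 2) :
    polarPlus m (u + v) w = polarPlus m u w + polarPlus m v w := by
  simp only [polarPlus_eq, ← Finset.sum_add_distrib, Pi.add_apply]
  apply Finset.sum_congr rfl
  intro i _
  ring

theorem polarPlus_smul_left (m : ℕ) (c : ZMod 2) (u w : Fin m ⊕ Fin m → ZMod 2) :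
    polarPlus m (c • u) w = c * polarPlus m u w := by
  simp only [polarPlus_eq, Finset.mul_sum, Pi.smul_apply, smul_eq_mul]
  apply Finset.sum_congr rfl
  intro i _
  ring

theorem polarPlus_comm (m : ℕ) (u v : Fin m ⊕ Fin m → ZMod 2) :
    polarPlus m u v = polarPlus m v u := by
  simp only [polarPlus_eq]
  apply Finset.sum_congr rfl
  intro i _
  ring

theorem polarPlus_self (m : ℕ) (w : Fin m ⊕ Fin m → ZMod 2) : polarPlus m w w = 0 := by
  simp only [polarPlus_eq]
  apply Finset.sum_eq_zero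
  intro i _
  exact CharTwo.add_self_eq_zero _

theorem polarPlus_add_right (m : ℕ) (u v w : Fin m ⊕ Fin m → ZMod 2) :
    polarPlus m w (u + v) = polarPlus m w u + polarPlus m w v := by
  rw [polarPlus_comm, polarPlus_add_left, polarPlus_comm m u, polarPlus_comm m v]

/-- nondegeneracy -/
theorem polarPlus_nondeg (m : ℕ) (t : Fin m ⊕ Fin m → ZMod 2) (ht : t ≠ 0) :
    ∃ u₀, polarPlus m u₀ t = 1 := by
  classical
  obtain ⟨j, hj⟩ : ∃ j, t j ≠ 0 := by
    by_contra hcon
    push Not at hcon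
    exact ht (funext hcon)
  have hj1 : t j = 1 := by
    have : ∀ a : ZMod 2, a ≠ 0 → a = 1 := by decide
    exact this _ hj
  rcases j with i | i
  · refine ⟨Pi.single (Sum.inr i) 1, ?_⟩
    rw [polarPlus_eq]
    rw [Finset.sum_eq_single i]
    · simp [hj1]
    · intro b _ hb
      simp [hb]
    · simp
  · refine ⟨Pi.single (Sum.inl i) 1, ?_⟩
    rw [polarPlus_eq]
    rw [Finset.sum_eq_single i]
    · simp [hj1]
    · intro b _ hb
      simp [hb]
    · simp

/-- The sign character of `ZMod 2`. -/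
def chi2 (a : ZMod 2) : ℤ := if a = 0 then 1 else -1

theorem chi2_add : ∀ a b : ZMod 2, chi2 (a + b) = chi2 a * chi2 b := by decide

theorem chi2_zero : chi2 0 = 1 := by decide

theorem chi2_add_one : ∀ a : ZMod 2, chi2 (a + 1) = - chi2 a := by decide

/-- orthogonality: the character sum of a nonzero functional vanishes. -/
theorem sum_chi2_polarPlus (m : ℕ) (t : Fin m ⊕ Fin m → ZMod 2) (ht : t ≠ 0) :
    ∑ u : Fin m ⊕ Fin m → ZMod 2, chi2 (polarPlus m u t) = 0 := by
  obtain ⟨u₀, hu₀⟩ := polarPlus_nondeg m t ht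
  have h1 : ∑ u : Fin m ⊕ Fin m → ZMod 2, chi2 (polarPlus m u t)
      = ∑ u : Fin m ⊕ Fin m → ZMod 2, chi2 (polarPlus m (u + u₀) t) :=
    (Equiv.sum_comp (Equiv.addRight u₀) (fun u => chi2 (polarPlus m u t))).symm
  have h2 : ∑ u : Fin m ⊕ Fin m → ZMod 2, chi2 (polarPlus m (u + u₀) t)
      = - ∑ u : Fin m ⊕ Fin m → ZMod 2, chi2 (polarPlus m u t) := by
    rw [← Finset.sum_neg_distrib]
    apply Finset.sum_congr rfl
    intro u _
    rw [polarPlus_add_left, hu₀, chi2_add_one]
  omega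

/-- The Gauss sum of a quadratic form over `ZMod 2` polarizing to the plus form is nonzero. -/
theorem gauss_sum_ne_zero (m : ℕ) (q : (Fin m ⊕ Fin m → ZMod 2) → ZMod 2)
    (hq : ∀ u v, q (u + v) = q u + q v + polarPlus m u v) :
    ∑ v : Fin m ⊕ Fin m → ZMod 2, chi2 (q v) ≠ 0 := by
  classical
  intro hS
  have hq0 : q 0 = 0 := by
    have := hq 0 0
    simp only [add_zero, polarPlus_self] at this
    have h2 : ∀ a : ZMod 2, a = a + a → a = 0 := by decide
    exact h2 _ this
  have key : (∑ v : Fin m ⊕ Fin m → ZMod 2, chi2 (q v)) * (∑ v : Fin m ⊕ Fin m → ZMod 2, chi2 (q v))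
      = Fintype.card (Fin m ⊕ Fin m → ZMod 2) := by
    rw [Finset.sum_mul_sum]
    have h1 : ∀ u : Fin m ⊕ Fin m → ZMod 2,
        ∑ v : Fin m ⊕ Fin m → ZMod 2, chi2 (q u) * chi2 (q v)
        = ∑ t : Fin m ⊕ Fin m → ZMod 2, chi2 (q t) * chi2 (polarPlus m u t) := by
      intro u
      rw [← Equiv.sum_comp (Equiv.addLeft u) (fun v => chi2 (q u) * chi2 (q v))]
      apply Finset.sum_congr rfl
      intro t _
      simp only [Equiv.coe_addLeft]
      rw [← chi2_add, ← chi2_add, hq]
      congr 1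
      have h2 : ∀ a b c : ZMod 2, a + (a + b + c) = b + c := by decide
      exact h2 _ _ _
    rw [Finset.sum_congr rfl (fun u _ => h1 u), Finset.sum_comm]
    simp_rw [← Finset.mul_sum]
    rw [Finset.sum_eq_single 0]
    · rw [hq0, chi2_zero, one_mul]
      have : ∀ u : Fin m ⊕ Fin m → ZMod 2, chi2 (polarPlus m u 0) = 1 := by
        intro u
        rw [polarPlus_comm]
        have := polarPlus_smul_left m 0 0 u
        simp only [zero_smul, zero_mul] at this
        rw [this, chi2_zero]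
      simp [this]
    · intro t _ ht
      rw [sum_chi2_polarPlus m t ht, mul_zero]
    · simp
  rw [hS, mul_zero] at key
  have : (0 : ℤ) < Fintype.card (Fin m ⊕ Fin m → ZMod 2) := by
    exact_mod_cast Fintype.card_pos
  omega

end Cfsg.Agent.Lib.Helper49
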