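import Mathlib
import Cfsg.Agent.Lib.Helper49.QuadF2

set_option autoImplicit false
set_option linter.unusedSectionVars false

namespace Cfsg.Agent.Lib.Helper49

section General

variable {ι : Type*} [Fintype ι] [DecidableEq ι]

/-- Hypotheses: `q` polarizes to `f`, and `f` is additive on the left. -/
def IsQuadPolar (q : (ι → ZMod 2) → ZMod 2) (f : (ι → ZMod 2) → (ι → ZMod 2) → ZMod 2) : Prop :=
  (∀ u v, q (u + v) = q u + q v + f u v) ∧ (∀ u v w, f (u + v) w = f u w + f v w)

/-- nondegeneracy of `f` -/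
def IsNondegF2 (f : (ι → ZMod 2) → (ι → ZMod 2) → ZMod 2) : Prop :=
  ∀ t, t ≠ 0 → ∃ u, f u t = 1

variable {q : (ι → ZMod 2) → ZMod 2} {f : (ι → ZMod 2) → (ι → ZMod 2) → ZMod 2}

theorem IsQuadPolar.comm (h : IsQuadPolar q f) (u v : ι → ZMod 2) : f u v = f v u := by
  have h1 := h.1 u v
  have h2 := h.1 v u
  rw [add_comm v u, h1] at h2
  have h3 : ∀ a b c d : ZMod 2, a + b + c = b + a + d → c = d := by decide
  exact h3 _ _ _ _ h2

theorem IsQuadPolar.add_right (h : IsQuadPolar q f) (u v w : ι → ZMod 2) :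
    f w (u + v) = f w u + f w v := by
  rw [h.comm, h.2, h.comm u, h.comm v]

theorem IsQuadPolar.zero_left (h : IsQuadPolar q f) (w : ι → ZMod 2) : f 0 w = 0 := by
  have := h.2 0 0 w
  rw [add_zero] at this
  have h3 : ∀ a : ZMod 2, a = a + a → a = 0 := by decide
  exact h3 _ this

theorem IsQuadPolar.zero_right (h : IsQuadPolar q f) (w : ι → ZMod 2) : f w 0 = 0 := by
  rw [h.comm, h.zero_left]

theorem IsQuadPolar.map_zero (h : IsQuadPolar q f) : q 0 = 0 := by
  have := h.1 0 0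
  rw [add_zero, h.zero_left] at this
  have h3 : ∀ a : ZMod 2, a = a + a + 0 → a = 0 := by decide
  exact h3 _ this

/-- orthogonality -/
theorem IsNondegF2.sum_eq_zero (h : IsQuadPolar q f) (hn : IsNondegF2 f) (t : ι → ZMod 2) (ht : t ≠ 0) :
    ∑ u : ι → ZMod 2, chi2 (f u t) = 0 := by
  obtain ⟨u₀, hu₀⟩ := hn t ht
  have h1 : ∑ u : ι → ZMod 2, chi2 (f u t) = ∑ u : ι → ZMod 2, chi2 (f (u + u₀) t) :=
    (Equiv.sum_comp (Equiv.addRight u₀) (fun u => chi2 (f u t))).symm
  have h2 : ∑ u : ι → ZMod 2, chi2 (f (u + u₀) t) = - ∑ u : ι → ZMod 2, chi2 (f u t) := by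
    rw [← Finset.sum_neg_distrib]
    apply Finset.sum_congr rfl
    intro u _
    rw [h.2, hu₀, chi2_add_one]
  omega

/-- The Gauss sum. -/
def gaussSum (q : (ι → ZMod 2) → ZMod 2) : ℤ := ∑ v : ι → ZMod 2, chi2 (q v)

theorem gaussSum_sq (h : IsQuadPolar q f) (hn : IsNondegF2 f) :
    gaussSum q * gaussSum q = Fintype.card (ι → ZMod 2) := by
  unfold gaussSum
  rw [Finset.sum_mul_sum]
  have h1 : ∀ u : ι → ZMod 2,
      ∑ v : ι → ZMod 2, chi2 (q u) * chi2 (q v)
      = ∑ t : ι → ZMod 2, chi2 (q t) * chi2 (f u t) := by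
    intro u
    rw [← Equiv.sum_comp (Equiv.addLeft u) (fun v => chi2 (q u) * chi2 (q v))]
    apply Finset.sum_congr rfl
    intro t _
    simp only [Equiv.coe_addLeft]
    rw [← chi2_add, ← chi2_add, h.1]
    congr 1
    have h2 : ∀ a b c : ZMod 2, a + (a + b + c) = b + c := by decide
    exact h2 _ _ _
  rw [Finset.sum_congr rfl (fun u _ => h1 u), Finset.sum_comm]
  simp_rw [← Finset.mul_sum]
  rw [Finset.sum_eq_single 0]
  · rw [h.map_zero, chi2_zero, one_mul]
    simp [h.zero_right, chi2_zero]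
  · intro t _ ht
    rw [hn.sum_eq_zero h t ht, mul_zero]
  · simp

/-- The orthogonal complement of a subspace as a finset. -/
noncomputable def perpSet (f : (ι → ZMod 2) → (ι → ZMod 2) → ZMod 2) (U : Submodule (ZMod 2) (ι → ZMod 2)) :
    Finset (ι → ZMod 2) :=
  open Classical in Finset.univ.filter (fun v => ∀ u ∈ U, f v u = 0)

theorem mem_perpSet (U : Submodule (ZMod 2) (ι → ZMod 2)) (v : ι → ZMod 2) :
    v ∈ perpSet f U ↔ ∀ u ∈ U, f v u = 0 := by
  classical
  simp [perpSet]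

/-- inner sum over the subspace -/
theorem sum_subspace (h : IsQuadPolar q f) (U : Submodule (ZMod 2) (ι → ZMod 2)) [Fintype U] (v : ι → ZMod 2) :
    ∑ u : U, chi2 (f v u) = if v ∈ perpSet f U then (Fintype.card U : ℤ) else 0 := by
  split_ifs with hv
  · rw [mem_perpSet] at hv
    have : ∀ u : U, chi2 (f v u) = 1 := by
      intro u
      rw [hv u u.2, chi2_zero]
    simp [this]
  · rw [mem_perpSet] at hv
    push Not at hv
    obtain ⟨u₀, hu₀, hfu⟩ := hv
    have hfu1 : f v u₀ = 1 := by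
      have : ∀ a : ZMod 2, a ≠ 0 → a = 1 := by decide
      exact this _ hfu
    have h1 : ∑ u : U, chi2 (f v u) = ∑ u : U, chi2 (f v ((u + ⟨u₀, hu₀⟩ : U) : ι → ZMod 2)) :=
      (Equiv.sum_comp (Equiv.addRight (⟨u₀, hu₀⟩ : U)) (fun u : U => chi2 (f v u))).symm
    have h2 : ∑ u : U, chi2 (f v ((u + ⟨u₀, hu₀⟩ : U) : ι → ZMod 2)) = - ∑ u : U, chi2 (f v u) := by
      rw [← Finset.sum_neg_distrib]
      apply Finset.sum_congr rfl
      intro u _
      rw [Submodule.coe_add, h.add_right, hfu1, chi2_add_one]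
    omega

/-- `|U| * |U^⊥| = |V|` for a nondegenerate form. -/
theorem card_mul_card_perp (h : IsQuadPolar q f) (hn : IsNondegF2 f)
    (U : Submodule (ZMod 2) (ι → ZMod 2)) [Fintype U] :
    (Fintype.card U : ℤ) * (perpSet f U).card = Fintype.card (ι → ZMod 2) := by
  classical
  have h1 : (Fintype.card U : ℤ) * (perpSet f U).card
      = ∑ v : ι → ZMod 2, ∑ u : U, chi2 (f v u) := by
    simp_rw [sum_subspace h U]
    rw [Finset.sum_ite_mem, Finset.univ_inter, Finset.sum_const]
    simp [mul_comm]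
  rw [h1, Finset.sum_comm]
  rw [Finset.sum_eq_single (0 : U)]
  · simp [h.zero_right, chi2_zero]
  · intro t _ ht
    apply hn.sum_eq_zero h
    intro h0
    exact ht (Subtype.ext h0)
  · simp

/-- The Gauss sum localizes on the perp of a totally singular subspace. -/
theorem gaussSum_eq_sum_perp (h : IsQuadPolar q f)
    (U : Submodule (ZMod 2) (ι → ZMod 2)) [Fintype U] (hU : ∀ u ∈ U, q u = 0) :
    gaussSum q = ∑ v ∈ perpSet f U, chi2 (q v) := by
  classical
  have hcard : (Fintype.card U : ℤ) ≠ 0 := by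
    have : 0 < Fintype.card U := Fintype.card_pos
    omega
  apply mul_left_cancel₀ hcard
  have h1 : (Fintype.card U : ℤ) * gaussSum q = ∑ u : U, ∑ v : ι → ZMod 2, chi2 (q (v + u)) := by
    have : ∀ u : U, ∑ v : ι → ZMod 2, chi2 (q (v + u)) = gaussSum q := by
      intro u
      exact Equiv.sum_comp (Equiv.addRight (u : ι → ZMod 2)) (fun v => chi2 (q v))
    simp [this]
  rw [h1, Finset.sum_comm]
  have h2 : ∀ v : ι → ZMod 2, ∑ u : U, chi2 (q (v + u)) = chi2 (q v) * ∑ u : U, chi2 (f v u) := by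
    intro v
    rw [Finset.mul_sum]
    apply Finset.sum_congr rfl
    intro u _
    rw [h.1, hU u u.2, add_zero, chi2_add]
  simp_rw [h2, sum_subspace h U]
  rw [Finset.mul_sum, ← Finset.sum_filter_add_sum_filter_not Finset.univ (fun v => v ∈ perpSet f U)]
  have h3 : ∑ x ∈ Finset.univ.filter (fun v => ¬ v ∈ perpSet f U),
      chi2 (q x) * (if x ∈ perpSet f U then (Fintype.card U : ℤ) else 0) = 0 := by
    apply Finset.sum_eq_zero
    intro x hx
    rw [Finset.mem_filter] at hx
    rw [if_neg hx.2, mul_zero]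
  rw [h3, add_zero]
  have h4 : Finset.univ.filter (fun v => v ∈ perpSet f U) = perpSet f U := by
    ext; simp
  rw [h4]
  apply Finset.sum_congr rfl
  intro x hx
  rw [if_pos hx, mul_comm]

/-- A totally singular subspace lies in its perp. -/
theorem subset_perp_of_singular (h : IsQuadPolar q f)
    (U : Submodule (ZMod 2) (ι → ZMod 2)) (hU : ∀ u ∈ U, q u = 0) (v : ι → ZMod 2) (hv : v ∈ U) :
    v ∈ perpSet f U := by
  rw [mem_perpSet]
  intro u hu
  have := h.1 v u
  rw [hU _ (U.add_mem hv hu), hU v hv, hU u hu] at this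
  simpa using this.symm

end General

end Cfsg.Agent.Lib.Helper49
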