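import Mathlib
import Cfsg.Agent.Lib.Helper49.QuadF2Gen

set_option autoImplicit false
set_option linter.unusedSectionVars false

namespace Cfsg.Agent.Lib.Helper49

open Cfsg

theorem isQuadPolar_plus (m : ℕ) : IsQuadPolar (Cfsg.quadFormPlus m (ZMod 2)) (polarPlus m) := by
  refine ⟨?_, polarPlus_add_left m⟩
  intro u v
  unfold polarPlus
  ring

theorem isNondeg_plus (m : ℕ) : IsNondegF2 (polarPlus m) := polarPlus_nondeg m

theorem sum_chi2_dot_aux (m : ℕ) (x e : Fin m → ZMod 2) (he : ∑ i, x i * e i = 1) :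
    ∑ y : Fin m → ZMod 2, chi2 (∑ i, x i * y i) = 0 := by
  have h1 : ∑ y : Fin m → ZMod 2, chi2 (∑ i, x i * y i)
      = ∑ y : Fin m → ZMod 2, chi2 (∑ i, x i * (y + e) i) :=
    (Equiv.sum_comp (Equiv.addRight e) (fun y => chi2 (∑ i, x i * y i))).symm
  have h2 : ∑ y : Fin m → ZMod 2, chi2 (∑ i, x i * (y + e) i)
      = - ∑ y : Fin m → ZMod 2, chi2 (∑ i, x i * y i) := by
    rw [← Finset.sum_neg_distrib]
    apply Finset.sum_congr rfl
    intro y _
    rw [← chi2_add_one]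
    congr 1
    simp only [Pi.add_apply, mul_add, Finset.sum_add_distrib, he]
  omega

theorem sum_chi2_dot (m : ℕ) (x : Fin m → ZMod 2) (hx : x ≠ 0) :
    ∑ y : Fin m → ZMod 2, chi2 (∑ i, x i * y i) = 0 := by
  obtain ⟨j, hj⟩ : ∃ j, x j ≠ 0 := by
    by_contra hcon
    push Not at hcon
    exact hx (funext hcon)
  have hj1 : x j = 1 := by
    have : ∀ a : ZMod 2, a ≠ 0 → a = 1 := by decide
    exact this _ hj
  apply sum_chi2_dot_aux m x (Pi.single j 1)
  rw [Finset.sum_eq_single j]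
  · simp [hj1]
  · intro b _ hb
    simp [hb]
  · simp

theorem gaussSum_plus (m : ℕ) : gaussSum (Cfsg.quadFormPlus m (ZMod 2)) = 2 ^ m := by
  classical
  unfold gaussSum
  rw [← Equiv.sum_comp (Equiv.sumArrowEquivProdArrow (Fin m) (Fin m) (ZMod 2)).symm]
  rw [Fintype.sum_prod_type]
  have h1 : ∀ x : Fin m → ZMod 2, ∑ y : Fin m → ZMod 2,
      chi2 (Cfsg.quadFormPlus m (ZMod 2) ((Equiv.sumArrowEquivProdArrow (Fin m) (Fin m) (ZMod 2)).symm (x, y)))
      = if x = 0 then (2 : ℤ) ^ m else 0 := by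
    intro x
    have h2 : ∀ y : Fin m → ZMod 2,
        Cfsg.quadFormPlus m (ZMod 2) ((Equiv.sumArrowEquivProdArrow (Fin m) (Fin m) (ZMod 2)).symm (x, y))
        = ∑ i, x i * y i := by
      intro y
      simp [Cfsg.quadFormPlus, Equiv.sumArrowEquivProdArrow]
    simp_rw [h2]
    split_ifs with hx
    · subst hx
      simp [chi2_zero]
    · exact sum_chi2_dot m x hx
  simp_rw [h1]
  simp

/-- The polar form of the minus-type quadratic form over `ZMod 2`. -/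
def polarMinus (m : ℕ) (u v : (Fin m ⊕ Fin m) ⊕ Fin 2 → ZMod 2) : ZMod 2 :=
  Cfsg.quadFormMinus m (ZMod 2) 1 1 (u + v) - Cfsg.quadFormMinus m (ZMod 2) 1 1 u
    - Cfsg.quadFormMinus m (ZMod 2) 1 1 v

theorem polarMinus_eq (m : ℕ) (u v : (Fin m ⊕ Fin m) ⊕ Fin 2 → ZMod 2) :
    polarMinus m u v = (∑ i : Fin m, (u (.inl (.inl i)) * v (.inl (.inr i)) + v (.inl (.inl i)) * u (.inl (.inr i))))
      + (u (.inr 0) * v (.inr 1) + u (.inr 1) * v (.inr 0)) := by
  unfold polarMinus Cfsg.quadFormMinus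
  have h2 : ∀ a b : ZMod 2, (a + b) ^ 2 - a ^ 2 - b ^ 2 = 0 := by decide
  have key : ∀ (A B C a0 a1 b0 b1 : ZMod 2), A - B - C = (A - B - C) →
      (A + ((a0 + b0) ^ 2 + 1 * (a0 + b0) * (a1 + b1) + 1 * (a1 + b1) ^ 2))
      - (B + (a0 ^ 2 + 1 * a0 * a1 + 1 * a1 ^ 2)) - (C + (b0 ^ 2 + 1 * b0 * b1 + 1 * b1 ^ 2))
      = (A - B - C) + (a0 * b1 + a1 * b0) := by decide
  simp only [Pi.add_apply]
  rw [key _ _ _ _ _ _ _ rfl]
  congr 1
  rw [← Finset.sum_sub_distrib, ← Finset.sum_sub_distrib]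
  apply Finset.sum_congr rfl
  intro i _
  ring

theorem isQuadPolar_minus (m : ℕ) : IsQuadPolar (Cfsg.quadFormMinus m (ZMod 2) 1 1) (polarMinus m) := by
  refine ⟨?_, ?_⟩
  · intro u v
    unfold polarMinus
    ring
  · intro u v w
    simp only [polarMinus_eq, Pi.add_apply]
    have : ∑ i : Fin m, ((u (.inl (.inl i)) + v (.inl (.inl i))) * w (.inl (.inr i)) + w (.inl (.inl i)) * (u (.inl (.inr i)) + v (.inl (.inr i))))
        = ∑ i : Fin m, (u (.inl (.inl i)) * w (.inl (.inr i)) + w (.inl (.inl i)) * u (.inl (.inr i)))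
          + ∑ i : Fin m, (v (.inl (.inl i)) * w (.inl (.inr i)) + w (.inl (.inl i)) * v (.inl (.inr i))) := by
      rw [← Finset.sum_add_distrib]
      apply Finset.sum_congr rfl
      intro i _
      ring
    rw [this]
    ring

theorem isNondeg_minus (m : ℕ) : IsNondegF2 (polarMinus m) := by
  classical
  intro t ht
  obtain ⟨j, hj⟩ : ∃ j, t j ≠ 0 := by
    by_contra hcon
    push Not at hcon
    exact ht (funext hcon)
  have hj1 : t j = 1 := by
    have : ∀ a : ZMod 2, a ≠ 0 → a = 1 := by decide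
    exact this _ hj
  rcases j with (i | i) | k
  · refine ⟨Pi.single (Sum.inl (Sum.inr i)) 1, ?_⟩
    rw [polarMinus_eq]
    rw [Finset.sum_eq_single i]
    · simp [hj1]
    · intro b _ hb
      simp [hb]
    · simp
  · refine ⟨Pi.single (Sum.inl (Sum.inl i)) 1, ?_⟩
    rw [polarMinus_eq]
    rw [Finset.sum_eq_single i]
    · simp [hj1]
    · intro b _ hb
      simp [hb]
    · simp
  · fin_cases k
    · refine ⟨Pi.single (Sum.inr 1) 1, ?_⟩
      rw [polarMinus_eq]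
      simp at hj1
      simp [hj1]
    · refine ⟨Pi.single (Sum.inr 0) 1, ?_⟩
      rw [polarMinus_eq]
      simp at hj1
      simp [hj1]

theorem gaussSum_binary :
    ∑ z : Fin 2 → ZMod 2, chi2 (z 0 ^ 2 + 1 * z 0 * z 1 + 1 * z 1 ^ 2) = -2 := by
  rw [← Equiv.sum_comp (finTwoArrowEquiv (ZMod 2)).symm, Fintype.sum_prod_type]
  decide

theorem gaussSum_minus (m : ℕ) : gaussSum (Cfsg.quadFormMinus m (ZMod 2) 1 1) = - 2 ^ (m + 1) := by
  classical
  unfold gaussSum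
  rw [← Equiv.sum_comp (Equiv.sumArrowEquivProdArrow (Fin m ⊕ Fin m) (Fin 2) (ZMod 2)).symm]
  rw [Fintype.sum_prod_type]
  have h2 : ∀ (a : Fin m ⊕ Fin m → ZMod 2) (z : Fin 2 → ZMod 2),
      Cfsg.quadFormMinus m (ZMod 2) 1 1 ((Equiv.sumArrowEquivProdArrow (Fin m ⊕ Fin m) (Fin 2) (ZMod 2)).symm (a, z))
      = Cfsg.quadFormPlus m (ZMod 2) a + (z 0 ^ 2 + 1 * z 0 * z 1 + 1 * z 1 ^ 2) := by
    intro a z
    simp [Cfsg.quadFormMinus, Cfsg.quadFormPlus, Equiv.sumArrowEquivProdArrow]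
  have h3 : ∀ (a : Fin m ⊕ Fin m → ZMod 2) (z : Fin 2 → ZMod 2),
      chi2 (Cfsg.quadFormMinus m (ZMod 2) 1 1 ((Equiv.sumArrowEquivProdArrow (Fin m ⊕ Fin m) (Fin 2) (ZMod 2)).symm (a, z)))
      = chi2 (Cfsg.quadFormPlus m (ZMod 2) a) * chi2 (z 0 ^ 2 + 1 * z 0 * z 1 + 1 * z 1 ^ 2) := by
    intro a z
    rw [h2, chi2_add]
  simp_rw [h3, ← Finset.mul_sum, gaussSum_binary, ← Finset.sum_mul]
  have := gaussSum_plus m
  unfold gaussSum at this
  rw [this]
  ring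

end Cfsg.Agent.Lib.Helper49
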