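import Mathlib
import Cfsg.Agent.Lib.Helper49.QuadF2Forms

set_option autoImplicit false
set_option linter.unusedSectionVars false

namespace Cfsg.Agent.Lib.Helper49

open Module

section

variable {ι : Type*} [Fintype ι] [DecidableEq ι]
variable {q : (ι → ZMod 2) → ZMod 2} {f : (ι → ZMod 2) → (ι → ZMod 2) → ZMod 2}

theorem card_fun_zmod2 : Fintype.card (ι → ZMod 2) = 2 ^ Fintype.card ι := by
  rw [Fintype.card_fun, ZMod.card]

theorem card_subspace (U : Submodule (ZMod 2) (ι → ZMod 2)) [Fintype U] :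
    Fintype.card U = 2 ^ finrank (ZMod 2) U := by
  rw [Module.card_eq_pow_finrank (K := ZMod 2) (V := U), ZMod.card]

/-- totally singular subspaces have dimension at most half. -/
theorem finrank_singular_le (h : IsQuadPolar q f) (hn : IsNondegF2 f)
    (U : Submodule (ZMod 2) (ι → ZMod 2)) (hU : ∀ u ∈ U, q u = 0) :
    2 * finrank (ZMod 2) U ≤ Fintype.card ι := by
  classical
  have : Fintype U := Fintype.ofFinite U
  have h1 := card_mul_card_perp h hn U
  have h2 : Fintype.card U ≤ (perpSet f U).card := by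
    have : (Finset.univ.filter (fun v => v ∈ U)) ⊆ perpSet f U := by
      intro v hv
      rw [Finset.mem_filter] at hv
      exact subset_perp_of_singular h U hU v hv.2
    have h3 := Finset.card_le_card this
    rw [← Fintype.card_subtype] at h3
    convert h3 using 1
  have h3 : Fintype.card U * (perpSet f U).card = Fintype.card (ι → ZMod 2) := by
    exact_mod_cast h1
  rw [card_fun_zmod2, card_subspace U] at h3
  rw [card_subspace U] at h2
  have h4 : 2 ^ finrank (ZMod 2) U * 2 ^ finrank (ZMod 2) U ≤ 2 ^ Fintype.card ι := by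
    rw [← h3]
    exact Nat.mul_le_mul_left _ h2
  rw [← pow_add] at h4
  have := (Nat.pow_le_pow_iff_right (by norm_num : 1 < 2)).mp h4
  omega

/-- with negative Gauss sum, totally singular subspaces are strictly smaller. -/
theorem finrank_singular_lt (h : IsQuadPolar q f) (hn : IsNondegF2 f) (a : ℕ)
    (hcard : Fintype.card ι = 2 * a) (hS : gaussSum q = - 2 ^ a)
    (U : Submodule (ZMod 2) (ι → ZMod 2)) (hU : ∀ u ∈ U, q u = 0) :
    finrank (ZMod 2) U < a := by
  classical
  have : Fintype U := Fintype.ofFinite U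
  have h1 := card_mul_card_perp h hn U
  have h2 := gaussSum_eq_sum_perp h U hU
  have h0 : (0 : ι → ZMod 2) ∈ perpSet f U := by
    rw [mem_perpSet]
    intro u _
    exact h.zero_left u
  have h3 : ∑ v ∈ perpSet f U, chi2 (q v) ≥ 2 - ((perpSet f U).card : ℤ) := by
    rw [← Finset.add_sum_erase _ _ h0, h.map_zero, chi2_zero]
    have h4 : ∑ v ∈ (perpSet f U).erase 0, chi2 (q v) ≥ ∑ v ∈ (perpSet f U).erase 0, (-1 : ℤ) := by
      apply Finset.sum_le_sum
      intro v _
      unfold chi2
      split_ifs <;> omega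
    rw [Finset.sum_const, Finset.card_erase_of_mem h0] at h4
    have h5 : 1 ≤ (perpSet f U).card := Finset.card_pos.mpr ⟨0, h0⟩
    simp only [nsmul_eq_mul] at h4
    push_cast [h5] at h4
    omega
  rw [← h2, hS] at h3
  -- |P| ≥ 2^a + 2
  have h6 : ((perpSet f U).card : ℤ) ≥ 2 ^ a + 2 := by omega
  have h7 : (perpSet f U).card ≥ 2 ^ a + 2 := by exact_mod_cast h6
  have h8 : Fintype.card U * (perpSet f U).card = Fintype.card (ι → ZMod 2) := by
    exact_mod_cast h1
  rw [card_fun_zmod2, card_subspace U, hcard] at h8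
  by_contra hcon
  push Not at hcon
  have h9 : 2 ^ a ≤ 2 ^ finrank (ZMod 2) U := Nat.pow_le_pow_right (by norm_num) hcon
  have h10 : 2 ^ a * (2 ^ a + 2) ≤ 2 ^ finrank (ZMod 2) U * (perpSet f U).card :=
    Nat.mul_le_mul h9 h7
  rw [h8, two_mul, pow_add] at h10
  have : 0 < 2 ^ a := by positivity
  nlinarith

end

/-- the embedding `x ↦ (x, 0)` -/
def inlMap (α β : Type*) : (α → ZMod 2) →ₗ[ZMod 2] (α ⊕ β → ZMod 2) where
  toFun x := Sum.elim x 0
  map_add' x y := by ext (i | i) <;> simp
  map_smul' c x := by ext (i | i) <;> simp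

theorem inlMap_injective (α β : Type*) : Function.Injective (inlMap α β) := by
  intro x y hxy
  ext i
  have := congrFun hxy (Sum.inl i)
  simpa [inlMap] using this

theorem exists_singular_plus (m : ℕ) :
    ∃ U : Submodule (ZMod 2) (Fin m ⊕ Fin m → ZMod 2),
      (∀ u ∈ U, Cfsg.quadFormPlus m (ZMod 2) u = 0) ∧ finrank (ZMod 2) U = m := by
  refine ⟨LinearMap.range (inlMap (Fin m) (Fin m)), ?_, ?_⟩
  · rintro _ ⟨x, rfl⟩
    simp [Cfsg.quadFormPlus, inlMap]
  · rw [LinearMap.finrank_range_of_inj (inlMap_injective _ _)]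
    simp

theorem exists_singular_minus (m : ℕ) :
    ∃ U : Submodule (ZMod 2) ((Fin m ⊕ Fin m) ⊕ Fin 2 → ZMod 2),
      (∀ u ∈ U, Cfsg.quadFormMinus m (ZMod 2) 1 1 u = 0) ∧ finrank (ZMod 2) U = m := by
  refine ⟨LinearMap.range ((inlMap (Fin m ⊕ Fin m) (Fin 2)).comp (inlMap (Fin m) (Fin m))), ?_, ?_⟩
  · rintro _ ⟨x, rfl⟩
    simp [Cfsg.quadFormMinus, inlMap]
  · rw [LinearMap.finrank_range_of_inj]
    · simp
    · exact (inlMap_injective _ _).comp (inlMap_injective _ _)

end Cfsg.Agent.Lib.Helper49
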