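import Mathlib
import Cfsg.Agent.Lib.Helper49.QuadF2Witt
import Cfsg.Agent.S2564

set_option autoImplicit false
set_option linter.unusedSectionVars false

namespace Cfsg.Agent.Lib.Helper49

open Cfsg

/-- `q` polarizes to the plus polar form -/
def PolarizesPlus (m : ℕ) (q : (Fin m ⊕ Fin m → ZMod 2) → ZMod 2) : Prop :=
  ∀ u v : (Fin m ⊕ Fin m → ZMod 2), q (u + v) = q u + q v + (Cfsg.quadFormPlus m (ZMod 2) (u + v) - Cfsg.quadFormPlus m (ZMod 2) u - Cfsg.quadFormPlus m (ZMod 2) v)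

/-- the form `Q⁺ + f(·, w)` -/
def shiftForm (m : ℕ) (w : Fin m ⊕ Fin m → ZMod 2) (v : Fin m ⊕ Fin m → ZMod 2) : ZMod 2 :=
  Cfsg.quadFormPlus m (ZMod 2) v + polarPlus m v w

theorem shiftForm_polarizes (m : ℕ) (w : Fin m ⊕ Fin m → ZMod 2) : PolarizesPlus m (shiftForm m w) := by
  intro u v
  change shiftForm m w (u + v) = shiftForm m w u + shiftForm m w v + polarPlus m u v
  unfold shiftForm
  rw [polarPlus_add_left, (isQuadPolar_plus m).1 u v]
  ring

theorem shiftForm_isQuadPolar (m : ℕ) (w : Fin m ⊕ Fin m → ZMod 2) :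
    IsQuadPolar (shiftForm m w) (polarPlus m) :=
  ⟨shiftForm_polarizes m w, polarPlus_add_left m⟩

theorem shiftForm_injective (m : ℕ) : Function.Injective (shiftForm m) := by
  intro w w' h
  by_contra hne
  have hne' : w + w' ≠ 0 := by
    intro h0
    apply hne
    have : w = -w' := eq_neg_of_add_eq_zero_left h0
    rw [this]
    ext i
    have h2 : ∀ a : ZMod 2, -a = a := by decide
    simp [h2]
  obtain ⟨u, hu⟩ := polarPlus_nondeg m _ hne'
  have h1 := congrFun h u
  unfold shiftForm at h1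
  rw [polarPlus_add_right] at hu
  have h2 : polarPlus m u w = polarPlus m u w' := add_left_cancel h1
  rw [h2] at hu
  rw [CharTwo.add_self_eq_zero] at hu
  exact zero_ne_one hu

theorem shiftForm_surjective (m : ℕ) (q : (Fin m ⊕ Fin m → ZMod 2) → ZMod 2) (hq : PolarizesPlus m q) :
    ∃ w, shiftForm m w = q := by
  classical
  -- ℓ = q + Q⁺ is additive
  let ℓ : (Fin m ⊕ Fin m → ZMod 2) → ZMod 2 := fun v => q v + Cfsg.quadFormPlus m (ZMod 2) v
  have hadd : ∀ u v, ℓ (u + v) = ℓ u + ℓ v := by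
    intro u v
    simp only [ℓ]
    rw [hq u v]
    have h2 : ∀ a b c d e : ZMod 2, a + b + (c - d - e) + c = a + d + (b + e) := by decide
    exact h2 _ _ _ _ _
  let ℓa : (Fin m ⊕ Fin m → ZMod 2) →+ ZMod 2 := AddMonoidHom.mk' ℓ hadd
  let ℓl : (Fin m ⊕ Fin m → ZMod 2) →ₗ[ZMod 2] ZMod 2 := ℓa.toZModLinearMap 2
  have hℓl : ∀ v, ℓl v = ℓ v := fun v => rfl
  let w : Fin m ⊕ Fin m → ZMod 2 := Sum.elim (fun i => ℓ (Pi.single (Sum.inr i) 1)) (fun i => ℓ (Pi.single (Sum.inl i) 1))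
  refine ⟨w, ?_⟩
  funext v
  have h1 : polarPlus m v w = ℓ v := by
    rw [← hℓl, LinearMap.pi_apply_eq_sum_univ ℓl v, Fintype.sum_sum_type, polarPlus_eq, Finset.sum_add_distrib]
    congr 1
    · apply Finset.sum_congr rfl
      intro i _
      simp only [w, Sum.elim_inr, smul_eq_mul, hℓl]
      congr 2
      funext j
      simp [Pi.single_apply, eq_comm]
    · apply Finset.sum_congr rfl
      intro i _
      simp only [w, Sum.elim_inl, smul_eq_mul, hℓl]
      rw [mul_comm]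
      congr 2
      funext j
      simp [Pi.single_apply, eq_comm]
  unfold shiftForm
  rw [h1]
  simp only [ℓ]
  have h2 : ∀ a b : ZMod 2, a + (b + a) = b := by decide
  exact h2 _ _

/-- Gauss sum of the shifted form -/
theorem gaussSum_shiftForm (m : ℕ) (w : Fin m ⊕ Fin m → ZMod 2) :
    gaussSum (shiftForm m w) = chi2 (Cfsg.quadFormPlus m (ZMod 2) w) * 2 ^ m := by
  rw [← gaussSum_plus m]
  unfold gaussSum
  rw [Finset.mul_sum, ← Equiv.sum_comp (Equiv.addRight w) (fun v => chi2 (Cfsg.quadFormPlus m (ZMod 2) w) * chi2 (Cfsg.quadFormPlus m (ZMod 2) v))]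
  apply Finset.sum_congr rfl
  intro v _
  rw [Equiv.coe_addRight, ← chi2_add]
  congr 1
  unfold shiftForm
  rw [(isQuadPolar_plus m).1 v w]
  have h2 : ∀ a b c : ZMod 2, a + c = b + (a + b + c) := by decide
  exact h2 _ _ _

/-- forms `shiftForm w`, `shiftForm w'` with `Q⁺ w = Q⁺ w'` are equivalent -/
theorem shiftForm_equiv (m : ℕ) (hm : 1 ≤ m) (w w' : Fin m ⊕ Fin m → ZMod 2)
    (h : Cfsg.quadFormPlus m (ZMod 2) w = Cfsg.quadFormPlus m (ZMod 2) w') :
    ∃ g : (Fin m ⊕ Fin m → ZMod 2) ≃ₗ[ZMod 2] (Fin m ⊕ Fin m → ZMod 2), ∀ v, shiftForm m w v = shiftForm m w' (g v) := by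
  have key := (Cfsg.Agent.S2564.result m hm (shiftForm m w') (shiftForm_polarizes m w') (w + w')).2
  have h0 : shiftForm m w' (w + w') = 0 := by
    unfold shiftForm
    rw [(isQuadPolar_plus m).1 w w', polarPlus_add_left, polarPlus_self, h]
    have h2 : ∀ a b : ZMod 2, a + a + b + (b + 0) = 0 := by decide
    exact h2 _ _
  obtain ⟨g, hg⟩ := key.mpr h0
  refine ⟨g, ?_⟩
  intro v
  rw [← hg v]
  change shiftForm m w v = shiftForm m w' v + polarPlus m v (w + w')
  unfold shiftForm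
  rw [polarPlus_add_right]
  have h2 : ∀ a b c : ZMod 2, a + b = a + c + (b + c) := by decide
  exact h2 _ _ _

theorem shiftForm_zero (m : ℕ) : shiftForm m 0 = Cfsg.quadFormPlus m (ZMod 2) := by
  funext v
  unfold shiftForm
  rw [(isQuadPolar_plus m).zero_right, add_zero]

end Cfsg.Agent.Lib.Helper49
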