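import Mathlib
import Cfsg.Agent.Lib.Helper49.QuadF2Class

set_option autoImplicit false
set_option linter.unusedSectionVars false

namespace Cfsg.Agent.Lib.Helper49

open Cfsg

/-- index reshuffling `(Fin k ⊕ Fin k) ⊕ Fin 2 → Fin (k+1) ⊕ Fin (k+1)` -/
def sigmaFun (k : ℕ) : (Fin k ⊕ Fin k) ⊕ Fin 2 → Fin (k+1) ⊕ Fin (k+1)
  | .inl (.inl i) => .inl i.succ
  | .inl (.inr i) => .inr i.succ
  | .inr j => if j = 0 then .inl 0 else .inr 0

/-- inverse reshuffling -/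
def sigmaInv (k : ℕ) : Fin (k+1) ⊕ Fin (k+1) → (Fin k ⊕ Fin k) ⊕ Fin 2
  | .inl j => Fin.cases (.inr 0) (fun i => .inl (.inl i)) j
  | .inr j => Fin.cases (.inr 1) (fun i => .inl (.inr i)) j

/-- the index equivalence -/
def sigmaEquiv (k : ℕ) : (Fin k ⊕ Fin k) ⊕ Fin 2 ≃ Fin (k+1) ⊕ Fin (k+1) where
  toFun := sigmaFun k
  invFun := sigmaInv k
  left_inv := by
    rintro ((i | i) | j)
    · simp [sigmaFun, sigmaInv]
    · simp [sigmaFun, sigmaInv]
    · fin_cases j <;> simp [sigmaFun, sigmaInv]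
  right_inv := by
    rintro (j | j)
    · refine Fin.cases ?_ ?_ j
      · simp [sigmaFun, sigmaInv]
      · intro i
        simp [sigmaFun, sigmaInv]
    · refine Fin.cases ?_ ?_ j
      · simp [sigmaFun, sigmaInv]
      · intro i
        simp [sigmaFun, sigmaInv]

/-- the coordinate change as a linear equivalence -/
def sigmaLin (k : ℕ) : (Fin (k+1) ⊕ Fin (k+1) → ZMod 2) ≃ₗ[ZMod 2] ((Fin k ⊕ Fin k) ⊕ Fin 2 → ZMod 2) :=
  LinearEquiv.funCongrLeft (ZMod 2) (ZMod 2) (sigmaEquiv k)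

theorem sigmaLin_apply (k : ℕ) (v : Fin (k+1) ⊕ Fin (k+1) → ZMod 2) (j : (Fin k ⊕ Fin k) ⊕ Fin 2) :
    sigmaLin k v j = v (sigmaFun k j) := rfl

/-- the distinguished nonsingular vector -/
def wOne (k : ℕ) : Fin (k+1) ⊕ Fin (k+1) → ZMod 2 :=
  Pi.single (Sum.inl 0) 1 + Pi.single (Sum.inr 0) 1

theorem quadFormPlus_wOne (k : ℕ) : Cfsg.quadFormPlus (k+1) (ZMod 2) (wOne k) = 1 := by
  unfold Cfsg.quadFormPlus wOne
  rw [Fin.sum_univ_succ]
  simp [Fin.succ_ne_zero]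

theorem minus_eq_shiftForm (k : ℕ) (v : Fin (k+1) ⊕ Fin (k+1) → ZMod 2) :
    Cfsg.quadFormMinus k (ZMod 2) 1 1 (sigmaLin k v) = shiftForm (k+1) (wOne k) v := by
  unfold shiftForm
  rw [polarPlus_eq]
  unfold Cfsg.quadFormMinus Cfsg.quadFormPlus wOne
  rw [Fin.sum_univ_succ, Fin.sum_univ_succ]
  simp only [sigmaLin_apply, sigmaFun]
  simp [Fin.succ_ne_zero]
  ring

theorem chi2_eq_one_iff (a : ZMod 2) : chi2 a = 1 ↔ a = 0 := by
  revert a; decide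

theorem chi2_eq_neg_one_iff (a : ZMod 2) : chi2 a = -1 ↔ a = 1 := by
  revert a; decide

theorem plus_type_iff (m : ℕ) (hm : 1 ≤ m) (w : Fin m ⊕ Fin m → ZMod 2) :
    (∃ g : (Fin m ⊕ Fin m → ZMod 2) ≃ₗ[ZMod 2] (Fin m ⊕ Fin m → ZMod 2),
      ∀ v, shiftForm m w v = Cfsg.quadFormPlus m (ZMod 2) (g v)) ↔ Cfsg.quadFormPlus m (ZMod 2) w = 0 := by
  constructor
  · rintro ⟨g, hg⟩
    have h1 : gaussSum (shiftForm m w) = gaussSum (Cfsg.quadFormPlus m (ZMod 2)) := by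
      unfold gaussSum
      rw [← Equiv.sum_comp g.toEquiv (fun v => chi2 (Cfsg.quadFormPlus m (ZMod 2) v))]
      apply Finset.sum_congr rfl
      intro v _
      rw [hg v]
      rfl
    rw [gaussSum_shiftForm, gaussSum_plus] at h1
    have h2 : (2 : ℤ) ^ m ≠ 0 := by positivity
    have h3 : chi2 (Cfsg.quadFormPlus m (ZMod 2) w) = 1 := by
      apply mul_right_cancel₀ h2
      rw [h1, one_mul]
    exact (chi2_eq_one_iff _).mp h3
  · intro h
    have h0 : Cfsg.quadFormPlus m (ZMod 2) w = Cfsg.quadFormPlus m (ZMod 2) 0 := by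
      rw [h, (isQuadPolar_plus m).map_zero]
    obtain ⟨g, hg⟩ := shiftForm_equiv m hm w 0 h0
    refine ⟨g, ?_⟩
    intro v
    rw [hg v, shiftForm_zero]

theorem minus_type_iff (k : ℕ) (w : Fin (k+1) ⊕ Fin (k+1) → ZMod 2) :
    (∃ g : (Fin (k+1) ⊕ Fin (k+1) → ZMod 2) ≃ₗ[ZMod 2] ((Fin k ⊕ Fin k) ⊕ Fin 2 → ZMod 2),
      ∀ v, shiftForm (k+1) w v = Cfsg.quadFormMinus k (ZMod 2) 1 1 (g v)) ↔ Cfsg.quadFormPlus (k+1) (ZMod 2) w = 1 := by
  constructor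
  · rintro ⟨g, hg⟩
    have h1 : gaussSum (shiftForm (k+1) w) = gaussSum (Cfsg.quadFormMinus k (ZMod 2) 1 1) := by
      unfold gaussSum
      rw [← Equiv.sum_comp g.toEquiv (fun v => chi2 (Cfsg.quadFormMinus k (ZMod 2) 1 1 v))]
      apply Finset.sum_congr rfl
      intro v _
      rw [hg v]
      rfl
    rw [gaussSum_shiftForm, gaussSum_minus] at h1
    have h2 : (2 : ℤ) ^ (k+1) ≠ 0 := by positivity
    have h3 : chi2 (Cfsg.quadFormPlus (k+1) (ZMod 2) w) = -1 := by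
      apply mul_right_cancel₀ h2
      rw [h1, neg_one_mul]
    exact (chi2_eq_neg_one_iff _).mp h3
  · intro h
    have h0 : Cfsg.quadFormPlus (k+1) (ZMod 2) w = Cfsg.quadFormPlus (k+1) (ZMod 2) (wOne k) := by
      rw [h, quadFormPlus_wOne]
    obtain ⟨g, hg⟩ := shiftForm_equiv (k+1) (by omega) w (wOne k) h0
    refine ⟨g.trans (sigmaLin k), ?_⟩
    intro v
    rw [hg v, LinearEquiv.trans_apply, minus_eq_shiftForm]

theorem card_zeros (m : ℕ) (hm : 1 ≤ m) :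
    Fintype.card {w : Fin m ⊕ Fin m → ZMod 2 // Cfsg.quadFormPlus m (ZMod 2) w = 0} = 2 ^ (2 * m - 1) + 2 ^ (m - 1)
    ∧ Fintype.card {w : Fin m ⊕ Fin m → ZMod 2 // Cfsg.quadFormPlus m (ZMod 2) w = 1} = 2 ^ (2 * m - 1) - 2 ^ (m - 1) := by
  classical
  have hS := gaussSum_plus m
  unfold gaussSum chi2 at hS
  rw [Finset.sum_ite, Finset.sum_const, Finset.sum_const] at hS
  have hAB := Finset.card_filter_add_card_filter_not (s := (Finset.univ : Finset (Fin m ⊕ Fin m → ZMod 2)))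
    (fun w => Cfsg.quadFormPlus m (ZMod 2) w = 0)
  rw [Finset.card_univ, card_fun_zmod2] at hAB
  simp only [Fintype.card_sum, Fintype.card_fin] at hAB
  have h1 : Fintype.card {w : Fin m ⊕ Fin m → ZMod 2 // Cfsg.quadFormPlus m (ZMod 2) w = 0}
      = (Finset.univ.filter (fun w : Fin m ⊕ Fin m → ZMod 2 => Cfsg.quadFormPlus m (ZMod 2) w = 0)).card :=
    Fintype.card_subtype _
  have h2 : Fintype.card {w : Fin m ⊕ Fin m → ZMod 2 // Cfsg.quadFormPlus m (ZMod 2) w = 1}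
      = (Finset.univ.filter (fun w : Fin m ⊕ Fin m → ZMod 2 => ¬ Cfsg.quadFormPlus m (ZMod 2) w = 0)).card := by
    rw [Fintype.card_subtype]
    congr 1
    ext w
    simp only [Finset.mem_filter, Finset.mem_univ, true_and]
    have : ∀ a : ZMod 2, a = 1 ↔ ¬ a = 0 := by decide
    exact this _
  rw [h1, h2]
  set A := (Finset.univ.filter (fun w : Fin m ⊕ Fin m → ZMod 2 => Cfsg.quadFormPlus m (ZMod 2) w = 0)).card
  set B := (Finset.univ.filter (fun w : Fin m ⊕ Fin m → ZMod 2 => ¬ Cfsg.quadFormPlus m (ZMod 2) w = 0)).card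
  simp only [nsmul_eq_mul, mul_one, mul_neg] at hS
  obtain ⟨k, rfl⟩ : ∃ k, m = k + 1 := ⟨m - 1, by omega⟩
  have e1 : 2 * (k + 1) - 1 = 2 * k + 1 := by omega
  have e2 : k + 1 - 1 = k := by omega
  rw [e1, e2]
  have e3 : (2 : ℕ) ^ (k + 1 + (k + 1)) = 2 * 2 ^ (2 * k + 1) := by
    rw [← pow_succ']; congr 1; omega
  have e4 : (2 : ℤ) ^ (k + 1) = 2 * 2 ^ k := by rw [pow_succ']
  rw [e3] at hAB
  rw [e4] at hS
  have hk : (2 : ℕ) ^ k ≤ 2 ^ (2 * k + 1) := Nat.pow_le_pow_right (by norm_num) (by omega)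
  have hS' : (A : ℤ) - B = 2 * 2 ^ k := by linarith
  have hAB' : (A : ℤ) + B = 2 * 2 ^ (2 * k + 1) := by exact_mod_cast hAB
  constructor
  · have : (A : ℤ) = 2 ^ (2 * k + 1) + 2 ^ k := by linarith
    exact_mod_cast this
  · have : (B : ℤ) = 2 ^ (2 * k + 1) - 2 ^ k := by linarith
    have h3 : (B : ℤ) = ((2 ^ (2 * k + 1) - 2 ^ k : ℕ) : ℤ) := by
      rw [this]
      push_cast [hk]
      ring
    exact_mod_cast h3

end Cfsg.Agent.Lib.Helper49
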