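import Mathlib
import Cfsg.Agent.Lib.Helper49.RSU3Defs
import Cfsg.Agent.Lib.Helper03.RSU3L25
import Cfsg.Agent.Lib.Helper03.RSU3L26
import Cfsg.Agent.Lib.Helper04.RSU3L17
import Cfsg.Agent.Lib.Helper07.RSU3L21
import Cfsg.Agent.Lib.Helper16.RSU3L15
import Cfsg.Agent.Lib.Helper18.RSU3L22
import Cfsg.Agent.Lib.Helper21.RSU3L04
import Cfsg.Agent.Lib.Helper21.RSU3L08
import Cfsg.Agent.Lib.Helper23.RSU3L12
import Cfsg.Agent.Lib.Helper23.RSU3L23
import Cfsg.Agent.Lib.Helper25.RSU3L18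
import Cfsg.Agent.Lib.Helper25.RSU3L19
import Cfsg.Agent.Lib.Helper26.RSU3L13
import Cfsg.Agent.Lib.Helper47.RSU3L06
import Cfsg.Agent.Lib.Helper62.RSU3L01
import Cfsg.Agent.Lib.Helper63.RSU3L02
import Cfsg.Agent.Lib.Helper63.RSU3L07
import Cfsg.Agent.Lib.Helper64.RSU3L10
import Cfsg.Agent.Lib.Helper66.RSU3L03
import Cfsg.Agent.Lib.Helper68.RSU3L09
import Cfsg.Agent.Lib.Helper79.RSU3L11
import Cfsg.Agent.Lib.Helper80.RSU3L05
import Cfsg.Agent.Lib.Helper82.RSU3L24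
import Cfsg.Agent.Lib.Helper83.RSU3L20
import Cfsg.Agent.Lib.Helper91.RSU3L14
import Cfsg.Agent.Lib.Helper96.RSU3L27
import Cfsg.Agent.Lib.Helper99.RSU3L16

set_option autoImplicit false
set_option linter.unusedSectionVars false
set_option linter.unusedVariables false

namespace Cfsg.Agent.Lib.Helper49.RSU3Glue

open Matrix Cfsg.Agent.Lib.Helper49.StSU Cfsg.Agent.Lib.Helper49.RSU3

variable {F : Type*} [Field F] [Fintype F] {q : ℕ}

theorem mat_pow' (g : GJ 3 F q) (k : ℕ) : mat (g ^ k) = (mat g) ^ k := by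
  induction k with
  | zero => simp
  | succ k ih => rw [pow_succ, pow_succ, mat_mul, ih]

theorem conj_pow' (C Ci X : Matrix (Fin 3) (Fin 3) F) (h : Ci * C = 1) (k : ℕ) :
    (C * X * Ci) ^ k * C = C * X ^ k := by
  induction k with
  | zero => simp
  | succ k ih =>
    rw [pow_succ', mul_assoc, ih, pow_succ']
    calc C * X * Ci * (C * X ^ k) = C * X * (Ci * C) * X ^ k := by simp only [mul_assoc]
      _ = C * (X * X ^ k) := by rw [h, mul_one]; simp only [mul_assoc]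

theorem model_main (hq : 3 ≤ q) (hF : Fintype.card F = q ^ 2) :
    ∃ u g : GJ 3 F q, ((mat u - 1) ^ 3 = 0 ∧ (mat u - 1) ^ 2 ≠ 0) ∧
      Subgroup.closure ({u, g * u * g⁻¹} : Set (GJ 3 F q)) = ⊤ := by
  obtain ⟨μ, hμ⟩ := Cfsg.Agent.Lib.Helper62.RSU3.exists_mu hq hF
  obtain ⟨u, hu⟩ := Cfsg.Agent.Lib.Helper21.RSU3.exists_x hF 1 (bet μ) (Cfsg.Agent.Lib.Helper63.RSU3.val_bet hq hF μ hμ)
  have hμ0 : μ ≠ 0 := by
    intro h
    have h1 := pow_orderOf_eq_one μ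
    rw [hμ, h, zero_pow (by omega)] at h1
    exact zero_ne_one h1
  obtain ⟨hh, hhh⟩ := Cfsg.Agent.Lib.Helper47.RSU3.exists_h (q := q) hF μ hμ0
  obtain ⟨hvz, hb⟩ := Cfsg.Agent.Lib.Helper66.RSU3.val_bz hq hF μ hμ
  obtain ⟨zz, hzz⟩ := Cfsg.Agent.Lib.Helper80.RSU3.exists_y hF 0 (bz μ) hvz
  obtain ⟨g, hg⟩ := Cfsg.Agent.Lib.Helper21.RSU3.exists_conj hq hF μ hμ
  have hgu : g * u * g⁻¹ = u * hh * zz := hg u hh zz hu hhh hzz
  refine ⟨u, g, ?_, ?_⟩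
  · rw [hu]; exact Cfsg.Agent.Lib.Helper63.RSU3.regular_x (q := q) (bet μ)
  rw [hgu]
  set H := Subgroup.closure ({u, u * hh * zz} : Set (GJ 3 F q)) with hH
  have huH : u ∈ H := Subgroup.subset_closure (by simp)
  have hvH : u * hh * zz ∈ H := Subgroup.subset_closure (by simp)
  have hdH : hh * zz ∈ H := by
    have : hh * zz = u⁻¹ * (u * hh * zz) := by group
    rw [this]; exact H.mul_mem (H.inv_mem huH) hvH
  have hzH : zz ∈ H := by
    have : (hh * zz) ^ (q + 1) = zz := by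
      apply mat_injective
      rw [mat_pow', mat_mul, hhh, hzz]; exact Cfsg.Agent.Lib.Helper68.RSU3.pow_hz hq hF μ hμ (bz μ)
    rw [← this]; exact H.pow_mem hdH _
  have hhH : hh ∈ H := by
    have : hh = (hh * zz) * zz⁻¹ := by group
    rw [this]; exact H.mul_mem hdH (H.inv_mem hzH)
  -- the set of `a`
  let A : Set F := {a | ∃ b : F, ∃ x ∈ H, mat x = xM q a b}
  have hA1 : (1 : F) ∈ A := ⟨bet μ, u, huH, hu⟩
  have hAadd : ∀ a ∈ A, ∀ b ∈ A, a + b ∈ A := by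
    rintro a ⟨b, x, hx, hxm⟩ a' ⟨b', x', hx', hxm'⟩
    exact ⟨_, x * x', H.mul_mem hx hx', by rw [mat_mul, hxm, hxm', Cfsg.Agent.Lib.Helper64.RSU3.xM_mul hF]⟩
  have hAB : ∀ W ∈ H, mat W 1 0 = 0 → mat W 2 0 = 0 → mat W 2 1 = 0 →
      ∀ a ∈ A, mat W 0 0 / mat W 1 1 * a ∈ A := by
    rintro W hW h10 h20 h21 a ⟨b, x, hx, hxm⟩
    obtain ⟨b', hb'⟩ := Cfsg.Agent.Lib.Helper79.RSU3.borel_conj hF W x a b hxm h10 h20 h21
    exact ⟨b', W * x * W⁻¹, H.mul_mem (H.mul_mem hW hx) (H.inv_mem hW), hb'⟩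
  have hAall : ∀ c : F, c ∈ A := by
    have hmu3 : ∀ a ∈ A, μ ^ 3 * a ∈ A := by
      intro a ha
      have := hAB hh hhH (by rw [hhh]; simp [hM]) (by rw [hhh]; simp [hM])
        (by rw [hhh]; simp [hM]) a ha
      rwa [hhh, Cfsg.Agent.Lib.Helper96.RSU3.hM_ratio hq hF μ hμ] at this
    by_cases h5 : q = 5
    · obtain ⟨W, hW, h10, h20, h21, hc⟩ := Cfsg.Agent.Lib.Helper25.RSU3.word_five h5 hF μ hμ u hh zz hu hhh hzz hhH
      exact Cfsg.Agent.Lib.Helper99.RSU3.span_five h5 hF _ hc A hA1 hAadd (hAB W hW h10 h20 h21)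
    by_cases h8 : q = 8
    · obtain ⟨W, hW, h10, h20, h21, hc⟩ := Cfsg.Agent.Lib.Helper25.RSU3.word_eight h8 hF μ hμ u hh zz hu hhh hzz hhH
      exact Cfsg.Agent.Lib.Helper04.RSU3.span_eight h8 hF μ hμ _ hc A hA1 hAadd hmu3 (hAB W hW h10 h20 h21)
    exact Cfsg.Agent.Lib.Helper16.RSU3.span_generic hq h5 h8 hF μ hμ A hA1 hAadd hmu3
  have hZ : ∀ (X : GJ 3 F q) (s : F), s + s ^ q = 0 → mat X = xM q 0 s → X ∈ H := by
    intro X s hs hX
    obtain ⟨e, x, hx, hxm⟩ := hAall (s * bet μ)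
    have hc := Cfsg.Agent.Lib.Helper23.RSU3.comm_x hF x u (s * bet μ) e 1 (bet μ) hxm hu
    rw [Cfsg.Agent.Lib.Helper91.RSU3.kappa_eq s (bet μ) hs (Cfsg.Agent.Lib.Helper63.RSU3.val_bet hq hF μ hμ)] at hc
    have : X = x * u * x⁻¹ * u⁻¹ := mat_injective (by rw [hX, hc])
    rw [this]
    exact H.mul_mem (H.mul_mem (H.mul_mem hx huH) (H.inv_mem hx)) (H.inv_mem huH)
  have hU : ∀ (X : GJ 3 F q) (a b : F), mat X = xM q a b → X ∈ H := by
    intro X a b hX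
    obtain ⟨b₀, x, hx, hxm⟩ := hAall a
    obtain ⟨s, hs, hsm⟩ := Cfsg.Agent.Lib.Helper26.RSU3.x_ratio hF x X a b₀ b hxm hX
    have h1 : x⁻¹ * X ∈ H := hZ _ s hs hsm
    have : X = x * (x⁻¹ * X) := by group
    rw [this]; exact H.mul_mem hx h1
  obtain ⟨n, hnH, hn⟩ := Cfsg.Agent.Lib.Helper83.RSU3.exists_n hq hF H hU zz (bz μ) hb hvz hzz hzH
  have hY : ∀ (Y : GJ 3 F q) (a b : F), mat Y = yM q a b → Y ∈ H := by
    intro Y a b hYm
    obtain ⟨a', c', hm⟩ := Cfsg.Agent.Lib.Helper07.RSU3.n_conj_y hq hF (bz μ) hb hvz n Y a b hn hYm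
    have h1 : n⁻¹ * Y * n ∈ H := hU _ a' c' hm
    have : Y = n * (n⁻¹ * Y * n) * n⁻¹ := by group
    rw [this]; exact H.mul_mem (H.mul_mem hnH h1) (H.inv_mem hnH)
  have hT : ∀ (t : GJ 3 F q) (m : F), mat t = hM q m → t ∈ H :=
    fun t m ht => Cfsg.Agent.Lib.Helper18.RSU3.torus_mem hq hF H hU hY t m ht
  have hB : ∀ g : GJ 3 F q, mat g 1 0 = 0 → mat g 2 0 = 0 → g ∈ H := by
    intro g h10 h20
    obtain ⟨t, X, m, a, b, ht, hX, rfl⟩ := Cfsg.Agent.Lib.Helper23.RSU3.borel_decomp hq hF g h10 h20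
    exact H.mul_mem (hT t m ht) (hU X a b hX)
  rw [eq_top_iff]
  intro g _
  by_cases h20 : mat g 2 0 = 0
  · exact hB g (Cfsg.Agent.Lib.Helper03.RSU3.col_isotropic hq hF g h20) h20
  · obtain ⟨X, a, c, hX, h00, h10⟩ := Cfsg.Agent.Lib.Helper82.RSU3.bruhat_big hq hF g h20
    have hXH := hU X a c hX
    have h1 : mat (n * (X * g)) 1 0 = 0 := by
      rw [mat_mul n, hn, Matrix.mul_apply, Fin.sum_univ_three]
      simp [nM, h00, h10]
    have h2 : mat (n * (X * g)) 2 0 = 0 := by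
      rw [mat_mul n, hn, Matrix.mul_apply, Fin.sum_univ_three]
      simp [nM, h00, h10]
    have h3 := hB _ h1 h2
    have : g = X⁻¹ * (n⁻¹ * (n * (X * g))) := by group
    rw [this]
    exact H.mul_mem (H.inv_mem hXH) (H.mul_mem (H.inv_mem hnH) h3)

theorem main (hq : 3 ≤ q) (hF : Fintype.card F = q ^ 2) :
    ∃ u g : ↥(Cfsg.SU 3 F q),
      (IsNilpotent (((u : Matrix.SpecialLinearGroup (Fin 3) F) : Matrix (Fin 3) (Fin 3) F) - 1) ∧
        (((u : Matrix.SpecialLinearGroup (Fin 3) F) : Matrix (Fin 3) (Fin 3) F) - 1) ^ (3 - 1) ≠ 0) ∧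
      Subgroup.closure ({u, g * u * g⁻¹} : Set ↥(Cfsg.SU 3 F q)) = ⊤ := by
  obtain ⟨e, C, Ci, hCCi, hCiC, he⟩ := Cfsg.Agent.Lib.Helper03.RSU3.exists_equiv_conj hq hF
  obtain ⟨u, g, ⟨h3, h2⟩, hcl⟩ := model_main hq hF
  have hM : mat u = Ci * (((e.symm u : ↥(Cfsg.SU 3 F q)) :
      Matrix.SpecialLinearGroup (Fin 3) F) : Matrix (Fin 3) (Fin 3) F) * C := by
    rw [← he, e.apply_symm_apply]
  set M : Matrix (Fin 3) (Fin 3) F := (((e.symm u : ↥(Cfsg.SU 3 F q)) :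
      Matrix.SpecialLinearGroup (Fin 3) F) : Matrix (Fin 3) (Fin 3) F) with hMdef
  have hM1 : M - 1 = C * (mat u - 1) * Ci := by
    rw [hM, mul_sub, sub_mul, mul_one, hCCi]
    congr 1
    calc M = (C * Ci) * M * (C * Ci) := by rw [hCCi, one_mul, mul_one]
      _ = C * (Ci * M * C) * Ci := by simp only [mul_assoc]
  have hpow : ∀ k : ℕ, (M - 1) ^ k = C * (mat u - 1) ^ k * Ci := by
    intro k
    have := conj_pow' C Ci (mat u - 1) hCiC k
    rw [hM1]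
    calc (C * (mat u - 1) * Ci) ^ k = (C * (mat u - 1) * Ci) ^ k * (C * Ci) := by
          rw [hCCi, mul_one]
      _ = ((C * (mat u - 1) * Ci) ^ k * C) * Ci := (mul_assoc _ C Ci).symm
      _ = C * (mat u - 1) ^ k * Ci := by rw [this]
  refine ⟨e.symm u, e.symm g, ⟨?_, ?_⟩, ?_⟩
  · exact ⟨3, by rw [hpow, h3, mul_zero, zero_mul]⟩
  · intro h0
    apply h2
    have h4 : (M - 1) ^ 2 = 0 := h0
    rw [hpow] at h4
    calc (mat u - 1) ^ 2 = (Ci * C) * (mat u - 1) ^ 2 * (Ci * C) := by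
          rw [hCiC, one_mul, mul_one]
      _ = Ci * (C * (mat u - 1) ^ 2 * Ci) * C := by simp only [mul_assoc]
      _ = 0 := by rw [h4, mul_zero, zero_mul]
  · have h5 : ({e.symm u, e.symm g * e.symm u * (e.symm g)⁻¹} : Set ↥(Cfsg.SU 3 F q)) =
        (e.symm.toMonoidHom : GJ 3 F q →* ↥(Cfsg.SU 3 F q)) '' {u, g * u * g⁻¹} := by
      rw [Set.image_pair]
      simp
    rw [h5, ← MonoidHom.map_closure, hcl]
    exact Subgroup.map_top_of_surjective _ e.symm.surjective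

end Cfsg.Agent.Lib.Helper49.RSU3Glue
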