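/-
K-SLO-6 (keystone 598106, S5981): `i = ord_r(q)` odd, at least `3`: an element of order `r` of
`SL_n(q)` with a single irreducible block has no `GL`-conjugate in the similarity group of a
nondegenerate quadratic form.
-/
import Mathlib
import Cfsg.Agent.Lib.Helper49.SLODefs
import Cfsg.Agent.Lib.Helper49.SimDerange
import Cfsg.Agent.S2568

set_option autoImplicit false

namespace Cfsg.Agent.Lib.Helper49.SLO

open Polynomial Module Matrix Cfsg.Agent.Lib.Helper49

variable {F : Type*} [Field F] [Fintype F]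

theorem derange_odd {p : ℕ} [Fact p.Prime] [CharP F p] {q : ℕ} (hq : Fintype.card F = q)
    (n : ℕ) (hn : 1 ≤ n) (Q : (Fin n → F) → F)
    (hQ : Cfsg.Geo.IsNondegenerateQuadraticForm Q) (r : ℕ) [Fact r.Prime] (hr2 : r ≠ 2)
    (hrp : r ≠ p) (i : ℕ) (hi : i = orderOf (q : ZMod r)) (hiodd : Odd i) (hi3 : 3 ≤ i)
    (hin : i ≤ n) :
    ∃ x : GL (Fin n) F, x ∈ Cfsg.Geo.specialLinear (Fin n) F ∧ x ^ r = 1 ∧
      (∀ z : F, (x : Matrix (Fin n) (Fin n) F) ≠ z • (1 : Matrix (Fin n) (Fin n) F)) ∧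
      ∀ g : GL (Fin n) F, g⁻¹ * x * g ∉ Cfsg.Geo.quadSimilarityGroup Q := by
  classical
  have hr : r.Prime := Fact.out
  have hp : p.Prime := Fact.out
  obtain ⟨f', _, hqf⟩ := FiniteField.card F p
  rw [hq] at hqf
  have hK : Fintype.card F = p ^ (f' : ℕ) := by rw [hq, hqf]
  have hi' : i = orderOf ((p ^ (f' : ℕ) : ℕ) : ZMod r) := by rw [hi, hqf]
  have D := Cfsg.Agent.S2568.factorData hK r i hrp hi'
  have hmon : ∀ P ∈ (UniqueFactorizationMonoid.normalizedFactors
      (Polynomial.cyclotomic r F)).toFinset, P.Monic := by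
    intro P hP
    have hP1 := Multiset.mem_toFinset.mp hP
    rw [← UniqueFactorizationMonoid.normalize_normalized_factor P hP1]
    exact Polynomial.monic_normalize
      (UniqueFactorizationMonoid.irreducible_of_normalized_factor P hP1).ne_zero
  have hne : (UniqueFactorizationMonoid.normalizedFactors
      (Polynomial.cyclotomic r F)).toFinset.Nonempty := by
    rw [Finset.nonempty_iff_ne_empty]
    intro hempty
    have h1 := D.prod
    rw [hempty, Finset.prod_empty, mul_one] at h1
    have h2 := congrArg Polynomial.natDegree h1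
    have e1 : (Polynomial.X - 1 : Polynomial F).natDegree = 1 := by
      rw [← Polynomial.C_1]; exact Polynomial.natDegree_X_sub_C 1
    have e2 : (Polynomial.X ^ r - 1 : Polynomial F).natDegree = r := by
      rw [← Polynomial.C_1]; exact Polynomial.natDegree_X_pow_sub_C
    rw [e1, e2] at h2
    have := hr.two_le
    omega
  have hq1 : 1 ≤ q := by rw [← hq]; exact Fintype.card_pos
  have hrq : ¬ r ∣ Fintype.card F - 1 := by
    intro h
    have h1 : i = 1 := by
      rw [hi, orderOf_eq_one_iff]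
      rw [hq, ← ZMod.natCast_eq_zero_iff, Nat.cast_sub hq1, Nat.cast_one, sub_eq_zero] at h
      exact h
    omega
  set PP := (UniqueFactorizationMonoid.normalizedFactors (Polynomial.cyclotomic r F)).toFinset
    with hPP
  obtain ⟨P₀, hP₀⟩ := hne
  let a : PP → ℕ := fun P => if P = ⟨P₀, hP₀⟩ then 1 else 0
  have hsum : ∑ P, a P = 1 := by
    rw [Finset.sum_ite_eq' Finset.univ (⟨P₀, hP₀⟩ : PP) (fun _ => 1)]
    simp
  obtain ⟨x, hxr, hκ⟩ := D.exists_realize hr.pos n a (by rw [hsum, mul_one]; exact hin)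
  have hκ₀ : kdim (Matrix.toLin' (x : Matrix (Fin n) (Fin n) F)) P₀ = i := by
    have := hκ ⟨P₀, hP₀⟩
    simp only [a, if_true, mul_one] at this
    exact this
  have hgr : (x : Matrix (Fin n) (Fin n) F) ^ r = 1 := by
    rw [← Units.val_pow_eq_pow_val, hxr, Units.val_one]
  have hdet : (x : Matrix (Fin n) (Fin n) F).det = 1 := by
    apply root_eq_one_of_not_dvd hr hrq
    rw [← Matrix.det_pow, hgr, Matrix.det_one]
  refine ⟨x, ?_, hxr, ?_, ?_⟩
  · unfold Cfsg.Geo.specialLinear
    rw [MonoidHom.mem_ker]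
    apply Units.ext
    rw [Matrix.GeneralLinearGroup.val_det_apply, hdet]
    rfl
  · intro z hz
    have h1 : (z ^ r) • (1 : Matrix (Fin n) (Fin n) F) = 1 := by
      have h0 := hgr
      rw [hz, _root_.smul_pow, one_pow] at h0
      exact h0
    have h2 : z ^ r = 1 := by
      have := congrFun (congrFun h1 ⟨0, by omega⟩) ⟨0, by omega⟩
      simpa using this
    have h3 := root_eq_one_of_not_dvd hr hrq z h2
    rw [h3, one_smul] at hz
    rw [hz, kdim_toLin'_one P₀ (D.X_sub_one_not_dvd hP₀)] at hκ₀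
    omega
  · intro g hy
    obtain ⟨φ, ψ, c, hc0, -, hsim, hφψ, hψφ, hkd, hpow⟩ := sim_conj_data Q hQ x g hy
    have hφr : φ ^ r = 1 := by
      have h0 := hpow r 1 (by rw [hxr, one_smul]; rfl)
      rw [one_smul] at h0
      exact h0
    have hcr : c ^ r = 1 := mult_pow_eq_one hn Q hQ φ c hsim r hφr
    have hc1 : c = 1 := root_eq_one_of_not_dvd hr hrq c hcr
    have hI : FormInv (polarB Q hQ) φ := by
      intro u v
      rw [hsim, hc1, one_mul]
    have : Fact (Irreducible P₀) := ⟨D.irr P₀ hP₀⟩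
    have h1 := kdim_pow_pred_eq (P := P₀) φ hr.two_le hφr (hmon P₀ hP₀) (D.dvd_of_mem hP₀)
    have hAB : ∀ v, φ ((φ ^ (r - 1)) v) = v := by
      intro v
      rw [← Module.End.mul_apply, ← pow_succ', Nat.sub_add_cancel hr.one_le, hφr]
      rfl
    have h2 := kdim_inv_of_formInv (polarB Q hQ) (polarB_nondegenerate Q hQ) φ
      (φ ^ (r - 1)) hI hAB P₀
    have h3 : kdim φ (starP P₀) = i := by
      rw [← h1, h2, hkd]
      exact hκ₀
    have h4 : kdim φ (starP P₀) = 0 := by
      rw [hkd]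
      have h5 := hκ (D.star hmon ⟨P₀, hP₀⟩)
      rw [D.star_val] at h5
      have h6 : a (D.star hmon ⟨P₀, hP₀⟩) = 0 := by
        simp only [a]
        rw [if_neg (D.star_ne hmon hr hr2 hiodd ⟨P₀, hP₀⟩)]
      rw [h6, mul_zero] at h5
      exact h5
    omega

end Cfsg.Agent.Lib.Helper49.SLO
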