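/-
Glue for S5981 (K-SLO pack, architect helper49): `SL_n(q)`, `q` odd, versus the similarity group `CO(Q)` of a
nondegenerate quadratic form.  Leaves by helper97, helper32, helper23, helper2, helper57, helper42, helper13,
helper26, helper61, helper82, helper20 and helper49.
-/
import Mathlib
import Cfsg.Prelude.Def_Classical
import Cfsg.Prelude.Def_GeometricClasses
import Cfsg.Agent.Lib.Helper49.SLODefs
import Cfsg.Agent.Lib.Helper49.SLO6
import Cfsg.Agent.Lib.Helper07.SLCard
import Cfsg.Agent.S2569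
import Cfsg.Agent.Lib.Helper97.SLO1
import Cfsg.Agent.Lib.Helper32.SLO2
import Cfsg.Agent.Lib.Helper23.SLO3
import Cfsg.Agent.Lib.Helper02.SLO4
import Cfsg.Agent.Lib.Helper57.SLO5
import Cfsg.Agent.Lib.Helper42.SLO7
import Cfsg.Agent.Lib.Helper13.SLO8
import Cfsg.Agent.Lib.Helper26.SLO9
import Cfsg.Agent.Lib.Helper61.SLO10
import Cfsg.Agent.Lib.Helper82.SLO11
import Cfsg.Agent.Lib.Helper20.SLO12

set_option autoImplicit false

namespace Cfsg.Agent.Lib.Helper49.SLOGlue

open Matrix Cfsg.Agent.Lib.Helper49.SLO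

/-! ## Glue for S5981 -/

section Glue

variable {F : Type*} [Field F] [Fintype F]

/-- transport of a conjugate into the similarity group along a linear change of coordinates -/
theorem conjInto_of_comp (n : ℕ) (Q D : (Fin n → F) → F) (g₀ : GL (Fin n) F)
    (h₀ : ∀ v, Q ((g₀ : Matrix (Fin n) (Fin n) F) *ᵥ v) = D v) (x g₁ : GL (Fin n) F)
    (h₁ : g₁⁻¹ * x * g₁ ∈ Cfsg.Geo.quadSimilarityGroup D) :
    ∃ g : GL (Fin n) F, g⁻¹ * x * g ∈ Cfsg.Geo.quadSimilarityGroup Q := by
  obtain ⟨c, hc⟩ := h₁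
  refine ⟨g₁ * g₀⁻¹, c, fun w => ?_⟩
  have e1 : (g₁ * g₀⁻¹)⁻¹ * x * (g₁ * g₀⁻¹) = g₀ * (g₁⁻¹ * x * g₁) * g₀⁻¹ := by group
  have e2 : w = (g₀ : Matrix (Fin n) (Fin n) F) *ᵥ
      (((g₀⁻¹ : GL (Fin n) F) : Matrix (Fin n) (Fin n) F) *ᵥ w) := by
    rw [Matrix.mulVec_mulVec, ← Units.val_mul, mul_inv_cancel, Units.val_one, Matrix.one_mulVec]
  rw [e1, Units.val_mul, Units.val_mul, ← Matrix.mulVec_mulVec, ← Matrix.mulVec_mulVec, h₀, hc]
  nth_rewrite 2 [e2]
  rw [h₀]

/-- `SL`-conjugacy from `GL`-conjugacy for elements of order prime to `p` -/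
theorem sl_conj_of_gl_conj {p : ℕ} [Fact p.Prime] [CharP F p] (n : ℕ) (Q : (Fin n → F) → F)
    (x : GL (Fin n) F) (hx : (orderOf x).Coprime p)
    (h : ∃ g : GL (Fin n) F, g⁻¹ * x * g ∈ Cfsg.Geo.quadSimilarityGroup Q) :
    ∃ g ∈ Cfsg.Geo.specialLinear (Fin n) F, g⁻¹ * x * g ∈ Cfsg.Geo.quadSimilarityGroup Q := by
  obtain ⟨g, hg⟩ := h
  obtain ⟨h, hdet, hh⟩ := Cfsg.Agent.S2569.result x g⁻¹ hx
  refine ⟨h⁻¹, ?_, ?_⟩
  · apply Subgroup.inv_mem
    unfold Cfsg.Geo.specialLinear
    rw [MonoidHom.mem_ker]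
    apply Units.ext
    rw [Matrix.GeneralLinearGroup.val_det_apply, hdet]
    rfl
  · rw [inv_inv, hh, inv_inv]
    exact hg

/-- an element with `x ^ k` scalar has order prime to `p` when `p ∤ k` -/
theorem orderOf_coprime {p : ℕ} [Fact p.Prime] [CharP F p] (n : ℕ) (x : GL (Fin n) F) (k : ℕ)
    (hk : ¬ p ∣ k) (z : F)
    (hz : ((x ^ k : GL (Fin n) F) : Matrix (Fin n) (Fin n) F) =
      z • (1 : Matrix (Fin n) (Fin n) F)) (hn : 1 ≤ n) : (orderOf x).Coprime p := by
  have hp : p.Prime := Fact.out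
  have hz0 : z ≠ 0 := by
    intro h0
    rw [h0, zero_smul] at hz
    have h1 : ((x ^ k : GL (Fin n) F) : Matrix (Fin n) (Fin n) F).det ≠ 0 := by
      have := (Matrix.isUnit_iff_isUnit_det _).mp (x ^ k).isUnit
      exact this.ne_zero
    haveI : Nonempty (Fin n) := ⟨⟨0, by omega⟩⟩
    rw [hz, Matrix.det_zero] at h1
    exact h1 rfl
  have h1 : x ^ (k * (Fintype.card F - 1)) = 1 := by
    apply Units.ext
    rw [pow_mul, Units.val_pow_eq_pow_val, hz, smul_pow, one_pow,
      FiniteField.pow_card_sub_one_eq_one z hz0, one_smul]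
    rfl
  have h2 : orderOf x ∣ k * (Fintype.card F - 1) := orderOf_dvd_of_pow_eq_one h1
  apply Nat.Coprime.symm
  apply (Nat.Prime.coprime_iff_not_dvd hp).mpr
  intro h3
  have h4 : p ∣ k * (Fintype.card F - 1) := dvd_trans h3 h2
  rcases (Nat.Prime.dvd_mul hp).mp h4 with h5 | h5
  · exact hk h5
  · obtain ⟨f, hf⟩ := FiniteField.card F p
    have h6 : p ∣ Fintype.card F := by
      rw [hf.2]
      exact dvd_pow_self p f.ne_zero
    have h7 : 1 ≤ Fintype.card F := Fintype.card_pos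
    have h8 : p ∣ 1 := by
      have := (Nat.dvd_sub (h6) h5)
      rwa [Nat.sub_sub_self h7] at this
    exact hp.one_lt.ne' (Nat.dvd_one.mp h8)

theorem s5981 {p : ℕ} [Fact p.Prime] [CharP F p] {q : ℕ} (hq : Fintype.card F = q)
    (hodd : Odd q) (n : ℕ) (hn : 3 ≤ n) (Q : (Fin n → F) → F)
    (hQ : Cfsg.Geo.IsNondegenerateQuadraticForm Q)
    (r : ℕ) [Fact r.Prime] (hgap : ¬ (n = 6 ∧ r = 3))
    (hΩ : r ∣ (Cfsg.Geo.quadSimilarityGroup Q).relIndex (Cfsg.Geo.specialLinear (Fin n) F)) :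
    (∀ x ∈ Cfsg.Geo.specialLinear (Fin n) F,
      (∃ z : F, ((x ^ r : GL (Fin n) F) : Matrix (Fin n) (Fin n) F) =
        z • (1 : Matrix (Fin n) (Fin n) F)) →
      (∀ z : F, (x : Matrix (Fin n) (Fin n) F) ≠ z • (1 : Matrix (Fin n) (Fin n) F)) →
      ∃ g ∈ Cfsg.Geo.specialLinear (Fin n) F, g⁻¹ * x * g ∈ Cfsg.Geo.quadSimilarityGroup Q) ↔
    (r = 2 ∨ ((r = 3 ∨ r = 5) ∧ n = r ∧ padicValNat r (q - 1) = 1)) := by
  classical
  have hr : r.Prime := Fact.out
  have hp : p.Prime := Fact.out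
  have hq2 : 2 ≤ q := by rw [← hq]; exact Fintype.one_lt_card
  have hp2 : p ≠ 2 := by
    intro h2
    obtain ⟨f, hf⟩ := FiniteField.card F p
    rw [hq, h2] at hf
    rw [hf.2] at hodd
    exact (Nat.not_even_iff_odd.mpr hodd) ((Nat.even_pow.mpr ⟨even_two, f.ne_zero⟩))
  have h2F : (2 : F) ≠ 0 := by
    intro h
    have h1 : ((2 : ℕ) : F) = 0 := by exact_mod_cast h
    rw [CharP.cast_eq_zero_iff F p] at h1
    exact hp2 ((Nat.prime_dvd_prime_iff_eq hp Nat.prime_two).mp h1)
  have hoddF : Odd (Fintype.card F) := by rw [hq]; exact hodd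
  constructor
  · -- `⇒`
    intro hall
    by_contra hcon
    rw [not_or] at hcon
    obtain ⟨hr2, hspec⟩ := hcon
    -- a derangement gives a contradiction
    have key : (∃ x : GL (Fin n) F, x ∈ Cfsg.Geo.specialLinear (Fin n) F ∧
        (∃ z : F, ((x ^ r : GL (Fin n) F) : Matrix (Fin n) (Fin n) F) =
          z • (1 : Matrix (Fin n) (Fin n) F)) ∧
        (∀ z : F, (x : Matrix (Fin n) (Fin n) F) ≠ z • (1 : Matrix (Fin n) (Fin n) F)) ∧
        ∀ g : GL (Fin n) F, g⁻¹ * x * g ∉ Cfsg.Geo.quadSimilarityGroup Q) → False := by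
      rintro ⟨x, hxS, hxr, hxns, hder⟩
      obtain ⟨g, -, hg⟩ := hall x hxS hxr hxns
      exact hder g hg
    have key1 : (∃ x : GL (Fin n) F, x ∈ Cfsg.Geo.specialLinear (Fin n) F ∧ x ^ r = 1 ∧
        (∀ z : F, (x : Matrix (Fin n) (Fin n) F) ≠ z • (1 : Matrix (Fin n) (Fin n) F)) ∧
        ∀ g : GL (Fin n) F, g⁻¹ * x * g ∉ Cfsg.Geo.quadSimilarityGroup Q) → False := by
      rintro ⟨x, hxS, hxr, hxns, hder⟩
      exact key ⟨x, hxS, ⟨1, by rw [hxr, one_smul]; rfl⟩, hxns, hder⟩
    by_cases hrp : r = p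
    · subst hrp
      exact key1 (Cfsg.Agent.Lib.Helper13.SLO.derange_unip hr2 n (by omega) Q hQ)
    · have hrq : ¬ r ∣ q := by
        intro h
        obtain ⟨f, hf⟩ := FiniteField.card F p
        rw [hq] at hf
        rw [hf.2] at h
        exact hrp ((Nat.prime_dvd_prime_iff_eq hr hp).mp (hr.dvd_of_dvd_pow h))
      obtain ⟨i, hi⟩ : ∃ i, i = orderOf ((q : ℕ) : ZMod r) := ⟨_, rfl⟩
      have hunit : IsUnit ((q : ℕ) : ZMod r) := by
        rw [ZMod.isUnit_iff_coprime]
        exact ((Nat.Prime.coprime_iff_not_dvd hr).mpr hrq).symm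
      have hi0 : 0 < i := by
        rw [hi]
        apply orderOf_pos_iff.mpr
        rw [isOfFinOrder_iff_pow_eq_one]
        refine ⟨r - 1, by have := hr.two_le; omega, ?_⟩
        apply ZMod.pow_card_sub_one_eq_one
        intro h0
        exact hrq ((ZMod.natCast_eq_zero_iff q r).mp h0)
      have hcast : i = 1 ↔ r ∣ Fintype.card F - 1 := by
        rw [hq, hi, orderOf_eq_one_iff, ← ZMod.natCast_eq_zero_iff,
          Nat.cast_sub (by omega : 1 ≤ q), Nat.cast_one, sub_eq_zero]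
      -- the order of `SL`
      have hS : (q - 1) * Nat.card (Cfsg.Geo.specialLinear (Fin n) F) =
          ∏ j : Fin n, (q ^ n - q ^ (j : ℕ)) := by
        have h1 := Cfsg.Agent.Lib.Helper07.card_sl_mul (F := F) n (by omega)
        rw [Cfsg.Agent.Lib.Helper07.card_sl_eq_card_ker_det, hq] at h1
        exact h1
      have hrS : r ∣ Nat.card (Cfsg.Geo.specialLinear (Fin n) F) :=
        dvd_trans hΩ (Subgroup.relIndex_dvd_card _ _)
      by_cases hi1 : i = 1
      · have hrq1 := hcast.mp hi1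
        by_cases hr3 : r = 3
        · subst hr3
          by_cases hn3 : n = 3
          · subst hn3
            have hv : padicValNat 3 (q - 1) ≠ 1 := fun h => hspec ⟨Or.inl rfl, rfl, h⟩
            have hq1 : q - 1 ≠ 0 := by omega
            have hv2 : 2 ≤ padicValNat 3 (q - 1) := by
              have h1 : 1 ≤ padicValNat 3 (q - 1) :=
                one_le_padicValNat_of_dvd hq1 (by rw [← hq]; exact hrq1)
              omega
            have h9 : 3 ^ 2 ∣ Fintype.card F - 1 := by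
              rw [hq]
              exact (padicValNat_dvd_iff_le hq1).mpr hv2
            exact key (Cfsg.Agent.Lib.Helper42.SLO.derange_split_sq 3 hr2 Q hQ h9)
          · exact key1 (Cfsg.Agent.Lib.Helper42.SLO.derange_split_three n (by omega) (fun h => hgap ⟨h, rfl⟩) Q hQ hrq1)
        · by_cases h55 : n = 5 ∧ r = 5
          · obtain ⟨hn5, hr5⟩ := h55
            subst hn5
            subst hr5
            have hv : padicValNat 5 (q - 1) ≠ 1 := fun h => hspec ⟨Or.inr rfl, rfl, h⟩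
            have hq1 : q - 1 ≠ 0 := by omega
            have hv2 : 2 ≤ padicValNat 5 (q - 1) := by
              have h1 : 1 ≤ padicValNat 5 (q - 1) :=
                one_le_padicValNat_of_dvd hq1 (by rw [← hq]; exact hrq1)
              omega
            have h25 : 5 ^ 2 ∣ Fintype.card F - 1 := by
              rw [hq]
              exact (padicValNat_dvd_iff_le hq1).mpr hv2
            exact key (Cfsg.Agent.Lib.Helper42.SLO.derange_split_sq 5 hr2 Q hQ h25)
          · have hr5 : 5 ≤ r := by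
              have h2 := hr.two_le
              by_contra hlt
              have : r = 2 ∨ r = 3 ∨ r = 4 := by omega
              rcases this with h | h | h
              · exact hr2 h
              · exact hr3 h
              · rw [h] at hr
                exact absurd hr (by decide)
            exact key1 (Cfsg.Agent.Lib.Helper42.SLO.derange_split_gen n hn Q hQ r hr5 hrq1 h55)
      · rcases Nat.even_or_odd i with hev | hiodd
        · -- `i` even: the type of `Q`
          have hdvd := Cfsg.Agent.Lib.Helper23.SLO.relIndex_dvd h2F n Q hQ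
          have hdvd' : ∀ N, Nat.card (Cfsg.isometryGroup F Q) = N →
              r * N ∣ 2 * Nat.card (Cfsg.Geo.specialLinear (Fin n) F) := by
            intro N hN
            rw [← hN, mul_comm]
            exact dvd_trans (Nat.mul_dvd_mul_left _ hΩ) hdvd
          rcases Cfsg.Agent.Lib.Helper97.SLO.quad_model hoddF n (by omega) Q hQ with
            ⟨m, φ, hnm, hφ⟩ | ⟨m, a, b, φ, hnm, hab, hφ⟩ | ⟨m, c, φ, hnm, hc, hφ⟩
          · subst hnm
            have hcard := Cfsg.Agent.Lib.Helper32.SLO.card_of_plus_model hq (2 * m) m (by omega) Q φ hφ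
            obtain ⟨t, ht, hit⟩ := Cfsg.Agent.Lib.Helper02.SLO.arith_plus q r i m _ hq2 hr hr2 hrq hi hev (by omega) hS
              (hdvd' _ hcard)
            exact key1 (Cfsg.Agent.Lib.Helper57.SLO.derange_even hq hodd (2 * m) hn Q hQ r hr2 hrp i hi hev t hit
              (Or.inl ⟨ht, m, φ, hφ⟩))
          · subst hnm
            have hcard := Cfsg.Agent.Lib.Helper32.SLO.card_of_minus_model hq (2 * m + 2) m a b hab Q φ hφ
            obtain ⟨t, ht, hit⟩ := Cfsg.Agent.Lib.Helper02.SLO.arith_minus q r i m _ hq2 hr hr2 hrq hi hev hS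
              (hdvd' _ hcard)
            exact key1 (Cfsg.Agent.Lib.Helper57.SLO.derange_even hq hodd (2 * m + 2) hn Q hQ r hr2 hrp i hi hev t hit
              (Or.inr ⟨ht, m, a, b, φ, hab, hφ⟩))
          · subst hnm
            have hcard := Cfsg.Agent.Lib.Helper32.SLO.card_of_odd_model hq hodd (2 * m + 1) m c hc Q φ hφ
            exact Cfsg.Agent.Lib.Helper02.SLO.arith_odd_dim q r i m _ hq2 hr hr2 hrq hi hev hS (hdvd' _ hcard)
        · -- `i` odd, at least 3
          have hi3 : 3 ≤ i := by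
            obtain ⟨l, hl⟩ := hiodd
            omega
          have hin : i ≤ n := by
            rw [hi]
            exact Cfsg.Agent.Lib.Helper02.SLO.order_le_of_dvd q r n _ hq2 hr hrq (by omega) hS hrS
          exact key1 (derange_odd hq n (by omega) Q hQ r hr2 hrp i hi hiodd hi3 hin)
  · -- `⇐`
    rintro (hr2 | ⟨hr35, hnr, hv⟩)
    · subst hr2
      intro x hxS hx2 _
      obtain ⟨z, hz⟩ := hx2
      apply sl_conj_of_gl_conj n Q x
        (orderOf_coprime n x 2 (fun h => hp2 ((Nat.prime_dvd_prime_iff_eq hp Nat.prime_two).mp h))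
          z hz (by omega))
      obtain ⟨g₀, c, hc, hg₀⟩ := Cfsg.Agent.Lib.Helper26.SLO.exists_diag h2F n Q hQ
      by_cases hsq : IsSquare z
      · obtain ⟨l, hl⟩ := hsq
        have hz' : ((x ^ 2 : GL (Fin n) F) : Matrix (Fin n) (Fin n) F) =
            (l ^ 2) • (1 : Matrix (Fin n) (Fin n) F) := by rw [hz, hl, pow_two]
        obtain ⟨g₁, hg₁⟩ := Cfsg.Agent.Lib.Helper26.SLO.invol_sq h2F n c x l hz'
        exact conjInto_of_comp n Q (diagQ c) g₀ hg₀ x g₁ hg₁
      · obtain ⟨g₁, hg₁⟩ := Cfsg.Agent.Lib.Helper61.SLO.invol_nonsq hoddF n c hc x z hsq hz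
        exact conjInto_of_comp n Q (diagQ c) g₀ hg₀ x g₁ hg₁
    · subst hnr
      intro x hxS hxr _
      obtain ⟨z, hz⟩ := hxr
      have hq1 : q - 1 ≠ 0 := by omega
      have hrq1 : n ∣ Fintype.card F - 1 := by
        rw [hq]
        exact dvd_of_one_le_padicValNat (by omega)
      have hr2 : n ≠ 2 := by rcases hr35 with h | h <;> omega
      have hz1 : z = 1 := Cfsg.Agent.Lib.Helper82.SLO.special_pow_eq_one n hr2 (by rw [hq]; exact hv) x hxS z hz
      have hxn : x ^ n = 1 := by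
        apply Units.ext
        rw [hz, hz1, one_smul]
        rfl
      have hnp : ¬ p ∣ n := by
        intro h
        have h1 : p = n := (Nat.prime_dvd_prime_iff_eq hp hr).mp h
        obtain ⟨f, hf⟩ := FiniteField.card F p
        have h6 : p ∣ Fintype.card F := by
          rw [hf.2]
          exact dvd_pow_self p f.ne_zero
        have h7 : 1 ≤ Fintype.card F := Fintype.card_pos
        have h8 : p ∣ 1 := by
          have := (Nat.dvd_sub h6 (h1 ▸ hrq1))
          rwa [Nat.sub_sub_self h7] at this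
        exact hp.one_lt.ne' (Nat.dvd_one.mp h8)
      apply sl_conj_of_gl_conj n Q x (orderOf_coprime n x n hnp z hz (by omega))
      rcases Cfsg.Agent.Lib.Helper97.SLO.quad_model hoddF n (by omega) Q hQ with
        ⟨m, φ, hnm, hφ⟩ | ⟨m, a, b, φ, hnm, hab, hφ⟩ | ⟨m, c, φ, hnm, hc, hφ⟩
      · rcases hr35 with h | h <;> omega
      · rcases hr35 with h | h <;> omega
      · exact Cfsg.Agent.Lib.Helper20.SLO.special_conj n hr35 hrq1 Q m c hc φ hφ x hxS hxn

end Glue

end Cfsg.Agent.Lib.Helper49.SLOGlue
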