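/-
K-SLU-3 (keystone 598203, pack S5982): odd characteristic, `x² = l²` scalar: `x` is `GL`-conjugate into the
similarity group of the standard hermitian form (twin of Helper26.SLO9.invol_sq).
-/
import Mathlib
import Cfsg.Prelude.Def_Classical
import Cfsg.Prelude.Def_GeometricClasses
import Cfsg.Agent.Lib.Helper49.SLUDefs
import Cfsg.Agent.Lib.Helper49.SubfieldInvol

set_option autoImplicit false

namespace Cfsg.Agent.Lib.Helper49.SLU

open Matrix

variable {F : Type*} [Field F] [Fintype F]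

theorem odd_of_two_ne_zero (h2 : (2 : F) ≠ 0) {q₀ : ℕ} (hF : Fintype.card F = q₀ ^ 2) : Odd q₀ := by
  obtain ⟨p, hp⟩ := CharP.exists F
  obtain ⟨e, hpp, he⟩ := FiniteField.card F p
  rw [← Nat.not_even_iff_odd]
  intro hev
  have h1 : 2 ∣ p ^ (e : ℕ) := by
    rw [← he, hF]
    exact dvd_pow hev.two_dvd two_ne_zero
  have h3 : p = 2 := ((Nat.prime_dvd_prime_iff_eq Nat.prime_two hpp).mp
    (Nat.prime_two.dvd_of_dvd_pow h1)).symm
  apply h2
  have h4 : ((2 : ℕ) : F) = 0 := by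
    rw [CharP.cast_eq_zero_iff F p, h3]
  exact_mod_cast h4

theorem invol_sq_u (h2 : (2 : F) ≠ 0) {q₀ : ℕ} (hF : Fintype.card F = q₀ ^ 2) (n : ℕ)
    (x : GL (Fin n) F) (l : F)
    (hx : ((x ^ 2 : GL (Fin n) F) : Matrix (Fin n) (Fin n) F) =
      (l ^ 2) • (1 : Matrix (Fin n) (Fin n) F)) :
    ∃ g : GL (Fin n) F, g⁻¹ * x * g ∈ CUh n F q₀ := by
  classical
  have hq₀ : Odd q₀ := odd_of_two_ne_zero h2 hF
  rcases Nat.eq_zero_or_pos n with rfl | hn0
  · refine ⟨1, 1, fun u v => ?_⟩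
    have h0 : ∀ w : Fin 0 → F, w = u := fun w => Subsingleton.elim _ _
    have h1 : ∀ w : Fin 0 → F, w = v := fun w => Subsingleton.elim _ _
    rw [h0 (_ *ᵥ u), h1 (_ *ᵥ v), Units.val_one, one_mul]
  have : Nonempty (Fin n) := ⟨⟨0, hn0⟩⟩
  have hl0 : l ≠ 0 := by
    rintro rfl
    have h1 : ((x ^ 2 : GL (Fin n) F) : Matrix (Fin n) (Fin n) F).det = 0 := by
      rw [hx]; simp
    have h3 := (Matrix.GeneralLinearGroup.det (x ^ 2)).ne_zero
    rw [Matrix.GeneralLinearGroup.val_det_apply] at h3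
    exact h3 h1
  set s : Matrix (Fin n) (Fin n) F := l⁻¹ • (x : Matrix (Fin n) (Fin n) F) with hs_def
  have hxs : (x : Matrix (Fin n) (Fin n) F) = l • s := by
    rw [hs_def, smul_smul, mul_inv_cancel₀ hl0, one_smul]
  have hs : s * s = 1 := by
    have hxx : (x : Matrix (Fin n) (Fin n) F) * (x : Matrix (Fin n) (Fin n) F) =
        (l ^ 2) • (1 : Matrix (Fin n) (Fin n) F) := by
      rw [← pow_two, ← Units.val_pow_eq_pow_val]; exact hx
    rw [hs_def, Matrix.smul_mul, Matrix.mul_smul, smul_smul, hxx, smul_smul]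
    have : l⁻¹ * l⁻¹ * l ^ 2 = 1 := by field_simp
    rw [this, one_smul]
  obtain ⟨P, ε, hPdet, hε, hsP⟩ := Cfsg.Agent.Lib.Helper49.exists_sl_conj_diag h2 hn0 s hs
  set g : GL (Fin n) F := Matrix.GeneralLinearGroup.mkOfDetNeZero P
    (by rw [hPdet]; exact one_ne_zero) with hg
  have hgP : (g : Matrix (Fin n) (Fin n) F) = P := rfl
  have hconj : ((g⁻¹ * x * g : GL (Fin n) F) : Matrix (Fin n) (Fin n) F) =
      l • Matrix.diagonal ε := by
    have h1 : (x : Matrix (Fin n) (Fin n) F) * (g : Matrix (Fin n) (Fin n) F) =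
        (g : Matrix (Fin n) (Fin n) F) * (l • Matrix.diagonal ε) := by
      rw [hgP, hxs, Matrix.smul_mul, hsP, Matrix.mul_smul]
    have h2' : ((g⁻¹ : GL (Fin n) F) : Matrix (Fin n) (Fin n) F) *
        (g : Matrix (Fin n) (Fin n) F) = 1 := by
      rw [← Units.val_mul, inv_mul_cancel, Units.val_one]
    rw [Units.val_mul, Units.val_mul, mul_assoc, h1, ← mul_assoc, h2', one_mul]
  refine ⟨g, Units.mk0 (l ^ (q₀ + 1)) (pow_ne_zero _ hl0), fun u v => ?_⟩
  rw [hconj, Units.val_mk0]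
  unfold Cfsg.hermForm
  rw [Finset.mul_sum]
  refine Finset.sum_congr rfl (fun j _ => ?_)
  rw [Matrix.smul_mulVec, Matrix.smul_mulVec, Pi.smul_apply, Pi.smul_apply,
    Matrix.mulVec_diagonal, Matrix.mulVec_diagonal, smul_eq_mul, smul_eq_mul]
  have hev : Even (q₀ + 1) := hq₀.add_one
  have hε1 : ε j * ε j ^ q₀ = 1 := by
    rw [← pow_succ']
    rcases hε j with h | h <;> rw [h]
    · exact one_pow _
    · exact hev.neg_one_pow
  calc l * (ε j * u j) * (l * (ε j * v j)) ^ q₀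
      = (l * l ^ q₀) * (ε j * ε j ^ q₀) * (u j * v j ^ q₀) := by
        rw [mul_pow, mul_pow]; ring
    _ = l ^ (q₀ + 1) * (u j * v j ^ q₀) := by
        rw [hε1, mul_one, ← pow_succ']

end Cfsg.Agent.Lib.Helper49.SLU
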