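/-
K-SLU-9 (keystone 598209, pack S5982): pure arithmetic of `e = ord_r(-q₀)` against `i = ord_r(q₀²)`
and the product formula of `|GU_n(q₀)|`.
-/
import Mathlib
import Cfsg.Agent.Lib.Helper02.SLO4

set_option autoImplicit false

namespace Cfsg.Agent.Lib.Helper49.SLU

/-- the `j`-th factor of `|GU_n(q₀)|`: `q₀^(j+1) - (-1)^(j+1)` -/
theorem neg_pow_eq_one_of_dvd (q₀ r j : ℕ) (hq₀ : 1 ≤ q₀)
    (h : r ∣ (if Even j then q₀ ^ (j + 1) + 1 else q₀ ^ (j + 1) - 1)) :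
    (-((q₀ : ℕ) : ZMod r)) ^ (j + 1) = 1 := by
  by_cases hev : Even j
  · rw [if_pos hev] at h
    have h0 : ((q₀ ^ (j + 1) + 1 : ℕ) : ZMod r) = 0 := (ZMod.natCast_eq_zero_iff _ _).mpr h
    push_cast at h0
    have hodd : Odd (j + 1) := hev.add_one
    rw [Odd.neg_pow hodd]
    linear_combination -h0
  · rw [if_neg hev] at h
    have h0 : ((q₀ ^ (j + 1) - 1 : ℕ) : ZMod r) = 0 := (ZMod.natCast_eq_zero_iff _ _).mpr h
    rw [Nat.cast_sub (Nat.one_le_pow _ _ hq₀)] at h0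
    push_cast at h0
    have hev' : Even (j + 1) := by
      rw [Nat.even_add_one]; exact hev
    rw [Even.neg_pow hev']
    linear_combination h0

/-- the `j`-th complementary factor: `q₀^(j+1) + (-1)^(j+1)` -/
theorem neg_pow_eq_neg_one_of_dvd (q₀ r j : ℕ) (hq₀ : 1 ≤ q₀)
    (h : r ∣ (if Even j then q₀ ^ (j + 1) - 1 else q₀ ^ (j + 1) + 1)) :
    (-((q₀ : ℕ) : ZMod r)) ^ (j + 1) = -1 := by
  by_cases hev : Even j
  · rw [if_pos hev] at h
    have h0 : ((q₀ ^ (j + 1) - 1 : ℕ) : ZMod r) = 0 := (ZMod.natCast_eq_zero_iff _ _).mpr h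
    rw [Nat.cast_sub (Nat.one_le_pow _ _ hq₀)] at h0
    push_cast at h0
    have hodd : Odd (j + 1) := hev.add_one
    rw [Odd.neg_pow hodd]
    linear_combination -h0
  · rw [if_neg hev] at h
    have h0 : ((q₀ ^ (j + 1) + 1 : ℕ) : ZMod r) = 0 := (ZMod.natCast_eq_zero_iff _ _).mpr h
    push_cast at h0
    have hev' : Even (j + 1) := by
      rw [Nat.even_add_one]; exact hev
    rw [Even.neg_pow hev']
    linear_combination h0

theorem arith_block_u (q₀ r i : ℕ) (hq₀ : 2 ≤ q₀) (hr : r.Prime) (hr2 : r ≠ 2) (hrq : ¬ r ∣ q₀)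
    (hi : i = orderOf ((q₀ ^ 2 : ℕ) : ZMod r))
    (hno : ∀ j : ℕ, ((q₀ ^ 2 : ℕ) : ZMod r) ^ j ≠ -((q₀ : ℕ) : ZMod r))
    (h : r ∣ q₀ ^ (i * (i - 1) / 2) *
      ∏ j ∈ Finset.range i, (if Even j then q₀ ^ (j + 1) + 1 else q₀ ^ (j + 1) - 1)) : False := by
  have : Fact r.Prime := ⟨hr⟩
  obtain ⟨a, ha⟩ : ∃ a : ZMod r, a = -((q₀ : ℕ) : ZMod r) := ⟨_, rfl⟩
  have hsq : ((q₀ ^ 2 : ℕ) : ZMod r) = a ^ 2 := by
    rw [ha]; push_cast; ring
  rcases (Nat.Prime.dvd_mul hr).mp h with h1 | h1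
  · exact hrq (hr.dvd_of_dvd_pow h1)
  obtain ⟨j, hj, hjd⟩ := (Prime.dvd_finsetProd_iff hr.prime _).mp h1
  have hji : j + 1 ≤ i := by
    have := Finset.mem_range.mp hj; omega
  have haj : a ^ (j + 1) = 1 := by
    rw [ha]; exact neg_pow_eq_one_of_dvd q₀ r j (by omega) hjd
  have he : orderOf a ∣ j + 1 := orderOf_dvd_of_pow_eq_one haj
  have hepos : 0 < orderOf a := Nat.pos_of_dvd_of_pos he (by omega)
  have hele : orderOf a ≤ j + 1 := Nat.le_of_dvd (by omega) he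
  have hie : i = orderOf a / Nat.gcd (orderOf a) 2 := by
    rw [hi, hsq, orderOf_pow' a two_ne_zero]
  rcases Nat.even_or_odd (orderOf a) with hev | hodd
  · obtain ⟨t, ht⟩ := hev
    have hg : Nat.gcd (orderOf a) 2 = 2 := by
      rw [ht]
      have : t + t = 2 * t := by ring
      rw [this, Nat.gcd_comm, Nat.gcd_mul_right_right]
    rw [hg] at hie
    omega
  · obtain ⟨t, ht⟩ := hodd
    apply hno (t + 1)
    rw [hsq, ← pow_mul]
    have h2 : 2 * (t + 1) = orderOf a + 1 := by omega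
    rw [h2, pow_succ, pow_orderOf_eq_one, one_mul, ha]

theorem arith_index_u (q₀ r n G : ℕ) (hq₀ : 2 ≤ q₀) (hr : r.Prime) (hr2 : r ≠ 2) (hrq : ¬ r ∣ q₀)
    (hj : ∃ j : ℕ, ((q₀ ^ 2 : ℕ) : ZMod r) ^ j = -((q₀ : ℕ) : ZMod r))
    (hG : G = ∏ j : Fin n, ((q₀ ^ 2) ^ n - (q₀ ^ 2) ^ (j : ℕ)))
    (h : r * (q₀ ^ (n * (n - 1) / 2) *
      ∏ j ∈ Finset.range n, (if Even j then q₀ ^ (j + 1) + 1 else q₀ ^ (j + 1) - 1)) *
        (q₀ ^ 2 - 1) ∣ G * (q₀ + 1)) : False := by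
  have : Fact r.Prime := ⟨hr⟩
  obtain ⟨a, ha⟩ : ∃ a : ZMod r, a = -((q₀ : ℕ) : ZMod r) := ⟨_, rfl⟩
  have hsq : ((q₀ ^ 2 : ℕ) : ZMod r) = a ^ 2 := by
    rw [ha]; push_cast; ring
  -- the order of `a` is odd
  obtain ⟨t, ht⟩ := hj
  rw [hsq, ← ha, ← pow_mul] at ht
  have ha0 : a ≠ 0 := by
    rw [ha, neg_ne_zero]
    intro h0
    exact hrq ((ZMod.natCast_eq_zero_iff q₀ r).mp h0)
  have hodd : ∀ m : ℕ, a ^ m = -1 → False := by
    intro m hm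
    -- `a ^ (2 m) = 1` and `a ^ (2 t) = a`
    have h1 : a ^ (2 * t * m) = a ^ m := by rw [pow_mul, ht]
    have h2 : a ^ (2 * t * m) = 1 := by
      have : 2 * t * m = m * (2 * t) := by ring
      rw [this, pow_mul, hm, pow_mul]
      simp
    rw [h2, hm] at h1
    -- `1 = -1` in `ZMod r`, `r` odd
    have h3 : (2 : ZMod r) = 0 := by linear_combination h1
    have h4 : ((2 : ℕ) : ZMod r) = 0 := by exact_mod_cast h3
    rw [ZMod.natCast_eq_zero_iff] at h4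
    exact hr2 ((Nat.prime_dvd_prime_iff_eq hr Nat.prime_two).mp h4)
  -- the product formula
  set A : ℕ → ℕ := fun j => if Even j then q₀ ^ (j + 1) + 1 else q₀ ^ (j + 1) - 1 with hA
  set B : ℕ → ℕ := fun j => if Even j then q₀ ^ (j + 1) - 1 else q₀ ^ (j + 1) + 1 with hB
  have hAB : ∀ j, (q₀ ^ 2) ^ (j + 1) - 1 = A j * B j := by
    intro j
    have h1 : 1 ≤ q₀ ^ (j + 1) := Nat.one_le_pow _ _ (by omega)
    obtain ⟨u, hu⟩ : ∃ u, q₀ ^ (j + 1) = u + 1 := ⟨q₀ ^ (j + 1) - 1, by omega⟩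
    have h2 : (q₀ ^ 2) ^ (j + 1) = (q₀ ^ (j + 1)) ^ 2 := by rw [← pow_mul, ← pow_mul, mul_comm]
    rw [h2, hu]
    have h3 : (u + 1) ^ 2 - 1 = (u + 1 + 1) * u := by
      have : (u + 1) ^ 2 = (u + 1 + 1) * u + 1 := by ring
      rw [this]; simp
    rw [h3, hA, hB]
    by_cases hev : Even j
    · simp only [if_pos hev, hu]
      simp
    · simp only [if_neg hev, hu]
      simp [mul_comm]
  have hApos : ∀ j, 0 < A j := by
    intro j
    have h1 : 2 ≤ q₀ ^ (j + 1) := by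
      calc 2 ≤ q₀ := hq₀
        _ = q₀ ^ 1 := (pow_one _).symm
        _ ≤ q₀ ^ (j + 1) := Nat.pow_le_pow_right (by omega) (by omega)
    rw [hA]
    by_cases hev : Even j
    · simp only [if_pos hev]; omega
    · simp only [if_neg hev]; omega
  have hGf : G = (∏ i ∈ Finset.range n, (q₀ ^ 2) ^ i) *
      ((∏ j ∈ Finset.range n, A j) * ∏ j ∈ Finset.range n, B j) := by
    rw [hG, Cfsg.Agent.Lib.Helper02.SLO.prod_gl_factor', ← Finset.prod_mul_distrib (f := A) (g := B)]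
    congr 1
    exact Finset.prod_congr rfl (fun j _ => hAB j)
  rcases Nat.eq_zero_or_pos n with hn0 | hnpos
  · subst hn0
    simp at hGf
    rw [hGf] at h
    simp at h
    have h1 : r * (q₀ ^ 2 - 1) ≤ q₀ + 1 := Nat.le_of_dvd (by omega) h
    have h2 : 2 ≤ r := hr.two_le
    have h3 : q₀ ^ 2 = q₀ * q₀ := by ring
    have h4 : 2 * q₀ ≤ q₀ * q₀ := Nat.mul_le_mul_right _ hq₀
    have h5 : 2 * (q₀ ^ 2 - 1) ≤ r * (q₀ ^ 2 - 1) := Nat.mul_le_mul_right _ h2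
    omega
  · obtain ⟨m, rfl⟩ : ∃ m, n = m + 1 := ⟨n - 1, by omega⟩
    have hB0 : B 0 = q₀ - 1 := by simp [hB]
    have hBs : ∏ j ∈ Finset.range (m + 1), B j = (q₀ - 1) * ∏ j ∈ Finset.range m, B (j + 1) := by
      rw [Finset.prod_range_succ', hB0, mul_comm]
    have hq1 : q₀ ^ 2 - 1 = (q₀ - 1) * (q₀ + 1) := by
      obtain ⟨u, hu⟩ : ∃ u, q₀ = u + 1 := ⟨q₀ - 1, by omega⟩
      have : (u + 1) ^ 2 = u * (u + 1 + 1) + 1 := by ring
      rw [hu, this]; simp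
    set PA := ∏ j ∈ Finset.range (m + 1), A j with hPA
    set PB := ∏ j ∈ Finset.range m, B (j + 1) with hPB
    set Q := ∏ i ∈ Finset.range (m + 1), (q₀ ^ 2) ^ i with hQ
    have hPApos : 0 < PA := Finset.prod_pos (fun j _ => hApos j)
    rw [hGf, hBs, hq1] at h
    -- cancel `PA * (q₀ - 1) * (q₀ + 1)`
    have h1 : (PA * ((q₀ - 1) * (q₀ + 1))) * (r * q₀ ^ ((m + 1) * (m + 1 - 1) / 2)) ∣
        (PA * ((q₀ - 1) * (q₀ + 1))) * (Q * PB) := by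
      have e1 : r * (q₀ ^ ((m + 1) * (m + 1 - 1) / 2) * PA) * ((q₀ - 1) * (q₀ + 1)) =
          (PA * ((q₀ - 1) * (q₀ + 1))) * (r * q₀ ^ ((m + 1) * (m + 1 - 1) / 2)) := by ring
      have e2 : Q * (PA * ((q₀ - 1) * PB)) * (q₀ + 1) =
          (PA * ((q₀ - 1) * (q₀ + 1))) * (Q * PB) := by ring
      rw [← e1, ← e2]
      exact h
    have hpos : 0 < PA * ((q₀ - 1) * (q₀ + 1)) := by
      apply Nat.mul_pos hPApos
      apply Nat.mul_pos <;> omega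
    have h2 := Nat.dvd_of_mul_dvd_mul_left hpos h1
    have h3 : r ∣ Q * PB := dvd_trans (Dvd.intro _ rfl) h2
    rcases (Nat.Prime.dvd_mul hr).mp h3 with h4 | h4
    · obtain ⟨i, -, hi⟩ := (Prime.dvd_finsetProd_iff hr.prime _).mp h4
      exact hrq (hr.dvd_of_dvd_pow (hr.dvd_of_dvd_pow hi))
    · obtain ⟨j, -, hjd⟩ := (Prime.dvd_finsetProd_iff hr.prime _).mp h4
      apply hodd (j + 1 + 1)
      rw [ha]
      exact neg_pow_eq_neg_one_of_dvd q₀ r (j + 1) (by omega) hjd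

end Cfsg.Agent.Lib.Helper49.SLU
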