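/-
Glue for S5982 (K-SLU pack, architect helper49): `SL_n(q)`, `q = q₀²`, versus the similarity group `CU(f)` of a
nondegenerate unitary form.  Leaves by helper27, helper4, helper86, helper23, helper20, helper89 (and helper42),
helper80, helper84, helper81 and helper49.
-/
import Mathlib
import Cfsg.Prelude.Def_Classical
import Cfsg.Prelude.Def_LieClassical
import Cfsg.Prelude.Def_GeometricClasses
import Cfsg.Agent.Lib.Helper49.SLUDefs
import Cfsg.Agent.Lib.Helper49.SLU3
import Cfsg.Agent.Lib.Helper49.SLU9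
import Cfsg.Agent.Lib.Helper49.UPairIndex
import Cfsg.Agent.Lib.Helper80.AschUONB
import Cfsg.Agent.Lib.Helper82.SLO11
import Cfsg.Agent.Lib.Helper02.SLO4
import Cfsg.Agent.Lib.Helper07.SLCard
import Cfsg.Agent.S2569
import Cfsg.Agent.Lib.Helper27.SLU1
import Cfsg.Agent.Lib.Helper04.SLU2
import Cfsg.Agent.Lib.Helper86.SLU4
import Cfsg.Agent.Lib.Helper23.SLU5
import Cfsg.Agent.Lib.Helper20.SLU6
import Cfsg.Agent.Lib.Helper89.SLU7
import Cfsg.Agent.Lib.Helper80.SLU8
import Cfsg.Agent.Lib.Helper84.SLU10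
import Cfsg.Agent.Lib.Helper81.SLU11

set_option autoImplicit false

namespace Cfsg.Agent.Lib.Helper49.SLUGlue

open Matrix Cfsg.Agent.Lib.Helper49.SLU

/-! ## Glue for S5982 -/

section Glue

variable {F : Type*} [Field F] [Fintype F]

theorem specialLinear_normal (n : ℕ) : (Cfsg.Geo.specialLinear (Fin n) F).Normal := by
  unfold Cfsg.Geo.specialLinear
  infer_instance

/-- `SL`-conjugacy from `GL`-conjugacy for elements of order prime to `p` -/
theorem sl_conj_of_gl_conj {p : ℕ} [Fact p.Prime] [CharP F p] (n : ℕ)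
    (H : Subgroup (GL (Fin n) F)) (x : GL (Fin n) F) (hx : (orderOf x).Coprime p)
    (h : ∃ g : GL (Fin n) F, g⁻¹ * x * g ∈ H) :
    ∃ g ∈ Cfsg.Geo.specialLinear (Fin n) F, g⁻¹ * x * g ∈ H := by
  obtain ⟨g, hg⟩ := h
  obtain ⟨h, hdet, hh⟩ := Cfsg.Agent.S2569.result x g⁻¹ hx
  refine ⟨h⁻¹, ?_, ?_⟩
  · apply Subgroup.inv_mem
    unfold Cfsg.Geo.specialLinear
    rw [MonoidHom.mem_ker]
    apply Units.ext
    rw [Matrix.GeneralLinearGroup.val_det_apply, hdet]
    rfl
  · rw [inv_inv, hh, inv_inv]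
    exact hg

/-- an element with `x ^ k` scalar has order prime to `p` when `p ∤ k` -/
theorem orderOf_coprime {p : ℕ} [Fact p.Prime] [CharP F p] (n : ℕ) (x : GL (Fin n) F) (k : ℕ)
    (hk : ¬ p ∣ k) (z : F)
    (hz : ((x ^ k : GL (Fin n) F) : Matrix (Fin n) (Fin n) F) =
      z • (1 : Matrix (Fin n) (Fin n) F)) (hn : 1 ≤ n) : (orderOf x).Coprime p := by
  have hp : p.Prime := Fact.out
  have hz0 : z ≠ 0 := by
    intro h0
    rw [h0, zero_smul] at hz
    have h1 : ((x ^ k : GL (Fin n) F) : Matrix (Fin n) (Fin n) F).det ≠ 0 := by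
      have := (Matrix.isUnit_iff_isUnit_det _).mp (x ^ k).isUnit
      exact this.ne_zero
    have : Nonempty (Fin n) := ⟨⟨0, by omega⟩⟩
    rw [hz, Matrix.det_zero] at h1
    exact h1 rfl
  have h1 : x ^ (k * (Fintype.card F - 1)) = 1 := by
    apply Units.ext
    rw [pow_mul, Units.val_pow_eq_pow_val, hz, smul_pow, one_pow,
      FiniteField.pow_card_sub_one_eq_one z hz0, one_smul]
    rfl
  have h2 : orderOf x ∣ k * (Fintype.card F - 1) := orderOf_dvd_of_pow_eq_one h1
  apply Nat.Coprime.symm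
  apply (Nat.Prime.coprime_iff_not_dvd hp).mpr
  intro h3
  have h4 : p ∣ k * (Fintype.card F - 1) := dvd_trans h3 h2
  rcases (Nat.Prime.dvd_mul hp).mp h4 with h5 | h5
  · exact hk h5
  · obtain ⟨f, hf⟩ := FiniteField.card F p
    have h6 : p ∣ Fintype.card F := by
      rw [hf.2]
      exact dvd_pow_self p f.ne_zero
    have h7 : 1 ≤ Fintype.card F := Fintype.card_pos
    have h8 : p ∣ 1 := by
      have := (Nat.dvd_sub (h6) h5)
      rwa [Nat.sub_sub_self h7] at this
    exact hp.one_lt.ne' (Nat.dvd_one.mp h8)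

theorem s5982 {p : ℕ} [Fact p.Prime] [CharP F p] {q : ℕ} (hq : Fintype.card F = q)
    (q₀ : ℕ) (hq₀ : q = q₀ ^ 2) (n : ℕ) (hn : 3 ≤ n) (f : (Fin n → F) → (Fin n → F) → F)
    (hf : Cfsg.Geo.IsUnitaryFormPow q₀ f)
    (r : ℕ) [Fact r.Prime] (hr : r = 2 ∨ r ≠ p) (hgap : ¬ (n = 6 ∧ r = 3))
    (hΩ : r ∣ (Cfsg.Geo.similarityGroup f).relIndex (Cfsg.Geo.specialLinear (Fin n) F)) :
    (∀ x ∈ Cfsg.Geo.specialLinear (Fin n) F,
      (∃ z : F, ((x ^ r : GL (Fin n) F) : Matrix (Fin n) (Fin n) F) =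
        z • (1 : Matrix (Fin n) (Fin n) F)) →
      (∀ z : F, (x : Matrix (Fin n) (Fin n) F) ≠ z • (1 : Matrix (Fin n) (Fin n) F)) →
      ∃ g ∈ Cfsg.Geo.specialLinear (Fin n) F, g⁻¹ * x * g ∈ Cfsg.Geo.similarityGroup f) ↔
    ((r = 2 ∧ (p = 2 ∨ padicValNat 2 n ≤ padicValNat 2 (q - 1))) ∨
      ((r = 3 ∨ r = 5) ∧ n = r ∧ padicValNat r (q₀ - 1) = 1)) := by
  classical
  have hrP : r.Prime := Fact.out
  have hp : p.Prime := Fact.out
  have hF : Fintype.card F = q₀ ^ 2 := by rw [hq, hq₀]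
  have hq₀2 : 2 ≤ q₀ := by
    have h1 : 1 < Fintype.card F := Fintype.one_lt_card
    rw [hF] at h1
    by_contra hlt
    have : q₀ = 0 ∨ q₀ = 1 := by omega
    rcases this with h | h <;> rw [h] at h1 <;> norm_num at h1
  haveI hSLn : (Cfsg.Geo.specialLinear (Fin n) F).Normal := specialLinear_normal n
  obtain ⟨B, hB⟩ := Cfsg.Agent.Lib.Helper80.AschU.exists_orthonormal_matrix hF f hf
  have hto : ∀ x g : GL (Fin n) F, g⁻¹ * x * g ∈ Cfsg.Geo.similarityGroup f →
      (g * B)⁻¹ * x * (g * B) ∈ CUh n F q₀ := by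
    intro x g h
    have h1 := conj_mem_of_comp f _ B hB _ h
    have e : (g * B)⁻¹ * x * (g * B) = B⁻¹ * (g⁻¹ * x * g) * B := by group
    rw [e]
    exact h1
  have hfrom : ∀ x g : GL (Fin n) F, g⁻¹ * x * g ∈ CUh n F q₀ →
      (g * B⁻¹)⁻¹ * x * (g * B⁻¹) ∈ Cfsg.Geo.similarityGroup f := by
    intro x g h
    have h1 := conj_mem_of_comp' f _ B hB _ h
    have e : (g * B⁻¹)⁻¹ * x * (g * B⁻¹) = B * (g⁻¹ * x * g) * B⁻¹ := by group
    rw [e]
    exact h1
  have hΩ' : r ∣ (CUh n F q₀).relIndex (Cfsg.Geo.specialLinear (Fin n) F) := by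
    rw [similarityGroup_eq_map f _ B hB, relIndex_conj] at hΩ
    exact hΩ
  have hpq₀ : p ∣ q₀ := by
    obtain ⟨e, he⟩ := FiniteField.card F p
    have h1 : p ∣ q₀ ^ 2 := by
      rw [← hF, he.2]
      exact dvd_pow_self p e.ne_zero
    exact hp.dvd_of_dvd_pow h1
  have h2F_of : p ≠ 2 → (2 : F) ≠ 0 := by
    intro hp2 h
    have h1 : ((2 : ℕ) : F) = 0 := by exact_mod_cast h
    rw [CharP.cast_eq_zero_iff F p] at h1
    exact hp2 ((Nat.prime_dvd_prime_iff_eq hp Nat.prime_two).mp h1)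
  constructor
  · -- `⇒`
    intro hall
    have key : (∃ x : GL (Fin n) F, x ∈ Cfsg.Geo.specialLinear (Fin n) F ∧
        (∃ z : F, ((x ^ r : GL (Fin n) F) : Matrix (Fin n) (Fin n) F) =
          z • (1 : Matrix (Fin n) (Fin n) F)) ∧
        (∀ z : F, (x : Matrix (Fin n) (Fin n) F) ≠ z • (1 : Matrix (Fin n) (Fin n) F)) ∧
        ∀ g : GL (Fin n) F, g⁻¹ * x * g ∉ CUh n F q₀) → False := by
      rintro ⟨x, hxS, hxr, hxns, hder⟩
      obtain ⟨g, -, hg⟩ := hall x hxS hxr hxns
      exact hder _ (hto x g hg)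
    have key1 : (∃ x : GL (Fin n) F, x ∈ Cfsg.Geo.specialLinear (Fin n) F ∧ x ^ r = 1 ∧
        (∀ z : F, (x : Matrix (Fin n) (Fin n) F) ≠ z • (1 : Matrix (Fin n) (Fin n) F)) ∧
        ∀ g : GL (Fin n) F, g⁻¹ * x * g ∉ CUh n F q₀) → False := by
      rintro ⟨x, hxS, hxr, hxns, hder⟩
      exact key ⟨x, hxS, ⟨1, by rw [hxr, one_smul]; rfl⟩, hxns, hder⟩
    by_cases hr2 : r = 2
    · subst hr2
      left
      refine ⟨rfl, ?_⟩
      by_contra hc
      rw [not_or, not_le] at hc
      obtain ⟨hp2, hv⟩ := hc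
      exact key (Cfsg.Agent.Lib.Helper20.SLU.derange_nonsq_u (h2F_of hp2) hF n (by omega) (by rw [hq]; exact hv))
    · right
      have hrp : r ≠ p := hr.resolve_left hr2
      by_contra hspec
      have hrq₀ : ¬ r ∣ q₀ := by
        intro h
        have h1 : r ∣ Fintype.card F := by rw [hF]; exact dvd_pow h two_ne_zero
        obtain ⟨e, he⟩ := FiniteField.card F p
        rw [he.2] at h1
        exact hrp ((Nat.prime_dvd_prime_iff_eq hrP hp).mp (hrP.dvd_of_dvd_pow h1))
      have hsqid : q₀ ^ 2 - 1 = (q₀ - 1) * (q₀ + 1) := by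
        obtain ⟨k, hk⟩ : ∃ k, q₀ = k + 1 := ⟨q₀ - 1, by omega⟩
        have h1 : (k + 1) ^ 2 = k * (k + 1 + 1) + 1 := by ring
        rw [hk, h1]; simp
      have hq1 : q₀ - 1 ≠ 0 := by omega
      by_cases hrq1 : r ∣ q₀ - 1
      · have hpair : DiagPairing (F := F) n q₀ := Cfsg.Agent.Lib.Helper27.SLU.herm_diag_pairing hF n
        have hv1 : 1 ≤ padicValNat r (q₀ - 1) := one_le_padicValNat_of_dvd hq1 hrq1
        have hsq : (r = 3 ∨ r = 5) → n = r → r ^ 2 ∣ q₀ - 1 := by
          intro h35 hnr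
          have hv : padicValNat r (q₀ - 1) ≠ 1 := fun h => hspec ⟨h35, hnr, h⟩
          exact (padicValNat_dvd_iff_le hq1).mpr (by omega)
        by_cases hr3 : r = 3
        · by_cases hn3 : n = 3
          · have h9 := hsq (Or.inl hr3) (by rw [hn3, hr3])
            subst hr3
            subst hn3
            exact key (Cfsg.Agent.Lib.Helper89.SLU.derange_split_sq_u hF 3 hr2 hpair h9)
          · subst hr3
            exact key1 (Cfsg.Agent.Lib.Helper89.SLU.derange_split_three_u hF n (by omega) (fun h => hgap ⟨h, rfl⟩) hpair hrq1)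
        · by_cases h55 : n = 5 ∧ r = 5
          · obtain ⟨hn5, hr5⟩ := h55
            have h25 := hsq (Or.inr hr5) (by rw [hn5, hr5])
            subst hr5
            subst hn5
            exact key (Cfsg.Agent.Lib.Helper89.SLU.derange_split_sq_u hF 5 hr2 hpair h25)
          · have hr5 : 5 ≤ r := by
              have h2 := hrP.two_le
              by_contra hlt
              have : r = 2 ∨ r = 3 ∨ r = 4 := by omega
              rcases this with h | h | h
              · exact hr2 h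
              · exact hr3 h
              · rw [h] at hrP
                exact absurd hrP (by decide)
            exact key1 (Cfsg.Agent.Lib.Helper89.SLU.derange_split_gen_u hF n hn hpair r hr5 hrq1 h55)
      · by_cases hj : ∃ j : ℕ, ((q₀ ^ 2 : ℕ) : ZMod r) ^ j = -((q₀ : ℕ) : ZMod r)
        · have h1 := Cfsg.Agent.Lib.Helper81.SLU.relIndex_dvd_u hF n (by omega)
          have h2 : r * Nat.card (Cfsg.GU n F q₀) * (q₀ ^ 2 - 1) ∣
              Nat.card (GL (Fin n) F) * (q₀ + 1) :=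
            dvd_trans (Nat.mul_dvd_mul_right (Nat.mul_dvd_mul_right hΩ' _) _) h1
          rw [Cfsg.Agent.Lib.Helper49.card_GU_eq hF n] at h2
          have hG : Nat.card (GL (Fin n) F) =
              ∏ j : Fin n, ((q₀ ^ 2) ^ n - (q₀ ^ 2) ^ (j : ℕ)) := by
            rw [Matrix.card_GL_field, hF]
          exact Cfsg.Agent.Lib.Helper49.SLU.arith_index_u q₀ r n _ hq₀2 hrP hr2 hrq₀ hj hG h2
        · rw [not_exists] at hj
          have hrqF : ¬ r ∣ Fintype.card F - 1 := by
            intro h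
            rw [hF, hsqid] at h
            rcases (Nat.Prime.dvd_mul hrP).mp h with h1 | h1
            · exact hrq1 h1
            · apply hj 0
              rw [pow_zero]
              have h2 : ((q₀ + 1 : ℕ) : ZMod r) = 0 := (ZMod.natCast_eq_zero_iff _ _).mpr h1
              push_cast at h2
              linear_combination h2
          obtain ⟨i, hi⟩ : ∃ i, i = orderOf ((q₀ ^ 2 : ℕ) : ZMod r) := ⟨_, rfl⟩
          have hS : (q₀ ^ 2 - 1) * Nat.card (Cfsg.Geo.specialLinear (Fin n) F) =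
              ∏ j : Fin n, ((q₀ ^ 2) ^ n - (q₀ ^ 2) ^ (j : ℕ)) := by
            have h1 := Cfsg.Agent.Lib.Helper07.card_sl_mul (F := F) n (by omega)
            rw [Cfsg.Agent.Lib.Helper07.card_sl_eq_card_ker_det, hF] at h1
            exact h1
          have hrS : r ∣ Nat.card (Cfsg.Geo.specialLinear (Fin n) F) :=
            dvd_trans hΩ' (Subgroup.relIndex_dvd_card _ _)
          have hrq2 : ¬ r ∣ q₀ ^ 2 := fun h => hrq₀ (hrP.dvd_of_dvd_pow h)
          have hin : i ≤ n := by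
            rw [hi]
            exact Cfsg.Agent.Lib.Helper02.SLO.order_le_of_dvd (q₀ ^ 2) r n _ (by nlinarith) hrP
              hrq2 (by omega) hS hrS
          have hGU : ∀ y : GL (Fin n) F, y ∈ Cfsg.GU n F q₀ → y ^ r = 1 → y ≠ 1 →
              Module.finrank F (LinearMap.range
                (Matrix.toLin' ((y : Matrix (Fin n) (Fin n) F) - 1))) = i → False := by
            intro y hy hyr hy1 hfr
            have h1 := Cfsg.Agent.Lib.Helper80.SLU.dvd_card_GU_of_block hF n y hy r hrp hyr hy1 i hfr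
            rw [Cfsg.Agent.Lib.Helper49.card_GU_eq hF i] at h1
            exact Cfsg.Agent.Lib.Helper49.SLU.arith_block_u q₀ r i hq₀2 hrP hr2 hrq₀ hi hj h1
          exact key1 (Cfsg.Agent.Lib.Helper84.SLU.derange_block_u hF n (by omega) r hr2 hrp hrqF i hi hin hGU)
  · -- `⇐`
    rintro (⟨hr2, hpv⟩ | ⟨hr35, hnr, hv⟩)
    · subst hr2
      intro x hxS hx2 _
      obtain ⟨z, hz⟩ := hx2
      by_cases hp2 : p = 2
      · subst hp2
        have hx'S : B⁻¹ * x * B ∈ Cfsg.Geo.specialLinear (Fin n) F := by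
          have := hSLn.conj_mem x hxS B⁻¹
          rwa [inv_inv] at this
        have hz' : (((B⁻¹ * x * B) ^ 2 : GL (Fin n) F) : Matrix (Fin n) (Fin n) F) =
            z • (1 : Matrix (Fin n) (Fin n) F) := by
          have e : (B⁻¹ * x * B) ^ 2 = B⁻¹ * x ^ 2 * B := by
            have h0 : B⁻¹ * x * B = B⁻¹ * x * (B⁻¹)⁻¹ := by rw [inv_inv]
            rw [h0, conj_pow, inv_inv]
          rw [e, Units.val_mul, Units.val_mul, hz, Matrix.mul_smul, Matrix.mul_one,
            Matrix.smul_mul, ← Units.val_mul, inv_mul_cancel, Units.val_one]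
        obtain ⟨k, hkS, hk⟩ := Cfsg.Agent.Lib.Helper04.SLU.invol_char_two_u hF n (by omega) (B⁻¹ * x * B) hx'S z hz'
        refine ⟨B * k * B⁻¹, hSLn.conj_mem k hkS B, ?_⟩
        have h1 := conj_mem_of_comp' f _ B hB _ hk
        have e : (B * k * B⁻¹)⁻¹ * x * (B * k * B⁻¹) = B * (k⁻¹ * (B⁻¹ * x * B) * k) * B⁻¹ := by
          group
        rw [e]
        exact h1
      · have h2F := h2F_of hp2
        have hv : padicValNat 2 n ≤ padicValNat 2 (Fintype.card F - 1) := by
          rw [hq]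
          exact hpv.resolve_left hp2
        obtain ⟨l, hl⟩ := Cfsg.Agent.Lib.Helper86.SLU.isSquare_of_sl h2F hF n (by omega) hv x hxS z hz
        have hz'' : ((x ^ 2 : GL (Fin n) F) : Matrix (Fin n) (Fin n) F) =
            (l ^ 2) • (1 : Matrix (Fin n) (Fin n) F) := by rw [hz, hl, pow_two]
        obtain ⟨g₁, hg₁⟩ := Cfsg.Agent.Lib.Helper49.SLU.invol_sq_u h2F hF n x l hz''
        exact sl_conj_of_gl_conj n _ x
          (orderOf_coprime n x 2
            (fun h => hp2 ((Nat.prime_dvd_prime_iff_eq hp Nat.prime_two).mp h)) z hz (by omega))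
          ⟨_, hfrom x g₁ hg₁⟩
    · subst hnr
      intro x hxS hxr _
      obtain ⟨z, hz⟩ := hxr
      have hr2 : n ≠ 2 := by rcases hr35 with h | h <;> omega
      have hsqid : q₀ ^ 2 - 1 = (q₀ - 1) * (q₀ + 1) := by
        obtain ⟨k, hk⟩ : ∃ k, q₀ = k + 1 := ⟨q₀ - 1, by omega⟩
        have h1 : (k + 1) ^ 2 = k * (k + 1 + 1) + 1 := by ring
        rw [hk, h1]; simp
      have hq1 : q₀ - 1 ≠ 0 := by omega
      have hrq1 : n ∣ q₀ - 1 := dvd_of_one_le_padicValNat (by omega)
      have hvF : padicValNat n (Fintype.card F - 1) = 1 := by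
        rw [hF, hsqid, padicValNat.mul hq1 (by omega), hv]
        have h0 : padicValNat n (q₀ + 1) = 0 := by
          apply padicValNat.eq_zero_of_not_dvd
          intro h
          have h2 : n ∣ (q₀ + 1) - (q₀ - 1) := Nat.dvd_sub h hrq1
          have e2 : (q₀ + 1) - (q₀ - 1) = 2 := by omega
          rw [e2] at h2
          have := Nat.le_of_dvd (by norm_num) h2
          rcases hr35 with h | h <;> omega
        omega
      have hz1 : z = 1 := Cfsg.Agent.Lib.Helper82.SLO.special_pow_eq_one n hr2 hvF x hxS z hz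
      have hxn : x ^ n = 1 := by
        apply Units.ext
        rw [hz, hz1, one_smul]
        rfl
      have hnp : ¬ p ∣ n := by
        intro h
        have h1 : p = n := (Nat.prime_dvd_prime_iff_eq hp hrP).mp h
        have h2 : p ∣ q₀ - (q₀ - 1) := Nat.dvd_sub hpq₀ (h1 ▸ hrq1)
        have e2 : q₀ - (q₀ - 1) = 1 := by omega
        rw [e2] at h2
        exact hp.one_lt.ne' (Nat.dvd_one.mp h2)
      obtain ⟨g₁, hg₁⟩ := Cfsg.Agent.Lib.Helper23.SLU.special_conj_u hF n hr35 hrq1 x hxS hxn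
      exact sl_conj_of_gl_conj n _ x (orderOf_coprime n x n hnp z hz (by omega))
        ⟨_, hfrom x g₁ hg₁⟩

end Glue

end Cfsg.Agent.Lib.Helper49.SLUGlue
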