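/-
K-SUB-1 (keystone 596501, pack S5965): Frobenius pairing for diagonal elements conjugate into the subfield
subgroup `F^× GL_n(F₀)`.  Method of Helper27.SLU1: a non-zero term of the determinant of `P = g * (g⁻¹)^φ`.
-/
import Mathlib
import Cfsg.Prelude.Def_Classical
import Cfsg.Prelude.Def_GeometricClasses
import Cfsg.Agent.Lib.Helper49.SUBDefs
import Cfsg.Agent.Lib.Helper27.SLU1

set_option autoImplicit false

namespace Cfsg.Agent.Lib.Helper49.SUB

open Matrix

variable {F : Type*} [Field F] [Fintype F]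

/-- the ring endomorphism `a ↦ a ^ q₀` of `F`, `q₀ = |F₀|` -/
theorem exists_frob (F₀ : Subfield F) {q₀ : ℕ} (hF₀ : Nat.card ↥F₀ = q₀) :
    ∃ φ : F →+* F, ∀ a, φ a = a ^ q₀ := by
  obtain ⟨p, hp⟩ := CharP.exists F
  have : Fact p.Prime := ⟨CharP.char_is_prime F p⟩
  have : CharP ↥F₀ p := RingHom.charP F₀.subtype F₀.subtype_injective p
  have : Fintype ↥F₀ := Fintype.ofFinite _
  obtain ⟨e, -, he⟩ := FiniteField.card ↥F₀ p
  rw [← Nat.card_eq_fintype_card, hF₀] at he
  refine ⟨iterateFrobenius F p e, fun a => ?_⟩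
  rw [iterateFrobenius_def, he]

theorem frob_pairing [DecidableEq F] (F₀ : Subfield F) {q₀ : ℕ} (hF₀ : Nat.card ↥F₀ = q₀) (n : ℕ) :
    FrobPairing F₀ n q₀ := by
  intro x g d hx hmem
  obtain ⟨φ, hφ⟩ := exists_frob F₀ hF₀
  rw [mem_HS_iff] at hmem
  obtain ⟨A, hA, c', hc'⟩ := hmem
  have hq₀1 : 1 ≤ q₀ := by
    rw [← hF₀]
    exact Nat.card_pos
  -- entries of `A` are fixed by `φ`
  have hAφ : (A : Matrix (Fin n) (Fin n) F).map φ = (A : Matrix (Fin n) (Fin n) F) := by
    ext i j
    rw [Matrix.map_apply, hφ]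
    have hmem := Cfsg.Agent.Lib.Helper49.entries_of_mem_range_map F₀ A hA i j
    by_cases h0 : (A : Matrix (Fin n) (Fin n) F) i j = 0
    · rw [h0, zero_pow (by omega)]
    · have h1 := Cfsg.Agent.Lib.Helper49.subfield_pow_card_sub_one F₀ hF₀ hmem h0
      calc (A : Matrix (Fin n) (Fin n) F) i j ^ q₀
          = (A : Matrix (Fin n) (Fin n) F) i j ^ (q₀ - 1 + 1) := by
            congr 1; omega
        _ = (A : Matrix (Fin n) (Fin n) F) i j := by rw [pow_succ, h1, one_mul]
  set G : Matrix (Fin n) (Fin n) F := (g : Matrix (Fin n) (Fin n) F) with hG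
  set B : Matrix (Fin n) (Fin n) F := ((g⁻¹ : GL (Fin n) F) : Matrix (Fin n) (Fin n) F) with hB
  set X : Matrix (Fin n) (Fin n) F := Matrix.diagonal d with hX
  have hGB : G * B = 1 := by rw [hG, hB, ← Units.val_mul, mul_inv_cancel, Units.val_one]
  have hBG : B * G = 1 := by rw [hG, hB, ← Units.val_mul, inv_mul_cancel, Units.val_one]
  have hY : B * X * G = (c' : F) • (A : Matrix (Fin n) (Fin n) F) := by
    rw [← hc', Units.val_mul, Units.val_mul, hx]
  have hYφ : B.map φ * X.map φ * G.map φ = φ (c' : F) • (A : Matrix (Fin n) (Fin n) F) := by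
    rw [← Matrix.map_mul, ← Matrix.map_mul, hY]
    ext i j
    rw [Matrix.map_apply, Matrix.smul_apply, Matrix.smul_apply, smul_eq_mul, smul_eq_mul, map_mul]
    congr 1
    have := congrFun (congrFun hAφ i) j
    rw [Matrix.map_apply] at this
    exact this
  have e2 : G.map φ * B.map φ = 1 := by
    rw [← Matrix.map_mul, hGB, Matrix.map_one _ (map_zero φ) (map_one φ)]
  have e3 : B.map φ * G.map φ = 1 := by
    rw [← Matrix.map_mul, hBG, Matrix.map_one _ (map_zero φ) (map_one φ)]
  have hc0 : (c' : F) ≠ 0 := c'.ne_zero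
  have hφc0 : φ (c' : F) ≠ 0 := by
    rw [hφ]; exact pow_ne_zero _ hc0
  -- the key identity `c' • (P * X^φ) = φ c' • (X * P)` with `P = G * B^φ`
  have hkey : (c' : F) • (G * B.map φ * X.map φ) = φ (c' : F) • (X * (G * B.map φ)) := by
    have h1 : (c' : F) • (B.map φ * X.map φ * G.map φ) = φ (c' : F) • (B * X * G) := by
      rw [hYφ, hY, smul_smul, smul_smul, mul_comm]
    calc (c' : F) • (G * B.map φ * X.map φ)
        = G * ((c' : F) • (B.map φ * X.map φ * G.map φ)) * B.map φ := by
          rw [Matrix.mul_smul, Matrix.smul_mul]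
          congr 1
          calc G * B.map φ * X.map φ
              = G * B.map φ * X.map φ * (G.map φ * B.map φ) := by rw [e2, Matrix.mul_one]
            _ = G * (B.map φ * X.map φ * G.map φ) * B.map φ := by simp only [Matrix.mul_assoc]
      _ = G * (φ (c' : F) • (B * X * G)) * B.map φ := by rw [h1]
      _ = φ (c' : F) • (X * (G * B.map φ)) := by
          rw [Matrix.mul_smul, Matrix.smul_mul]
          congr 1
          calc G * (B * X * G) * B.map φ = (G * B) * X * (G * B.map φ) := by
                simp only [Matrix.mul_assoc]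
            _ = X * (G * B.map φ) := by rw [hGB, Matrix.one_mul]
  have hPdet : (G * B.map φ).det ≠ 0 := by
    have h1 : (G * B.map φ) * (G.map φ * B) = 1 := by
      calc (G * B.map φ) * (G.map φ * B) = G * (B.map φ * G.map φ) * B := by
            simp only [Matrix.mul_assoc]
        _ = 1 := by rw [e3, Matrix.mul_one, hGB]
    intro h0
    have h2 := congrArg Matrix.det h1
    rw [Matrix.det_mul, h0, zero_mul, Matrix.det_one] at h2
    exact zero_ne_one h2
  obtain ⟨π, hπ⟩ := Cfsg.Agent.Lib.Helper27.SLU.exists_perm_ne_zero _ hPdet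
  set c : F := (c' : F) / φ (c' : F) with hc
  have hcne : c ≠ 0 := div_ne_zero hc0 hφc0
  have hXφ : X.map φ = Matrix.diagonal (fun j => d j ^ q₀) := by
    rw [hX, Matrix.diagonal_map (map_zero φ)]
    congr 1
    funext k
    exact hφ (d k)
  have hpair : ∀ j, d (π j) = c * d j ^ q₀ := by
    intro j
    have h1 := congrFun (congrFun hkey (π j)) j
    rw [hXφ, hX, Matrix.smul_apply, Matrix.smul_apply, Matrix.mul_diagonal, Matrix.diagonal_mul,
      smul_eq_mul, smul_eq_mul] at h1
    have h2 : ((c' : F) * d j ^ q₀ - φ (c' : F) * d (π j)) * (G * B.map φ) (π j) j = 0 := by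
      linear_combination h1
    rcases mul_eq_zero.mp h2 with h3 | h3
    · rw [hc, div_mul_eq_mul_div, eq_div_iff hφc0]
      linear_combination -h3
    · exact absurd h3 (hπ j)
  refine ⟨c, hcne, ?_⟩
  -- the inequality
  have hle : ∀ α : F, (Finset.univ.filter fun j : Fin n => d j = α).card ≤
      (Finset.univ.filter fun j : Fin n => d j = c * α ^ q₀).card := by
    intro α
    apply Finset.card_le_card_of_injOn π
    · intro j hj
      rw [Finset.mem_coe, Finset.mem_filter] at hj ⊢
      exact ⟨Finset.mem_univ _, by rw [hpair j, hj.2]⟩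
    · exact fun a _ b _ hab => π.injective hab
  -- `T α = c * α ^ q₀` is a bijection
  have hTinj : Function.Injective (fun α : F => c * α ^ q₀) := by
    intro a b hab
    have h1 : a ^ q₀ = b ^ q₀ := mul_left_cancel₀ hcne hab
    rw [← hφ, ← hφ] at h1
    exact φ.injective h1
  have hTbij : Function.Bijective (fun α : F => c * α ^ q₀) :=
    Finite.injective_iff_bijective.mp hTinj
  have hsum1 : ∑ α : F, (Finset.univ.filter fun j : Fin n => d j = α).card = n := by
    have := Finset.card_eq_sum_card_fiberwise (f := d) (s := (Finset.univ : Finset (Fin n)))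
      (t := (Finset.univ : Finset F)) (fun _ _ => Finset.mem_univ _)
    rw [Finset.card_univ, Fintype.card_fin] at this
    exact this.symm
  have hsum2 : ∑ α : F, (Finset.univ.filter fun j : Fin n => d j = c * α ^ q₀).card = n := by
    refine Eq.trans ?_ hsum1
    exact (Equiv.ofBijective _ hTbij).sum_comp
      (fun β : F => (Finset.univ.filter fun j : Fin n => d j = β).card)
  have hall := (Finset.sum_eq_sum_iff_of_le (s := (Finset.univ : Finset F))
    (fun α _ => hle α)).mp (hsum1.trans hsum2.symm)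
  intro α
  exact (hall α (Finset.mem_univ _)).symm

end Cfsg.Agent.Lib.Helper49.SUB
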