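/-
Glue for S5965 (K-SUB pack, architect helper49): `SL_n(q)`, `q = q₀ ^ k`, versus the subfield subgroup
`F^× GL_n(q₀)`, odd primes `r ≠ p`.  Leaves by helper82, helper84, helper29, helper62, helper56, helper48,
helper74, helper22 and helper49 (also delivered in parallel by helper40).
-/
import Mathlib
import Cfsg.Prelude.Def_Classical
import Cfsg.Prelude.Def_GeometricClasses
import Cfsg.Agent.Lib.Helper49.SUBDefs
import Cfsg.Agent.Lib.Helper49.SUB1
import Cfsg.Agent.Lib.Helper49.SUB7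
import Cfsg.Agent.Lib.Helper49.SLOGlue
import Cfsg.Agent.Lib.Helper07.SLCard
import Cfsg.Agent.Lib.Helper02.SLO4
import Cfsg.Agent.Lib.Helper82.SLO11
import Cfsg.Agent.S2569
import Cfsg.Agent.Lib.Helper82.SUB2
import Cfsg.Agent.Lib.Helper84.SUB3
import Cfsg.Agent.Lib.Helper29.SUB4
import Cfsg.Agent.Lib.Helper62.SUB5
import Cfsg.Agent.Lib.Helper56.SUB6
import Cfsg.Agent.Lib.Helper22.SUB8
import Cfsg.Agent.Lib.Helper48.SUB9
import Cfsg.Agent.Lib.Helper74.SUB10

set_option autoImplicit false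

namespace Cfsg.Agent.Lib.Helper49.SUBGlue

open Matrix Polynomial Cfsg.Agent.Lib.Helper49.SUB

/-! ## Glue for S5965 -/

section Glue

variable {F : Type*} [Field F] [Fintype F]

/-- the scalar matrix `c • 1` as an element of `GL` -/
noncomputable def scalarGL (n : ℕ) (c : Fˣ) : GL (Fin n) F :=
  Units.map (Matrix.scalar (Fin n) : F →+* Matrix (Fin n) (Fin n) F).toMonoidHom c

omit [Fintype F] in
theorem scalarGL_val (n : ℕ) (c : Fˣ) :
    ((scalarGL n c : GL (Fin n) F) : Matrix (Fin n) (Fin n) F) =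
      (c : F) • (1 : Matrix (Fin n) (Fin n) F) := by
  unfold scalarGL
  simp [Matrix.smul_one_eq_diagonal]

/-- passage from `GL`-conjugacy into `HS` to the statement about `SL` -/
theorem sl_conj_of_gl_conj_sub {p : ℕ} [Fact p.Prime] [CharP F p] (F₀ : Subfield F)
    (n : ℕ) (x : Matrix.SpecialLinearGroup (Fin n) F)
    (hx : (orderOf (Matrix.SpecialLinearGroup.toGL x : GL (Fin n) F)).Coprime p)
    (h : ∃ g : GL (Fin n) F, g⁻¹ * (Matrix.SpecialLinearGroup.toGL x : GL (Fin n) F) * g ∈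
      HS F₀ n) :
    ∃ P : Matrix.SpecialLinearGroup (Fin n) F, P⁻¹ * x * P ∈ (HS F₀ n).comap
      (Matrix.SpecialLinearGroup.toGL :
        Matrix.SpecialLinearGroup (Fin n) F →* GL (Fin n) F) := by
  obtain ⟨g, hg⟩ := h
  obtain ⟨h, hdet, hh⟩ := Cfsg.Agent.S2569.result
    (Matrix.SpecialLinearGroup.toGL x : GL (Fin n) F) g⁻¹ hx
  have hmem : h⁻¹ ∈ Cfsg.Geo.specialLinear (Fin n) F := by
    apply Subgroup.inv_mem
    unfold Cfsg.Geo.specialLinear
    rw [MonoidHom.mem_ker]
    apply Units.ext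
    rw [Matrix.GeneralLinearGroup.val_det_apply, hdet]
    rfl
  obtain ⟨P, hP⟩ := exists_sl_of_mem h⁻¹ hmem
  refine ⟨P, ?_⟩
  rw [Subgroup.mem_comap, map_mul, map_mul, map_inv, hP, inv_inv, hh, inv_inv]
  exact hg

theorem s5965 {p : ℕ} [Fact p.Prime] [CharP F p] {q : ℕ} (hq : Fintype.card F = q)
    (n : ℕ) (hn : 2 ≤ n)
    (F₀ : Subfield F) (k q₀ : ℕ) (hk : k.Prime) (hF₀ : Nat.card ↥F₀ = q₀) (hqk : q = q₀ ^ k)
    (r : ℕ) [Fact r.Prime] (hr2 : r ≠ 2) (hrp : r ≠ p) (hgap : ¬ (n = 6 ∧ r = 3))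
    (hgapk : r = k → r ∣ q₀ - 1 → padicValNat r n ≤ padicValNat r (q - 1))
    (hΩ : r ∣ ((Cfsg.Geo.subfieldSubgroup F₀ 1).comap (Matrix.SpecialLinearGroup.toGL :
      Matrix.SpecialLinearGroup (Fin n) F →* GL (Fin n) F)).index) :
    (∀ x : Matrix.SpecialLinearGroup (Fin n) F,
      (∃ z : F, ((x ^ r : Matrix.SpecialLinearGroup (Fin n) F) : Matrix (Fin n) (Fin n) F) =
        z • (1 : Matrix (Fin n) (Fin n) F)) →
      (∀ z : F, (x : Matrix (Fin n) (Fin n) F) ≠ z • (1 : Matrix (Fin n) (Fin n) F)) →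
      ∃ P : Matrix.SpecialLinearGroup (Fin n) F, P⁻¹ * x * P ∈
        ((Cfsg.Geo.subfieldSubgroup F₀ 1).comap (Matrix.SpecialLinearGroup.toGL :
          Matrix.SpecialLinearGroup (Fin n) F →* GL (Fin n) F))) ↔
    (r = k ∨ (k = 2 ∧ r = n ∧ (n = 3 ∨ n = 5) ∧ padicValNat r (q₀ + 1) = 1)) := by
  classical
  have hrP : r.Prime := Fact.out
  have hp : p.Prime := Fact.out
  have hF : Fintype.card F = q₀ ^ k := by rw [hq, hqk]
  have hq₀2 : 2 ≤ q₀ := by
    rw [← hF₀]
    exact Finite.one_lt_card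
  have hq2 : 2 ≤ q := by rw [← hq]; exact Fintype.one_lt_card
  have hpr : ¬ p ∣ r := fun h => hrp ((Nat.prime_dvd_prime_iff_eq hp hrP).mp h).symm
  have hrq₀ : ¬ r ∣ q₀ := by
    intro h
    have h1 : r ∣ Fintype.card F := by rw [hF]; exact dvd_pow h hk.ne_zero
    obtain ⟨e, he⟩ := FiniteField.card F p
    rw [he.2] at h1
    exact hrp ((Nat.prime_dvd_prime_iff_eq hrP hp).mp (hrP.dvd_of_dvd_pow h1))
  have hbc : ∀ N : Matrix (Fin n) (Fin n) ↥F₀, (N.map F₀.subtype).rank = N.rank :=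
    fun N => Cfsg.Agent.Lib.Helper82.SUB.rank_map_field F₀.subtype N
  have hpair : ∀ m, FrobPairing F₀ m q₀ := fun m => Cfsg.Agent.Lib.Helper49.SUB.frob_pairing F₀ hF₀ m
  -- the coercions
  have hcoe : ∀ x : Matrix.SpecialLinearGroup (Fin n) F,
      ((Matrix.SpecialLinearGroup.toGL x : GL (Fin n) F) : Matrix (Fin n) (Fin n) F) =
        (x : Matrix (Fin n) (Fin n) F) := fun x => rfl
  have hcoepow : ∀ x : Matrix.SpecialLinearGroup (Fin n) F,
      (((Matrix.SpecialLinearGroup.toGL x : GL (Fin n) F) ^ r : GL (Fin n) F) :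
        Matrix (Fin n) (Fin n) F) =
        ((x ^ r : Matrix.SpecialLinearGroup (Fin n) F) : Matrix (Fin n) (Fin n) F) := by
    intro x
    rw [← map_pow]
    rfl
  constructor
  · -- `⇒`
    intro hall
    by_contra hcon
    rw [not_or] at hcon
    obtain ⟨hrk, hspec⟩ := hcon
    have key : (∃ x : GL (Fin n) F, x ∈ Cfsg.Geo.specialLinear (Fin n) F ∧
        (∃ z : F, ((x ^ r : GL (Fin n) F) : Matrix (Fin n) (Fin n) F) =
          z • (1 : Matrix (Fin n) (Fin n) F)) ∧
        (∀ z : F, (x : Matrix (Fin n) (Fin n) F) ≠ z • (1 : Matrix (Fin n) (Fin n) F)) ∧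
        ∀ g : GL (Fin n) F, g⁻¹ * x * g ∉ HS F₀ n) → False := by
      rintro ⟨x, hxS, hxr, hxns, hder⟩
      obtain ⟨X, hX⟩ := exists_sl_of_mem x hxS
      have h1 : ∃ z : F, ((X ^ r : Matrix.SpecialLinearGroup (Fin n) F) :
          Matrix (Fin n) (Fin n) F) = z • (1 : Matrix (Fin n) (Fin n) F) := by
        obtain ⟨z, hz⟩ := hxr
        refine ⟨z, ?_⟩
        rw [← hcoepow, hX]
        exact hz
      have h2 : ∀ z : F, (X : Matrix (Fin n) (Fin n) F) ≠ z • (1 : Matrix (Fin n) (Fin n) F) := by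
        intro z
        rw [← hcoe, hX]
        exact hxns z
      obtain ⟨P, hP⟩ := hall X h1 h2
      rw [Subgroup.mem_comap, map_mul, map_mul, map_inv, hX] at hP
      exact hder _ hP
    have key1 : (∃ x : GL (Fin n) F, x ∈ Cfsg.Geo.specialLinear (Fin n) F ∧ x ^ r = 1 ∧
        (∀ z : F, (x : Matrix (Fin n) (Fin n) F) ≠ z • (1 : Matrix (Fin n) (Fin n) F)) ∧
        ∀ g : GL (Fin n) F, g⁻¹ * x * g ∉ HS F₀ n) → False := by
      rintro ⟨x, hxS, hxr, hxns, hder⟩
      exact key ⟨x, hxS, ⟨1, by rw [hxr, one_smul]; rfl⟩, hxns, hder⟩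
    -- the orders
    have hS : (q₀ ^ k - 1) * Nat.card (Matrix.SpecialLinearGroup (Fin n) F) =
        ∏ j : Fin n, ((q₀ ^ k) ^ n - (q₀ ^ k) ^ (j : ℕ)) := by
      have h1 := Cfsg.Agent.Lib.Helper07.card_sl_mul (F := F) n (by omega)
      rw [hF] at h1
      exact h1
    have hS₀ : (q₀ - 1) * Nat.card (Matrix.SpecialLinearGroup (Fin n) ↥F₀) =
        ∏ j : Fin n, (q₀ ^ n - q₀ ^ (j : ℕ)) := by
      have : Fintype ↥F₀ := Fintype.ofFinite _
      have h1 := Cfsg.Agent.Lib.Helper07.card_sl_mul (F := ↥F₀) n (by omega)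
      rw [← Nat.card_eq_fintype_card, hF₀] at h1
      exact h1
    have hdvd := Cfsg.Agent.Lib.Helper48.SUB.index_mul_card_dvd F₀ n
    obtain ⟨hki₀, hn22⟩ := Cfsg.Agent.Lib.Helper74.SUB.arith_sub q₀ k r n _ _ _ hq₀2 hk hrP hr2 hrk hrq₀ hn hS₀ hS hΩ hdvd
    have hrS : r ∣ Nat.card (Matrix.SpecialLinearGroup (Fin n) F) :=
      dvd_trans hΩ (dvd_trans (Dvd.intro _ rfl) hdvd)
    obtain ⟨i₀, hi₀⟩ : ∃ i₀, i₀ = orderOf ((q₀ : ℕ) : ZMod r) := ⟨_, rfl⟩
    obtain ⟨i, hi⟩ : ∃ i, i = orderOf ((q₀ ^ k : ℕ) : ZMod r) := ⟨_, rfl⟩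
    have hi₀pos : 0 < i₀ := by
      rw [hi₀]
      apply orderOf_pos_iff.mpr
      rw [isOfFinOrder_iff_pow_eq_one]
      refine ⟨r - 1, by have := hrP.two_le; omega, ?_⟩
      apply ZMod.pow_card_sub_one_eq_one
      intro h0
      exact hrq₀ ((ZMod.natCast_eq_zero_iff q₀ r).mp h0)
    rw [← hi₀] at hki₀
    have hii₀ : i * k = i₀ := by
      rw [hi, hi₀, Nat.cast_pow, orderOf_pow' _ hk.ne_zero, ← hi₀,
        Nat.gcd_eq_right hki₀, Nat.div_mul_cancel hki₀]
    have hk2 : 2 ≤ k := hk.two_le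
    have hipos : 0 < i := by
      rcases Nat.eq_zero_or_pos i with h | h
      · rw [h, zero_mul] at hii₀
        omega
      · exact h
    have hlt : i < i₀ := by
      rw [← hii₀]
      nlinarith
    have hin : i ≤ n := by
      rw [hi]
      exact Cfsg.Agent.Lib.Helper02.SLO.order_le_of_dvd (q₀ ^ k) r n _
        (by rw [← hqk]; exact hq2) hrP
        (fun h => hrq₀ (hrP.dvd_of_dvd_pow h)) (by omega) hS hrS
    by_cases hi1 : i = 1
    · -- `r ∣ q - 1`
      have hrq1 : r ∣ Fintype.card F - 1 := by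
        rw [hF]
        rw [hi1] at hi
        have h1 := orderOf_eq_one_iff.mp hi.symm
        rw [← ZMod.natCast_eq_zero_iff, Nat.cast_sub (Nat.one_le_pow _ _ (by omega)), Nat.cast_one,
          sub_eq_zero]
        exact h1
      have hi₀k : i₀ = k := by rw [← hii₀, hi1, one_mul]
      have h1 : ¬ r ∣ q₀ - 1 := by
        intro h
        have h0 : ((q₀ : ℕ) : ZMod r) = 1 := by
          have := (ZMod.natCast_eq_zero_iff (q₀ - 1) r).mpr h
          rw [Nat.cast_sub (by omega : 1 ≤ q₀), Nat.cast_one, sub_eq_zero] at this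
          exact this
        have : i₀ = 1 := by rw [hi₀]; exact orderOf_eq_one_iff.mpr h0
        omega
      by_cases hk2' : k = 2
      · subst hk2'
        have hrq₀1 : r ∣ q₀ + 1 := by
          have h0 : ((q₀ : ℕ) : ZMod r) ^ 2 = 1 := by
            rw [← hi₀k, hi₀]
            exact pow_orderOf_eq_one _
          have h3 : r ∣ (q₀ - 1) * (q₀ + 1) := by
            rw [← ZMod.natCast_eq_zero_iff, Nat.cast_mul, Nat.cast_sub (by omega : 1 ≤ q₀),
              Nat.cast_add, Nat.cast_one]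
            linear_combination h0
          rcases (Nat.Prime.dvd_mul hrP).mp h3 with h | h
          · exact absurd h h1
          · exact h
        have hn3 : 3 ≤ n := by
          by_contra hlt3
          have hn2 : n = 2 := by omega
          exact hn22 hn2 rfl hrq₀1
        have hq₀1 : q₀ + 1 ≠ 0 := by omega
        by_cases hr3 : r = 3
        · subst hr3
          by_cases hn3' : n = 3
          · subst hn3'
            have hv : padicValNat 3 (q₀ + 1) ≠ 1 := fun h => hspec ⟨rfl, rfl, Or.inl rfl, h⟩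
            have hv2 : 2 ≤ padicValNat 3 (q₀ + 1) := by
              have h1 : 1 ≤ padicValNat 3 (q₀ + 1) := one_le_padicValNat_of_dvd hq₀1 hrq₀1
              omega
            have h9 : 3 ^ 2 ∣ q₀ + 1 := (padicValNat_dvd_iff_le hq₀1).mpr hv2
            exact key (Cfsg.Agent.Lib.Helper49.SUB.derange_split_sq_sub F₀ hF₀ hF 3 hr2 (hpair 3) h9)
          · exact key1 (Cfsg.Agent.Lib.Helper49.SUB.derange_split_three_sub F₀ hF₀ hF n (by omega)
              (fun h => hgap ⟨h, rfl⟩) (hpair n) hrq₀1)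
        · by_cases h55 : n = 5 ∧ r = 5
          · obtain ⟨hn5, hr5⟩ := h55
            subst hn5
            subst hr5
            have hv : padicValNat 5 (q₀ + 1) ≠ 1 := fun h => hspec ⟨rfl, rfl, Or.inr rfl, h⟩
            have hv2 : 2 ≤ padicValNat 5 (q₀ + 1) := by
              have h1 : 1 ≤ padicValNat 5 (q₀ + 1) := one_le_padicValNat_of_dvd hq₀1 hrq₀1
              omega
            have h25 : 5 ^ 2 ∣ q₀ + 1 := (padicValNat_dvd_iff_le hq₀1).mpr hv2
            exact key (Cfsg.Agent.Lib.Helper49.SUB.derange_split_sq_sub F₀ hF₀ hF 5 hr2 (hpair 5) h25)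
          · have hr5 : 5 ≤ r := by
              have h2 := hrP.two_le
              by_contra hlt5
              have : r = 2 ∨ r = 3 ∨ r = 4 := by omega
              rcases this with h | h | h
              · exact hr2 h
              · exact hr3 h
              · rw [h] at hrP
                exact absurd hrP (by decide)
            exact key1 (Cfsg.Agent.Lib.Helper49.SUB.derange_split_gen_sub F₀ hF₀ hF n hn3 (hpair n) r hr5 hrq₀1 h55)
      · -- `k ≥ 3`
        have hk3 : 3 ≤ k := by omega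
        have h2 : ¬ r ∣ q₀ + 1 := by
          intro h
          have h0 : ((q₀ : ℕ) : ZMod r) ^ 2 = 1 := by
            have h3 : (((q₀ + 1 : ℕ)) : ZMod r) = 0 := (ZMod.natCast_eq_zero_iff _ r).mpr h
            rw [Nat.cast_add, Nat.cast_one] at h3
            linear_combination (((q₀ : ℕ) : ZMod r) - 1) * h3
          have h3 : i₀ ∣ 2 := by rw [hi₀]; exact orderOf_dvd_of_pow_eq_one h0
          have := Nat.le_of_dvd (by norm_num) h3
          omega
        have hr5 : 5 ≤ r := by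
          have h3 : i₀ ∣ r - 1 := by
            rw [hi₀]
            apply orderOf_dvd_of_pow_eq_one
            apply ZMod.pow_card_sub_one_eq_one
            intro h0
            exact hrq₀ ((ZMod.natCast_eq_zero_iff q₀ r).mp h0)
          have h4 := Nat.le_of_dvd (by have := hrP.two_le; omega) h3
          by_contra hlt5
          have : r = 4 := by omega
          rw [this] at hrP
          exact absurd hrP (by decide)
        exact key1 (Cfsg.Agent.Lib.Helper56.SUB.derange_pair_sub F₀ hF₀ n hn (hpair n) r hr5 hrq1 h1 h2)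
    · -- `i > 1`
      have hi1' : 1 < i := by omega
      exact key1 (Cfsg.Agent.Lib.Helper62.SUB.derange_block_sub F₀ hF₀ hF n (by omega) hbc r hr2 hrp i hi hi1' hin
        (by rw [← hi₀]; exact hlt))
  · -- `⇐`
    rintro (hrk | ⟨hk2, hrn, hn35, hv⟩)
    · subst hrk
      intro x hxr _
      obtain ⟨z, hz⟩ := hxr
      have hzG : (((Matrix.SpecialLinearGroup.toGL x : GL (Fin n) F) ^ r : GL (Fin n) F) :
          Matrix (Fin n) (Fin n) F) = z • (1 : Matrix (Fin n) (Fin n) F) := by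
        rw [hcoepow]; exact hz
      apply sl_conj_of_gl_conj_sub F₀ n x
        (Cfsg.Agent.Lib.Helper49.SLOGlue.orderOf_coprime n _ r hpr z hzG (by omega))
      -- `z` is an `r`-th power
      have hvv : r ∣ Fintype.card F - 1 → padicValNat r n ≤ padicValNat r (Fintype.card F - 1) := by
        intro h
        rw [hq]
        apply hgapk rfl
        -- `q ≡ q₀ mod r`
        have h0 : ((q₀ ^ r : ℕ) : ZMod r) = 1 := by
          rw [hF] at h
          have := (ZMod.natCast_eq_zero_iff (q₀ ^ r - 1) r).mpr h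
          rw [Nat.cast_sub (Nat.one_le_pow _ _ (by omega)), Nat.cast_one, sub_eq_zero] at this
          exact this
        rw [Nat.cast_pow, ZMod.pow_card] at h0
        rw [← ZMod.natCast_eq_zero_iff, Nat.cast_sub (by omega : 1 ≤ q₀), Nat.cast_one, sub_eq_zero]
        exact h0
      obtain ⟨l, hl⟩ := Cfsg.Agent.Lib.Helper29.SUB.isPow_of_sl r hr2 n (by omega) hvv _ (toGL_mem_specialLinear x) z hzG
      have hz0 : z ≠ 0 := by
        intro h0
        rw [h0, zero_smul] at hzG
        have h1 : (((Matrix.SpecialLinearGroup.toGL x : GL (Fin n) F) ^ r : GL (Fin n) F) :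
            Matrix (Fin n) (Fin n) F).det ≠ 0 := by
          have := (Matrix.isUnit_iff_isUnit_det _).mp
            ((Matrix.SpecialLinearGroup.toGL x : GL (Fin n) F) ^ r).isUnit
          exact this.ne_zero
        rw [hzG] at h1
        have : Nonempty (Fin n) := ⟨⟨0, by omega⟩⟩
        exact h1 Matrix.det_zero
      have hl0 : l ≠ 0 := by
        intro h0
        rw [h0, zero_pow hrP.ne_zero] at hl
        exact hz0 hl.symm
      -- `y = l⁻¹ • x`
      let s : GL (Fin n) F := scalarGL n (Units.mk0 l⁻¹ (inv_ne_zero hl0))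
      have hsval : (s : Matrix (Fin n) (Fin n) F) = l⁻¹ • (1 : Matrix (Fin n) (Fin n) F) := by
        rw [scalarGL_val]; rfl
      let y : GL (Fin n) F := (Matrix.SpecialLinearGroup.toGL x : GL (Fin n) F) * s
      have hcomm : Commute (Matrix.SpecialLinearGroup.toGL x : GL (Fin n) F) s := by
        apply Units.ext
        rw [Units.val_mul, Units.val_mul, hsval, Matrix.mul_smul, Matrix.smul_mul, Matrix.mul_one,
          Matrix.one_mul]
      have hyr : y ^ r = 1 := by
        apply Units.ext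
        rw [hcomm.mul_pow, Units.val_mul, hzG, Units.val_pow_eq_pow_val, hsval, _root_.smul_pow, one_pow,
          Matrix.smul_mul, Matrix.mul_smul, Matrix.one_mul, smul_smul, inv_pow, hl,
          mul_inv_cancel₀ hz0, one_smul]
        rfl
      obtain ⟨g, hg⟩ := Cfsg.Agent.Lib.Helper84.SUB.conj_same F₀ hF₀ r hrp hF n hbc y hyr
      refine ⟨g, conj_mem_HS_of_smul F₀ _ y g l hl0 ?_ hg⟩
      rw [Units.val_mul, hsval, Matrix.mul_smul, Matrix.mul_one, smul_smul, mul_inv_cancel₀ hl0,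
        one_smul]
    · -- the special case
      subst hk2
      subst hrn
      intro x hxr _
      obtain ⟨z, hz⟩ := hxr
      have hzG : (((Matrix.SpecialLinearGroup.toGL x : GL (Fin r) F) ^ r : GL (Fin r) F) :
          Matrix (Fin r) (Fin r) F) = z • (1 : Matrix (Fin r) (Fin r) F) := by
        rw [hcoepow]; exact hz
      apply sl_conj_of_gl_conj_sub F₀ r x
        (Cfsg.Agent.Lib.Helper49.SLOGlue.orderOf_coprime r _ r hpr z hzG (by omega))
      have hq₀1 : q₀ + 1 ≠ 0 := by omega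
      have hrq₀1 : r ∣ q₀ + 1 := dvd_of_one_le_padicValNat (by omega)
      have hsqid : q₀ ^ 2 - 1 = (q₀ - 1) * (q₀ + 1) := by
        obtain ⟨t, ht⟩ : ∃ t, q₀ = t + 1 := ⟨q₀ - 1, by omega⟩
        have h1 : (t + 1) ^ 2 = t * (t + 1 + 1) + 1 := by ring
        rw [ht, h1]; simp
      have hvF : padicValNat r (Fintype.card F - 1) = 1 := by
        rw [hF, hsqid, padicValNat.mul (by omega) hq₀1, hv]
        have h0 : padicValNat r (q₀ - 1) = 0 := by
          apply padicValNat.eq_zero_of_not_dvd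
          intro h
          have h3 : r ∣ (q₀ + 1) - (q₀ - 1) := Nat.dvd_sub hrq₀1 h
          have h4 : (q₀ + 1) - (q₀ - 1) = 2 := by omega
          rw [h4] at h3
          exact hr2 ((Nat.prime_dvd_prime_iff_eq hrP Nat.prime_two).mp h3)
        rw [h0]
      have hz1 : z = 1 := Cfsg.Agent.Lib.Helper82.SLO.special_pow_eq_one r hr2 hvF _
        (toGL_mem_specialLinear x) z hzG
      have hxr1 : (Matrix.SpecialLinearGroup.toGL x : GL (Fin r) F) ^ r = 1 := by
        apply Units.ext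
        rw [hzG, hz1, one_smul]
        rfl
      exact Cfsg.Agent.Lib.Helper22.SUB.special_conj_sub F₀ hF₀ hF r hn35 hrq₀1 _ (toGL_mem_specialLinear x) hxr1

end Glue

end Cfsg.Agent.Lib.Helper49.SUBGlue
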