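import Cfsg.Agent.Lib.Helper49.PresAlt
import Cfsg.Agent.Lib.Helper49.SimIndex

set_option autoImplicit false
open scoped MatrixGroups

namespace Cfsg.Agent.Lib.Helper49

open Matrix Module

section SA

variable {F : Type*} [Field F]

/-- the matrix `U` preserves some nondegenerate alternating form up to a scalar -/
def SimAlt {I : Type*} [Fintype I] [DecidableEq I] (U : Matrix I I F) : Prop :=
  ∃ B : LinearMap.BilinForm F (I → F), B.IsAlt ∧ B.Nondegenerate ∧
    ∃ c : F, ∀ x y, B (U *ᵥ x) (U *ᵥ y) = c * B x y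

variable {I I' : Type*} [Fintype I] [DecidableEq I] [Fintype I'] [DecidableEq I']

theorem PresAlt.simAlt {U : Matrix I I F} (h : PresAlt U) : SimAlt U := by
  obtain ⟨B, hA, hN, hinv⟩ := h
  exact ⟨B, hA, hN, 1, fun x y => by rw [hinv, one_mul]⟩

theorem SimAlt.transport {U : Matrix I I F} {U' : Matrix I' I' F}
    (φ : (I → F) ≃ₗ[F] (I' → F)) (h : ∀ x, φ (U *ᵥ x) = U' *ᵥ φ x) (hU : SimAlt U) :
    SimAlt U' := by
  obtain ⟨B, hA, hN, c, hinv⟩ := hU
  refine ⟨B.comp (φ.symm : (I' → F) →ₗ[F] (I → F)) (φ.symm : (I' → F) →ₗ[F] (I → F)), ?_, ?_, c, ?_⟩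
  · intro x
    exact hA _
  · apply LinearMap.BilinForm.Nondegenerate.ofSeparatingLeft
    intro x hx
    have h1 : φ.symm x = 0 := by
      apply hN.1
      intro y
      have := hx (φ y)
      simpa using this
    simpa using h1
  · intro x y
    have hs : ∀ z, φ.symm (U' *ᵥ z) = U *ᵥ φ.symm z := by
      intro z
      apply φ.injective
      rw [h, φ.apply_symm_apply, φ.apply_symm_apply]
    show B (φ.symm (U' *ᵥ x)) (φ.symm (U' *ᵥ y)) = c * B (φ.symm x) (φ.symm y)
    rw [hs, hs, hinv]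

theorem SimAlt.reindex {U : Matrix I I F} (σ : I ≃ I') (hU : SimAlt U) :
    SimAlt (Matrix.reindex σ σ U) := by
  apply SimAlt.transport (LinearEquiv.funCongrLeft F F σ.symm) _ hU
  intro x
  rw [Matrix.reindex_apply, Matrix.submatrix_mulVec_equiv]
  funext i
  simp [LinearEquiv.funCongrLeft_apply, LinearMap.funLeft_apply, Function.comp_def]

theorem SimAlt.conj {U U' : Matrix I I F} (G Ginv : Matrix I I F) (h1 : G * Ginv = 1)
    (h2 : Ginv * G = 1) (h : G * U = U' * G) (hU : SimAlt U) : SimAlt U' := by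
  apply SimAlt.transport (Matrix.toLin'OfInv h2 h1) _ hU
  intro x
  show Matrix.toLin' G (U *ᵥ x) = U' *ᵥ Matrix.toLin' G x
  rw [Matrix.toLin'_apply, Matrix.toLin'_apply,
    Matrix.mulVec_mulVec, Matrix.mulVec_mulVec, h]

theorem SimAlt.smul {U : Matrix I I F} (l : F) (hU : SimAlt U) : SimAlt (l • U) := by
  obtain ⟨B, hA, hN, c, hinv⟩ := hU
  refine ⟨B, hA, hN, l * l * c, fun x y => ?_⟩
  rw [Matrix.smul_mulVec, Matrix.smul_mulVec, map_smul, map_smul, LinearMap.smul_apply, hinv,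
    smul_eq_mul, smul_eq_mul]
  ring

theorem SimAlt.of_matrix {U : Matrix I I F} (M : Matrix I I F) (hM : ∀ x, x ⬝ᵥ M *ᵥ x = 0)
    (hdet : M.det ≠ 0) (c : F) (hU : Uᵀ * M * U = c • M) : SimAlt U := by
  refine ⟨Matrix.toBilin' M, ?_, LinearMap.BilinForm.nondegenerate_toBilin'_of_det_ne_zero' M hdet,
    c, ?_⟩
  · intro x
    rw [Matrix.toBilin'_apply']
    exact hM x
  · intro x y
    rw [Matrix.toBilin'_apply', Matrix.toBilin'_apply']
    have h1 : x ⬝ᵥ (c • M) *ᵥ y = c * (x ⬝ᵥ M *ᵥ y) := by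
      rw [Matrix.smul_mulVec, dotProduct_smul, smul_eq_mul]
    rw [← h1, ← hU]
    rw [← Matrix.mulVec_mulVec, ← Matrix.mulVec_mulVec, Matrix.dotProduct_mulVec x Uᵀ,
      Matrix.vecMul_transpose]

/-- the standard alternating matrix `J` -/
theorem simAlt_of_J {m : ℕ} (A : Matrix (Fin m ⊕ Fin m) (Fin m ⊕ Fin m) F) (c : F)
    (hA : Aᵀ * Matrix.J (Fin m) F * A = c • Matrix.J (Fin m) F) : SimAlt A := by
  have hJ : Matrix.J (Fin m) F =
      Matrix.fromBlocks 0 (-1 : Matrix (Fin m) (Fin m) F) (-(-1 : Matrix (Fin m) (Fin m) F)ᵀ) 0 := by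
    unfold Matrix.J
    rw [Matrix.transpose_neg, Matrix.transpose_one, neg_neg]
  apply SimAlt.of_matrix (Matrix.J (Fin m) F) _ _ c hA
  · intro x
    rw [hJ]
    exact hypMat_alt _ x
  · rw [hJ]
    apply hypMat_det (-1) (-1) <;> simp

end SA

section Transfer

variable {F : Type*} [Field F] {n : ℕ}

/-- a matrix preserving some nondegenerate alternating form up to a scalar is conjugate into the
similarity group of any given symplectic form -/
theorem SimAlt.exists_conj_mem_sim (f : (Fin n → F) → (Fin n → F) → F)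
    (hf : Cfsg.Geo.IsSymplecticForm f) (m : ℕ) (hn : n = 2 * m) (hn0 : 0 < n) (X : GL (Fin n) F)
    (h : SimAlt (X : Matrix (Fin n) (Fin n) F)) :
    ∃ g : GL (Fin n) F, g⁻¹ * X * g ∈ Cfsg.Geo.similarityGroup f := by
  classical
  obtain ⟨B, hA, hN, c, hinv⟩ := h
  have hV : finrank F (Fin n → F) = 2 * m := by
    rw [Module.finrank_fintype_fun_eq_card, Fintype.card_fin, hn]
  obtain ⟨b, hb⟩ := Cfsg.Agent.Lib.Helper20.exists_symplectic_basis B hA hN m hV
  obtain ⟨bf, hbf⟩ := Cfsg.Agent.Lib.Helper20.exists_symplectic_basis (bilinOf f hf.bilinear)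
    (bilinOf_isAlt f hf) (bilinOf_nondegenerate f hf) m hV
  let φ : (Fin n → F) ≃ₗ[F] (Fin n → F) := bf.equiv b (Equiv.refl _)
  have hφ : ∀ u v, B (φ u) (φ v) = f u v := by
    have : B.comp (φ : (Fin n → F) →ₗ[F] (Fin n → F)) (φ : (Fin n → F) →ₗ[F] (Fin n → F)) =
        bilinOf f hf.bilinear := by
      apply LinearMap.BilinForm.ext_basis bf
      intro i j
      have e1 : ∀ i, φ (bf i) = b i := fun i => by
        change bf.equiv b (Equiv.refl _) (bf i) = _
        rw [Basis.equiv_apply, Equiv.refl_apply]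
      change B (φ (bf i)) (φ (bf j)) = bilinOf f hf.bilinear (bf i) (bf j)
      rw [e1, e1]
      have h1 := congrFun (congrFun hb i) j
      have h2 := congrFun (congrFun hbf i) j
      rw [LinearMap.BilinForm.toMatrix_apply] at h1 h2
      rw [h1, h2]
    intro u v
    have := congrFun (congrArg DFunLike.coe (congrFun (congrArg DFunLike.coe this) u)) v
    exact this
  let G : Matrix (Fin n) (Fin n) F := LinearMap.toMatrix' (φ : (Fin n → F) →ₗ[F] (Fin n → F))
  let G' : Matrix (Fin n) (Fin n) F := LinearMap.toMatrix' (φ.symm : (Fin n → F) →ₗ[F] (Fin n → F))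
  have hGG' : G * G' = 1 := by
    rw [← LinearMap.toMatrix'_comp]; simp
  have hG'G : G' * G = 1 := by
    rw [← LinearMap.toMatrix'_comp]; simp
  let g : GL (Fin n) F := ⟨G, G', hGG', hG'G⟩
  have hGv : ∀ u, G *ᵥ u = φ u := by
    intro u
    rw [← Matrix.toLin'_apply, Matrix.toLin'_toMatrix']
    rfl
  have hG'v : ∀ u, G' *ᵥ u = φ.symm u := by
    intro u
    rw [← Matrix.toLin'_apply, Matrix.toLin'_toMatrix']
    rfl
  have hc0 : c ≠ 0 := by
    rintro rfl
    -- the form would vanish identically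
    have hX : ∀ u, (X : Matrix (Fin n) (Fin n) F) *ᵥ (((X⁻¹ : GL (Fin n) F) : Matrix (Fin n) (Fin n) F) *ᵥ u) = u := by
      intro u
      rw [Matrix.mulVec_mulVec, ← Units.val_mul, mul_inv_cancel, Units.val_one, Matrix.one_mulVec]
    have hB0 : ∀ u v, B u v = 0 := by
      intro u v
      have := hinv (((X⁻¹ : GL (Fin n) F) : Matrix (Fin n) (Fin n) F) *ᵥ u)
        (((X⁻¹ : GL (Fin n) F) : Matrix (Fin n) (Fin n) F) *ᵥ v)
      rw [hX, hX, zero_mul] at this
      exact this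
    have hV0 : ∀ u : Fin n → F, u = 0 := fun u => hN.1 u (fun v => hB0 u v)
    have h1 : finrank F (Fin n → F) = 0 := by
      rw [Module.finrank_eq_zero_iff_of_free]
      exact ⟨fun a b => by rw [hV0 a, hV0 b]⟩
    rw [hV] at h1
    omega
  refine ⟨g, Units.mk0 c hc0, fun u v => ?_⟩
  rw [Units.val_mk0]
  change f ((G' * (X : Matrix (Fin n) (Fin n) F) * G) *ᵥ u)
    ((G' * (X : Matrix (Fin n) (Fin n) F) * G) *ᵥ v) = c * f u v
  rw [← Matrix.mulVec_mulVec, ← Matrix.mulVec_mulVec, ← Matrix.mulVec_mulVec, ← Matrix.mulVec_mulVec,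
    hGv, hGv, hG'v, hG'v, ← hφ, ← hφ, LinearEquiv.apply_symm_apply, LinearEquiv.apply_symm_apply, hinv]

end Transfer

end Cfsg.Agent.Lib.Helper49
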