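import Cfsg.Agent.Lib.Helper49.SimInvol

set_option autoImplicit false
open scoped MatrixGroups

namespace Cfsg.Agent.Lib.Helper49

open Matrix Module

section Arith

variable {F : Type*} [Field F] [Fintype F]

/-- `-1` is an `n`-th power when `v₂(n) < v₂(q - 1)` -/
theorem exists_pow_eq_neg_one (hF : ringChar F ≠ 2) (n : ℕ) (hn : n ≠ 0)
    (h : padicValNat 2 n < padicValNat 2 (Fintype.card F - 1)) : ∃ a : F, a ^ n = -1 := by
  classical
  have hodd : Fintype.card F % 2 = 1 := FiniteField.odd_card_of_char_ne_two hF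
  have h2F : (2 : F) ≠ 0 := Ring.two_ne_zero hF
  have hq1 : Fintype.card F - 1 ≠ 0 := by
    have : 1 < Fintype.card F := Fintype.one_lt_card
    omega
  obtain ⟨g, hg⟩ := IsCyclic.exists_generator (α := Fˣ)
  have hord : orderOf g = Fintype.card F - 1 := by
    rw [orderOf_eq_card_of_forall_mem_zpowers hg, Nat.card_eq_fintype_card, Fintype.card_units]
  obtain ⟨a, ha⟩ : ∃ a, a = padicValNat 2 n := ⟨_, rfl⟩
  rw [← ha] at h
  obtain ⟨r, hr⟩ : 2 ^ (a + 1) ∣ Fintype.card F - 1 := (padicValNat_dvd_iff_le hq1).mpr h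
  obtain ⟨n', hn'⟩ : 2 ^ a ∣ n := by rw [ha]; exact pow_padicValNat_dvd
  have hn'odd : Odd n' := by
    rw [← Nat.not_even_iff_odd, even_iff_two_dvd]
    intro h2
    obtain ⟨o', rfl⟩ := h2
    have : 2 ^ (a + 1) ∣ n := ⟨o', by rw [pow_succ, hn']; ring⟩
    have := (padicValNat_dvd_iff_le hn).mp this
    omega
  -- g ^ ((q-1)/2) = -1
  have hhalf : ((g ^ (2 ^ a * r) : Fˣ) : F) = -1 := by
    have h1 : (g ^ (2 ^ a * r)) ^ 2 = 1 := by
      have e1 : 2 ^ a * r * 2 = orderOf g := by rw [hord, hr, pow_succ]; ring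
      rw [← pow_mul, e1]
      exact pow_orderOf_eq_one g
    have h3 : g ^ (2 ^ a * r) ≠ 1 := by
      intro h4
      have h5 := orderOf_dvd_of_pow_eq_one h4
      rw [hord, hr] at h5
      have hpos : 0 < 2 ^ a * r := by
        rcases Nat.eq_zero_or_pos (2 ^ a * r) with h0 | h0
        · rw [pow_succ, mul_assoc, mul_comm 2, ← mul_assoc, h0] at hr
          omega
        · exact h0
      have := Nat.le_of_dvd hpos h5
      rw [pow_succ] at this
      nlinarith
    have h6 : ((g ^ (2 ^ a * r) : Fˣ) : F) * ((g ^ (2 ^ a * r) : Fˣ) : F) = 1 := by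
      rw [← Units.val_mul, ← pow_two, h1, Units.val_one]
    rcases mul_self_eq_one_iff.mp h6 with h7 | h7
    · exact absurd (Units.ext h7) h3
    · exact h7
  refine ⟨((g ^ r : Fˣ) : F), ?_⟩
  rw [hn', pow_mul, ← Units.val_pow_eq_pow_val, ← pow_mul, mul_comm r, hhalf, hn'odd.neg_one_pow]

/-- `-1` is not an `n`-th power when `v₂(q - 1) ≤ v₂(n)` -/
theorem pow_ne_neg_one (hF : ringChar F ≠ 2) (n : ℕ) (hn : n ≠ 0)
    (h : padicValNat 2 (Fintype.card F - 1) ≤ padicValNat 2 n) (a : F) : a ^ n ≠ -1 := by
  classical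
  intro han
  have h2F : (2 : F) ≠ 0 := Ring.two_ne_zero hF
  have hq1 : Fintype.card F - 1 ≠ 0 := by
    have : 1 < Fintype.card F := Fintype.one_lt_card
    omega
  have ha0 : a ≠ 0 := by
    rintro rfl
    rw [zero_pow hn] at han
    have : (1 : F) = 0 := by
      have := congrArg (fun t : F => -t) han
      simpa using this.symm
    exact one_ne_zero this
  obtain ⟨v, hv⟩ : ∃ v, v = padicValNat 2 (Fintype.card F - 1) := ⟨_, rfl⟩
  rw [← hv] at h
  obtain ⟨r, hr⟩ : 2 ^ v ∣ Fintype.card F - 1 := by rw [hv]; exact pow_padicValNat_dvd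
  have hrodd : Odd r := by
    rw [← Nat.not_even_iff_odd, even_iff_two_dvd]
    intro h2
    obtain ⟨o', rfl⟩ := h2
    have : 2 ^ (v + 1) ∣ Fintype.card F - 1 := ⟨o', by rw [pow_succ, hr]; ring⟩
    have := (padicValNat_dvd_iff_le hq1).mp this
    omega
  obtain ⟨n'', hn''⟩ : 2 ^ v ∣ n := (padicValNat_dvd_iff_le hn).mpr h
  have h1 : a ^ (n * r) = 1 := by
    rw [hn'', mul_assoc, mul_comm n'' r, ← mul_assoc, ← hr, pow_mul,
      FiniteField.pow_card_sub_one_eq_one a ha0, one_pow]
  rw [pow_mul, han, hrodd.neg_one_pow] at h1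
  apply h2F
  have : (1 : F) + 1 = 0 := by
    nth_rewrite 1 [← h1]; simp
  rw [← this]; norm_num

end Arith

section Der

variable {F : Type*} [Field F] {n : ℕ}

/-- the element `l • diag(-1, 1, …, 1)` with `l ^ n = -1` has no conjugate in the similarity group
of a symplectic form -/
theorem exists_sim_derangement (h2 : (2 : F) ≠ 0) (f : (Fin n → F) → (Fin n → F) → F)
    (hf : Cfsg.Geo.IsSymplecticForm f) (hn3 : 3 ≤ n) (l : F) (hl : l ^ n = -1) :
    ∃ x : Matrix.SpecialLinearGroup (Fin n) F,
      ((x ^ 2 : Matrix.SpecialLinearGroup (Fin n) F) : Matrix (Fin n) (Fin n) F) =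
        (l ^ 2) • (1 : Matrix (Fin n) (Fin n) F) ∧
      (∀ z : F, (x : Matrix (Fin n) (Fin n) F) ≠ z • (1 : Matrix (Fin n) (Fin n) F)) ∧
      ∀ P : Matrix.SpecialLinearGroup (Fin n) F, P⁻¹ * x * P ∉ simSL f := by
  classical
  have hl0 : l ≠ 0 := by
    rintro rfl
    rw [zero_pow (by omega)] at hl
    have : (1 : F) = 0 := by
      have := congrArg (fun t : F => -t) hl
      simpa using this.symm
    exact one_ne_zero this
  let i₀ : Fin n := ⟨0, by omega⟩
  let i₁ : Fin n := ⟨1, by omega⟩
  let i₂ : Fin n := ⟨2, by omega⟩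
  have h01 : i₀ ≠ i₁ := by intro h; exact absurd (congrArg Fin.val h) (by simp [i₀, i₁])
  have h02 : i₀ ≠ i₂ := by intro h; exact absurd (congrArg Fin.val h) (by simp [i₀, i₂])
  have h12 : i₁ ≠ i₂ := by intro h; exact absurd (congrArg Fin.val h) (by simp [i₁, i₂])
  let ev : Fin n → F := Function.update (fun _ => (1 : F)) i₀ (-1)
  have hev0 : ev i₀ = -1 := Function.update_self _ _ _
  have hevne : ∀ i, i ≠ i₀ → ev i = 1 := fun i hi => Function.update_of_ne hi _ _
  have hevsq : ∀ i, ev i * ev i = 1 := by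
    intro i
    by_cases hi : i = i₀
    · rw [hi, hev0]; ring
    · rw [hevne i hi]; ring
  have hevdet : (Matrix.diagonal ev).det = -1 := by
    rw [Matrix.det_diagonal, Finset.prod_eq_single i₀]
    · exact hev0
    · intro b _ hb
      exact hevne b hb
    · intro h; exact absurd (Finset.mem_univ _) h
  set X : Matrix (Fin n) (Fin n) F := l • Matrix.diagonal ev with hX
  have hXdet : X.det = 1 := by
    rw [hX, Matrix.det_smul, hevdet, Fintype.card_fin, hl]; ring
  let x : Matrix.SpecialLinearGroup (Fin n) F := ⟨X, hXdet⟩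
  have hXv : ∀ (i : Fin n), X *ᵥ (Pi.single i 1) = (l * ev i) • (Pi.single i 1 : Fin n → F) := by
    intro i
    rw [hX, Matrix.smul_mulVec, Matrix.mulVec_single_one]
    funext j
    simp only [Pi.smul_apply, smul_eq_mul, Matrix.col_apply, Matrix.diagonal_apply,
      Pi.single_apply]
    by_cases hji : j = i
    · subst hji; simp
    · rw [if_neg hji, if_neg hji]; ring
  refine ⟨x, ?_, ?_, ?_⟩
  · rw [Matrix.SpecialLinearGroup.coe_pow]
    change X ^ 2 = _
    rw [hX, _root_.smul_pow, pow_two (Matrix.diagonal ev), Matrix.diagonal_mul_diagonal]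
    congr 1
    rw [← Matrix.diagonal_one]
    congr 1
    funext i
    exact hevsq i
  · intro z hz
    change X = z • 1 at hz
    have e0 := congrFun (congrFun hz i₀) i₀
    have e1 := congrFun (congrFun hz i₁) i₁
    rw [hX, Matrix.smul_apply, Matrix.smul_apply, Matrix.diagonal_apply_eq, Matrix.one_apply_eq,
      smul_eq_mul, smul_eq_mul, mul_one] at e0 e1
    rw [hev0] at e0
    rw [hevne i₁ h01.symm] at e1
    have : (2 : F) * l = 0 := by
      have : l * 1 = l * -1 := by rw [e1, e0]
      linear_combination this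
    rcases mul_eq_zero.mp this with h | h
    · exact h2 h
    · exact hl0 h
  · intro P hP
    rw [Subgroup.mem_comap] at hP
    obtain ⟨c, hc⟩ := hP
    set Pm : Matrix (Fin n) (Fin n) F := (P : Matrix (Fin n) (Fin n) F) with hPm
    set Q : Matrix (Fin n) (Fin n) F :=
      ((P⁻¹ : Matrix.SpecialLinearGroup (Fin n) F) : Matrix (Fin n) (Fin n) F) with hQ
    have hQP : Q * Pm = 1 := by
      have h := congrArg (fun g : Matrix.SpecialLinearGroup (Fin n) F =>
        (g : Matrix (Fin n) (Fin n) F)) (inv_mul_cancel P)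
      simp only [Matrix.SpecialLinearGroup.coe_mul, Matrix.SpecialLinearGroup.coe_one] at h
      exact h
    have hPQ : Pm * Q = 1 := by
      have h := congrArg (fun g : Matrix.SpecialLinearGroup (Fin n) F =>
        (g : Matrix (Fin n) (Fin n) F)) (mul_inv_cancel P)
      simp only [Matrix.SpecialLinearGroup.coe_mul, Matrix.SpecialLinearGroup.coe_one] at h
      exact h
    have hy : ((Matrix.SpecialLinearGroup.toGL (P⁻¹ * x * P) : GL (Fin n) F) :
        Matrix (Fin n) (Fin n) F) = Q * X * Pm := by
      change ((P⁻¹ * x * P : Matrix.SpecialLinearGroup (Fin n) F) : Matrix (Fin n) (Fin n) F) = _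
      rw [Matrix.SpecialLinearGroup.coe_mul, Matrix.SpecialLinearGroup.coe_mul]
    rw [hy] at hc
    -- eigenvectors
    let t : Fin n → (Fin n → F) := fun i => Q *ᵥ (Pi.single i 1)
    have hyt : ∀ i, (Q * X * Pm) *ᵥ t i = (l * ev i) • t i := by
      intro i
      change (Q * X * Pm) *ᵥ (Q *ᵥ (Pi.single i 1)) = _
      rw [Matrix.mulVec_mulVec, mul_assoc, mul_assoc, hPQ, mul_one, ← Matrix.mulVec_mulVec, hXv,
        Matrix.mulVec_smul]
    have hpair : ∀ i j, (l * ev i) * (l * ev j) * f (t i) (t j) = (c : F) * f (t i) (t j) := by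
      intro i j
      have := hc (t i) (t j)
      rw [hyt, hyt, hf.bilinear.smul_left, hf.bilinear.smul_right] at this
      rw [← this]; ring
    -- spanning
    have hspan : ∀ u : Fin n → F, (∀ i, f u (t i) = 0) → u = 0 := by
      intro u hu
      apply (bilinOf_nondegenerate f hf).1
      intro v
      change f u v = 0
      have hv : v = ∑ i, (Pm *ᵥ v) i • t i := by
        have h1 : v = Q *ᵥ (Pm *ᵥ v) := by
          rw [Matrix.mulVec_mulVec, hQP, Matrix.one_mulVec]
        have h2 : Pm *ᵥ v = ∑ i, (Pm *ᵥ v) i • (Pi.single i 1 : Fin n → F) := by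
          funext j
          simp [Finset.sum_apply, Pi.single_apply]
        conv_lhs => rw [h1, h2]
        rw [Matrix.mulVec_sum]
        apply Finset.sum_congr rfl
        intro i _
        rw [Matrix.mulVec_smul]
      rw [hv]
      have : f u (∑ i, (Pm *ᵥ v) i • t i) = bilinOf f hf.bilinear u (∑ i, (Pm *ᵥ v) i • t i) := rfl
      rw [this, map_sum]
      apply Finset.sum_eq_zero
      intro i _
      rw [map_smul, smul_eq_mul]
      change _ * f u (t i) = 0
      rw [hu i, mul_zero]
    have hQinj : ∀ w : Fin n → F, Q *ᵥ w = 0 → w = 0 := by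
      intro w hw
      have := congrArg (fun z => Pm *ᵥ z) hw
      simp only [Matrix.mulVec_mulVec, hPQ, Matrix.one_mulVec, Matrix.mulVec_zero] at this
      exact this
    have hl2 : l * l ≠ 0 := mul_ne_zero hl0 hl0
    by_cases hcl : (c : F) = -(l * l)
    · -- the `l`-eigenspace is totally isotropic
      have hiso : ∀ i j, i ≠ i₀ → j ≠ i₀ → f (t i) (t j) = 0 := by
        intro i j hi hj
        have := hpair i j
        rw [hevne i hi, hevne j hj, hcl] at this
        have h3 : (2 : F) * (l * l) * f (t i) (t j) = 0 := by linear_combination this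
        rcases mul_eq_zero.mp h3 with h4 | h4
        · rcases mul_eq_zero.mp h4 with h5 | h5
          · exact absurd h5 h2
          · exact absurd h5 hl2
        · exact h4
      by_cases hα : f (t i₁) (t i₀) = 0
      · have h0 : t i₁ = 0 := by
          apply hspan
          intro j
          by_cases hj : j = i₀
          · rw [hj]; exact hα
          · exact hiso i₁ j h01.symm hj
        have := hQinj _ h0
        have h1 := congrFun this i₁
        simp at h1
      · set k : F := f (t i₂) (t i₀) / f (t i₁) (t i₀) with hk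
        have h0 : t i₂ - k • t i₁ = 0 := by
          apply hspan
          intro j
          have e1 : f (t i₂ - k • t i₁) (t j) = f (t i₂) (t j) - k * f (t i₁) (t j) := by
            have : t i₂ - k • t i₁ = t i₂ + (-k) • t i₁ := by rw [neg_smul, sub_eq_add_neg]
            rw [this, hf.bilinear.add_left, hf.bilinear.smul_left]; ring
          rw [e1]
          by_cases hj : j = i₀
          · rw [hj, hk]; field_simp; ring
          · rw [hiso i₂ j h02.symm hj, hiso i₁ j h01.symm hj]; ring
        have h1 : Q *ᵥ ((Pi.single i₂ 1 : Fin n → F) - k • (Pi.single i₁ 1 : Fin n → F)) = 0 := by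
          rw [Matrix.mulVec_sub, Matrix.mulVec_smul]
          exact h0
        have h3 := congrFun (hQinj _ h1) i₂
        simp [Pi.single_apply, h12.symm] at h3
    · -- the `-l`-eigenvector is in the radical
      have h0 : t i₀ = 0 := by
        apply hspan
        intro j
        by_cases hj : j = i₀
        · rw [hj]; exact hf.alternating _
        · have := hpair i₀ j
          rw [hev0, hevne j hj] at this
          have h3 : (-(l * l) - (c : F)) * f (t i₀) (t j) = 0 := by linear_combination this
          rcases mul_eq_zero.mp h3 with h4 | h4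
          · exact absurd (by linear_combination -h4 : (c : F) = -(l * l)) hcl
          · exact h4
      have := hQinj _ h0
      have h1 := congrFun this i₀
      simp at h1

end Der

end Cfsg.Agent.Lib.Helper49
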