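import Mathlib
import Cfsg.Agent.Lib.Helper49.SpODefs
import Cfsg.Agent.Lib.Helper49.OrthCount
import Cfsg.Agent.Lib.Helper49.PrimeOrderSp
import Cfsg.Agent.S2568
import Cfsg.Agent.Lib.Helper50.SpTransvCent

set_option autoImplicit false

/-!
# K-SpO-8a: a fixed-point-free element of order `r` of `Sp_{2d}(q)`, `r ∣ q^d + 1`
-/

namespace Cfsg.Agent.Lib.Helper49.SpO

open Matrix Polynomial UniqueFactorizationMonoid Cfsg.Agent.Lib.Helper49

variable {F : Type*} [Field F] [Fintype F]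

/-- the multiplicative order of `q` modulo an odd prime `r` dividing `q^d + 1` is even and
divides `2d`. -/
theorem orderOf_even_of_dvd_pow_add_one {q d r : ℕ} [Fact r.Prime] (hr2 : r ≠ 2)
    (hdiv : r ∣ q ^ d + 1) :
    Even (orderOf (q : ZMod r)) ∧ orderOf (q : ZMod r) ∣ 2 * d := by
  have h1 : ((q : ZMod r)) ^ d = -1 := by
    have : ((q ^ d + 1 : ℕ) : ZMod r) = 0 := (ZMod.natCast_eq_zero_iff _ _).2 hdiv
    push_cast at this
    exact eq_neg_of_add_eq_zero_left this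
  have h2 : ((q : ZMod r)) ^ (2 * d) = 1 := by
    rw [mul_comm, pow_mul, h1]
    norm_num
  have hdvd : orderOf (q : ZMod r) ∣ 2 * d := orderOf_dvd_of_pow_eq_one h2
  refine ⟨?_, hdvd⟩
  by_contra hodd
  rw [Nat.not_even_iff_odd] at hodd
  have hcop : (orderOf (q : ZMod r)).Coprime 2 := Nat.Coprime.symm (Nat.coprime_two_left.2 hodd)
  have hd : orderOf (q : ZMod r) ∣ d := hcop.dvd_of_dvd_mul_left hdvd
  have h3 : ((q : ZMod r)) ^ d = 1 := orderOf_dvd_iff_pow_eq_one.1 hd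
  rw [h1] at h3
  have h4 : ((2 : ℕ) : ZMod r) = 0 := by
    have : (2 : ZMod r) = 1 - (-1) := by ring
    push_cast
    rw [this, h3]
    ring
  have h5 : r ∣ 2 := (ZMod.natCast_eq_zero_iff _ _).1 h4
  have hr : r.Prime := Fact.out
  exact hr2 ((Nat.prime_dvd_prime_iff_eq hr Nat.prime_two).1 h5)

/-- K-SpO-8a. -/
theorem exists_fpf_sp [CharP F 2] {q : ℕ} (hq : Fintype.card F = q) (d : ℕ) (_hd : 1 ≤ d) (r : ℕ)
    (hr : r.Prime) (hr2 : r ≠ 2) (hdiv : r ∣ q ^ d + 1) :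
    ∃ x ∈ Cfsg.spGL d F,
      ((x ^ r : GL (Fin d ⊕ Fin d) F) : Matrix (Fin d ⊕ Fin d) (Fin d ⊕ Fin d) F) = 1 ∧
      ∀ v : Fin d ⊕ Fin d → F,
        (x : Matrix (Fin d ⊕ Fin d) (Fin d ⊕ Fin d) F) *ᵥ v = v → v = 0 := by
  classical
  have : Fact r.Prime := ⟨hr⟩
  have : Fact (Nat.Prime 2) := ⟨Nat.prime_two⟩
  obtain ⟨f, _, hqf⟩ := FiniteField.card F 2
  have hK : Fintype.card F = 2 ^ (f : ℕ) := hqf
  have hqK : q = 2 ^ (f : ℕ) := by rw [← hq, hK]
  obtain ⟨hev, hdvd⟩ := orderOf_even_of_dvd_pow_add_one (q := q) (d := d) hr2 hdiv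
  set i := orderOf (q : ZMod r) with hi
  have hi' : i = orderOf ((2 ^ (f : ℕ) : ℕ) : ZMod r) := by rw [hi, hqK]
  have hiF : i = orderOf ((Fintype.card F : ℕ) : ZMod r) := by rw [hi, hq]
  have D := Cfsg.Agent.S2568.factorData hK r i hr2 hi'
  have hrF : (r : F) ≠ 0 := by
    intro h0
    rw [CharP.cast_eq_zero_iff F 2] at h0
    exact hr2 ((Nat.prime_dvd_prime_iff_eq Nat.prime_two hr).mp h0).symm
  have : NeZero (r : F) := ⟨hrF⟩
  have hmon : ∀ P ∈ (normalizedFactors (cyclotomic r F)).toFinset, P.Monic := by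
    intro P hP
    have hP1 := Multiset.mem_toFinset.mp hP
    rw [← normalize_normalized_factor P hP1]
    exact Polynomial.monic_normalize (irreducible_of_normalized_factor P hP1).ne_zero
  set PP := (normalizedFactors (cyclotomic r F)).toFinset with hPP
  -- `PP` is nonempty
  have hne : PP.Nonempty := by
    by_contra hemp
    rw [Finset.not_nonempty_iff_eq_empty] at hemp
    have h1 := D.prod
    rw [hemp, Finset.prod_empty, mul_one] at h1
    have h2 := congrArg Polynomial.natDegree h1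
    rw [← Polynomial.C_1, Polynomial.natDegree_X_sub_C, Polynomial.natDegree_X_pow_sub_C] at h2
    exact hr.one_lt.ne h2
  obtain ⟨P₀, hP₀⟩ := hne
  set a : PP → ℕ := fun P => if P = ⟨P₀, hP₀⟩ then 2 * d / i else 0 with ha
  have hsum : ∑ P, a P = 2 * d / i := by
    rw [ha, Finset.sum_ite_eq' Finset.univ (⟨P₀, hP₀⟩ : PP) (fun _ => 2 * d / i)]
    simp
  have hisum : i * ∑ P, a P = 2 * d := by rw [hsum, Nat.mul_div_cancel' hdvd]
  have hpal : ((X - 1 : F[X]) ^ (2 * d - i * ∑ P, a P) * ∏ P : PP, (P : F[X]) ^ a P).reverse =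
      (X - 1 : F[X]) ^ (2 * d - i * ∑ P, a P) * ∏ P : PP, (P : F[X]) ^ a P := by
    rw [hisum, Nat.sub_self, pow_zero, one_mul]
    exact D.palin_even hmon hr hiF hev a
  obtain ⟨g, hg, hk⟩ := D.exists_sp_realize 2 hmon hrF d a hisum.le hpal
  have hk0 := hk ⟨P₀, hP₀⟩
  have ha0 : a ⟨P₀, hP₀⟩ = 2 * d / i := by rw [ha]; simp
  rw [ha0, Nat.mul_div_cancel' hdvd] at hk0
  -- `P₀` kills `g`
  have hker : LinearMap.ker (aeval (Matrix.toLin' (g : Matrix (Fin d ⊕ Fin d) (Fin d ⊕ Fin d) F))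
      P₀) = ⊤ := by
    apply Submodule.eq_top_of_finrank_eq
    rw [Module.finrank_fintype_fun_eq_card, Fintype.card_sum, Fintype.card_fin]
    have : Module.finrank F (LinearMap.ker (aeval (Matrix.toLin'
        (g : Matrix (Fin d ⊕ Fin d) (Fin d ⊕ Fin d) F)) P₀)) = 2 * d := hk0
    rw [this]
    ring
  have hP1 : P₀.eval 1 ≠ 0 := by
    obtain ⟨u, w, huw⟩ := D.cop1 P₀ hP₀
    intro h0
    have := congrArg (Polynomial.eval 1) huw
    simp [h0] at this
  refine ⟨((Cfsg.Agent.S0270.phi d g : ↥(Cfsg.spGL d F)) : GL (Fin d ⊕ Fin d) F),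
    (Cfsg.Agent.S0270.phi d g).2, ?_, ?_⟩
  · have h1 : (Cfsg.Agent.S0270.phi d g) ^ r = 1 := by rw [← map_pow, hg, map_one]
    have h2 := congrArg (fun t : ↥(Cfsg.spGL d F) => ((t : GL (Fin d ⊕ Fin d) F) :
      Matrix (Fin d ⊕ Fin d) (Fin d ⊕ Fin d) F)) h1
    simpa using h2
  · intro v hv
    have hv' : (g : Matrix (Fin d ⊕ Fin d) (Fin d ⊕ Fin d) F) *ᵥ v = v := by
      rw [← Cfsg.Agent.Lib.Helper50.phi_val]
      exact hv
    have h3 : aeval (Matrix.toLin' (g : Matrix (Fin d ⊕ Fin d) (Fin d ⊕ Fin d) F)) P₀ v = 0 := by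
      have : v ∈ LinearMap.ker (aeval (Matrix.toLin'
          (g : Matrix (Fin d ⊕ Fin d) (Fin d ⊕ Fin d) F)) P₀) := by rw [hker]; trivial
      exact this
    have h4 : Matrix.toLin' (g : Matrix (Fin d ⊕ Fin d) (Fin d ⊕ Fin d) F) v = (1 : F) • v := by
      rw [Matrix.toLin'_apply, hv', one_smul]
    rw [Module.End.aeval_apply_of_mem_apply_eq_smul h4] at h3
    rcases smul_eq_zero.1 h3 with h5 | h5
    · exact absurd h5 hP1
    · exact h5

end Cfsg.Agent.Lib.Helper49.SpO
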