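/-
Glue for S5983 (K-SpO pack, architect helper49): `Sp_2d(q)`, `q` even, versus the stabiliser of a quadratic
form `Q` polarising to the symplectic form.  Leaves by helper26, helper81, helper28, helper72, helper66,
helper57, helper69 and helper49.
-/
import Mathlib
import Cfsg.Prelude.Def_GeometricClasses
import Cfsg.Agent.Lib.Helper49.SpODefs
import Cfsg.Agent.Lib.Helper49.SpO8a
import Cfsg.Agent.Lib.Helper50.SpTransvCent
import Cfsg.Agent.Lib.Helper26.SpO1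
import Cfsg.Agent.Lib.Helper81.SpO2
import Cfsg.Agent.Lib.Helper28.SpO3
import Cfsg.Agent.Lib.Helper72.SpO4
import Cfsg.Agent.Lib.Helper66.SpO5
import Cfsg.Agent.Lib.Helper57.SpO6
import Cfsg.Agent.Lib.Helper69.SpO7
import Cfsg.Agent.Lib.Helper66.SpO8b

set_option autoImplicit false

namespace Cfsg.Agent.Lib.Helper49.SpOGlue

open Matrix Cfsg.Agent.Lib.Helper49.SpInv Cfsg.Agent.Lib.Helper49.OInv Cfsg.Agent.Lib.Helper49.SpO

variable {F : Type*} [Field F] [Fintype F] [CharP F 2]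

/-! ## glue -/

omit [CharP F 2] in
theorem two_le_card : 2 ≤ Fintype.card F := Fintype.one_lt_card

/-- an odd prime dividing `2k = q^d (q^d ± 1)`, `q` a power of 2, divides `q^d ± 1`. -/
theorem dvd_of_odd_prime {q : ℕ} (hq : Fintype.card F = q) (d k c r : ℕ) (hr : r.Prime) (hr2 : r ≠ 2)
    (hk : r ∣ k) (h : 2 * k = q ^ d * c) : r ∣ c := by
  have h1 : r ∣ q ^ d * c := by
    rw [← h]
    exact Dvd.dvd.mul_left hk 2
  rcases (Nat.Prime.dvd_mul hr).1 h1 with h2 | h2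
  · exfalso
    have h3 : r ∣ q := hr.dvd_of_dvd_pow h2
    obtain ⟨f, _, hqf⟩ := FiniteField.card F 2
    rw [← hq, hqf] at h3
    have h4 : r ∣ 2 := hr.dvd_of_dvd_pow h3
    exact hr2 ((Nat.prime_dvd_prime_iff_eq hr Nat.prime_two).1 h4)
  · exact h2

omit [Fintype F] [CharP F 2] in
theorem mem_spGL_iff {d : ℕ} (y : GL (Fin d ⊕ Fin d) F) :
    y ∈ Cfsg.spGL d F ↔ ∀ u v, Cfsg.sympForm d F
      ((y : Matrix (Fin d ⊕ Fin d) (Fin d ⊕ Fin d) F) *ᵥ u)
      ((y : Matrix (Fin d ⊕ Fin d) (Fin d ⊕ Fin d) F) *ᵥ v) = Cfsg.sympForm d F u v := Iff.rfl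

omit [Fintype F] [CharP F 2] in
/-- an element of `Sp` that is a similarity of `Q` (polar form `sympForm`) is an isometry of `Q`. -/
theorem isometry_of_mem {d : ℕ} (hd : 0 < d) (Q : (Fin d ⊕ Fin d → F) → F)
    (hQf : ∀ u v, QuadraticMap.polar Q u v = Cfsg.sympForm d F u v)
    (y : GL (Fin d ⊕ Fin d) F) (hy : y ∈ Cfsg.spGL d F)
    (hyQ : y ∈ Cfsg.Geo.quadSimilarityGroup Q) :
    ∀ v, Q ((y : Matrix (Fin d ⊕ Fin d) (Fin d ⊕ Fin d) F) *ᵥ v) = Q v := by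
  obtain ⟨c, hc⟩ := hyQ
  obtain ⟨u, v, huv⟩ := Cfsg.Agent.Lib.Helper50.sf_ne_zero (F := F) d hd
  have h1 : QuadraticMap.polar Q ((y : Matrix (Fin d ⊕ Fin d) (Fin d ⊕ Fin d) F) *ᵥ u)
      ((y : Matrix (Fin d ⊕ Fin d) (Fin d ⊕ Fin d) F) *ᵥ v) = (c : F) * QuadraticMap.polar Q u v := by
    unfold QuadraticMap.polar
    rw [← Matrix.mulVec_add, hc, hc, hc]
    ring
  rw [hQf, hQf, (mem_spGL_iff y).1 hy u v] at h1
  have hc1 : (c : F) = 1 := by
    have h2 : ((c : F) - 1) * Cfsg.sympForm d F u v = 0 := by linear_combination -h1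
    rcases mul_eq_zero.1 h2 with h3 | h3
    · exact sub_eq_zero.1 h3
    · exact absurd h3 huv
  intro w
  rw [hc, hc1, one_mul]

omit [Fintype F] in
/-- a scalar matrix in `Sp` in characteristic 2 is the identity. -/
theorem scalar_eq_one {d : ℕ} (hd : 0 < d) (x : GL (Fin d ⊕ Fin d) F) (hx : x ∈ Cfsg.spGL d F) (z : F)
    (hz : (x : Matrix (Fin d ⊕ Fin d) (Fin d ⊕ Fin d) F) =
      z • (1 : Matrix (Fin d ⊕ Fin d) (Fin d ⊕ Fin d) F)) : z = 1 := by
  obtain ⟨u, v, huv⟩ := Cfsg.Agent.Lib.Helper50.sf_ne_zero (F := F) d hd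
  have h1 := (mem_spGL_iff x).1 hx u v
  rw [hz, Matrix.smul_mulVec, Matrix.smul_mulVec, Matrix.one_mulVec, Matrix.one_mulVec,
    Cfsg.Agent.Lib.Helper50.sf_smul_smul] at h1
  have h2 : (z * z - 1) * Cfsg.sympForm d F u v = 0 := by linear_combination h1
  rcases mul_eq_zero.1 h2 with h3 | h3
  · have h4 : (z - 1) * (z - 1) = 0 := by
      have h5 : (z - 1) * (z - 1) = z * z - 1 - 2 * (z - 1) := by ring
      rw [h5, h3, CharTwo.two_eq_zero]
      ring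
    exact sub_eq_zero.1 (mul_self_eq_zero.1 h4)
  · exact absurd h3 huv

theorem s5983 {q : ℕ} (hq : Fintype.card F = q) (d : ℕ) (hd : 2 ≤ d)
    (Q : (Fin d ⊕ Fin d → F) → F) (hQ : Cfsg.Geo.IsNondegenerateQuadraticForm Q)
    (hQf : ∀ u v, QuadraticMap.polar Q u v = Cfsg.sympForm d F u v)
    (r : ℕ) [Fact r.Prime]
    (hΩ : r ∣ (Cfsg.Geo.quadSimilarityGroup Q).relIndex (Cfsg.spGL d F)) :
    (∀ x ∈ Cfsg.spGL d F, (∃ z : F, ((x ^ r : GL (Fin d ⊕ Fin d) F) : Matrix (Fin d ⊕ Fin d) (Fin d ⊕ Fin d) F) = z • (1 : Matrix (Fin d ⊕ Fin d) (Fin d ⊕ Fin d) F)) →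
      (∀ z : F, (x : Matrix (Fin d ⊕ Fin d) (Fin d ⊕ Fin d) F) ≠ z • (1 : Matrix (Fin d ⊕ Fin d) (Fin d ⊕ Fin d) F)) →
      ∃ g ∈ Cfsg.spGL d F, g⁻¹ * x * g ∈ Cfsg.Geo.quadSimilarityGroup Q) ↔
    (r = 2 ∧ (Cfsg.Geo.IsPlusTypeOn Q ⊤ ∨ Odd d)) := by
  have hr : r.Prime := Fact.out
  have hd1 : 1 ≤ d := by omega
  have hq2 : 2 ≤ q := by rw [← hq]; exact two_le_card
  constructor
  · intro hall
    by_cases hr2 : r = 2
    · refine ⟨hr2, ?_⟩
      by_contra hcon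
      push Not at hcon
      obtain ⟨hminus, hde⟩ := hcon
      rw [Nat.not_odd_iff_even] at hde
      obtain ⟨x, hx, hx2, hxns, hbad⟩ := Cfsg.Agent.Lib.Helper57.SpO.exists_bad_invol d hd hde Q hQ hQf hminus
      obtain ⟨g, hg, hgx⟩ := hall x hx ⟨1, by rw [hr2, hx2, one_smul]⟩ hxns
      exact hbad g hg hgx
    · exfalso
      have hidx := Cfsg.Agent.Lib.Helper81.SpO.relIndex_mul_card hq d hd1 Q hQ hQf
      by_cases hplus : Cfsg.Geo.IsPlusTypeOn Q ⊤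
      · rw [Cfsg.Agent.Lib.Helper26.SpO.card_isometryGroup_of_plus hq d hd1 Q hQ hplus] at hidx
        have h2 := Cfsg.Agent.Lib.Helper28.SpO.arith_index_plus q d _ hq2 hd1 hidx
        have hdiv : r ∣ q ^ d + 1 := dvd_of_odd_prime hq d _ _ r hr hr2 hΩ h2
        obtain ⟨x, hx, hxr, hfpf⟩ := exists_fpf_sp hq d hd1 r hr hr2 hdiv
        have hxns : ∀ z : F, (x : Matrix (Fin d ⊕ Fin d) (Fin d ⊕ Fin d) F) ≠
            z • (1 : Matrix (Fin d ⊕ Fin d) (Fin d ⊕ Fin d) F) := by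
          intro z hz
          have hz1 := scalar_eq_one hd1 x hx z hz
          rw [hz1, one_smul] at hz
          have h3 := hfpf (Pi.single (Sum.inl ⟨0, hd1⟩) 1) (by rw [hz, Matrix.one_mulVec])
          have h4 := congrFun h3 (Sum.inl ⟨0, hd1⟩)
          simp at h4
        obtain ⟨g, hg, hgx⟩ := hall x hx ⟨1, by rw [hxr, one_smul]⟩ hxns
        have hy : g⁻¹ * x * g ∈ Cfsg.spGL d F :=
          (Cfsg.spGL d F).mul_mem ((Cfsg.spGL d F).mul_mem ((Cfsg.spGL d F).inv_mem hg) hx) hg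
        have hyQ := isometry_of_mem hd1 Q hQf _ hy hgx
        have hxr' : x ^ r = 1 := Units.ext hxr
        have hyr : (g⁻¹ * x * g) ^ r = 1 := by
          have : g⁻¹ * x * g = g⁻¹ * x * g⁻¹⁻¹ := by rw [inv_inv]
          rw [this, conj_pow, hxr', mul_one, mul_inv_cancel]
        obtain ⟨v, hv0, hv⟩ := Cfsg.Agent.Lib.Helper66.SpO.exists_fixed_of_plus hq d hd1 Q hQ hplus r hr hr2 hdiv _ hyQ hyr
        apply hv0
        have h5 : (x : Matrix (Fin d ⊕ Fin d) (Fin d ⊕ Fin d) F) *ᵥ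
            ((g : Matrix (Fin d ⊕ Fin d) (Fin d ⊕ Fin d) F) *ᵥ v) =
            (g : Matrix (Fin d ⊕ Fin d) (Fin d ⊕ Fin d) F) *ᵥ v := by
          have h6 : ((g * (g⁻¹ * x * g) : GL (Fin d ⊕ Fin d) F) :
              Matrix (Fin d ⊕ Fin d) (Fin d ⊕ Fin d) F) *ᵥ v =
              (g : Matrix (Fin d ⊕ Fin d) (Fin d ⊕ Fin d) F) *ᵥ v := by
            rw [Units.val_mul, ← Matrix.mulVec_mulVec, hv]
          have h7 : g * (g⁻¹ * x * g) = x * g := by group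
          rw [h7, Units.val_mul, ← Matrix.mulVec_mulVec] at h6
          exact h6
        have h8 := hfpf _ h5
        have h9 : ((g⁻¹ : GL (Fin d ⊕ Fin d) F) : Matrix (Fin d ⊕ Fin d) (Fin d ⊕ Fin d) F) *ᵥ
            ((g : Matrix (Fin d ⊕ Fin d) (Fin d ⊕ Fin d) F) *ᵥ v) = v := by
          rw [Matrix.mulVec_mulVec, ← Units.val_mul, inv_mul_cancel, Units.val_one,
            Matrix.one_mulVec]
        rw [h8, Matrix.mulVec_zero] at h9
        exact h9.symm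
      · rw [Cfsg.Agent.Lib.Helper26.SpO.card_isometryGroup_of_not_plus hq d hd1 Q hQ hplus] at hidx
        have h2 := Cfsg.Agent.Lib.Helper28.SpO.arith_index_minus q d _ hq2 hd1 hidx
        have hdiv : r ∣ q ^ d - 1 := dvd_of_odd_prime hq d _ _ r hr hr2 hΩ h2
        obtain ⟨x, hx, hxr, hxns, hbad⟩ :=
          Cfsg.Agent.Lib.Helper69.SpO.exists_bad_odd_minus hq d hd1 Q hQ hQf hplus r hr hr2 hdiv
        obtain ⟨g, hg, hgx⟩ := hall x hx ⟨1, by rw [hxr, one_smul]⟩ hxns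
        exact hbad g hg hgx
  · rintro ⟨rfl, hpo⟩ x hx hx2 hxns
    refine Cfsg.Agent.Lib.Helper66.SpO.invol_conj_mem d hd1 Q hQ hQf (fun s _ hs => Cfsg.Agent.Lib.Helper72.SpO.exists_unit_frame d Q hQ s hs)
      (fun s hev hs => ?_) x hx hx2 hxns
    by_cases hplus : Cfsg.Geo.IsPlusTypeOn Q ⊤
    · exact Cfsg.Agent.Lib.Helper72.SpO.exists_singular_frame_of_plus d Q hQ hplus s hs
    · have hodd : Odd d := hpo.resolve_left hplus
      have hne : s ≠ d := by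
        rintro rfl
        exact (Nat.not_even_iff_odd.2 hodd) hev
      exact Cfsg.Agent.Lib.Helper72.SpO.exists_singular_frame_of_not_plus d Q hQ hplus s (by omega)

end Cfsg.Agent.Lib.Helper49.SpOGlue
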