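import Mathlib
import Cfsg.Agent.Lib.Helper49.EigDim
import Cfsg.Agent.Lib.Helper49.PrimeOrderGL
import Cfsg.Agent.Lib.Helper49.SemisimpleModel

set_option autoImplicit false

namespace Cfsg.Agent.Lib.Helper49

open Polynomial

section SplitEig

variable {F : Type*} [Field F]

/-- split polynomial with simple roots `f i` -/
noncomputable def splitPoly {ι : Type*} [Fintype ι] (f : ι → F) : F[X] := ∏ i, (X - C (f i))

theorem kdim_prod_index {V : Type*} [AddCommGroup V] [Module F V] [FiniteDimensional F V]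
    {ι : Type*} (φ : V →ₗ[F] V) (s : Finset ι) (P : ι → F[X])
    (hP : ∀ i ∈ s, ∀ j ∈ s, i ≠ j → IsCoprime (P i) (P j)) :
    kdim φ (∏ i ∈ s, P i) = ∑ i ∈ s, kdim φ (P i) := by
  classical
  induction s using Finset.induction_on with
  | empty => rw [Finset.prod_empty, Finset.sum_empty, kdim_one]
  | insert i₀ s' hi₀ ih =>
    rw [Finset.prod_insert hi₀, Finset.sum_insert hi₀, kdim_mul, ih]
    · intro i hi j hj hne
      exact hP i (Finset.mem_insert_of_mem hi) j (Finset.mem_insert_of_mem hj) hne
    · apply IsCoprime.prod_right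
      intro j hj
      apply hP i₀ (Finset.mem_insert_self _ _) j (Finset.mem_insert_of_mem hj)
      rintro rfl
      exact hi₀ hj

theorem isCoprime_X_sub_C_of_ne {a b : F} (h : a ≠ b) : IsCoprime (X - C a : F[X]) (X - C b) := by
  apply isCoprime_X_sub_C_of_isUnit_sub
  exact (sub_ne_zero.mpr h).isUnit

variable {ι : Type*} [Fintype ι] (f : ι → F) (hf : Function.Injective f)

include hf in
theorem finrank_eq_sum_ed {V : Type*} [AddCommGroup V] [Module F V] [FiniteDimensional F V]
    (φ : V →ₗ[F] V) (h : aeval φ (splitPoly f) = 0) :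
    Module.finrank F V = ∑ i, ed φ (f i) := by
  rw [← kdim_of_aeval_eq_zero φ _ h]
  unfold splitPoly ed
  apply kdim_prod_index
  intro a _ b _ hab
  exact isCoprime_X_sub_C_of_ne (fun h => hab (hf h))

include hf in
theorem squarefree_splitPoly : Squarefree (splitPoly f) := by
  apply Polynomial.Separable.squarefree
  unfold splitPoly
  rw [Polynomial.separable_prod_X_sub_C_iff']
  intro x _ y _ h
  exact hf h

theorem irreducible_dvd_splitPoly {P' : F[X]} (hirr : Irreducible P')
    (hdvd : P' ∣ splitPoly f) : ∃ i, Associated P' (X - C (f i)) := by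
  unfold splitPoly at hdvd
  obtain ⟨i, _, h⟩ := (Prime.dvd_finsetProd_iff hirr.prime _).mp hdvd
  exact ⟨i, hirr.associated_of_dvd (irreducible_X_sub_C (f i)) h⟩

include hf in
theorem exists_equiv_of_ed_eq [Finite F] {V W : Type*} [AddCommGroup V] [Module F V]
    [FiniteDimensional F V] [AddCommGroup W] [Module F W] [FiniteDimensional F W]
    (φ : V →ₗ[F] V) (ψ : W →ₗ[F] W)
    (hφ : aeval φ (splitPoly f) = 0) (hψ : aeval ψ (splitPoly f) = 0)
    (hed : ∀ i, ed φ (f i) = ed ψ (f i)) : ∃ e : V ≃ₗ[F] W, ∀ v, e (φ v) = ψ (e v) := by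
  apply exists_equiv_of_kdim_eq φ ψ _ (squarefree_splitPoly f hf) hφ hψ
  intro P' hP' hdvd
  obtain ⟨i, h⟩ := irreducible_dvd_splitPoly f hP' hdvd
  rw [kdim_assoc φ h, kdim_assoc ψ h]
  exact hed i

include hf in
theorem exists_matrix_of_profile [Finite F] (n : ℕ) (a : ι → ℕ)
    (ha : ∑ i, a i = n) :
    ∃ G : Matrix (Fin n) (Fin n) F, aeval G (splitPoly f) = 0 ∧
      ∀ i, ed (Matrix.toLin' G) (f i) = a i := by
  classical
  let κ := Σ i : ι, Fin (a i)
  let Q : κ → F[X] := fun x => X - C (f x.1)
  have hQ : ∀ j, Irreducible (Q j) := fun j => irreducible_X_sub_C _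
  have hsum : ∑ j, (Q j).natDegree = n := by
    rw [Fintype.sum_sigma]
    simp only [Q, natDegree_X_sub_C, Finset.sum_const, Finset.card_univ, Fintype.card_fin,
      smul_eq_mul, mul_one]
    exact ha
  haveI := finiteDimensional_model Q hQ
  obtain ⟨G, hG1, hG2⟩ := exists_matrix_of_operator (modelOp Q) n (by rw [finrank_model Q hQ, hsum])
  refine ⟨G, ?_, ?_⟩
  · apply hG1
    apply aeval_modelOp_eq_zero
    rintro ⟨i, k⟩
    exact Finset.dvd_prod_of_mem (fun i : ι => (X - C (f i) : F[X])) (Finset.mem_univ i)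
  · intro i₀
    unfold ed
    rw [hG2, kdim_modelOp Q hQ, Fintype.sum_sigma]
    have h2 : ∀ (i : ι) (k : Fin (a i)),
        (if Q ⟨i, k⟩ ∣ (X - C (f i₀) : F[X]) then (Q ⟨i, k⟩).natDegree else 0) =
          if i = i₀ then 1 else 0 := by
      intro i k
      by_cases hi : i = i₀
      · subst hi
        rw [if_pos rfl, if_pos (dvd_refl _)]
        exact natDegree_X_sub_C _
      · rw [if_neg hi, if_neg]
        intro hdvd
        have hne : f i ≠ f i₀ := fun h => hi (hf h)
        exact (irreducible_X_sub_C (f i)).not_isUnit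
          ((isCoprime_X_sub_C_of_ne hne).isUnit_of_dvd' dvd_rfl hdvd)
    rw [Finset.sum_congr rfl (fun i _ => Finset.sum_congr rfl (fun k _ => h2 i k))]
    simp only [Finset.sum_const, Finset.card_univ, Fintype.card_fin, smul_eq_mul]
    rw [Finset.sum_eq_single i₀]
    · rw [if_pos rfl, mul_one]
    · intro i _ hi
      rw [if_neg hi, mul_zero]
    · intro h
      exact absurd (Finset.mem_univ _) h

theorem natDegree_splitPoly : (splitPoly f).natDegree = Fintype.card ι := by
  unfold splitPoly
  rw [natDegree_finsetProd_X_sub_C_eq_card, Finset.card_univ]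

theorem monic_splitPoly : (splitPoly f).Monic := by
  unfold splitPoly
  exact monic_prod_of_monic _ _ (fun i _ => monic_X_sub_C (f i))

include hf in
/-- if the `f i` are `r` distinct `r`-th roots of unity then the split polynomial is `X^r - 1` -/
theorem splitPoly_eq_X_pow_sub_one (r : ℕ) (hr : 0 < r) (hcard : Fintype.card ι = r)
    (hroot : ∀ i, f i ^ r = 1) : splitPoly f = (X ^ r - 1 : F[X]) := by
  have hdvd : splitPoly f ∣ (X ^ r - 1 : F[X]) := by
    unfold splitPoly
    apply Finset.prod_dvd_of_coprime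
    · intro i _ j _ hij
      exact isCoprime_X_sub_C_of_ne (fun h => hij (hf h))
    · intro i _
      rw [dvd_iff_isRoot, IsRoot, eval_sub, eval_pow, eval_X, eval_one, hroot, sub_self]
  have hm : (X ^ r - 1 : F[X]).Monic := by
    have := monic_X_pow_sub_C (1 : F) hr.ne'
    rwa [C_1] at this
  symm
  apply eq_of_monic_of_dvd_of_natDegree_le (monic_splitPoly f) hm hdvd
  rw [natDegree_splitPoly, hcard]
  have : (X ^ r - 1 : F[X]) = X ^ r - C 1 := by rw [C_1]
  rw [this, natDegree_X_pow_sub_C]

end SplitEig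

end Cfsg.Agent.Lib.Helper49
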