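import Mathlib

set_option autoImplicit false

/-!
# K-S2311-D1 (keystone 2311013), architect helper64

Pure finset algebra: an alternating sum over a power set pushed through a map.
-/

namespace Cfsg.Agent.Lib.Helper49.StB

/-- K-D1 (pure finset algebra). -/
theorem sum_powerset_image {α β : Type*} [DecidableEq α] [DecidableEq β] (s : Finset α) (f : α → β)
    (g : Finset β → ℂ) :
    ∑ J ∈ s.powerset, (-1 : ℂ) ^ J.card * g (J.image f) =
      ∑ K ∈ (s.image f).powerset, (-1 : ℂ) ^ K.card * g K := by
  induction s using Finset.induction_on generalizing g with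
  | empty => simp
  | insert a s ha ih =>
    rw [Finset.sum_powerset_insert ha]
    have h1 : ∑ t ∈ s.powerset, (-1 : ℂ) ^ (insert a t).card * g ((insert a t).image f)
        = - ∑ t ∈ s.powerset, (-1 : ℂ) ^ t.card * g (insert (f a) (t.image f)) := by
      rw [← Finset.sum_neg_distrib]
      refine Finset.sum_congr rfl fun t ht => ?_
      have hat : a ∉ t := fun h => ha (Finset.mem_powerset.1 ht h)
      rw [Finset.card_insert_of_notMem hat, Finset.image_insert, pow_succ]
      ring
    rw [h1, ih g, ih (fun K => g (insert (f a) K)), Finset.image_insert]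
    by_cases hb : f a ∈ s.image f
    · rw [Finset.insert_eq_of_mem hb]
      have h2 : ∑ K ∈ (s.image f).powerset, (-1 : ℂ) ^ K.card * g (insert (f a) K) = 0 := by
        have hT : s.image f = insert (f a) ((s.image f).erase (f a)) :=
          (Finset.insert_erase hb).symm
        rw [hT, Finset.sum_powerset_insert (Finset.notMem_erase _ _), ← Finset.sum_add_distrib]
        refine Finset.sum_eq_zero fun K hK => ?_
        have hbK : f a ∉ K := fun h =>
          Finset.notMem_erase (f a) (s.image f) (Finset.mem_powerset.1 hK h)
        rw [Finset.card_insert_of_notMem hbK, Finset.insert_idem, pow_succ]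
        ring
      rw [h2, neg_zero, add_zero]
    · rw [Finset.sum_powerset_insert hb]
      congr 1
      rw [← Finset.sum_neg_distrib]
      refine Finset.sum_congr rfl fun K hK => ?_
      have hbK : f a ∉ K := fun h => hb (Finset.mem_powerset.1 hK h)
      rw [Finset.card_insert_of_notMem hbK, pow_succ]
      ring

end Cfsg.Agent.Lib.Helper49.StB
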