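import Mathlib
import Cfsg.Agent.Lib.Helper64.StBDefs
import Cfsg.Agent.Lib.Helper49.StBD1

set_option autoImplicit false

/-!
# K-S2311-D2 (keystone 2311014), architect helper64

The Steinberg character of a Chevalley group is the Steinberg character of its (B,N)-pair.
-/

namespace Cfsg.Agent.Lib.Helper49.StB

open Cfsg Cfsg.Agent.Lib.Helper08 Cfsg.Agent.Lib.Helper64.StB

theorem comap_closure_of_subset_range {G H : Type*} [Group G] [Group H] (f : H →* G)
    (hf : Function.Injective f) (X : Set G) (hX : X ⊆ Set.range f) :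
    (Subgroup.closure X).comap f = Subgroup.closure (f ⁻¹' X) := by
  have h1 : (Subgroup.closure (f ⁻¹' X)).map f = Subgroup.closure X := by
    rw [MonoidHom.map_closure, Set.image_preimage_eq_of_subset hX]
  rw [← h1, Subgroup.comap_map_eq_self_of_injective hf]

/-- K-D2. -/
theorem steinbergCharacter_eq_stChar {F : Type*} [Field F] [Fintype F] (D : Cfsg.Lie.ChevalleyDatum)
    (hle : D.borelSubgroup F ≤ D.group F)
    (P : Cfsg.BNPair ↥(D.group F))
    (hB : P.B = (D.borelSubgroup F).subgroupOf (D.group F))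
    (hS : P.S = {n : ↥(D.group F) | ∃ i < D.rank,
      ((n : GL D.Idx F) : Matrix D.Idx D.Idx F) = D.nMat F (D.simple i) 1})
    (hex : ∀ i < D.rank, ∃ n : ↥(D.group F),
      ((n : GL D.Idx F) : Matrix D.Idx D.Idx F) = D.nMat F (D.simple i) 1)
    [Finite ↥(D.group F)] :
    D.steinbergCharacter F = stChar P := by
  classical
  let sOf : ℕ → ↥(D.group F) := fun i =>
    if h : i < D.rank then Classical.choose (hex i h) else 1
  have hsOf : ∀ i (_h : i < D.rank),
      ((sOf i : GL D.Idx F) : Matrix D.Idx D.Idx F) = D.nMat F (D.simple i) 1 := by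
    intro i h
    simp only [sOf, dif_pos h]
    exact Classical.choose_spec (hex i h)
  have huniq : ∀ (n : ↥(D.group F)) i, i < D.rank →
      ((n : GL D.Idx F) : Matrix D.Idx D.Idx F) = D.nMat F (D.simple i) 1 → n = sOf i := by
    intro n i hi hn
    apply Subtype.ext
    apply Units.ext
    rw [hn, hsOf i hi]
  have hpar : ∀ J ∈ (Finset.range D.rank).powerset,
      D.parabolicIn F J = P.parabolic (↑(J.image sOf) : Set ↥(D.group F)) := by
    intro J hJ
    have hJr : ∀ j ∈ J, j < D.rank := fun j hj =>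
      Finset.mem_range.1 (Finset.mem_powerset.1 hJ hj)
    unfold Cfsg.Lie.ChevalleyDatum.parabolicIn Cfsg.Lie.ChevalleyDatum.parabolicSubgroup
      Cfsg.BNPair.parabolic
    set X : Set (GL D.Idx F) := {g | ∃ j ∈ (↑J : Set ℕ), j < D.rank ∧
      (g : Matrix D.Idx D.Idx F) = D.nMat F (D.simple j) 1} with hXdef
    have hXle : X ⊆ (D.group F : Set (GL D.Idx F)) := by
      rintro g ⟨j, _, hjr, hg⟩
      have : g = (sOf j : GL D.Idx F) := Units.ext (by rw [hg, hsOf j hjr])
      rw [this]
      exact (sOf j).2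
    have hcl : Subgroup.closure X ≤ D.group F := (Subgroup.closure_le _).2 hXle
    rw [Subgroup.subgroupOf_sup hle hcl, hB]
    congr 1
    rw [Subgroup.subgroupOf, comap_closure_of_subset_range _ (Subgroup.subtype_injective _) X
      (by rw [Subgroup.coe_subtype, Subtype.range_coe]; exact hXle)]
    congr 1
    ext n
    constructor
    · rintro ⟨j, hj, hjr, hn⟩
      rw [huniq n j hjr hn]
      exact Finset.mem_coe.2 (Finset.mem_image_of_mem _ hj)
    · intro hn
      obtain ⟨j, hj, rfl⟩ := Finset.mem_image.1 (Finset.mem_coe.1 hn)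
      exact ⟨j, hj, hJr j hj, hsOf j (hJr j hj)⟩
  have hSF : (Finset.range D.rank).image sOf = SF P := by
    ext s
    rw [mem_SF, hS, Finset.mem_image]
    constructor
    · rintro ⟨i, hi, rfl⟩
      exact ⟨i, Finset.mem_range.1 hi, hsOf i (Finset.mem_range.1 hi)⟩
    · rintro ⟨i, hi, hs⟩
      exact ⟨i, Finset.mem_range.2 hi, (huniq s i hi hs).symm⟩
  funext g
  unfold Cfsg.Lie.ChevalleyDatum.steinbergCharacter stChar
  rw [← hSF, ← sum_powerset_image (Finset.range D.rank) sOf
    (fun K => Cfsg.fixedPointCharacter (P.parabolic (↑K : Set ↥(D.group F))) g)]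
  refine Finset.sum_congr rfl fun J hJ => ?_
  rw [hpar J hJ]

end Cfsg.Agent.Lib.Helper49.StB
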