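import Cfsg.Agent.Lib.Helper49.StOpDefs
import Cfsg.Agent.Lib.Helper04.StOpF1L
import Cfsg.Agent.Lib.Helper09.StOpEX2
import Cfsg.Agent.Lib.Helper17.StOpC3a
import Cfsg.Agent.Lib.Helper17.StOpF3S
import Cfsg.Agent.Lib.Helper22.StOpEX3
import Cfsg.Agent.Lib.Helper26.StOpC3c
import Cfsg.Agent.Lib.Helper29.StOpR1
import Cfsg.Agent.Lib.Helper33.StOpEX1
import Cfsg.Agent.Lib.Helper37.StOpEX4
import Cfsg.Agent.Lib.Helper38.StOpF3L
import Cfsg.Agent.Lib.Helper44.StOpC8a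
import Cfsg.Agent.Lib.Helper47.StOpABS1
import Cfsg.Agent.Lib.Helper48.StOpC5a2
import Cfsg.Agent.Lib.Helper50.StOpIDX
import Cfsg.Agent.Lib.Helper57.StOpM4
import Cfsg.Agent.Lib.Helper62.StOpF1S
import Cfsg.Agent.Lib.Helper74.StOpC3b
import Cfsg.Agent.Lib.Helper74.StOpC5a1
import Cfsg.Agent.Lib.Helper75.StOpI2
import Cfsg.Agent.Lib.Helper77.StOpM1
import Cfsg.Agent.Lib.Helper85.StOpC5b
import Cfsg.Agent.Lib.Helper88.StOpF2L
import Cfsg.Agent.Lib.Helper88.StOpM5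
import Cfsg.Agent.Lib.Helper92.StOpC4
import Cfsg.Agent.Lib.Helper93.StOpF2SW
import Cfsg.Agent.Lib.Helper94.StOpC8
import Cfsg.Agent.Lib.Helper95.StOpC9
import Cfsg.Agent.Lib.Helper48.StORestrict
import Cfsg.Agent.Lib.Helper82.StOO12
import Cfsg.Agent.Lib.Helper62.StSUA6
import Cfsg.Agent.Lib.Helper85.StSUA5
import Cfsg.Agent.Lib.Helper65.StSpA4
import Cfsg.Agent.Lib.Helper08.BNPairParabolic

set_option autoImplicit false
set_option linter.unusedSectionVars false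

namespace Cfsg.Agent.Lib.Helper49.StOpGlue

open Cfsg Cfsg.Agent.Lib.Helper49.StOp
open scoped commutatorElement

variable {m : ℕ} {F : Type*} [Field F]

/-! ### the (B,N)-axioms inside `O⁺_{2m}(F)` -/

theorem T_le_B : Tsub m F ≤ Bsub m F := inf_le_left

theorem T_le_Bminus : Tsub m F ≤ Bminus m F := inf_le_right

theorem T_le_N : Tsub m F ≤ Nsub m F := le_sup_right

theorem S_subset_N : Sset m F ⊆ (Nsub m F : Set (OG m F)) := fun s hs =>
  (le_sup_left : Subgroup.closure (Sset m F) ≤ Nsub m F) (Subgroup.subset_closure hs)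

theorem B_inf_N : Bsub m F ⊓ Nsub m F = Tsub m F := by
  apply le_antisymm
  · rintro g ⟨hgB, hgN⟩
    obtain ⟨σ, hσ⟩ := Cfsg.Agent.Lib.Helper77.StOp.exists_monWith g hgN
    exact Cfsg.Agent.Lib.Helper57.StOp.mem_T_of_monWith g σ hσ hgB
  · exact le_inf T_le_B T_le_N

theorem conj_T_mem_B (g : OG m F) (hg : g ∈ Nsub m F) (t : OG m F)
    (ht : t ∈ Tsub m F) : g * t * g⁻¹ ∈ Bsub m F := by
  obtain ⟨σ, hσ⟩ := Cfsg.Agent.Lib.Helper77.StOp.exists_monWith g hg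
  exact T_le_B (Cfsg.Agent.Lib.Helper88.StOp.conj_mem_T g σ hσ t ht)

theorem mul_mem_union (s : OG m F) (hs : s ∈ Sset m F) (g : OG m F)
    (hg : g ∈ Nsub m F) (b : OG m F) (hb : b ∈ Bsub m F) :
    s * b * g ∈ DoubleCoset.doubleCoset (s * g) (Bsub m F : Set (OG m F)) (Bsub m F) ∪
      DoubleCoset.doubleCoset g (Bsub m F : Set (OG m F)) (Bsub m F) := by
  obtain ⟨σ, hσ⟩ := Cfsg.Agent.Lib.Helper77.StOp.exists_monWith g hg
  have hgT : ∀ h ∈ Tsub m F, g⁻¹ * h * g ∈ Bsub m F := by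
    intro h hh
    have := conj_T_mem_B g⁻¹ (inv_mem hg) h hh
    rwa [inv_inv] at this
  rcases hs with ⟨i, hi, rfl⟩ | ⟨hm, rfl⟩
  · have hlt : i < nxt i hi := by
      rw [Fin.lt_def]; simp [nxt]
    exact Cfsg.Agent.Lib.Helper65.StSp.mul_mem_union_of (Bsub m F) (Tsub m F) T_le_B _ g
      (fun t : F => xS m F i (nxt i hi) t) (fun t : F => xS m F (nxt i hi) i t)
      (fun t => Cfsg.Agent.Lib.Helper29.StOp.xS_mem_B i (nxt i hi) hlt t) (Cfsg.Agent.Lib.Helper29.StOp.xS_zero i (nxt i hi) (ne_nxt i hi))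
      (Cfsg.Agent.Lib.Helper62.StOp.decomp_short i hi) (Cfsg.Agent.Lib.Helper93.StOp.dich_short i hi g σ hσ) (Cfsg.Agent.Lib.Helper17.StOp.rank_one_short i hi) hgT b hb
  · exact Cfsg.Agent.Lib.Helper65.StSp.mul_mem_union_of (Bsub m F) (Tsub m F) T_le_B _ g
      (fun t : F => xP m F (prevF hm) (lastF (by omega)) t)
      (fun t : F => yP m F (prevF hm) (lastF (by omega)) t)
      (fun t => Cfsg.Agent.Lib.Helper29.StOp.xP_mem_B _ _ (prevF_ne_lastF hm) t) (Cfsg.Agent.Lib.Helper29.StOp.xP_zero _ _ (prevF_ne_lastF hm))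
      (Cfsg.Agent.Lib.Helper04.StOp.decomp_cross hm) (Cfsg.Agent.Lib.Helper88.StOp.dich_cross hm g σ hσ) (Cfsg.Agent.Lib.Helper38.StOp.rank_one_cross hm) hgT b hb

variable (m F)

/-- the subgroup `⟨B, N⟩` (of index `2` in `O⁺_{2m}(F)`) -/
def Gsub : Subgroup (OG m F) := Bsub m F ⊔ Nsub m F

/-- the subgroup `⟨B, B⁻⟩` -/
def Gpm : Subgroup (OG m F) := Bsub m F ⊔ Bminus m F

variable {m F}

theorem exists_bnPair : ∃ P : Cfsg.BNPair ↥(Gsub m F),
    P.B = (Bsub m F).subgroupOf (Gsub m F) ∧ P.N = (Nsub m F).subgroupOf (Gsub m F) := by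
  refine Cfsg.Agent.Lib.Helper47.StOp.exists_bnPair_sup (Bsub m F) (Nsub m F) (Sset m F) ?_ S_subset_N Cfsg.Agent.Lib.Helper17.StOp.sq_mem_B Cfsg.Agent.Lib.Helper74.StOp.S_inj ?_
    mul_mem_union Cfsg.Agent.Lib.Helper26.StOp.S_conj_ne
  · intro n hn t ht
    rw [B_inf_N] at ht
    exact conj_T_mem_B n hn t ht
  · rw [B_inf_N]; rfl


/-! ### `⟨B, B⁻⟩ = ⟨B, N⟩`, of index at most `2`, contains `Ω` -/

theorem B_le_Gpm : Bsub m F ≤ Gpm m F := le_sup_left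

theorem Bminus_le_Gpm : Bminus m F ≤ Gpm m F := le_sup_right

theorem Bminus_le_Gsub : Bminus m F ≤ Gsub m F := by
  obtain ⟨w, hwN, hw⟩ := Cfsg.Agent.Lib.Helper92.StOp.exists_w0 (m := m) (F := F)
  intro b hb
  have h1 := (Cfsg.Agent.Lib.Helper85.StOp.conj_w0_mem_B_iff w hw b).2 hb
  have hJ : w ∈ Gsub m F := (le_sup_right : Nsub m F ≤ _) hwN
  have h2 : w⁻¹ * b * w ∈ Gsub m F := (le_sup_left : Bsub m F ≤ _) h1
  have e : b = w * (w⁻¹ * b * w) * w⁻¹ := by group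
  rw [e]
  exact mul_mem (mul_mem hJ h2) (inv_mem hJ)

theorem Gpm_le_Gsub : Gpm m F ≤ Gsub m F := sup_le le_sup_left Bminus_le_Gsub

theorem S_subset_Gpm : Sset m F ⊆ (Gpm m F : Set (OG m F)) := by
  rintro s (⟨i, hi, rfl⟩ | ⟨hm, rfl⟩)
  · have hlt : i < nxt i hi := by
      rw [Fin.lt_def]; simp [nxt]
    obtain ⟨t', t'', h, hh, e⟩ := Cfsg.Agent.Lib.Helper17.StOp.rank_one_short (F := F) i hi 1 one_ne_zero
    have e2 : sShort m F i (nxt i hi) =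
        xS m F i (nxt i hi) t' * h * xS m F (nxt i hi) i t'' * (xS m F i (nxt i hi) 1)⁻¹ := by
      rw [← e]; group
    show sShort m F i (nxt i hi) ∈ Gpm m F
    rw [e2]
    exact mul_mem (mul_mem (mul_mem (B_le_Gpm (Cfsg.Agent.Lib.Helper29.StOp.xS_mem_B _ _ hlt _)) (B_le_Gpm (T_le_B hh)))
      (Bminus_le_Gpm (Cfsg.Agent.Lib.Helper29.StOp.xS_mem_Bminus _ _ hlt _))) (inv_mem (B_le_Gpm (Cfsg.Agent.Lib.Helper29.StOp.xS_mem_B _ _ hlt _)))
  · obtain ⟨t', t'', h, hh, e⟩ := Cfsg.Agent.Lib.Helper38.StOp.rank_one_cross (F := F) hm 1 one_ne_zero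
    have e2 : sCross m F (prevF hm) (lastF (by omega)) =
        xP m F (prevF hm) (lastF (by omega)) t' * h * yP m F (prevF hm) (lastF (by omega)) t'' *
          (xP m F (prevF hm) (lastF (by omega)) 1)⁻¹ := by
      rw [← e]; group
    show sCross m F (prevF hm) (lastF (by omega)) ∈ Gpm m F
    rw [e2]
    exact mul_mem (mul_mem (mul_mem (B_le_Gpm (Cfsg.Agent.Lib.Helper29.StOp.xP_mem_B _ _ (prevF_ne_lastF hm) _))
      (B_le_Gpm (T_le_B hh))) (Bminus_le_Gpm (Cfsg.Agent.Lib.Helper29.StOp.yP_mem_Bminus _ _ (prevF_ne_lastF hm) _)))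
      (inv_mem (B_le_Gpm (Cfsg.Agent.Lib.Helper29.StOp.xP_mem_B _ _ (prevF_ne_lastF hm) _)))

theorem Gsub_le_Gpm : Gsub m F ≤ Gpm m F := by
  refine sup_le le_sup_left (sup_le ?_ (le_trans T_le_B B_le_Gpm))
  rw [Subgroup.closure_le]
  exact S_subset_Gpm

theorem Gsub_eq_Gpm : Gsub m F = Gpm m F := le_antisymm Gsub_le_Gpm Gpm_le_Gsub

theorem rFlip_inv (k : Fin m) : (rFlip m F k)⁻¹ = rFlip m F k :=
  inv_eq_of_mul_eq_one_left (Cfsg.Agent.Lib.Helper75.StOp.rFlip_mul_self k)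

theorem rFlip_conj_Gpm (hm : 0 < m) (x : OG m F) (hx : x ∈ Gpm m F) :
    rFlip m F (lastF hm) * x * (rFlip m F (lastF hm))⁻¹ ∈ Gpm m F := by
  have key : Gpm m F ≤ (Gpm m F).comap (MulAut.conj (rFlip m F (lastF hm))).toMonoidHom := by
    refine sup_le ?_ ?_
    · intro b hb
      rw [Subgroup.mem_comap]
      exact B_le_Gpm (Cfsg.Agent.Lib.Helper75.StOp.rFlip_conj_B hm b hb)
    · intro b hb
      rw [Subgroup.mem_comap]
      exact Bminus_le_Gpm (Cfsg.Agent.Lib.Helper75.StOp.rFlip_conj_Bminus hm b hb)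
  exact key hx

/-- every isometry lies in `⟨B, B⁻⟩` or in its coset by `r` -/
theorem gen_aux (hm : 0 < m) : ∀ d j : ℕ, j + d = m - 1 → ∀ g : OG m F, g ∈ FlagStab m F j →
    g ∈ Gpm m F ∨ rFlip m F (lastF hm) * g ∈ Gpm m F := by
  intro d
  induction d with
  | zero =>
    intro j hj g hg
    rw [Nat.add_zero] at hj
    subst hj
    rcases Cfsg.Agent.Lib.Helper48.StOp.flagStab_last hm g hg with h | h
    · exact Or.inl (B_le_Gpm (Cfsg.Agent.Lib.Helper74.StOp.flagStab_full_subset_B h))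
    · exact Or.inr (B_le_Gpm (Cfsg.Agent.Lib.Helper74.StOp.flagStab_full_subset_B h))
  | succ d ih =>
    intro j hj g hg
    obtain ⟨h, hh, hhg⟩ := Cfsg.Agent.Lib.Helper74.StOp.flagStab_step j (by omega) g hg
    rcases ih (j + 1) (by omega) (h * g) hhg with h2 | h2
    · left
      have e : g = h⁻¹ * (h * g) := by group
      rw [e]
      exact mul_mem (inv_mem hh) h2
    · right
      have e : rFlip m F (lastF hm) * g =
          (rFlip m F (lastF hm) * h * (rFlip m F (lastF hm))⁻¹)⁻¹ *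
            (rFlip m F (lastF hm) * (h * g)) := by group
      rw [e]
      exact mul_mem (inv_mem (rFlip_conj_Gpm hm h hh)) h2

theorem gen (hm : 0 < m) (g : OG m F) :
    g ∈ Gpm m F ∨ rFlip m F (lastF hm) * g ∈ Gpm m F := by
  apply gen_aux hm (m - 1) 0 (by omega) g
  intro a b hb _
  exact absurd hb (Nat.not_lt_zero _)

theorem Gpm_normal (hm : 0 < m) : (Gpm m F).Normal := by
  constructor
  intro y hy x
  rcases gen hm x with hx | hx
  · exact mul_mem (mul_mem hx hy) (inv_mem hx)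
  · have e : x * y * x⁻¹ = (rFlip m F (lastF hm)) * ((rFlip m F (lastF hm) * x) * y *
        (rFlip m F (lastF hm) * x)⁻¹) * (rFlip m F (lastF hm))⁻¹ := by
      have h1 : (rFlip m F (lastF hm)) * (rFlip m F (lastF hm)) = 1 := Cfsg.Agent.Lib.Helper75.StOp.rFlip_mul_self _
      have h2 : (rFlip m F (lastF hm))⁻¹ = rFlip m F (lastF hm) := rFlip_inv _
      rw [mul_inv_rev, h2]
      calc x * y * x⁻¹ = (rFlip m F (lastF hm) * rFlip m F (lastF hm)) * x * y * x⁻¹ *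
            (rFlip m F (lastF hm) * rFlip m F (lastF hm)) := by rw [h1, one_mul, mul_one]
        _ = _ := by group
    rw [e]
    exact rFlip_conj_Gpm hm _ (mul_mem (mul_mem hx hy) (inv_mem hx))

theorem Omega_le_Gpm (hm : 0 < m) :
    Cfsg.Omega F (Cfsg.quadFormPlus m F) ≤ Gpm m F := by
  have hN : (Gpm m F).Normal := Gpm_normal hm
  have hcomm : ∀ a b : OG m F ⧸ Gpm m F, a * b = b * a := by
    have hcase : ∀ x : OG m F, (QuotientGroup.mk x : OG m F ⧸ Gpm m F) = 1 ∨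
        (QuotientGroup.mk x : OG m F ⧸ Gpm m F) =
          (QuotientGroup.mk (rFlip m F (lastF hm)) : OG m F ⧸ Gpm m F)⁻¹ := by
      intro x
      rcases gen hm x with hx | hx
      · left
        exact (QuotientGroup.eq_one_iff x).2 hx
      · right
        have h1 : (QuotientGroup.mk (rFlip m F (lastF hm) * x) : OG m F ⧸ Gpm m F) = 1 :=
          (QuotientGroup.eq_one_iff _).2 hx
        rw [QuotientGroup.mk_mul] at h1
        exact eq_inv_of_mul_eq_one_right h1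
    intro a b
    obtain ⟨x, rfl⟩ := QuotientGroup.mk_surjective a
    obtain ⟨y, rfl⟩ := QuotientGroup.mk_surjective b
    rcases hcase x with hx | hx <;> rcases hcase y with hy | hy <;> rw [hx, hy] <;>
      simp only [one_mul, mul_one]
  letI : CommGroup (OG m F ⧸ Gpm m F) :=
    { (inferInstance : Group (OG m F ⧸ Gpm m F)) with mul_comm := hcomm }
  have h := Abelianization.commutator_subset_ker (QuotientGroup.mk' (Gpm m F))
  rw [QuotientGroup.ker_mk'] at h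
  exact h


/-! ### the generic endgame for a (B,N)-pair restricted to a normal subgroup
(variant of `Helper48.StO.steinberg_of_restrict` in which the centre is handled by
`Helper62.StSU.center_le_B_inf_N`) -/

theorem steinberg_of_restrict' {G : Type*} [Group G] [Finite G] (P : Cfsg.BNPair G)
    (H : Subgroup G) [H.Normal] (T : Subgroup G) (hBN : P.B ⊓ P.N = T) (hHT : H ⊔ T = ⊤)
    (p : ℕ) [Fact p.Prime] (w : G) (hw : w ∈ P.N)
    (hwB : ∀ b ∈ P.B, w⁻¹ * b * w ∈ P.B → b ∈ T)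
    (a : ℕ) (ha : T.relIndex P.B = p ^ a) (hTp : ¬ p ∣ Nat.card ↥T) :
    ∃ χ : ↥H ⧸ Subgroup.center ↥H → ℂ, Cfsg.IsIrrCharacter (↥H ⧸ Subgroup.center ↥H) χ ∧
      ∀ Q : Sylow p (↥H ⧸ Subgroup.center ↥H), χ 1 = Nat.card Q ∧
        ∀ x : ↥H ⧸ Subgroup.center ↥H, x ∈ Q → x ≠ 1 → χ x = 0 := by
  have hTB : T ≤ P.B := hBN ▸ inf_le_left
  have hTN : T ≤ P.N := hBN ▸ inf_le_right
  obtain ⟨P', hB', hN'⟩ :=
    Cfsg.Agent.Lib.Helper92.StO.exists_bnPair_subgroupOf P H (by rw [hBN]; exact hHT)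
  have hBN' : P'.B ⊓ P'.N = T.subgroupOf H := by
    rw [hB', hN', Cfsg.Agent.Lib.Helper48.StO.inf_subgroupOf, hBN]
  have hw' : w ∈ H ⊔ T := by rw [hHT]; trivial
  have hw'' : w ∈ ((H ⊔ T : Subgroup G) : Set G) := hw'
  rw [Subgroup.normal_mul] at hw''
  obtain ⟨ω, hω, t, ht, hωt⟩ := Set.mem_mul.1 hw''
  simp only [SetLike.mem_coe] at hω ht
  have hωN : ω ∈ P.N := by
    have : ω = w * t⁻¹ := by rw [← hωt]; group
    rw [this]
    exact mul_mem hw (inv_mem (hTN ht))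
  have h1 : (⟨ω, hω⟩ : ↥H) ∈ P'.N := by
    rw [hN']; exact hωN
  have h2 : ∀ b ∈ P'.B, (⟨ω, hω⟩ : ↥H)⁻¹ * b * ⟨ω, hω⟩ ∈ P'.B → b ∈ P'.N := by
    intro b hb hc
    rw [hB'] at hb hc
    rw [hN']
    have hb1 : (b : G) ∈ P.B := hb
    have hc1 : ω⁻¹ * (b : G) * ω ∈ P.B := hc
    have hc2 : w⁻¹ * (b : G) * w ∈ P.B := by
      have e : w⁻¹ * (b : G) * w = t⁻¹ * (ω⁻¹ * (b : G) * ω) * t := by
        rw [← hωt]; group
      rw [e]
      exact mul_mem (mul_mem (inv_mem (hTB ht)) hc1) (hTB ht)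
    exact hTN (hwB _ hb1 hc2)
  refine Cfsg.Agent.Lib.Helper49.StGeneric.exists_steinberg P' p ⟨ω, hω⟩ h1 h2 a ?_ ?_
    (Cfsg.Agent.Lib.Helper62.StSU.center_le_B_inf_N P' ⟨ω, hω⟩ h1 h2)
  · rw [hBN', hB', Cfsg.Agent.Lib.Helper64.StO.relIndex_subgroupOf_eq H P.B T hTB hHT]
    exact ha
  · rw [hBN']
    exact fun hdvd => hTp (dvd_trans hdvd (Cfsg.Agent.Lib.Helper48.StO.card_subgroupOf_dvd T H))

/-! ### from `Ω.subgroupOf ⟨B, N⟩` to `PΩ` -/

theorem transport_H [Fintype F] (p : ℕ) [Fact p.Prime] (hm : 0 < m)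
    (h : ∃ χ : ↥((Cfsg.Omega F (Cfsg.quadFormPlus m F)).subgroupOf (Gsub m F)) ⧸
          Subgroup.center ↥((Cfsg.Omega F (Cfsg.quadFormPlus m F)).subgroupOf (Gsub m F)) → ℂ,
        Cfsg.IsIrrCharacter (↥((Cfsg.Omega F (Cfsg.quadFormPlus m F)).subgroupOf (Gsub m F)) ⧸
          Subgroup.center ↥((Cfsg.Omega F (Cfsg.quadFormPlus m F)).subgroupOf (Gsub m F))) χ ∧
        ∀ Q : Sylow p (↥((Cfsg.Omega F (Cfsg.quadFormPlus m F)).subgroupOf (Gsub m F)) ⧸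
          Subgroup.center ↥((Cfsg.Omega F (Cfsg.quadFormPlus m F)).subgroupOf (Gsub m F))),
          χ 1 = Nat.card Q ∧ ∀ x, x ∈ Q → x ≠ 1 → χ x = 0) :
    ∃ χ : Cfsg.POmega F (Cfsg.quadFormPlus m F) → ℂ,
      Cfsg.IsIrrCharacter (Cfsg.POmega F (Cfsg.quadFormPlus m F)) χ ∧
      ∀ P : Sylow p (Cfsg.POmega F (Cfsg.quadFormPlus m F)), χ 1 = Nat.card P ∧
        ∀ x : Cfsg.POmega F (Cfsg.quadFormPlus m F), x ∈ P → x ≠ 1 → χ x = 0 := by
  have hle : Cfsg.Omega F (Cfsg.quadFormPlus m F) ≤ Gsub m F :=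
    le_trans (Omega_le_Gpm hm) Gpm_le_Gsub
  have : Finite ↥(Cfsg.Omega F (Cfsg.quadFormPlus m F)) := inferInstance
  exact Cfsg.Agent.Lib.Helper85.StSU.steinberg_transport
    (Subgroup.subgroupOfEquivOfLe hle).symm p h

/-! ### the non-exceptional cases -/

theorem steinberg_H [Fintype F] (p : ℕ) [Fact p.Prime] [CharP F p]
    (hGle : Gsub m F ≤ Cfsg.Omega F (Cfsg.quadFormPlus m F) ⊔ Tsub m F) :
    ∃ χ : ↥((Cfsg.Omega F (Cfsg.quadFormPlus m F)).subgroupOf (Gsub m F)) ⧸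
          Subgroup.center ↥((Cfsg.Omega F (Cfsg.quadFormPlus m F)).subgroupOf (Gsub m F)) → ℂ,
        Cfsg.IsIrrCharacter (↥((Cfsg.Omega F (Cfsg.quadFormPlus m F)).subgroupOf (Gsub m F)) ⧸
          Subgroup.center ↥((Cfsg.Omega F (Cfsg.quadFormPlus m F)).subgroupOf (Gsub m F))) χ ∧
        ∀ Q : Sylow p (↥((Cfsg.Omega F (Cfsg.quadFormPlus m F)).subgroupOf (Gsub m F)) ⧸
          Subgroup.center ↥((Cfsg.Omega F (Cfsg.quadFormPlus m F)).subgroupOf (Gsub m F))),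
          χ 1 = Nat.card Q ∧ ∀ x, x ∈ Q → x ≠ 1 → χ x = 0 := by
  obtain ⟨P, hPB, hPN⟩ := exists_bnPair (m := m) (F := F)
  obtain ⟨w, hwN, hw⟩ := Cfsg.Agent.Lib.Helper92.StOp.exists_w0 (m := m) (F := F)
  obtain ⟨a, ha⟩ := Cfsg.Agent.Lib.Helper94.StOp.relIndex_T_B (m := m) (F := F) p
  have hBG : Bsub m F ≤ Gsub m F := le_sup_left
  have hNG : Nsub m F ≤ Gsub m F := le_sup_right
  have hTG : Tsub m F ≤ Gsub m F := le_trans T_le_B hBG
  have hBN : P.B ⊓ P.N = (Tsub m F).subgroupOf (Gsub m F) := by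
    rw [hPB, hPN, Cfsg.Agent.Lib.Helper48.StO.inf_subgroupOf, B_inf_N]
  have : Finite ↥(Gsub m F) := inferInstance
  refine steinberg_of_restrict' P ((Cfsg.Omega F (Cfsg.quadFormPlus m F)).subgroupOf (Gsub m F))
    ((Tsub m F).subgroupOf (Gsub m F)) hBN ?_ p ⟨w, hNG hwN⟩ ?_ ?_ a ?_ ?_
  · -- `H ⊔ T = ⊤`
    rw [eq_top_iff]
    intro x _
    have hx : (x : OG m F) ∈ Cfsg.Omega F (Cfsg.quadFormPlus m F) ⊔ Tsub m F := hGle x.2
    have hx' : (x : OG m F) ∈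
        ((Cfsg.Omega F (Cfsg.quadFormPlus m F) ⊔ Tsub m F : Subgroup (OG m F)) : Set (OG m F)) := hx
    rw [Subgroup.normal_mul] at hx'
    obtain ⟨ω, hω, t, ht, hωt⟩ := Set.mem_mul.1 hx'
    simp only [SetLike.mem_coe] at hω ht
    have hωG : ω ∈ Gsub m F := by
      have : ω = (x : OG m F) * t⁻¹ := by rw [← hωt]; group
      rw [this]
      exact mul_mem x.2 (inv_mem (hTG ht))
    have e : x = (⟨ω, hωG⟩ : ↥(Gsub m F)) * ⟨t, hTG ht⟩ := Subtype.ext hωt.symm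
    rw [e]
    exact mul_mem (Subgroup.mem_sup_left (Subgroup.mem_subgroupOf.2 hω))
      (Subgroup.mem_sup_right (Subgroup.mem_subgroupOf.2 ht))
  · rw [hPN]; exact Subgroup.mem_subgroupOf.2 hwN
  · intro b hb hc
    rw [hPB] at hb hc
    have hb1 : (b : OG m F) ∈ Bsub m F := hb
    have hc1 : w⁻¹ * (b : OG m F) * w ∈ Bsub m F := hc
    exact Subgroup.mem_subgroupOf.2 ⟨hb1, (Cfsg.Agent.Lib.Helper85.StOp.conj_w0_mem_B_iff w hw _).1 hc1⟩
  · rw [hPB, Subgroup.relIndex_subgroupOf hBG]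
    exact ha
  · exact fun hdvd => Cfsg.Agent.Lib.Helper95.StOp.not_dvd_card_T (m := m) (F := F) p
      (dvd_trans hdvd (Cfsg.Agent.Lib.Helper48.StO.card_subgroupOf_dvd _ _))


theorem Gsub_le_odd [Fintype F] (p : ℕ) [Fact p.Prime] [CharP F p] (h2 : (2 : F) ≠ 0)
    (hm : 0 < m) : Gsub m F ≤ Cfsg.Omega F (Cfsg.quadFormPlus m F) ⊔ Tsub m F := by
  have hp : p.Prime := Fact.out
  have hp2 : p ≠ 2 := by
    intro h
    apply h2
    have := CharP.cast_eq_zero F p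
    rw [h] at this
    exact_mod_cast this
  have hidx := Cfsg.Agent.Lib.Helper50.StOp.index_Omega_odd (m := m) (F := F) h2 hm
  rw [Gsub_eq_Gpm]
  have key : ∀ b : OG m F, (∃ d ∈ Tsub m F, ∃ k : ℕ, (b * d⁻¹) ^ (p ^ k) = 1) →
      b ∈ Cfsg.Omega F (Cfsg.quadFormPlus m F) ⊔ Tsub m F := by
    rintro b ⟨d, hd, k, hk⟩
    have h1 : b * d⁻¹ ∈ Cfsg.Omega F (Cfsg.quadFormPlus m F) :=
      Cfsg.Agent.Lib.Helper82.StO.mem_of_pow_prime_pow_eq_one _ hidx p hp hp2 _ k hk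
    have h3 : b = (b * d⁻¹) * d := by group
    rw [h3]
    exact mul_mem (Subgroup.mem_sup_left h1) (Subgroup.mem_sup_right hd)
  exact sup_le (fun b hb => key b (Cfsg.Agent.Lib.Helper44.StOp.exists_diag_unip p b hb))
    (fun b hb => key b (Cfsg.Agent.Lib.Helper44.StOp.exists_diag_unip_minus p b hb))

theorem rFlip_not_mem_Gsub [Fintype F] (hm : 0 < m) : rFlip m F (lastF hm) ∉ Gsub m F := by
  intro hr
  obtain ⟨P, hPB, hPN⟩ := exists_bnPair (m := m) (F := F)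
  have hmem : (⟨rFlip m F (lastF hm), hr⟩ : ↥(Gsub m F)) ∈ P.B := by
    apply Cfsg.Agent.Lib.Helper08.mem_of_conj_le P P.B P.B le_rfl le_rfl
    intro x hx
    rw [hPB] at hx ⊢
    exact Cfsg.Agent.Lib.Helper75.StOp.rFlip_conj_B hm _ hx
  rw [hPB] at hmem
  exact Cfsg.Agent.Lib.Helper75.StOp.rFlip_not_mem_B hm hmem

theorem Gsub_le_even [Fintype F] (h2 : (2 : F) = 0) (hm : 0 < m)
    (h : Fintype.card F ≠ 2 ∨ m ≠ 2) :
    Gsub m F ≤ Cfsg.Omega F (Cfsg.quadFormPlus m F) ⊔ Tsub m F := by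
  have hidx := Cfsg.Agent.Lib.Helper50.StOp.index_Omega_even (m := m) (F := F) h2 hm h
  have hle : Cfsg.Omega F (Cfsg.quadFormPlus m F) ≤ Gsub m F :=
    le_trans (Omega_le_Gpm hm) Gpm_le_Gsub
  have h1 := Subgroup.relIndex_mul_index hle
  rw [hidx] at h1
  have hne : (Gsub m F).index ≠ 1 := by
    rw [Ne, Subgroup.index_eq_one]
    intro htop
    exact rFlip_not_mem_Gsub hm (htop ▸ Subgroup.mem_top _)
  have hdvd : (Gsub m F).index ∣ 2 := Dvd.intro_left _ h1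
  have h2' : (Gsub m F).index = 2 := by
    rcases (Nat.dvd_prime Nat.prime_two).1 hdvd with h | h
    · exact absurd h hne
    · exact h
  rw [h2'] at h1
  have h3 : (Cfsg.Omega F (Cfsg.quadFormPlus m F)).relIndex (Gsub m F) = 1 := by omega
  exact le_trans (Subgroup.relIndex_eq_one.1 h3) le_sup_left

/-! ### the exceptional case `O⁺_4(2)` -/

theorem center_H_eq_bot [Fintype F] (hF : Fintype.card F = 2) :
    Subgroup.center ↥((Cfsg.Omega F (Cfsg.quadFormPlus 2 F)).subgroupOf (Gsub 2 F)) = ⊥ := by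
  have hle : Cfsg.Omega F (Cfsg.quadFormPlus 2 F) ≤ Gsub 2 F :=
    le_trans (Omega_le_Gpm (by norm_num)) Gpm_le_Gsub
  rw [eq_bot_iff]
  intro z hz
  rw [Subgroup.mem_bot]
  have hc : (Subgroup.subgroupOfEquivOfLe hle) z ∈
      Subgroup.center ↥(Cfsg.Omega F (Cfsg.quadFormPlus 2 F)) := by
    rw [Subgroup.mem_center_iff]
    intro y
    obtain ⟨y', rfl⟩ := (Subgroup.subgroupOfEquivOfLe hle).surjective y
    rw [← map_mul, ← map_mul, Subgroup.mem_center_iff.1 hz y']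
  rw [Cfsg.Agent.Lib.Helper09.StOp.center_Omega_eq_bot hF, Subgroup.mem_bot] at hc
  exact (Subgroup.subgroupOfEquivOfLe hle).injective (hc.trans (map_one _).symm)

theorem steinberg_H_exc [Fintype F] (p : ℕ) [Fact p.Prime] [CharP F p]
    (hF : Fintype.card F = 2) :
    ∃ χ : ↥((Cfsg.Omega F (Cfsg.quadFormPlus 2 F)).subgroupOf (Gsub 2 F)) ⧸
          Subgroup.center ↥((Cfsg.Omega F (Cfsg.quadFormPlus 2 F)).subgroupOf (Gsub 2 F)) → ℂ,
        Cfsg.IsIrrCharacter (↥((Cfsg.Omega F (Cfsg.quadFormPlus 2 F)).subgroupOf (Gsub 2 F)) ⧸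
          Subgroup.center ↥((Cfsg.Omega F (Cfsg.quadFormPlus 2 F)).subgroupOf (Gsub 2 F))) χ ∧
        ∀ Q : Sylow p (↥((Cfsg.Omega F (Cfsg.quadFormPlus 2 F)).subgroupOf (Gsub 2 F)) ⧸
          Subgroup.center ↥((Cfsg.Omega F (Cfsg.quadFormPlus 2 F)).subgroupOf (Gsub 2 F))),
          χ 1 = Nat.card Q ∧ ∀ x, x ∈ Q → x ≠ 1 → χ x = 0 := by
  obtain ⟨P, hPB, hPN⟩ := exists_bnPair (m := 2) (F := F)
  obtain ⟨w, hwN, hw⟩ := Cfsg.Agent.Lib.Helper92.StOp.exists_w0 (m := 2) (F := F)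
  obtain ⟨a, ha⟩ := Cfsg.Agent.Lib.Helper94.StOp.relIndex_T_B (m := 2) (F := F) p
  have hBG : Bsub 2 F ≤ Gsub 2 F := le_sup_left
  have hNG : Nsub 2 F ≤ Gsub 2 F := le_sup_right
  have hBN : P.B ⊓ P.N = (Tsub 2 F).subgroupOf (Gsub 2 F) := by
    rw [hPB, hPN, Cfsg.Agent.Lib.Helper48.StO.inf_subgroupOf, B_inf_N]
  have : Finite ↥(Gsub 2 F) := inferInstance
  have hT : Tsub 2 F = ⊥ := Cfsg.Agent.Lib.Helper22.StOp.Tsub_eq_bot hF
  have hwN' : (⟨w, hNG hwN⟩ : ↥(Gsub 2 F)) ∈ P.N := by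
    rw [hPN]; exact Subgroup.mem_subgroupOf.2 hwN
  have hwT : ∀ b ∈ P.B, (⟨w, hNG hwN⟩ : ↥(Gsub 2 F))⁻¹ * b * ⟨w, hNG hwN⟩ ∈ P.B → b ∈ P.N := by
    intro b hb hc
    rw [hPB] at hb hc
    have hb1 : (b : OG 2 F) ∈ Bsub 2 F := hb
    have hc1 : w⁻¹ * (b : OG 2 F) * w ∈ Bsub 2 F := hc
    rw [hPN]
    exact Subgroup.mem_subgroupOf.2 (T_le_N ⟨hb1, (Cfsg.Agent.Lib.Helper85.StOp.conj_w0_mem_B_iff w hw _).1 hc1⟩)
  have hZ := Cfsg.Agent.Lib.Helper62.StSU.center_le_B_inf_N P _ hwN' hwT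
  have hχ := Cfsg.Agent.Lib.Helper49.StGeneric.exists_steinberg P p _ hwN' hwT a
    (by rw [hBN, hPB, Subgroup.relIndex_subgroupOf hBG]; exact ha)
    (by
      rw [hBN]
      exact fun hdvd => Cfsg.Agent.Lib.Helper95.StOp.not_dvd_card_T (m := 2) (F := F) p
        (dvd_trans hdvd (Cfsg.Agent.Lib.Helper48.StO.card_subgroupOf_dvd _ _)))
    hZ
  have hZG : Subgroup.center ↥(Gsub 2 F) = ⊥ := by
    rw [eq_bot_iff]
    refine le_trans hZ ?_
    rw [hBN, hT]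
    intro x hx
    rw [Subgroup.mem_subgroupOf, Subgroup.mem_bot] at hx
    rw [Subgroup.mem_bot]
    exact Subtype.ext hx
  -- the index is a power of `p`
  have hidx : ∃ k : ℕ,
      ((Cfsg.Omega F (Cfsg.quadFormPlus 2 F)).subgroupOf (Gsub 2 F)).index = p ^ k := by
    refine Cfsg.Agent.Lib.Helper37.StOp.index_eq_prime_pow _ ?_ p
      (((Bsub 2 F).subgroupOf (Gsub 2 F) : Set ↥(Gsub 2 F)) ∪
        ((Bminus 2 F).subgroupOf (Gsub 2 F) : Set ↥(Gsub 2 F))) ?_ ?_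
    · rw [commutator_def, Subgroup.commutator_le]
      intro x _ y _
      rw [Subgroup.mem_subgroupOf]
      have : ((⁅x, y⁆ : ↥(Gsub 2 F)) : OG 2 F) = ⁅(x : OG 2 F), (y : OG 2 F)⁆ := rfl
      rw [this]
      exact Subgroup.commutator_mem_commutator (Subgroup.mem_top _) (Subgroup.mem_top _)
    · rw [Subgroup.closure_union, Subgroup.closure_eq, Subgroup.closure_eq,
        ← Subgroup.subgroupOf_sup hBG Bminus_le_Gsub]
      have : Bsub 2 F ⊔ Bminus 2 F = Gsub 2 F := Gsub_eq_Gpm.symm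
      rw [this, Subgroup.subgroupOf_self]
    · rintro s (hs | hs)
      · obtain ⟨d, hd, k, hk⟩ := Cfsg.Agent.Lib.Helper44.StOp.exists_diag_unip p (s : OG 2 F) hs
        rw [hT, Subgroup.mem_bot] at hd
        rw [hd, inv_one, mul_one] at hk
        exact ⟨k, Subtype.ext hk⟩
      · obtain ⟨d, hd, k, hk⟩ := Cfsg.Agent.Lib.Helper44.StOp.exists_diag_unip_minus p (s : OG 2 F) hs
        rw [hT, Subgroup.mem_bot] at hd
        rw [hd, inv_one, mul_one] at hk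
        exact ⟨k, Subtype.ext hk⟩
  exact Cfsg.Agent.Lib.Helper33.StOp.exists_defect_zero_restrict _ p hidx hZG (center_H_eq_bot hF) hχ

/-! ### the main theorem -/

theorem main [Fintype F] (p : ℕ) [Fact p.Prime] [CharP F p] (m : ℕ) (hm : 1 ≤ m) :
    ∃ χ : Cfsg.POmega F (Cfsg.quadFormPlus m F) → ℂ,
      Cfsg.IsIrrCharacter (Cfsg.POmega F (Cfsg.quadFormPlus m F)) χ ∧
      ∀ P : Sylow p (Cfsg.POmega F (Cfsg.quadFormPlus m F)), χ 1 = Nat.card P ∧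
        ∀ x : Cfsg.POmega F (Cfsg.quadFormPlus m F), x ∈ P → x ≠ 1 → χ x = 0 := by
  have hm' : 0 < m := hm
  apply transport_H p hm'
  by_cases h2 : (2 : F) = 0
  · by_cases hexc : Fintype.card F = 2 ∧ m = 2
    · obtain ⟨hF, rfl⟩ := hexc
      exact steinberg_H_exc p hF
    · apply steinberg_H p
      apply Gsub_le_even h2 hm'
      by_contra hcon
      push Not at hcon
      exact hexc hcon
  · exact steinberg_H p (Gsub_le_odd p h2 hm')

end Cfsg.Agent.Lib.Helper49.StOpGlue
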