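import Cfsg.Agent.Lib.Helper03.StSUC5a1
import Cfsg.Agent.Lib.Helper03.StSUTR
import Cfsg.Agent.Lib.Helper04.StSUC5a0
import Cfsg.Agent.Lib.Helper04.StSUF1L
import Cfsg.Agent.Lib.Helper04.StSUR1
import Cfsg.Agent.Lib.Helper10.StSUF3Lo
import Cfsg.Agent.Lib.Helper14.StSUC3c
import Cfsg.Agent.Lib.Helper19.StSUM5
import Cfsg.Agent.Lib.Helper21.StSUC8
import Cfsg.Agent.Lib.Helper26.StSUM1
import Cfsg.Agent.Lib.Helper28.StSUA4p
import Cfsg.Agent.Lib.Helper34.StSUF3S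
import Cfsg.Agent.Lib.Helper40.StSUF2S
import Cfsg.Agent.Lib.Helper45.StSUC5b
import Cfsg.Agent.Lib.Helper54.StSUE0
import Cfsg.Agent.Lib.Helper56.StSUE2
import Cfsg.Agent.Lib.Helper57.StSUC3a
import Cfsg.Agent.Lib.Helper60.StSUM4
import Cfsg.Agent.Lib.Helper62.StSUA6
import Cfsg.Agent.Lib.Helper65.StSUE1
import Cfsg.Agent.Lib.Helper68.StSUF2L
import Cfsg.Agent.Lib.Helper81.StSUF3Le
import Cfsg.Agent.Lib.Helper85.StSUA5
import Cfsg.Agent.Lib.Helper90.StSUC9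
import Cfsg.Agent.Lib.Helper92.StSUC3b
import Cfsg.Agent.Lib.Helper93.StSUF1S
import Cfsg.Agent.Lib.Helper97.StSUC4
import Cfsg.Agent.Lib.Helper49.StGeneric

set_option autoImplicit false
set_option linter.unusedSectionVars false

namespace Cfsg.Agent.Lib.Helper49.StSUGlue

open Cfsg Cfsg.Agent.Lib.Helper49.StSU

variable {n : ℕ} {F : Type*} [Field F] {q : ℕ}

theorem ok_of_card [Fintype F] (p : ℕ) [Fact p.Prime] [CharP F p] (hF : Fintype.card F = q ^ 2) :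
    Ok n F q := by
  obtain ⟨h1, h2, h3, h4, h5⟩ := Cfsg.Agent.Lib.Helper54.StSU.field_facts (F := F) (q := q) p hF
  exact ⟨h1, h2, h3, h4, h5, fun i hi => Cfsg.Agent.Lib.Helper65.StSU.mat_sShort i hi, fun hn => Cfsg.Agent.Lib.Helper56.StSU.mat_sLast p hF h4 h5 hn⟩

theorem T_le_B : Tsub n F q ≤ Bsub n F q := inf_le_left

theorem T_le_N : Tsub n F q ≤ Nsub n F q := le_sup_right

theorem S_subset_N : Sset n F q ⊆ (Nsub n F q : Set (GJ n F q)) := fun s hs =>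
  (le_sup_left : Subgroup.closure (Sset n F q) ≤ Nsub n F q) (Subgroup.subset_closure hs)

theorem B_inf_N (ok : Ok n F q) : Bsub n F q ⊓ Nsub n F q = Tsub n F q := by
  apply le_antisymm
  · rintro g ⟨hgB, hgN⟩
    obtain ⟨σ, hσ⟩ := Cfsg.Agent.Lib.Helper26.StSU.exists_monWith ok g hgN
    exact Cfsg.Agent.Lib.Helper60.StSU.mem_T_of_monWith g σ hσ hgB
  · exact le_inf T_le_B T_le_N

theorem flagStab_le (ok : Ok n F q) : ∀ d j : ℕ, j + d = n / 2 →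
    FlagStab n F q j ⊆ ((Bsub n F q ⊔ Bminus n F q : Subgroup (GJ n F q)) : Set (GJ n F q)) := by
  intro d
  induction d with
  | zero =>
    intro j hj g hg
    rw [Nat.add_zero] at hj
    subst hj
    exact (le_sup_left : Bsub n F q ≤ _) (Cfsg.Agent.Lib.Helper04.StSU.flagStab_half_subset_B ok hg)
  | succ d ih =>
    intro j hj g hg
    obtain ⟨h, hh, hhg⟩ := Cfsg.Agent.Lib.Helper03.StSU.flagStab_step ok j (by omega) g hg
    have h2 := ih (j + 1) (by omega) hhg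
    have e : g = h⁻¹ * (h * g) := by group
    rw [e]
    exact mul_mem (inv_mem hh) h2

theorem B_sup_Bminus (ok : Ok n F q) : Bsub n F q ⊔ Bminus n F q = ⊤ := by
  rw [eq_top_iff]
  intro g _
  apply flagStab_le ok (n / 2) 0 (by omega)
  intro a b ha _
  exact absurd ha (Nat.not_lt_zero _)

theorem sup_eq_top (ok : Ok n F q) : Bsub n F q ⊔ Nsub n F q = ⊤ := by
  obtain ⟨w, hwN, hw⟩ := Cfsg.Agent.Lib.Helper97.StSU.exists_w0 ok
  rw [eq_top_iff, ← B_sup_Bminus ok]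
  apply sup_le le_sup_left
  intro b hb
  have h1 := (Cfsg.Agent.Lib.Helper45.StSU.conj_w0_mem_B_iff w hw b).2 hb
  have hJ : w ∈ Bsub n F q ⊔ Nsub n F q := (le_sup_right : Nsub n F q ≤ _) hwN
  have h2 : w⁻¹ * b * w ∈ Bsub n F q ⊔ Nsub n F q := (le_sup_left : Bsub n F q ≤ _) h1
  have e : b = w * (w⁻¹ * b * w) * w⁻¹ := by group
  rw [e]
  exact mul_mem (mul_mem hJ h2) (inv_mem hJ)

theorem conj_T_mem_B (ok : Ok n F q) (g : GJ n F q) (hg : g ∈ Nsub n F q) (t : GJ n F q)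
    (ht : t ∈ Tsub n F q) : g * t * g⁻¹ ∈ Bsub n F q := by
  obtain ⟨σ, hσ⟩ := Cfsg.Agent.Lib.Helper26.StSU.exists_monWith ok g hg
  exact T_le_B (Cfsg.Agent.Lib.Helper19.StSU.conj_mem_T g σ hσ t ht)

theorem mul_mem_union (ok : Ok n F q) (s : GJ n F q) (hs : s ∈ Sset n F q) (g : GJ n F q)
    (hg : g ∈ Nsub n F q) (b : GJ n F q) (hb : b ∈ Bsub n F q) :
    s * b * g ∈ DoubleCoset.doubleCoset (s * g) (Bsub n F q : Set (GJ n F q)) (Bsub n F q) ∪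
      DoubleCoset.doubleCoset g (Bsub n F q : Set (GJ n F q)) (Bsub n F q) := by
  obtain ⟨σ, hσ⟩ := Cfsg.Agent.Lib.Helper26.StSU.exists_monWith ok g hg
  have hgT : ∀ h ∈ Tsub n F q, g⁻¹ * h * g ∈ Bsub n F q := by
    intro h hh
    have := conj_T_mem_B ok g⁻¹ (inv_mem hg) h hh
    rwa [inv_inv] at this
  rcases hs with ⟨i, hi, rfl⟩ | ⟨hn, rfl⟩
  · exact Cfsg.Agent.Lib.Helper28.StSU.mul_mem_union_of' (Bsub n F q) (Tsub n F q) T_le_B _ g (XS n F q i) (YS n F q i)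
      (Cfsg.Agent.Lib.Helper04.StSU.XS_subset_B i) (Cfsg.Agent.Lib.Helper93.StSU.decomp_short ok i hi) (Cfsg.Agent.Lib.Helper40.StSU.dich_short ok i hi g σ hσ)
      (Cfsg.Agent.Lib.Helper34.StSU.rank_one_short ok i hi) hgT b hb
  · refine Cfsg.Agent.Lib.Helper28.StSU.mul_mem_union_of' (Bsub n F q) (Tsub n F q) T_le_B _ g (XL n F q) (YL n F q)
      Cfsg.Agent.Lib.Helper04.StSU.XL_subset_B (Cfsg.Agent.Lib.Helper04.StSU.decomp_long ok hn) (Cfsg.Agent.Lib.Helper68.StSU.dich_long ok hn g σ hσ) ?_ hgT b hb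
    rcases Nat.mod_two_eq_zero_or_one n with he | ho
    · exact Cfsg.Agent.Lib.Helper81.StSU.rank_one_long_even ok hn he
    · exact Cfsg.Agent.Lib.Helper10.StSU.rank_one_long_odd ok hn ho

/-- the (B,N)-pair of `SUJ` -/
def bnPair (ok : Ok n F q) : Cfsg.BNPair (GJ n F q) where
  B := Bsub n F q
  N := Nsub n F q
  S := Sset n F q
  sup_eq_top := sup_eq_top ok
  conj_mem := fun g hg t ht => by
    rw [B_inf_N ok] at ht
    exact conj_T_mem_B ok g hg t ht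
  subset := S_subset_N
  sq_mem := Cfsg.Agent.Lib.Helper57.StSU.sq_mem_B ok
  inj := Cfsg.Agent.Lib.Helper92.StSU.S_inj ok
  closure_sup := by rw [B_inf_N ok]; rfl
  mul_mem_union := fun s hs g hg b hb => mul_mem_union ok s hs g hg b hb
  conj_ne := Cfsg.Agent.Lib.Helper14.StSU.S_conj_ne ok

theorem main_J [Fintype F] (p : ℕ) [Fact p.Prime] [CharP F p] (hF : Fintype.card F = q ^ 2) :
    ∃ χ : GJ n F q ⧸ Subgroup.center (GJ n F q) → ℂ,
      Cfsg.IsIrrCharacter (GJ n F q ⧸ Subgroup.center (GJ n F q)) χ ∧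
      ∀ Q : Sylow p (GJ n F q ⧸ Subgroup.center (GJ n F q)), χ 1 = Nat.card Q ∧
        ∀ x : GJ n F q ⧸ Subgroup.center (GJ n F q), x ∈ Q → x ≠ 1 → χ x = 0 := by
  have ok : Ok n F q := ok_of_card p hF
  obtain ⟨a, ha⟩ := Cfsg.Agent.Lib.Helper21.StSU.relIndex_T_B (n := n) p hF ok
  obtain ⟨w, hwN, hw⟩ := Cfsg.Agent.Lib.Helper97.StSU.exists_w0 ok
  have hBN : (bnPair ok).B ⊓ (bnPair ok).N = Tsub n F q := B_inf_N ok
  have hT : ∀ b ∈ (bnPair ok).B, w⁻¹ * b * w ∈ (bnPair ok).B → b ∈ (bnPair ok).N := by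
    intro b hb hc
    exact T_le_N ⟨hb, (Cfsg.Agent.Lib.Helper45.StSU.conj_w0_mem_B_iff w hw b).1 hc⟩
  have : Finite (GJ n F q) := by
    unfold GJ
    infer_instance
  refine Cfsg.Agent.Lib.Helper49.StGeneric.exists_steinberg (bnPair ok) p w hwN hT a ?_ ?_
    (Cfsg.Agent.Lib.Helper62.StSU.center_le_B_inf_N (bnPair ok) w hwN hT)
  · rw [hBN]; exact ha
  · rw [hBN]; exact Cfsg.Agent.Lib.Helper90.StSU.not_dvd_card_T p hF

theorem main [Fintype F] (p : ℕ) [Fact p.Prime] [CharP F p] (hF : Fintype.card F = q ^ 2) :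
    ∃ χ : Cfsg.PSU n F q → ℂ, Cfsg.IsIrrCharacter (Cfsg.PSU n F q) χ ∧
      ∀ P : Sylow p (Cfsg.PSU n F q), χ 1 = Nat.card P ∧
        ∀ x : Cfsg.PSU n F q, x ∈ P → x ≠ 1 → χ x = 0 := by
  obtain ⟨e⟩ := Cfsg.Agent.Lib.Helper03.StSU.exists_SU_equiv (n := n) p hF
  have : Finite ↥(Cfsg.SU n F q) := by
    infer_instance
  exact Cfsg.Agent.Lib.Helper85.StSU.steinberg_transport e p (main_J p hF)

end Cfsg.Agent.Lib.Helper49.StSUGlue
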