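import Cfsg.Agent.Lib.Helper49.StSpDefs
import Cfsg.Agent.Lib.Helper49.StGeneric
import Cfsg.Agent.Lib.Helper74.StSpR1
import Cfsg.Agent.Lib.Helper85.StSpF1S
import Cfsg.Agent.Lib.Helper93.StSpF1L
import Cfsg.Agent.Lib.Helper56.StSpF2S
import Cfsg.Agent.Lib.Helper91.StSpF2L
import Cfsg.Agent.Lib.Helper08.StSpF3S
import Cfsg.Agent.Lib.Helper08.StSpF3L
import Cfsg.Agent.Lib.Helper63.StSpM1
import Cfsg.Agent.Lib.Helper48.StSpM4
import Cfsg.Agent.Lib.Helper63.StSpM5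
import Cfsg.Agent.Lib.Helper04.StSpC3a
import Cfsg.Agent.Lib.Helper40.StSpC3b
import Cfsg.Agent.Lib.Helper40.StSpC3c
import Cfsg.Agent.Lib.Helper14.StSpC4
import Cfsg.Agent.Lib.Helper07.StSpC5a
import Cfsg.Agent.Lib.Helper28.StSpC5b
import Cfsg.Agent.Lib.Helper48.StSpC8
import Cfsg.Agent.Lib.Helper65.StSpC9
import Cfsg.Agent.Lib.Helper96.StSpC10
import Cfsg.Agent.Lib.Helper65.StSpA4

/-!
# K-StSp pack: the (B,N)-pair of `Sp_{2m}(F)` and the Steinberg character of `PSp_{2m}(F)` (S2545)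

Leaves by helper74 (R1), helper85 (F1S, A3), helper93 (F1L), helper56 (F2S, A1), helper91 (F2L),
helper8 (F3S, F3L), helper63 (M1, M5), helper48 (M4, C8), helper4 (C3a), helper40 (C3b),
helper40 (C3c), helper14 (C4), helper7 (C5a), helper28 (C5b), helper65 (C9, A4), helper96 (C10),
helper52 (A2).
-/

set_option autoImplicit false
set_option linter.unusedSectionVars false

namespace Cfsg.Agent.Lib.Helper49.StSpGlue

open Cfsg Cfsg.Agent.Lib.Helper49.StSp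

variable {m : ℕ} {F : Type*} [Field F]

theorem T_le_B : Tsub m F ≤ Bsub m F := inf_le_left

theorem T_le_N : Tsub m F ≤ Nsub m F := le_sup_right

theorem S_subset_N : Sset m F ⊆ (Nsub m F : Set (SpG m F)) := fun s hs =>
  (le_sup_left : Subgroup.closure (Sset m F) ≤ Nsub m F) (Subgroup.subset_closure hs)

theorem B_inf_N : Bsub m F ⊓ Nsub m F = Tsub m F := by
  apply le_antisymm
  · rintro g ⟨hgB, hgN⟩
    obtain ⟨σ, hσ⟩ := Cfsg.Agent.Lib.Helper63.StSp.exists_monWith g hgN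
    exact Cfsg.Agent.Lib.Helper48.StSp.mem_T_of_monWith g σ hσ hgB
  · exact le_inf T_le_B T_le_N

theorem sup_eq_top : Bsub m F ⊔ Nsub m F = ⊤ := by
  rw [eq_top_iff, ← Cfsg.Agent.Lib.Helper07.StSp.B_sup_Bminus (m := m) (F := F)]
  apply sup_le le_sup_left
  intro b hb
  have h1 := (Cfsg.Agent.Lib.Helper28.StSp.conj_J_mem_B_iff b).2 hb
  have hJ : SymplecticGroup.symJ (Fin m) F ∈ Bsub m F ⊔ Nsub m F :=
    (le_sup_right : Nsub m F ≤ _) Cfsg.Agent.Lib.Helper14.StSp.symJ_mem_N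
  have h2 : (SymplecticGroup.symJ (Fin m) F)⁻¹ * b * SymplecticGroup.symJ (Fin m) F ∈
      Bsub m F ⊔ Nsub m F := (le_sup_left : Bsub m F ≤ _) h1
  have e : b = SymplecticGroup.symJ (Fin m) F *
      ((SymplecticGroup.symJ (Fin m) F)⁻¹ * b * SymplecticGroup.symJ (Fin m) F) *
      (SymplecticGroup.symJ (Fin m) F)⁻¹ := by group
  rw [e]
  exact mul_mem (mul_mem hJ h2) (inv_mem hJ)

theorem conj_T_mem_B (n : SpG m F) (hn : n ∈ Nsub m F) (t : SpG m F) (ht : t ∈ Tsub m F) :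
    n * t * n⁻¹ ∈ Bsub m F := by
  obtain ⟨σ, hσ⟩ := Cfsg.Agent.Lib.Helper63.StSp.exists_monWith n hn
  exact T_le_B (Cfsg.Agent.Lib.Helper63.StSp.conj_mem_T n σ hσ t ht)

theorem mul_mem_union (s : SpG m F) (hs : s ∈ Sset m F) (n : SpG m F) (hn : n ∈ Nsub m F)
    (b : SpG m F) (hb : b ∈ Bsub m F) :
    s * b * n ∈ DoubleCoset.doubleCoset (s * n) (Bsub m F : Set (SpG m F)) (Bsub m F) ∪
      DoubleCoset.doubleCoset n (Bsub m F : Set (SpG m F)) (Bsub m F) := by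
  obtain ⟨σ, hσ⟩ := Cfsg.Agent.Lib.Helper63.StSp.exists_monWith n hn
  have hnT : ∀ h ∈ Tsub m F, n⁻¹ * h * n ∈ Bsub m F := by
    intro h hh
    have := conj_T_mem_B n⁻¹ (inv_mem hn) h hh
    rwa [inv_inv] at this
  rcases hs with ⟨i, hi, rfl⟩ | ⟨hm, rfl⟩
  · exact Cfsg.Agent.Lib.Helper65.StSp.mul_mem_union_of (Bsub m F) (Tsub m F) T_le_B _ n
      (fun t => xS m F i (nxt i hi) (ne_nxt i hi) t)
      (fun t => xS m F (nxt i hi) i (nxt_ne i hi) t)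
      (fun t => Cfsg.Agent.Lib.Helper74.StSp.xS_mem_B i (nxt i hi) (by simp [Fin.lt_def, nxt]) t)
      (Cfsg.Agent.Lib.Helper74.StSp.xS_zero _ _ _)
      (Cfsg.Agent.Lib.Helper85.StSp.decomp_short i hi)
      (Cfsg.Agent.Lib.Helper56.StSp.dich_short i hi n σ hσ)
      (Cfsg.Agent.Lib.Helper08.StSp.rank_one_short i hi) hnT b hb
  · exact Cfsg.Agent.Lib.Helper65.StSp.mul_mem_union_of (Bsub m F) (Tsub m F) T_le_B _ n
      (fun t => xL m F (lastF hm) t) (fun t => yL m F (lastF hm) t)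
      (fun t => Cfsg.Agent.Lib.Helper74.StSp.xL_mem_B _ t)
      (Cfsg.Agent.Lib.Helper74.StSp.xL_zero _)
      (Cfsg.Agent.Lib.Helper93.StSp.decomp_long hm)
      (Cfsg.Agent.Lib.Helper91.StSp.dich_long hm n σ hσ)
      (Cfsg.Agent.Lib.Helper08.StSp.rank_one_long hm) hnT b hb

variable (m F)

/-- the (B,N)-pair of `Sp_{2m}(F)` -/
def bnPair : Cfsg.BNPair (SpG m F) where
  B := Bsub m F
  N := Nsub m F
  S := Sset m F
  sup_eq_top := sup_eq_top
  conj_mem := fun n hn t ht => by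
    rw [B_inf_N] at ht
    exact conj_T_mem_B n hn t ht
  subset := S_subset_N
  sq_mem := Cfsg.Agent.Lib.Helper04.StSp.sq_mem_B
  inj := Cfsg.Agent.Lib.Helper40.StSp.S_inj
  closure_sup := by rw [B_inf_N]; rfl
  mul_mem_union := fun s hs n hn b hb => mul_mem_union s hs n hn b hb
  conj_ne := Cfsg.Agent.Lib.Helper40.StSp.S_conj_ne

variable {m F}

theorem main [Fintype F] (p : ℕ) [Fact p.Prime] [CharP F p] :
    ∃ χ : Cfsg.PSp m F → ℂ, Cfsg.IsIrrCharacter (Cfsg.PSp m F) χ ∧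
      ∀ P : Sylow p (Cfsg.PSp m F), χ 1 = Nat.card P ∧
        ∀ x : Cfsg.PSp m F, x ∈ P → x ≠ 1 → χ x = 0 := by
  obtain ⟨a, ha⟩ := Cfsg.Agent.Lib.Helper48.StSp.relIndex_T_B (m := m) (F := F) p
  have hBN : (bnPair m F).B ⊓ (bnPair m F).N = Tsub m F := B_inf_N
  refine Cfsg.Agent.Lib.Helper49.StGeneric.exists_steinberg (bnPair m F) p
    (SymplecticGroup.symJ (Fin m) F) Cfsg.Agent.Lib.Helper14.StSp.symJ_mem_N ?_ a ?_ ?_ ?_
  · intro b hb hc
    exact T_le_N ⟨hb, (Cfsg.Agent.Lib.Helper28.StSp.conj_J_mem_B_iff b).1 hc⟩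
  · rw [hBN]; exact ha
  · rw [hBN]; exact Cfsg.Agent.Lib.Helper65.StSp.not_dvd_card_T p
  · rw [hBN]; exact Cfsg.Agent.Lib.Helper96.StSp.center_le_T

end Cfsg.Agent.Lib.Helper49.StSpGlue
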