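import Cfsg.Agent.Lib.Helper49.UnipotentClasses

set_option autoImplicit false

namespace Cfsg.Agent.Lib.Helper49

open Module

section BC

universe u

variable {K F : Type u} [Field K] [Field F] {n : ℕ}

/-- base change of a basis of `K^n` along a field homomorphism -/
theorem exists_basis_map (f : K →+* F) {ι : Type*} [Fintype ι] (b : Basis ι K (Fin n → K)) :
    ∃ bF : Basis ι F (Fin n → F), ∀ i a, bF i a = f (b i a) := by
  classical
  let M₀ : Matrix (Fin n) ι K := (Pi.basisFun K (Fin n)).toMatrix b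
  let M₀' : Matrix ι (Fin n) K := b.toMatrix (Pi.basisFun K (Fin n))
  have h1 : M₀ * M₀' = 1 := Basis.toMatrix_mul_toMatrix_flip _ _
  have h2 : M₀' * M₀ = 1 := Basis.toMatrix_mul_toMatrix_flip _ _
  have h1F : M₀.map f * M₀'.map f = 1 := by
    rw [← Matrix.map_mul, h1, Matrix.map_one _ (map_zero f) (map_one f)]
  have h2F : M₀'.map f * M₀.map f = 1 := by
    rw [← Matrix.map_mul, h2, Matrix.map_one _ (map_zero f) (map_one f)]
  let E : (ι → F) ≃ₗ[F] (Fin n → F) := Matrix.toLin'OfInv h2F h1F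
  refine ⟨(Pi.basisFun F ι).map E, ?_⟩
  intro i a
  rw [Basis.map_apply, Pi.basisFun_apply]
  change (Matrix.toLin' (M₀.map f)) (Pi.single i 1) a = _
  rw [Matrix.toLin'_apply, Matrix.mulVec_single_one]
  simp [M₀, Basis.toMatrix_apply]

theorem HasType.map (f : K →+* F) {g : GL (Fin n) K} {μ : Nat.Partition n}
    (h : HasType g μ) : HasType (Matrix.GeneralLinearGroup.map f g) μ := by
  classical
  obtain ⟨t, d, b, hd, hb, hμ⟩ := h
  obtain ⟨bF, hbF⟩ := exists_basis_map f b
  refine ⟨t, d, bF, hd, ?_, hμ⟩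
  intro k j
  have hcoe : ((Matrix.GeneralLinearGroup.map f g : GL (Fin n) F) : Matrix (Fin n) (Fin n) F) - 1
      = ((g : Matrix (Fin n) (Fin n) K) - 1).map f := by
    rw [Matrix.map_sub (f := f) (fun a b => map_sub f a b),
      Matrix.map_one _ (map_zero f) (map_one f)]
    rfl
  have hbk : bF ⟨k, j⟩ = f ∘ (b ⟨k, j⟩) := funext fun a => hbF _ a
  have h1 : nilOf (Matrix.GeneralLinearGroup.map f g) (bF ⟨k, j⟩) = f ∘ (nilOf g (b ⟨k, j⟩)) := by
    funext a
    rw [nilOf, Matrix.toLin'_apply, hcoe, hbk, ← RingHom.map_mulVec]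
    rfl
  rw [h1, hb k j]
  split_ifs with hlt
  · funext a
    exact (hbF _ a).symm
  · funext a
    simp

end BC

end Cfsg.Agent.Lib.Helper49
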