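import Cfsg.Agent.Lib.Helper49.SubfieldGrp
import Cfsg.Agent.Lib.Helper49.JordanCentr
import Cfsg.Agent.Lib.Helper49.TypeBaseChange
import Cfsg.Agent.Lib.Helper49.RegUnipClasses

set_option autoImplicit false
open scoped MatrixGroups

namespace Cfsg.Agent.Lib.Helper49

open Module

section SU

universe u

variable {F : Type u} [Field F] {n : ℕ}

theorem glMap_injective (F₀ : Subfield F) :
    Function.Injective (Matrix.GeneralLinearGroup.map (n := Fin n) (F₀.subtype : F₀ →+* F)) := by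
  intro a b hab
  apply Units.ext
  ext i j
  have := congrArg (fun g : GL (Fin n) F => (g : Matrix (Fin n) (Fin n) F) i j) hab
  exact this

theorem det_glMap (F₀ : Subfield F) (h₀ : GL (Fin n) F₀) :
    ((Matrix.GeneralLinearGroup.map (F₀.subtype : F₀ →+* F) h₀ : GL (Fin n) F) :
      Matrix (Fin n) (Fin n) F).det = ((h₀ : Matrix (Fin n) (Fin n) F₀).det : F) :=
  (RingHom.map_det (F₀.subtype : F₀ →+* F) (h₀ : Matrix (Fin n) (Fin n) F₀)).symm

theorem prod_pow_mulSingle {t : ℕ} (d : Fin t → ℕ) (k : Fin t) (a : Fˣ) :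
    ∏ k', (((Pi.mulSingle k a : Fin t → Fˣ) k' : Fˣ) : F) ^ d k' = (a : F) ^ d k := by
  classical
  rw [Finset.prod_eq_single k]
  · rw [Pi.mulSingle_eq_same]
  · intro k' _ hk'
    rw [Pi.mulSingle_eq_of_ne hk']
    simp
  · intro h; exact absurd (Finset.mem_univ _) h

/-- the arithmetic of block scalings -/
theorem exists_block_scaling (F₀ : Subfield F) [Finite F] [CharP F 3] {t : ℕ} (d : Fin t → ℕ)
    (hd : ∀ k, 1 ≤ d k) (hle : ∀ k, d k ≤ 3) (k₀ : Fin t) (hk₀ : 2 ≤ d k₀)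
    (hsq : (∀ k, d k = 2) → ∀ δ : F, δ ≠ 0 → ∃ a ε : F, ε ∈ F₀ ∧ ε ≠ 0 ∧ a ≠ 0 ∧ δ = a ^ 2 * ε)
    (δ : F) (hδ : δ ≠ 0) :
    ∃ w : Fin t → Fˣ, ∃ ε : F, ε ∈ F₀ ∧ ε ≠ 0 ∧ (∏ k, ((w k : Fˣ) : F) ^ d k) * ε = δ := by
  classical
  by_cases h1 : ∃ k, d k = 1
  · obtain ⟨k, hk⟩ := h1
    refine ⟨Pi.mulSingle k (Units.mk0 δ hδ), 1, F₀.one_mem, one_ne_zero, ?_⟩
    rw [prod_pow_mulSingle, hk, pow_one, mul_one, Units.val_mk0]
  push Not at h1
  by_cases h2 : ∃ k, d k = 2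
  · by_cases h3 : ∃ k, d k = 3
    · obtain ⟨k₂, hk₂⟩ := h2
      obtain ⟨k₃, hk₃⟩ := h3
      refine ⟨Pi.mulSingle k₂ (Units.mk0 δ hδ)⁻¹ * Pi.mulSingle k₃ (Units.mk0 δ hδ), 1, F₀.one_mem,
        one_ne_zero, ?_⟩
      simp only [Pi.mul_apply, Units.val_mul, mul_pow]
      rw [Finset.prod_mul_distrib, prod_pow_mulSingle, prod_pow_mulSingle, hk₂, hk₃, mul_one,
        Units.val_inv_eq_inv_val, Units.val_mk0]
      field_simp
    · push Not at h3
      have hall : ∀ k, d k = 2 := by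
        intro k
        have := hd k; have := hle k; have := h1 k; have := h3 k
        omega
      obtain ⟨a, ε, hε, hε0, ha0, hδe⟩ := hsq hall δ hδ
      obtain ⟨k, hk⟩ := h2
      refine ⟨Pi.mulSingle k (Units.mk0 a ha0), ε, hε, hε0, ?_⟩
      rw [prod_pow_mulSingle, hk, Units.val_mk0, hδe]
  · push Not at h2
    have hk3 : d k₀ = 3 := by
      have := hle k₀; have := h2 k₀
      omega
    -- cube root
    have hinj : Function.Injective (frobenius F 3) := frobenius_inj F 3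
    have hsurj : Function.Surjective (frobenius F 3) := Finite.surjective_of_injective hinj
    obtain ⟨a, ha⟩ := hsurj δ
    rw [frobenius_def] at ha
    have ha0 : a ≠ 0 := by
      rintro rfl
      apply hδ; rw [← ha]; simp
    refine ⟨Pi.mulSingle k₀ (Units.mk0 a ha0), 1, F₀.one_mem, one_ne_zero, ?_⟩
    rw [prod_pow_mulSingle, hk3, Units.val_mk0, ha, mul_one]

/-- the subgroup `H` of `SL_n(F)` of the subfield type -/
abbrev subfieldSL (F₀ : Subfield F) (n : ℕ) : Subgroup (Matrix.SpecialLinearGroup (Fin n) F) :=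
  (Cfsg.Geo.subfieldSubgroup F₀ (1 : GL (Fin n) F)).comap
    (Matrix.SpecialLinearGroup.toGL : Matrix.SpecialLinearGroup (Fin n) F →* GL (Fin n) F)

/-- elements of order 3 are conjugate into the subfield subgroup, when the arithmetic allows -/
theorem conj_into_subfield (F₀ : Subfield F) [Finite F] [CharP F 3] (hn : 2 ≤ n)
    (hsq : Even n → ∀ δ : F, δ ≠ 0 → ∃ a ε : F, ε ∈ F₀ ∧ ε ≠ 0 ∧ a ≠ 0 ∧ δ = a ^ 2 * ε)
    (x : Matrix.SpecialLinearGroup (Fin n) F) (z : F)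
    (hx3 : ((x ^ 3 : Matrix.SpecialLinearGroup (Fin n) F) : Matrix (Fin n) (Fin n) F) =
      z • (1 : Matrix (Fin n) (Fin n) F))
    (hxns : ∀ z : F, (x : Matrix (Fin n) (Fin n) F) ≠ z • (1 : Matrix (Fin n) (Fin n) F)) :
    ∃ P : Matrix.SpecialLinearGroup (Fin n) F, P⁻¹ * x * P ∈ subfieldSL F₀ n := by
  classical
  haveI : Fact (Nat.Prime 3) := ⟨Nat.prime_three⟩
  haveI : Nonempty (Fin n) := ⟨⟨0, by omega⟩⟩
  -- cube root of z
  have hinj : Function.Injective (frobenius F 3) := frobenius_inj F 3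
  have hsurj : Function.Surjective (frobenius F 3) := Finite.surjective_of_injective hinj
  obtain ⟨l, hl⟩ := hsurj z
  rw [frobenius_def] at hl
  rw [Matrix.SpecialLinearGroup.coe_pow] at hx3
  have hl0 : l ≠ 0 := by
    rintro rfl
    have hz : z = 0 := by rw [← hl]; simp
    have h1 : ((x : Matrix (Fin n) (Fin n) F) ^ 3).det = 0 := by
      rw [hx3, hz, zero_smul, Matrix.det_zero]
    rw [Matrix.det_pow, x.det_coe, one_pow] at h1
    exact one_ne_zero h1
  -- the unipotent part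
  have hudet : (l⁻¹ • (x : Matrix (Fin n) (Fin n) F)).det ≠ 0 := by
    rw [Matrix.det_smul, x.det_coe, mul_one]
    exact pow_ne_zero _ (inv_ne_zero hl0)
  let u : GL (Fin n) F := Matrix.GeneralLinearGroup.mkOfDetNeZero _ hudet
  have hu : (u : Matrix (Fin n) (Fin n) F) = l⁻¹ • (x : Matrix (Fin n) (Fin n) F) := rfl
  have hxu : (x : Matrix (Fin n) (Fin n) F) = l • (u : Matrix (Fin n) (Fin n) F) := by
    rw [hu, smul_smul, mul_inv_cancel₀ hl0, one_smul]
  have hu3 : u ^ 3 = 1 := by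
    apply Units.ext
    rw [Units.val_pow_eq_pow_val, hu, _root_.smul_pow, hx3, smul_smul, inv_pow, hl,
      inv_mul_cancel₀, one_smul]
    · rfl
    · rw [← hl]; exact pow_ne_zero _ hl0
  have hu3' : ((u : Matrix (Fin n) (Fin n) F) - 1) ^ 3 = 0 := by
    have := (pow_char_pow_eq_one_iff 3 u 1).mp (by rwa [pow_one])
    rwa [pow_one] at this
  obtain ⟨μ, hμ⟩ := exists_hasType u 3 hu3'
  have hparts3 := (hμ.pow_eq_zero_iff 3).mp hu3'
  have hparts1 : ¬ ∀ a ∈ μ.parts, a ≤ 1 := by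
    intro h
    have h1 := (hμ.pow_eq_zero_iff 1).mpr h
    rw [pow_one, sub_eq_zero] at h1
    apply hxns l
    rw [hxu, h1]
  -- standard representative over the subfield
  obtain ⟨u₀, -, hu₀⟩ := exists_of_partition (F := ↥F₀) μ
  have hu₀F : HasType (Matrix.GeneralLinearGroup.map (F₀.subtype : F₀ →+* F) u₀) μ :=
    hu₀.map (F₀.subtype : F₀ →+* F)
  obtain ⟨G, hG⟩ := _root_.isConj_iff.mp ((hu₀F.isConj_iff hμ).mpr rfl)
  obtain ⟨t, d, b, hd, hb, hdμ⟩ := hμ
  have hmem : ∀ k, d k ∈ μ.parts := by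
    intro k
    rw [← hdμ]
    exact Multiset.mem_map_of_mem d (Finset.mem_univ_val k)
  have hle : ∀ k, d k ≤ 3 := fun k => hparts3 _ (hmem k)
  obtain ⟨k₀, hk₀⟩ : ∃ k₀, 2 ≤ d k₀ := by
    by_contra hcon
    push Not at hcon
    apply hparts1
    intro a ha
    rw [← hdμ] at ha
    obtain ⟨k, _, rfl⟩ := Multiset.mem_map.mp ha
    have := hcon k
    omega
  have hGdet : (G : Matrix (Fin n) (Fin n) F).det ≠ 0 := by
    have h2 : IsUnit (G : Matrix (Fin n) (Fin n) F).det :=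
      (Matrix.isUnit_iff_isUnit_det _).mp G.isUnit
    exact h2.ne_zero
  have hsq' : (∀ k, d k = 2) → ∀ δ : F, δ ≠ 0 → ∃ a ε : F, ε ∈ F₀ ∧ ε ≠ 0 ∧ a ≠ 0 ∧ δ = a ^ 2 * ε := by
    intro hall
    apply hsq
    have hsum := sum_eq_of_basis d b
    rw [← hsum]
    simp only [hall, Finset.sum_const, Finset.card_univ, Fintype.card_fin, smul_eq_mul]
    exact ⟨t, by ring⟩
  obtain ⟨w, ε, hε, hε0, hwε⟩ := exists_block_scaling F₀ d hd hle k₀ hk₀ hsq'
    ((G : Matrix (Fin n) (Fin n) F).det)⁻¹ (inv_ne_zero hGdet)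
  obtain ⟨c, hc, hcdet⟩ := exists_commute_det hb w
  have hε₀ : (⟨ε, hε⟩ : ↥F₀) ≠ 0 := by
    intro h; exact hε0 (congrArg Subtype.val h)
  obtain ⟨h₀, hh₀⟩ := exists_gl_det (K := ↥F₀) (n := n) (by omega) (Units.mk0 _ hε₀)
  set h : GL (Fin n) F := Matrix.GeneralLinearGroup.map (F₀.subtype : F₀ →+* F) h₀ with hh
  have hhdet : (h : Matrix (Fin n) (Fin n) F).det = ε := by
    rw [hh, det_glMap, hh₀]
    rfl
  let P : GL (Fin n) F := c * G * h
  have hPdet : (P : Matrix (Fin n) (Fin n) F).det = 1 := by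
    change ((c * G * h : GL (Fin n) F) : Matrix (Fin n) (Fin n) F).det = 1
    rw [Units.val_mul, Units.val_mul, Matrix.det_mul, Matrix.det_mul, hcdet, hhdet]
    have : (∏ k, ((w k : Fˣ) : F) ^ d k) * (G : Matrix (Fin n) (Fin n) F).det * ε =
        ((∏ k, ((w k : Fˣ) : F) ^ d k) * ε) * (G : Matrix (Fin n) (Fin n) F).det := by ring
    rw [this, hwε, inv_mul_cancel₀ hGdet]
  let PS : Matrix.SpecialLinearGroup (Fin n) F := ⟨(P : Matrix (Fin n) (Fin n) F), hPdet⟩
  have hPS : Matrix.SpecialLinearGroup.toGL PS = P := Units.ext rfl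
  refine ⟨PS, ?_⟩
  rw [Subgroup.mem_comap, mem_subfieldSubgroup_one_iff]
  refine ⟨Matrix.GeneralLinearGroup.map (F₀.subtype : F₀ →+* F) (h₀⁻¹ * u₀ * h₀), ⟨_, rfl⟩,
    Units.mk0 l hl0, ?_⟩
  rw [map_mul, map_mul, map_inv, hPS]
  -- the conjugate of `u`
  have e1 : c⁻¹ * u * c = u := by
    rw [mul_assoc, ← hc, ← mul_assoc, inv_mul_cancel, one_mul]
  have e2 : G⁻¹ * u * G = Matrix.GeneralLinearGroup.map (F₀.subtype : F₀ →+* F) u₀ := by
    rw [← hG]; group
  have e3 : P⁻¹ * u * P = Matrix.GeneralLinearGroup.map (F₀.subtype : F₀ →+* F) (h₀⁻¹ * u₀ * h₀) := by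
    have : P⁻¹ * u * P = h⁻¹ * (G⁻¹ * (c⁻¹ * u * c) * G) * h := by
      change (c * G * h)⁻¹ * u * (c * G * h) = _
      group
    rw [this, e1, e2, map_mul, map_mul, map_inv]
  rw [← e3]
  rw [Units.val_mul, Units.val_mul, Units.val_mul, Units.val_mul, Units.val_mk0]
  have hx' : ((Matrix.SpecialLinearGroup.toGL x : GL (Fin n) F) : Matrix (Fin n) (Fin n) F) =
      l • (u : Matrix (Fin n) (Fin n) F) := hxu
  rw [hx', Matrix.mul_smul, Matrix.smul_mul]
  rfl

/-- when `n` is even and the subfield consists of squares, some element of order 3 has no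
conjugate in the subfield subgroup -/
theorem exists_order3_derangement (F₀ : Subfield F) [Fintype F] [CharP F 3] (hn0 : 0 < n)
    (hn : Even n) (hsq : ∀ a ∈ F₀, IsSquare a) :
    ∃ x : Matrix.SpecialLinearGroup (Fin n) F, x ^ 3 = 1 ∧
      (∀ z : F, (x : Matrix (Fin n) (Fin n) F) ≠ z • (1 : Matrix (Fin n) (Fin n) F)) ∧
      ∀ P : Matrix.SpecialLinearGroup (Fin n) F, P⁻¹ * x * P ∉ subfieldSL F₀ n := by
  classical
  haveI : Fact (Nat.Prime 3) := ⟨Nat.prime_three⟩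
  haveI : Nonempty (Fin n) := ⟨⟨0, hn0⟩⟩
  haveI : CharP ↥F₀ 3 := RingHom.charP (F₀.subtype : F₀ →+* F) F₀.subtype_injective 3
  have hF2 : ringChar F ≠ 2 := by rw [ringChar.eq F 3]; norm_num
  obtain ⟨m, hm⟩ := hn
  have hm0 : 0 < m := by omega
  obtain ⟨μ, hμparts⟩ : ∃ μ : Nat.Partition n, μ.parts = Multiset.replicate m 2 :=
    ⟨⟨Multiset.replicate m 2, by
      intro i hi; rw [Multiset.eq_of_mem_replicate hi]; norm_num, by
      rw [Multiset.sum_replicate, smul_eq_mul, hm]; ring⟩, rfl⟩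
  obtain ⟨u₀, -, hu₀⟩ := exists_of_partition (F := ↥F₀) μ
  set ū : GL (Fin n) F := Matrix.GeneralLinearGroup.map (F₀.subtype : F₀ →+* F) u₀ with hū
  have hūμ : HasType ū μ := hu₀.map _
  have hū2 : ((ū : Matrix (Fin n) (Fin n) F) - 1) ^ 2 = 0 := by
    apply (hūμ.pow_eq_zero_iff 2).mpr
    intro a ha
    rw [hμparts] at ha
    rw [Multiset.eq_of_mem_replicate ha]
  have hū3' : ((ū : Matrix (Fin n) (Fin n) F) - 1) ^ 3 = 0 := by
    rw [pow_succ, hū2, zero_mul]
  have hū3 : ū ^ 3 = 1 := by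
    have := (pow_char_pow_eq_one_iff 3 ū 1).mpr (by rwa [pow_one])
    rwa [pow_one] at this
  have hūne : ¬ ((ū : Matrix (Fin n) (Fin n) F) - 1) ^ 1 = 0 := by
    intro h
    have := (hūμ.pow_eq_zero_iff 1).mp h 2 (by
      rw [hμparts]; exact Multiset.mem_replicate.mpr ⟨hm0.ne', rfl⟩)
    omega
  have hūdet : (ū : Matrix (Fin n) (Fin n) F).det = 1 := by
    have h1 : (ū : Matrix (Fin n) (Fin n) F) =
        algebraMap F (Matrix (Fin n) (Fin n) F) 1 + ((ū : Matrix (Fin n) (Fin n) F) - 1) := by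
      rw [map_one]; abel
    rw [h1, det_scalar_add_nilpotent 1 _ ⟨2, hū2⟩, one_pow]
  obtain ⟨ν, hν⟩ := FiniteField.exists_nonsquare hF2
  have hν0 : ν ≠ 0 := by
    rintro rfl; exact hν ⟨0, by simp⟩
  obtain ⟨gν, hgν⟩ := exists_gl_det (K := F) (n := n) hn0 (Units.mk0 ν hν0)
  rw [Units.val_mk0] at hgν
  have hx'det : ((gν * ū * gν⁻¹ : GL (Fin n) F) : Matrix (Fin n) (Fin n) F).det = 1 := by
    rw [Units.val_mul, Units.val_mul, Matrix.det_mul, Matrix.det_mul, hūdet, mul_one,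
      ← Matrix.det_mul, ← Units.val_mul, mul_inv_cancel, Units.val_one, Matrix.det_one]
  let x : Matrix.SpecialLinearGroup (Fin n) F :=
    ⟨((gν * ū * gν⁻¹ : GL (Fin n) F) : Matrix (Fin n) (Fin n) F), hx'det⟩
  have hxGL : Matrix.SpecialLinearGroup.toGL x = gν * ū * gν⁻¹ := Units.ext rfl
  have hx'3 : (gν * ū * gν⁻¹) ^ 3 = 1 := by
    rw [conj_pow, hū3, mul_one, mul_inv_cancel]
  refine ⟨x, ?_, ?_, ?_⟩
  · apply Matrix.SpecialLinearGroup.toGL_injective
    rw [map_pow, hxGL, hx'3, map_one]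
  · intro z hz
    have hz' : ((gν * ū * gν⁻¹ : GL (Fin n) F) : Matrix (Fin n) (Fin n) F) =
        z • (1 : Matrix (Fin n) (Fin n) F) := hz
    have h1 : (ū : Matrix (Fin n) (Fin n) F) = z • (1 : Matrix (Fin n) (Fin n) F) := by
      have e1 : ū = gν⁻¹ * (gν * ū * gν⁻¹) * gν := by group
      rw [e1, Units.val_mul, Units.val_mul, hz', Matrix.mul_smul, Matrix.smul_mul, Matrix.mul_one,
        ← Units.val_mul, inv_mul_cancel, Units.val_one]
    have h2 : ((z - 1) ^ 2) • (1 : Matrix (Fin n) (Fin n) F) = 0 := by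
      rw [← hū2, h1]
      have : z • (1 : Matrix (Fin n) (Fin n) F) - 1 = (z - 1) • (1 : Matrix (Fin n) (Fin n) F) := by
        rw [sub_smul, one_smul]
      rw [this, _root_.smul_pow, one_pow]
    have h3 := congrFun (congrFun h2 ⟨0, hn0⟩) ⟨0, hn0⟩
    rw [Matrix.smul_apply, Matrix.one_apply_eq, smul_eq_mul, mul_one, Matrix.zero_apply] at h3
    have hz1 : z = 1 := by
      have := pow_eq_zero_iff (two_ne_zero) |>.mp h3
      exact sub_eq_zero.mp this
    apply hūne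
    rw [pow_one, h1, hz1, one_smul, sub_self]
  · intro P hP
    rw [Subgroup.mem_comap, mem_subfieldSubgroup_one_iff] at hP
    obtain ⟨A, ⟨A₀, rfl⟩, c, hc⟩ := hP
    set T : GL (Fin n) F := Matrix.SpecialLinearGroup.toGL P with hT
    have hTdet : (T : Matrix (Fin n) (Fin n) F).det = 1 := P.det_coe
    set y : GL (Fin n) F := Matrix.SpecialLinearGroup.toGL (P⁻¹ * x * P) with hy
    have hyx : y = T⁻¹ * (gν * ū * gν⁻¹) * T := by
      rw [hy, map_mul, map_mul, map_inv, hxGL]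
    have hy3 : y ^ 3 = 1 := by
      have : y = T⁻¹ * (gν * ū * gν⁻¹) * T⁻¹⁻¹ := by rw [hyx, inv_inv]
      rw [this, conj_pow, hx'3, mul_one, mul_inv_cancel]
    -- the scalar lies in the subfield
    have hc3 : ((c : F) ^ 3) ∈ F₀ := by
      have h1 : ((y : Matrix (Fin n) (Fin n) F)) ^ 3 = 1 := by
        rw [← Units.val_pow_eq_pow_val, hy3, Units.val_one]
      rw [hc, _root_.smul_pow] at h1
      have h2 : ((Matrix.GeneralLinearGroup.map (F₀.subtype : F₀ →+* F) A₀ : GL (Fin n) F) :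
          Matrix (Fin n) (Fin n) F) ^ 3 =
          ((A₀ : Matrix (Fin n) (Fin n) F₀) ^ 3).map (F₀.subtype : F₀ →+* F) := by
        change ((F₀.subtype : F₀ →+* F).mapMatrix (A₀ : Matrix (Fin n) (Fin n) F₀)) ^ 3 = _
        rw [← map_pow]
        rfl
      rw [h2] at h1
      have h3 := congrFun (congrFun h1 ⟨0, hn0⟩) ⟨0, hn0⟩
      rw [Matrix.smul_apply, Matrix.one_apply_eq, smul_eq_mul, Matrix.map_apply] at h3
      have h4 : (c : F) ^ 3 = ((F₀.subtype : F₀ →+* F)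
          (((A₀ : Matrix (Fin n) (Fin n) F₀) ^ 3) ⟨0, hn0⟩ ⟨0, hn0⟩))⁻¹ :=
        eq_inv_of_mul_eq_one_left h3
      rw [h4]
      exact F₀.inv_mem (Subtype.mem _)
    have hcmem : (c : F) ∈ F₀ := by
      have hinj₀ : Function.Injective (frobenius ↥F₀ 3) := frobenius_inj ↥F₀ 3
      have hsurj₀ : Function.Surjective (frobenius ↥F₀ 3) := Finite.surjective_of_injective hinj₀
      obtain ⟨e', he'⟩ := hsurj₀ ⟨(c : F) ^ 3, hc3⟩
      rw [frobenius_def] at he'
      have h1 : ((e' : F)) ^ 3 = (c : F) ^ 3 := by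
        have := congrArg (Subtype.val : ↥F₀ → F) he'
        simpa using this
      have h2 : (e' : F) = (c : F) := by
        apply frobenius_inj F 3
        rw [frobenius_def, frobenius_def, h1]
      rw [← h2]
      exact e'.2
    have hentries : ∀ i j, (y : Matrix (Fin n) (Fin n) F) i j ∈ F₀ := by
      intro i j
      rw [hc, Matrix.smul_apply, smul_eq_mul]
      exact F₀.mul_mem hcmem (Subtype.mem _)
    obtain ⟨y₀, hy₀⟩ := mem_range_map_of_entries F₀ y hentries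
    have hy₀3 : y₀ ^ 3 = 1 := by
      apply glMap_injective F₀
      rw [map_pow, hy₀, hy3, map_one]
    have hy₀3' : ((y₀ : Matrix (Fin n) (Fin n) F₀) - 1) ^ 3 = 0 := by
      have := (pow_char_pow_eq_one_iff 3 y₀ 1).mp (by rwa [pow_one])
      rwa [pow_one] at this
    obtain ⟨μ', hμ'⟩ := exists_hasType y₀ 3 hy₀3'
    have hμ'F : HasType y μ' := by
      rw [← hy₀]; exact hμ'.map _
    have hconj : IsConj ū y := by
      rw [_root_.isConj_iff]
      refine ⟨T⁻¹ * gν, ?_⟩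
      rw [hyx]; group
    have hμμ' : μ = μ' := (hūμ.isConj_iff hμ'F).mp hconj
    subst hμμ'
    obtain ⟨h₀, hh₀⟩ := _root_.isConj_iff.mp ((hu₀.isConj_iff hμ').mpr rfl)
    set h : GL (Fin n) F := Matrix.GeneralLinearGroup.map (F₀.subtype : F₀ →+* F) h₀ with hh
    have hhy : h * ū * h⁻¹ = y := by
      rw [← hy₀, ← hh₀, map_mul, map_mul, map_inv]
    have hcomm : (gν⁻¹ * T * h) * ū = ū * (gν⁻¹ * T * h) := by
      have h1 : T⁻¹ * (gν * ū * gν⁻¹) * T = h * ū * h⁻¹ := by rw [← hyx, hhy]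
      calc (gν⁻¹ * T * h) * ū = gν⁻¹ * T * (h * ū * h⁻¹) * h := by group
        _ = gν⁻¹ * T * (T⁻¹ * (gν * ū * gν⁻¹) * T) * h := by rw [h1]
        _ = ū * (gν⁻¹ * T * h) := by group
    obtain ⟨t, d, b, hd, hb, hdμ⟩ := hūμ
    have hall : ∀ k, d k = 2 := by
      intro k
      have : d k ∈ μ.parts := by
        rw [← hdμ]
        exact Multiset.mem_map_of_mem d (Finset.mem_univ_val k)
      rw [hμparts] at this
      exact Multiset.eq_of_mem_replicate this
    have hsqdet := isSquare_det_of_commute hb hall hcomm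
    have hginv : ((gν⁻¹ : GL (Fin n) F) : Matrix (Fin n) (Fin n) F).det = ν⁻¹ := by
      have h1 : ((gν⁻¹ : GL (Fin n) F) : Matrix (Fin n) (Fin n) F).det *
          (gν : Matrix (Fin n) (Fin n) F).det = 1 := by
        rw [← Matrix.det_mul, ← Units.val_mul, inv_mul_cancel, Units.val_one, Matrix.det_one]
      rw [hgν] at h1
      exact eq_inv_of_mul_eq_one_left h1
    rw [Units.val_mul, Units.val_mul, Matrix.det_mul, Matrix.det_mul, hginv, hTdet, mul_one, hh,
      det_glMap] at hsqdet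
    have hs : IsSquare (((h₀ : Matrix (Fin n) (Fin n) F₀).det : ↥F₀) : F) := hsq _ (Subtype.mem _)
    have hs0 : (((h₀ : Matrix (Fin n) (Fin n) F₀).det : ↥F₀) : F) ≠ 0 := by
      have h2 : IsUnit (h₀ : Matrix (Fin n) (Fin n) F₀).det :=
        (Matrix.isUnit_iff_isUnit_det _).mp h₀.isUnit
      intro h0
      exact h2.ne_zero (Subtype.ext h0)
    apply hν
    have : ν = (((h₀ : Matrix (Fin n) (Fin n) F₀).det : ↥F₀) : F) /
        (ν⁻¹ * (((h₀ : Matrix (Fin n) (Fin n) F₀).det : ↥F₀) : F)) := by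
      field_simp
    rw [this]
    exact hs.div hsqdet

end SU

end Cfsg.Agent.Lib.Helper49
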