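import Cfsg.Agent.Lib.Helper49.UPairIndex

set_option autoImplicit false
open scoped MatrixGroups

/-! # Derangements of the stabiliser of a pair of complementary totally singular subspaces -/

namespace Cfsg.Agent.Lib.Helper49

open Matrix Module Cfsg.Agent.Lib.Helper08 Cfsg.Agent.Lib.Helper51.URU Cfsg.Agent.Lib.Helper51.PGU
open Cfsg.Agent.Lib.Helper19 (pow_q_pow_q add_pow_q sum_pow_q q_pos one_lt_q frobQ frobQ_apply
  frobQ_frobQ)

section Der

variable {F : Type*} [Field F] [Fintype F] {q n : ℕ}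

omit [Fintype F] in
/-- the two members of a decomposition into two subspaces are complementary -/
theorem isCompl_of_decomp {m : ℕ} (D : Fin 2 → Submodule F (Fin n → F))
    (hD : Cfsg.Geo.IsMDecomposition m D) : IsCompl (D 0) (D 1) := by
  have h01 : (0 : Fin 2) ≠ 1 := by decide
  have hdisj : Disjoint (D 0) (D 1) :=
    (iSupIndep_pair h01 (by intro k; fin_cases k <;> simp)).mp hD.indep
  refine ⟨hdisj, ?_⟩
  rw [codisjoint_iff, ← hD.iSup_eq_top]
  apply le_antisymm
  · exact sup_le (le_iSup D 0) (le_iSup D 1)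
  · apply iSup_le
    intro i
    fin_cases i
    · exact le_sup_left
    · exact le_sup_right

/-- a rank one perturbation of a scalar does not stabilise a pair of complementary totally singular
subspaces of dimension at least two -/
theorem not_mem_stab_of_rank_one (hF : Fintype.card F = q ^ 2)
    (D : Fin 2 → Submodule F (Fin n → F)) (hc : IsCompl (D 0) (D 1))
    (hts : ∀ i, ∀ u ∈ D i, ∀ v ∈ D i, hform (Fin n) F q u v = 0)
    (hdim : 2 ≤ Module.finrank F (D 0))
    (y : GL (Fin n) F) (c k : F) (a : Fin n → F) (hk : k ≠ 0) (ha : a ≠ 0)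
    (hy : ∀ x, (y : Matrix (Fin n) (Fin n) F) *ᵥ x = c • x + (k * hform (Fin n) F q x a) • a) :
    y ∉ Cfsg.Geo.decompositionStabilizer D := by
  rintro ⟨σ, hσ⟩
  have hmem : ∀ i, ∀ x ∈ D i, (y : Matrix (Fin n) (Fin n) F) *ᵥ x ∈ D (σ i) := by
    intro i x hx
    rw [← hσ i]
    exact ⟨x, hx, by rw [Matrix.toLin'_apply]⟩
  have key : ∀ i, σ i = i → ∀ x ∈ D i, hform (Fin n) F q x a = 0 := by
    intro i hi x hx
    by_contra hne
    have h2 := hmem i x hx
    rw [hi, hy] at h2
    have h3 : (k * hform (Fin n) F q x a) • a ∈ D i := by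
      have := (D i).sub_mem h2 ((D i).smul_mem c hx)
      simpa using this
    have h4 : a ∈ D i := by
      have := (D i).smul_mem (k * hform (Fin n) F q x a)⁻¹ h3
      rwa [smul_smul, inv_mul_cancel₀ (mul_ne_zero hk hne), one_smul] at this
    exact hne (hts i x hx a h4)
  by_cases h0 : σ 0 = 0
  · have h1 : σ 1 = 1 := by
      have hne : σ 1 ≠ σ 0 := fun h => by
        have := σ.injective h
        exact absurd this (by decide)
      rw [h0] at hne
      have : ∀ j : Fin 2, j ≠ 0 → j = 1 := by decide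
      exact this _ hne
    apply ha
    have hzero : ∀ x, hform (Fin n) F q x a = 0 := by
      intro x
      have hx : x ∈ D 0 ⊔ D 1 := by rw [hc.sup_eq_top]; exact Submodule.mem_top
      obtain ⟨x0, hx0, x1, hx1, rfl⟩ := Submodule.mem_sup.mp hx
      rw [hform_add_left, key 0 h0 x0 hx0, key 1 h1 x1 hx1, add_zero]
    apply hform_nondeg hF
    intro x
    rw [← hform_conj hF, hzero, zero_pow (q_pos hF).ne']
  · have h0' : σ 0 = 1 := by
      have : ∀ j : Fin 2, j ≠ 0 → j = 1 := by decide
      exact this _ h0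
    let φ : (D 0) →ₗ[F] F :=
      { toFun := fun x => hform (Fin n) F q (x : Fin n → F) a
        map_add' := fun x x' => hform_add_left _ _ _
        map_smul' := fun t x => hform_smul_left _ _ _ }
    have hker : LinearMap.ker φ ≠ ⊥ := by
      apply LinearMap.ker_ne_bot_of_finrank_lt
      rw [Module.finrank_self]
      omega
    obtain ⟨x, hxk, hx0⟩ := Submodule.exists_mem_ne_zero_of_ne_bot hker
    have hxa : hform (Fin n) F q (x : Fin n → F) a = 0 := LinearMap.mem_ker.mp hxk
    have h2 := hmem 0 x x.2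
    rw [h0', hy, hxa, mul_zero, zero_smul, add_zero] at h2
    have h3 : c • (x : Fin n → F) ∈ D 0 := (D 0).smul_mem c x.2
    have h4 : c • (x : Fin n → F) = 0 := Submodule.disjoint_def.mp hc.disjoint _ h3 h2
    have h5 : (y : Matrix (Fin n) (Fin n) F) *ᵥ (x : Fin n → F) = 0 := by
      rw [hy, hxa, mul_zero, zero_smul, add_zero, h4]
    apply hx0
    apply Subtype.ext
    have := congrArg (fun z => ((y⁻¹ : GL (Fin n) F) : Matrix (Fin n) (Fin n) F) *ᵥ z) h5
    simp only [Matrix.mulVec_mulVec, ← Units.val_mul, inv_mul_cancel, Units.val_one,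
      Matrix.one_mulVec, Matrix.mulVec_zero] at this
    exact this

/-- conjugating a rank one perturbation of a scalar by a unitary matrix -/
theorem rank_one_conj (hF : Fintype.card F = q ^ 2) (g y : GL (Fin n) F)
    (hg : g ∈ Cfsg.GU n F q) (c k : F) (a : Fin n → F)
    (hy : ∀ x, (y : Matrix (Fin n) (Fin n) F) *ᵥ x = c • x + (k * hform (Fin n) F q x a) • a)
    (x : Fin n → F) :
    ((g⁻¹ * y * g : GL (Fin n) F) : Matrix (Fin n) (Fin n) F) *ᵥ x =
      c • x + (k * hform (Fin n) F q x
        (((g⁻¹ : GL (Fin n) F) : Matrix (Fin n) (Fin n) F) *ᵥ a)) •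
        (((g⁻¹ : GL (Fin n) F) : Matrix (Fin n) (Fin n) F) *ᵥ a) := by
  have hgi : IsIsoMat q ((g⁻¹ : GL (Fin n) F) : Matrix (Fin n) (Fin n) F) := by
    have := (Cfsg.GU n F q).inv_mem hg
    rwa [GU_eq_GUi, mem_GUi_iff] at this
  have hcancel : ∀ z, ((g⁻¹ : GL (Fin n) F) : Matrix (Fin n) (Fin n) F) *ᵥ
      ((g : Matrix (Fin n) (Fin n) F) *ᵥ z) = z := by
    intro z
    rw [Matrix.mulVec_mulVec, ← Units.val_mul, inv_mul_cancel, Units.val_one, Matrix.one_mulVec]
  rw [Units.val_mul, Units.val_mul, ← Matrix.mulVec_mulVec, ← Matrix.mulVec_mulVec, hy,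
    Matrix.mulVec_add, Matrix.mulVec_smul, Matrix.mulVec_smul, hcancel]
  congr 3
  rw [← hgi ((g : Matrix (Fin n) (Fin n) F) *ᵥ x) a, hcancel]

omit [Fintype F] in
/-- invertible scalar matrices stabilise every family of subspaces -/
theorem scalar_mem_stab {t : ℕ} (D : Fin t → Submodule F (Fin n → F)) (y : GL (Fin n) F) (z : F)
    (hy : (y : Matrix (Fin n) (Fin n) F) = z • (1 : Matrix (Fin n) (Fin n) F)) :
    y ∈ Cfsg.Geo.decompositionStabilizer D := by
  refine ⟨1, fun i => ?_⟩
  rw [Equiv.Perm.coe_one, id]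
  apply map_eq_of_map_le
  rintro _ ⟨x, hx, rfl⟩
  rw [Matrix.toLin'_apply, hy, Matrix.smul_mulVec, Matrix.one_mulVec]
  exact (D i).smul_mem z hx

end Der

end Cfsg.Agent.Lib.Helper49
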