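import Cfsg.Agent.Lib.Helper49.UPairDer
import Cfsg.Agent.Lib.Helper19.UnitaryDet

set_option autoImplicit false
open scoped MatrixGroups

/-! # Explicit derangements: transvections and scaled reflections -/

namespace Cfsg.Agent.Lib.Helper49

open Matrix Module Cfsg.Agent.Lib.Helper08 Cfsg.Agent.Lib.Helper51.URU Cfsg.Agent.Lib.Helper51.PGU
open Cfsg.Agent.Lib.Helper19 (pow_q_pow_q add_pow_q sum_pow_q q_pos one_lt_q frobQ frobQ_apply
  frobQ_frobQ normOne mem_normOne card_normOne)

section Der2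

variable {F : Type*} [Field F] [Fintype F] {q n : ℕ}

omit [Fintype F] in
theorem mem_specialLinear_iff' (g : GL (Fin n) F) :
    g ∈ Cfsg.Geo.specialLinear (Fin n) F ↔ (g : Matrix (Fin n) (Fin n) F).det = 1 := by
  unfold Cfsg.Geo.specialLinear
  rw [MonoidHom.mem_ker]
  constructor
  · intro h
    have := congrArg Units.val h
    simpa using this
  · intro h
    apply Units.ext
    simpa using h

omit [Fintype F] in
/-- powers of a unitary transvection -/
theorem qrefl_pow_mulVec (a : Fin n → F) (k : F) (haa : hform (Fin n) F q a a = 0) (j : ℕ)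
    (v : Fin n → F) :
    (qrefl q a k ^ j) *ᵥ v = v + ((j : F) * k * hform (Fin n) F q v a) • a := by
  induction j generalizing v with
  | zero => simp
  | succ j ih =>
    rw [pow_succ, ← Matrix.mulVec_mulVec, ih, qrefl_mulVec, hform_add_left, hform_smul_left, haa,
      mul_zero, add_zero, add_assoc, ← add_smul]
    congr 2
    push_cast
    ring

/-- a transvection with isotropic centre is a derangement -/
theorem exists_transvection_derangement (hF : Fintype.card F = q ^ 2) (p : ℕ) [CharP F p]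
    (D : Fin 2 → Submodule F (Fin n → F)) (hc : IsCompl (D 0) (D 1))
    (hts : ∀ i, ∀ u ∈ D i, ∀ v ∈ D i, hform (Fin n) F q u v = 0)
    (hdim : 2 ≤ Module.finrank F (D 0)) :
    ∃ x ∈ Cfsg.GU n F q ⊓ Cfsg.Geo.specialLinear (Fin n) F, x ^ p = 1 ∧
      ∀ g ∈ Cfsg.GU n F q, g⁻¹ * x * g ∉ Cfsg.Geo.decompositionStabilizer D := by
  have hne : (D 0) ≠ ⊥ := by
    intro h
    rw [h, finrank_bot] at hdim
    omega
  obtain ⟨a, ha, ha0⟩ := Submodule.exists_mem_ne_zero_of_ne_bot hne
  have haa : hform (Fin n) F q a a = 0 := hts 0 a ha a ha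
  obtain ⟨k, hk0, hk⟩ := Cfsg.Agent.Lib.Helper51.exists_skew_ne_zero hF
  have hiso : IsIsoMat q (qrefl q a k) := by
    apply qrefl_iso hF
    rw [haa, mul_zero, add_zero, hk]
  set x : GL (Fin n) F := (hiso.isUnit hF).unit with hx
  have hxv : (x : Matrix (Fin n) (Fin n) F) = qrefl q a k := rfl
  have hxy : ∀ v, (x : Matrix (Fin n) (Fin n) F) *ᵥ v =
      (1 : F) • v + (k * hform (Fin n) F q v a) • a := by
    intro v
    rw [hxv, qrefl_mulVec, one_smul]
  refine ⟨x, Subgroup.mem_inf.mpr ⟨?_, ?_⟩, ?_, ?_⟩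
  · rw [GU_eq_GUi, mem_GUi_iff]
    exact hiso
  · rw [mem_specialLinear_iff', hxv]
    change (Cfsg.Agent.Lib.Helper51.UPar.rk1 q a a k).det = 1
    rw [Cfsg.Agent.Lib.Helper51.UPar.det_rk1, haa, mul_zero, add_zero]
  · apply Units.ext
    rw [Units.val_pow_eq_pow_val, Units.val_one, hxv, Matrix.ext_iff_mulVec]
    intro v
    rw [qrefl_pow_mulVec a k haa, CharP.cast_eq_zero F p, zero_mul, zero_mul, zero_smul, add_zero,
      Matrix.one_mulVec]
  · intro g hg
    apply not_mem_stab_of_rank_one hF D hc hts hdim _ 1 k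
      (((g⁻¹ : GL (Fin n) F) : Matrix (Fin n) (Fin n) F) *ᵥ a) hk0
    · intro h0
      apply ha0
      have := congrArg (fun z => (g : Matrix (Fin n) (Fin n) F) *ᵥ z) h0
      simp only [Matrix.mulVec_mulVec, ← Units.val_mul, mul_inv_cancel, Units.val_one,
        Matrix.one_mulVec, Matrix.mulVec_zero] at this
      exact this
    · exact rank_one_conj hF g x hg 1 k a hxy

/-- a scaled reflection is a derangement -/
theorem exists_reflection_derangement (hF : Fintype.card F = q ^ 2) (hn : 0 < n) (l : F)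
    (hl1 : l ^ (q + 1) = 1) (hln : l ^ n = -1) (h2 : (2 : F) ≠ 0)
    (D : Fin 2 → Submodule F (Fin n → F)) (hc : IsCompl (D 0) (D 1))
    (hts : ∀ i, ∀ u ∈ D i, ∀ v ∈ D i, hform (Fin n) F q u v = 0)
    (hdim : 2 ≤ Module.finrank F (D 0)) :
    ∃ x ∈ Cfsg.GU n F q ⊓ Cfsg.Geo.specialLinear (Fin n) F,
      (∃ z : F, ((x ^ 2 : GL (Fin n) F) : Matrix (Fin n) (Fin n) F) =
        z • (1 : Matrix (Fin n) (Fin n) F)) ∧
      ∀ g ∈ Cfsg.GU n F q, g⁻¹ * x * g ∉ Cfsg.Geo.decompositionStabilizer D := by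
  set e₀ : Fin n → F := Pi.single ⟨0, hn⟩ 1 with he₀
  have hee : hform (Fin n) F q e₀ e₀ = 1 := by
    rw [he₀, hform_single_right hF, Pi.single_eq_same]
  have he0 : e₀ ≠ 0 := by
    intro h
    rw [h, hform_zero_left] at hee
    exact zero_ne_one hee
  have hl0 : l ≠ 0 := by
    rintro rfl
    rw [zero_pow (by omega)] at hl1
    exact zero_ne_one hl1
  have hllq : l * l ^ q = 1 := by rw [← pow_succ', hl1]
  have h2q : (-2 : F) ^ q = -2 := by
    rw [← frobQ_apply hF, map_neg, map_ofNat]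
  have hiso0 : IsIsoMat q (qrefl q e₀ (-2)) := by
    apply qrefl_iso hF
    rw [hee, h2q]
    ring
  have hiso : IsIsoMat q (l • qrefl q e₀ (-2)) := by
    intro v w
    rw [Matrix.smul_mulVec, Matrix.smul_mulVec, hform_smul_left, hform_smul_right, hiso0,
      ← mul_assoc, hllq, one_mul]
  set x : GL (Fin n) F := (hiso.isUnit hF).unit with hx
  have hxv : (x : Matrix (Fin n) (Fin n) F) = l • qrefl q e₀ (-2) := rfl
  have hxy : ∀ v, (x : Matrix (Fin n) (Fin n) F) *ᵥ v =
      l • v + ((-2 * l) * hform (Fin n) F q v e₀) • e₀ := by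
    intro v
    rw [hxv, Matrix.smul_mulVec, qrefl_mulVec, smul_add, smul_smul]
    congr 2
    ring
  refine ⟨x, Subgroup.mem_inf.mpr ⟨?_, ?_⟩, ⟨l ^ 2, ?_⟩, ?_⟩
  · rw [GU_eq_GUi, mem_GUi_iff]
    exact hiso
  · rw [mem_specialLinear_iff', hxv, Matrix.det_smul, Fintype.card_fin, hln]
    change -1 * (Cfsg.Agent.Lib.Helper51.UPar.rk1 q e₀ e₀ (-2)).det = 1
    rw [Cfsg.Agent.Lib.Helper51.UPar.det_rk1, hee]
    ring
  · rw [Units.val_pow_eq_pow_val, pow_two, Matrix.ext_iff_mulVec]
    intro v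
    rw [← Matrix.mulVec_mulVec, hxy, hxy, hform_add_left, hform_smul_left, hform_smul_left, hee,
      Matrix.smul_mulVec, Matrix.one_mulVec]
    module
  · intro g hg
    apply not_mem_stab_of_rank_one hF D hc hts hdim _ l (-2 * l)
      (((g⁻¹ : GL (Fin n) F) : Matrix (Fin n) (Fin n) F) *ᵥ e₀)
      (mul_ne_zero (neg_ne_zero.mpr h2) hl0)
    · intro h0
      apply he0
      have := congrArg (fun z => (g : Matrix (Fin n) (Fin n) F) *ᵥ z) h0
      simp only [Matrix.mulVec_mulVec, ← Units.val_mul, mul_inv_cancel, Units.val_one,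
        Matrix.one_mulVec, Matrix.mulVec_zero] at this
      exact this
    · exact rank_one_conj hF g x hg l (-2 * l) e₀ hxy

end Der2

end Cfsg.Agent.Lib.Helper49
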