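import Cfsg.Agent.Lib.Helper49.UPairFrame
import Cfsg.Agent.Lib.Helper49.BlockKdim
import Cfsg.Agent.Lib.Helper51.PGU1

set_option autoImplicit false
open scoped MatrixGroups

/-! The embedding of `GL_m(q²)` into the unitary group attached to a hyperbolic frame. -/

namespace Cfsg.Agent.Lib.Helper49

open Matrix Module Cfsg.Agent.Lib.Helper08 Cfsg.Agent.Lib.Helper51.URU Cfsg.Agent.Lib.Helper51.PGU
open Cfsg.Agent.Lib.Helper19 (pow_q_pow_q add_pow_q sum_pow_q q_pos one_lt_q frobQ frobQ_apply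
  frobQ_frobQ)

section Embed

variable {F : Type*} [Field F] [Fintype F] {q m n : ℕ}

/-- a hyperbolic frame of the standard hermitian space -/
structure HFrame (q : ℕ) (u w : Fin m → (Fin n → F)) : Prop where
  hn : n = m + m
  pos : 0 < m
  li : LinearIndependent F (Sum.elim u w)
  uu : ∀ a b, hform (Fin n) F q (u a) (u b) = 0
  ww : ∀ a b, hform (Fin n) F q (w a) (w b) = 0
  uw : ∀ a b, hform (Fin n) F q (u a) (w b) = if a = b then 1 else 0

variable {u w : Fin m → (Fin n → F)}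

theorem HFrame.wu (hF : Fintype.card F = q ^ 2) (hfr : HFrame q u w) (a b : Fin m) :
    hform (Fin n) F q (w a) (u b) = if a = b then 1 else 0 := by
  rw [← hform_conj hF, hfr.uw]
  by_cases h : a = b
  · rw [if_pos h, if_pos h.symm, one_pow]
  · rw [if_neg h, if_neg (Ne.symm h), zero_pow (q_pos hF).ne']

theorem HFrame.card_eq (hfr : HFrame q u w) :
    Fintype.card (Fin m ⊕ Fin m) = finrank F (Fin n → F) := by
  rw [Fintype.card_sum, Fintype.card_fin, Module.finrank_fin_fun, hfr.hn]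

/-- the coordinate isomorphism of a frame -/
noncomputable def HFrame.equiv (hfr : HFrame q u w) : (Fin m ⊕ Fin m → F) ≃ₗ[F] (Fin n → F) :=
  haveI : Nonempty (Fin m ⊕ Fin m) := ⟨Sum.inl ⟨0, hfr.pos⟩⟩
  (basisOfLinearIndependentOfCardEqFinrank hfr.li hfr.card_eq).equivFun.symm

theorem HFrame.equiv_apply (hfr : HFrame q u w) (ξ : Fin m ⊕ Fin m → F) :
    hfr.equiv ξ = ∑ a, ξ (Sum.inl a) • u a + ∑ a, ξ (Sum.inr a) • w a := by
  unfold HFrame.equiv
  rw [Basis.equivFun_symm_apply, Fintype.sum_sum_type]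
  simp only [coe_basisOfLinearIndependentOfCardEqFinrank, Sum.elim_inl, Sum.elim_inr]

theorem hform_sum_smul (hF : Fintype.card F = q ^ 2) (c d : Fin m → F)
    (x y : Fin m → (Fin n → F)) :
    hform (Fin n) F q (∑ a, c a • x a) (∑ b, d b • y b) =
      ∑ a, ∑ b, c a * d b ^ q * hform (Fin n) F q (x a) (y b) := by
  rw [hform_sum_left']
  apply Finset.sum_congr rfl
  intro a _
  rw [hform_smul_left, hform_sum_right' hF, Finset.mul_sum]
  apply Finset.sum_congr rfl
  intro b _
  rw [hform_smul_right]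
  ring

/-- the Gram formula of a frame -/
theorem HFrame.hform_equiv (hF : Fintype.card F = q ^ 2) (hfr : HFrame q u w)
    (ξ η : Fin m ⊕ Fin m → F) :
    hform (Fin n) F q (hfr.equiv ξ) (hfr.equiv η) =
      hform (Fin m) F q (ξ ∘ Sum.inl) (η ∘ Sum.inr) + hform (Fin m) F q (ξ ∘ Sum.inr) (η ∘ Sum.inl) := by
  classical
  rw [hfr.equiv_apply, hfr.equiv_apply, hform_add_left, hform_add_right hF, hform_add_right hF,
    hform_sum_smul hF, hform_sum_smul hF, hform_sum_smul hF, hform_sum_smul hF]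
  simp only [hfr.uu, hfr.ww, hfr.uw, hfr.wu hF, mul_zero, Finset.sum_const_zero, zero_add, add_zero,
    mul_ite, mul_one, Finset.sum_ite_eq, Finset.mem_univ, if_true]
  rfl

/-- the adjoint identity for the standard hermitian form -/
theorem hform_mulVec_cstar (hF : Fintype.card F = q ^ 2) (A : Matrix (Fin m) (Fin m) F)
    (x y : Fin m → F) :
    hform (Fin m) F q (A *ᵥ x) y = hform (Fin m) F q x (cstar (frobQ hF) A *ᵥ y) := by
  unfold hform Matrix.mulVec dotProduct
  have h1 : ∀ b, (∑ a, cstar (frobQ hF) A b a * y a) ^ q = ∑ a, A a b * y a ^ q := by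
    intro b
    rw [sum_pow_q hF]
    apply Finset.sum_congr rfl
    intro a _
    rw [cstar_apply, frobQ_apply, mul_pow, pow_q_pow_q hF]
  simp only [h1, Finset.sum_mul, Finset.mul_sum]
  rw [Finset.sum_comm]
  apply Finset.sum_congr rfl
  intro b _
  apply Finset.sum_congr rfl
  intro a _
  ring

/-- the block diagonal embedding `A ↦ diag(A, (A⁻¹)^*)` -/
noncomputable def blkHom (hF : Fintype.card F = q ^ 2) (m : ℕ) :
    GL (Fin m) F →* GL (Fin m ⊕ Fin m) F where
  toFun A := ⟨Matrix.fromBlocks (A : Matrix (Fin m) (Fin m) F) 0 0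
      ((gstar hF A : GL (Fin m) F) : Matrix (Fin m) (Fin m) F),
    Matrix.fromBlocks ((A⁻¹ : GL (Fin m) F) : Matrix (Fin m) (Fin m) F) 0 0
      (((gstar hF A)⁻¹ : GL (Fin m) F) : Matrix (Fin m) (Fin m) F),
    by
      rw [Matrix.fromBlocks_multiply]
      simp only [Matrix.mul_zero, Matrix.zero_mul, add_zero, zero_add]
      rw [← Units.val_mul, ← Units.val_mul, mul_inv_cancel, mul_inv_cancel, Units.val_one,
        Matrix.fromBlocks_one],
    by
      rw [Matrix.fromBlocks_multiply]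
      simp only [Matrix.mul_zero, Matrix.zero_mul, add_zero, zero_add]
      rw [← Units.val_mul, ← Units.val_mul, inv_mul_cancel, inv_mul_cancel, Units.val_one,
        Matrix.fromBlocks_one]⟩
  map_one' := by
    apply Units.ext
    change Matrix.fromBlocks ((1 : GL (Fin m) F) : Matrix (Fin m) (Fin m) F) 0 0
      ((gstar hF 1 : GL (Fin m) F) : Matrix (Fin m) (Fin m) F) = 1
    rw [map_one, Units.val_one, Matrix.fromBlocks_one]
  map_mul' A B := by
    apply Units.ext
    change Matrix.fromBlocks ((A * B : GL (Fin m) F) : Matrix (Fin m) (Fin m) F) 0 0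
      ((gstar hF (A * B) : GL (Fin m) F) : Matrix (Fin m) (Fin m) F) =
      Matrix.fromBlocks (A : Matrix (Fin m) (Fin m) F) 0 0
        ((gstar hF A : GL (Fin m) F) : Matrix (Fin m) (Fin m) F) *
      Matrix.fromBlocks (B : Matrix (Fin m) (Fin m) F) 0 0
        ((gstar hF B : GL (Fin m) F) : Matrix (Fin m) (Fin m) F)
    rw [Matrix.fromBlocks_multiply, map_mul]
    simp only [Matrix.mul_zero, Matrix.zero_mul, add_zero, zero_add, Units.val_mul]

theorem blkHom_val (hF : Fintype.card F = q ^ 2) (A : GL (Fin m) F) :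
    ((blkHom hF m A : GL (Fin m ⊕ Fin m) F) : Matrix (Fin m ⊕ Fin m) (Fin m ⊕ Fin m) F) =
      Matrix.fromBlocks (A : Matrix (Fin m) (Fin m) F) 0 0
        ((gstar hF A : GL (Fin m) F) : Matrix (Fin m) (Fin m) F) := rfl

/-- conjugation by a (rectangular) invertible matrix, as a group homomorphism -/
def conjHom {ι κ : Type*} [Fintype ι] [DecidableEq ι] [Fintype κ] [DecidableEq κ]
    (B : Matrix ι κ F) (B' : Matrix κ ι F) (hBB' : B * B' = 1) (hB'B : B' * B = 1) :
    GL κ F →* GL ι F where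
  toFun X := ⟨B * (X : Matrix κ κ F) * B', B * ((X⁻¹ : GL κ F) : Matrix κ κ F) * B',
    by
      calc B * (X : Matrix κ κ F) * B' * (B * ((X⁻¹ : GL κ F) : Matrix κ κ F) * B')
          = B * ((X : Matrix κ κ F) * (B' * B) * ((X⁻¹ : GL κ F) : Matrix κ κ F)) * B' := by
            simp only [Matrix.mul_assoc]
        _ = 1 := by
            rw [hB'B, Matrix.mul_one, ← Units.val_mul, mul_inv_cancel, Units.val_one,
              Matrix.mul_one, hBB'],
    by
      calc B * ((X⁻¹ : GL κ F) : Matrix κ κ F) * B' * (B * (X : Matrix κ κ F) * B')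
          = B * (((X⁻¹ : GL κ F) : Matrix κ κ F) * (B' * B) * (X : Matrix κ κ F)) * B' := by
            simp only [Matrix.mul_assoc]
        _ = 1 := by
            rw [hB'B, Matrix.mul_one, ← Units.val_mul, inv_mul_cancel, Units.val_one,
              Matrix.mul_one, hBB']⟩
  map_one' := by
    apply Units.ext
    change B * ((1 : GL κ F) : Matrix κ κ F) * B' = 1
    rw [Units.val_one, Matrix.mul_one, hBB']
  map_mul' X Y := by
    apply Units.ext
    change B * ((X * Y : GL κ F) : Matrix κ κ F) * B' =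
      B * (X : Matrix κ κ F) * B' * (B * (Y : Matrix κ κ F) * B')
    rw [Units.val_mul]
    calc B * ((X : Matrix κ κ F) * (Y : Matrix κ κ F)) * B'
        = B * ((X : Matrix κ κ F) * 1 * (Y : Matrix κ κ F)) * B' := by rw [Matrix.mul_one]
      _ = B * (X : Matrix κ κ F) * B' * (B * (Y : Matrix κ κ F) * B') := by
          rw [← hB'B]; simp only [Matrix.mul_assoc]

/-- the matrices of the coordinate isomorphism -/
noncomputable def HFrame.mat (hfr : HFrame q u w) : Matrix (Fin n) (Fin m ⊕ Fin m) F :=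
  LinearMap.toMatrix' (hfr.equiv : (Fin m ⊕ Fin m → F) →ₗ[F] (Fin n → F))

noncomputable def HFrame.mat' (hfr : HFrame q u w) : Matrix (Fin m ⊕ Fin m) (Fin n) F :=
  LinearMap.toMatrix' (hfr.equiv.symm : (Fin n → F) →ₗ[F] (Fin m ⊕ Fin m → F))

theorem HFrame.mat_mul_mat' (hfr : HFrame q u w) : hfr.mat * hfr.mat' = 1 := by
  unfold HFrame.mat HFrame.mat'
  rw [← LinearMap.toMatrix'_comp]; simp

theorem HFrame.mat'_mul_mat (hfr : HFrame q u w) : hfr.mat' * hfr.mat = 1 := by
  unfold HFrame.mat HFrame.mat'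
  rw [← LinearMap.toMatrix'_comp]; simp

theorem HFrame.mat_mulVec (hfr : HFrame q u w) (ξ : Fin m ⊕ Fin m → F) :
    hfr.mat *ᵥ ξ = hfr.equiv ξ := by
  unfold HFrame.mat
  rw [← Matrix.toLin'_apply, Matrix.toLin'_toMatrix']
  rfl

theorem HFrame.mat'_mulVec (hfr : HFrame q u w) (x : Fin n → F) :
    hfr.mat' *ᵥ x = hfr.equiv.symm x := by
  unfold HFrame.mat'
  rw [← Matrix.toLin'_apply, Matrix.toLin'_toMatrix']
  rfl

/-- the embedding of `GL_m` attached to a frame -/
noncomputable def HFrame.hom (hF : Fintype.card F = q ^ 2) (hfr : HFrame q u w) :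
    GL (Fin m) F →* GL (Fin n) F :=
  (conjHom hfr.mat hfr.mat' hfr.mat_mul_mat' hfr.mat'_mul_mat).comp (blkHom hF m)

theorem HFrame.hom_val (hF : Fintype.card F = q ^ 2) (hfr : HFrame q u w) (A : GL (Fin m) F) :
    ((hfr.hom hF A : GL (Fin n) F) : Matrix (Fin n) (Fin n) F) =
      hfr.mat * Matrix.fromBlocks (A : Matrix (Fin m) (Fin m) F) 0 0
        ((gstar hF A : GL (Fin m) F) : Matrix (Fin m) (Fin m) F) * hfr.mat' := rfl

theorem HFrame.hom_mulVec_equiv (hF : Fintype.card F = q ^ 2) (hfr : HFrame q u w)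
    (A : GL (Fin m) F) (ξ : Fin m ⊕ Fin m → F) :
    ((hfr.hom hF A : GL (Fin n) F) : Matrix (Fin n) (Fin n) F) *ᵥ (hfr.equiv ξ) =
      hfr.equiv (Sum.elim ((A : Matrix (Fin m) (Fin m) F) *ᵥ (ξ ∘ Sum.inl))
        (((gstar hF A : GL (Fin m) F) : Matrix (Fin m) (Fin m) F) *ᵥ (ξ ∘ Sum.inr))) := by
  rw [hfr.hom_val, ← Matrix.mulVec_mulVec, ← Matrix.mulVec_mulVec, hfr.mat'_mulVec,
    LinearEquiv.symm_apply_apply, hfr.mat_mulVec]
  congr 1
  funext j
  rcases j with a | a
  · rw [Matrix.fromBlocks_mulVec]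
    simp only [Matrix.zero_mulVec, add_zero, Sum.elim_inl]
  · rw [Matrix.fromBlocks_mulVec]
    simp only [Matrix.zero_mulVec, zero_add, Sum.elim_inr]

/-- the embedding lands in the unitary group -/
theorem HFrame.hom_mem_GU (hF : Fintype.card F = q ^ 2) (hfr : HFrame q u w) (A : GL (Fin m) F) :
    hfr.hom hF A ∈ Cfsg.GU n F q := by
  rw [GU_eq_GUi, mem_GUi_iff]
  intro x y
  obtain ⟨ξ, rfl⟩ := hfr.equiv.surjective x
  obtain ⟨η, rfl⟩ := hfr.equiv.surjective y
  rw [hfr.hom_mulVec_equiv, hfr.hom_mulVec_equiv, hfr.hform_equiv hF, hfr.hform_equiv hF]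
  have e1 : ∀ f g : Fin m → F, (Sum.elim f g : Fin m ⊕ Fin m → F) ∘ Sum.inl = f := fun f g => rfl
  have e2 : ∀ f g : Fin m → F, (Sum.elim f g : Fin m ⊕ Fin m → F) ∘ Sum.inr = g := fun f g => rfl
  rw [e1, e2, e1, e2, hform_mulVec_cstar hF, hform_mulVec_cstar hF, Matrix.mulVec_mulVec,
    Matrix.mulVec_mulVec]
  have h1 : cstar (frobQ hF) (A : Matrix (Fin m) (Fin m) F) *
      ((gstar hF A : GL (Fin m) F) : Matrix (Fin m) (Fin m) F) = 1 := by
    rw [gstar_val', ← cstar_mul, ← Units.val_mul, inv_mul_cancel, Units.val_one, cstar_one]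
  have h2 : cstar (frobQ hF) ((gstar hF A : GL (Fin m) F) : Matrix (Fin m) (Fin m) F) *
      (A : Matrix (Fin m) (Fin m) F) = 1 := by
    rw [gstar_val', cstar_cstar _ (frobQ_frobQ hF), ← Units.val_mul, inv_mul_cancel, Units.val_one]
  rw [h1, h2, Matrix.one_mulVec, Matrix.one_mulVec]

theorem HFrame.equiv_mem_span_u_iff (hfr : HFrame q u w) (ξ : Fin m ⊕ Fin m → F) :
    hfr.equiv ξ ∈ Submodule.span F (Set.range u) ↔ ξ ∘ Sum.inr = 0 := by
  constructor
  · intro h
    rw [Submodule.mem_span_range_iff_exists_fun] at h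
    obtain ⟨c, hc⟩ := h
    have h1 : hfr.equiv (Sum.elim c 0) = hfr.equiv ξ := by
      rw [hfr.equiv_apply, ← hc]
      simp
    have h2 := hfr.equiv.injective h1
    rw [← h2]
    rfl
  · intro h
    rw [hfr.equiv_apply]
    have h0 : ∀ a, ξ (Sum.inr a) = 0 := fun a => congrFun h a
    simp only [h0, zero_smul, Finset.sum_const_zero, add_zero]
    apply Submodule.sum_mem
    intro a _
    exact Submodule.smul_mem _ _ (Submodule.subset_span ⟨a, rfl⟩)

theorem HFrame.equiv_mem_span_w_iff (hfr : HFrame q u w) (ξ : Fin m ⊕ Fin m → F) :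
    hfr.equiv ξ ∈ Submodule.span F (Set.range w) ↔ ξ ∘ Sum.inl = 0 := by
  constructor
  · intro h
    rw [Submodule.mem_span_range_iff_exists_fun] at h
    obtain ⟨c, hc⟩ := h
    have h1 : hfr.equiv (Sum.elim 0 c) = hfr.equiv ξ := by
      rw [hfr.equiv_apply, ← hc]
      simp
    have h2 := hfr.equiv.injective h1
    rw [← h2]
    rfl
  · intro h
    rw [hfr.equiv_apply]
    have h0 : ∀ a, ξ (Sum.inl a) = 0 := fun a => congrFun h a
    simp only [h0, zero_smul, Finset.sum_const_zero, zero_add]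
    apply Submodule.sum_mem
    intro a _
    exact Submodule.smul_mem _ _ (Submodule.subset_span ⟨a, rfl⟩)

omit [Fintype F] in
/-- an invertible matrix mapping a subspace into itself maps it onto itself -/
theorem map_eq_of_map_le (g : GL (Fin n) F) (U : Submodule F (Fin n → F))
    (h : U.map (Matrix.toLin' (g : Matrix (Fin n) (Fin n) F)) ≤ U) :
    U.map (Matrix.toLin' (g : Matrix (Fin n) (Fin n) F)) = U := by
  apply Submodule.eq_of_le_of_finrank_eq h
  have hinj : Function.Injective (Matrix.toLin' (g : Matrix (Fin n) (Fin n) F)) := by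
    rw [← LinearMap.ker_eq_bot, LinearMap.ker_eq_bot']
    intro v hv
    rw [Matrix.toLin'_apply] at hv
    have := congrArg (fun z => ((g⁻¹ : GL (Fin n) F) : Matrix (Fin n) (Fin n) F) *ᵥ z) hv
    simp only [Matrix.mulVec_mulVec, ← Units.val_mul, inv_mul_cancel, Units.val_one,
      Matrix.one_mulVec, Matrix.mulVec_zero] at this
    exact this
  exact (Submodule.equivMapOfInjective _ hinj U).finrank_eq.symm

theorem HFrame.hom_map_u (hF : Fintype.card F = q ^ 2) (hfr : HFrame q u w) (A : GL (Fin m) F) :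
    (Submodule.span F (Set.range u)).map
      (Matrix.toLin' ((hfr.hom hF A : GL (Fin n) F) : Matrix (Fin n) (Fin n) F)) =
      Submodule.span F (Set.range u) := by
  apply map_eq_of_map_le
  rintro _ ⟨x, hx, rfl⟩
  obtain ⟨ξ, rfl⟩ := hfr.equiv.surjective x
  rw [SetLike.mem_coe, hfr.equiv_mem_span_u_iff] at hx
  rw [Matrix.toLin'_apply, hfr.hom_mulVec_equiv, hfr.equiv_mem_span_u_iff, hx]
  funext a
  simp

theorem HFrame.hom_map_w (hF : Fintype.card F = q ^ 2) (hfr : HFrame q u w) (A : GL (Fin m) F) :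
    (Submodule.span F (Set.range w)).map
      (Matrix.toLin' ((hfr.hom hF A : GL (Fin n) F) : Matrix (Fin n) (Fin n) F)) =
      Submodule.span F (Set.range w) := by
  apply map_eq_of_map_le
  rintro _ ⟨x, hx, rfl⟩
  obtain ⟨ξ, rfl⟩ := hfr.equiv.surjective x
  rw [SetLike.mem_coe, hfr.equiv_mem_span_w_iff] at hx
  rw [Matrix.toLin'_apply, hfr.hom_mulVec_equiv, hfr.equiv_mem_span_w_iff, hx]
  funext a
  simp

theorem HFrame.hom_injective (hF : Fintype.card F = q ^ 2) (hfr : HFrame q u w) :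
    Function.Injective (hfr.hom hF) := by
  rw [injective_iff_map_eq_one]
  intro A hA
  have h1 := congrArg (fun g : GL (Fin n) F => (g : Matrix (Fin n) (Fin n) F)) hA
  simp only [hfr.hom_val, Units.val_one] at h1
  set X : Matrix (Fin m ⊕ Fin m) (Fin m ⊕ Fin m) F :=
    Matrix.fromBlocks (A : Matrix (Fin m) (Fin m) F) 0 0
      ((gstar hF A : GL (Fin m) F) : Matrix (Fin m) (Fin m) F) with hX
  have e : hfr.mat' * (hfr.mat * X * hfr.mat') * hfr.mat = X := by
    simp only [Matrix.mul_assoc]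
    rw [hfr.mat'_mul_mat, Matrix.mul_one, ← Matrix.mul_assoc, hfr.mat'_mul_mat, Matrix.one_mul]
  have h2 : X = 1 := by
    rw [← e, h1, Matrix.mul_one, hfr.mat'_mul_mat]
  rw [hX] at h2
  rw [← Matrix.fromBlocks_one, Matrix.fromBlocks_inj] at h2
  exact Units.ext h2.1

theorem HFrame.hom_det (hF : Fintype.card F = q ^ 2) (hfr : HFrame q u w) (A : GL (Fin m) F) :
    ((hfr.hom hF A : GL (Fin n) F) : Matrix (Fin n) (Fin n) F).det =
      (A : Matrix (Fin m) (Fin m) F).det *
        (((A⁻¹ : GL (Fin m) F) : Matrix (Fin m) (Fin m) F).det) ^ q := by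
  rw [hfr.hom_val, Matrix.det_conj_of_mul_eq_one hfr.mat_mul_mat' hfr.mat'_mul_mat,
    Matrix.det_fromBlocks_zero₁₂, gstar_val', cstar_det, frobQ_apply]

theorem HFrame.hom_kdim (hF : Fintype.card F = q ^ 2) (hfr : HFrame q u w) (A : GL (Fin m) F)
    (P : Polynomial F) :
    kdim (Matrix.toLin' ((hfr.hom hF A : GL (Fin n) F) : Matrix (Fin n) (Fin n) F)) P =
      kdim (Matrix.toLin' (A : Matrix (Fin m) (Fin m) F)) P +
        kdim (Matrix.toLin' ((gstar hF A : GL (Fin m) F) : Matrix (Fin m) (Fin m) F)) P := by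
  rw [← kdim_fromBlocks]
  symm
  apply kdim_conj _ _ hfr.equiv
  intro ξ
  rw [Matrix.toLin'_apply, Matrix.toLin'_apply, hfr.hom_val, ← Matrix.mulVec_mulVec,
    ← Matrix.mulVec_mulVec, hfr.mat'_mulVec, LinearEquiv.symm_apply_apply, hfr.mat_mulVec]

end Embed

end Cfsg.Agent.Lib.Helper49
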