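import Cfsg.Agent.Lib.Helper51.UPar5
import Cfsg.Agent.Lib.Helper51.USemi2

set_option autoImplicit false
open scoped MatrixGroups

/-! Pairs of complementary totally isotropic subspaces of the standard hermitian space: dual
frames. -/

namespace Cfsg.Agent.Lib.Helper49

open Matrix Module Cfsg.Agent.Lib.Helper08
open Cfsg.Agent.Lib.Helper19 (pow_q_pow_q add_pow_q sum_pow_q q_pos one_lt_q frobQ frobQ_apply)

section Frame

variable {F : Type*} [Field F] [Fintype F] {q n : ℕ}

theorem hform_sum_right' (hF : Fintype.card F = q ^ 2) {κ : Type*} (s : Finset κ) (x : Fin n → F)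
    (y : κ → Fin n → F) :
    hform (Fin n) F q x (∑ k ∈ s, y k) = ∑ k ∈ s, hform (Fin n) F q x (y k) := by
  classical
  induction s using Finset.induction_on with
  | empty =>
    simp only [Finset.sum_empty]
    unfold hform
    simp [zero_pow (q_pos hF).ne']
  | insert a s ha ih =>
    rw [Finset.sum_insert ha, Finset.sum_insert ha, hform_add_right hF, ih]

theorem hform_sum_left' {κ : Type*} (s : Finset κ) (x : κ → Fin n → F) (y : Fin n → F) :
    hform (Fin n) F q (∑ k ∈ s, x k) y = ∑ k ∈ s, hform (Fin n) F q (x k) y := by
  classical
  induction s using Finset.induction_on with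
  | empty => simp [hform_zero_left]
  | insert a s ha ih =>
    rw [Finset.sum_insert ha, Finset.sum_insert ha, hform_add_left, ih]

/-- the form vanishes against a span when it vanishes against the generators -/
theorem hform_eq_zero_of_mem_span (hF : Fintype.card F = q ^ 2) (x : Fin n → F)
    (S : Set (Fin n → F)) (h : ∀ s ∈ S, hform (Fin n) F q x s = 0) (y : Fin n → F)
    (hy : y ∈ Submodule.span F S) : hform (Fin n) F q x y = 0 := by
  induction hy using Submodule.span_induction with
  | mem s hs => exact h s hs
  | zero =>
    unfold hform
    simp [zero_pow (q_pos hF).ne']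
  | add a b _ _ ha hb => rw [hform_add_right hF, ha, hb, add_zero]
  | smul c a _ ha => rw [hform_smul_right, ha, mul_zero]

/-- complementary totally isotropic subspaces: the second is no bigger than the first -/
theorem finrank_le_of_ts_compl (hF : Fintype.card F = q ^ 2) (U W : Submodule F (Fin n → F))
    (hc : IsCompl U W) (hW : ∀ u ∈ W, ∀ v ∈ W, hform (Fin n) F q u v = 0) :
    finrank F W ≤ finrank F U := by
  classical
  let bU := Module.finBasis F U
  let Ψ : W →ₗ[F] (Fin (finrank F U) → F) :=
    { toFun := fun w a => hform (Fin n) F q (w : Fin n → F) (bU a : Fin n → F)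
      map_add' := by
        intro w w'
        funext a
        simp only [Submodule.coe_add, Pi.add_apply]
        exact hform_add_left _ _ _
      map_smul' := by
        intro c w
        funext a
        simp only [Submodule.coe_smul, Pi.smul_apply, smul_eq_mul, RingHom.id_apply]
        exact hform_smul_left _ _ _ }
  have hinj : Function.Injective Ψ := by
    rw [← LinearMap.ker_eq_bot, LinearMap.ker_eq_bot']
    intro w hw
    apply Subtype.ext
    apply hform_nondeg hF
    intro y
    have hy : y ∈ U ⊔ W := by rw [hc.sup_eq_top]; exact Submodule.mem_top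
    obtain ⟨yu, hyu, yw, hyw, rfl⟩ := Submodule.mem_sup.mp hy
    rw [hform_add_right hF, hW _ w.2 _ hyw, add_zero]
    have hspan : yu ∈ Submodule.span F (Set.range (fun a => (bU a : Fin n → F))) := by
      have h1 : (⟨yu, hyu⟩ : U) ∈ Submodule.span F (Set.range bU) := by
        rw [bU.span_eq]; exact Submodule.mem_top
      have h2 := Submodule.apply_mem_span_image_of_mem_span U.subtype h1
      rw [← Set.range_comp] at h2
      exact h2
    apply hform_eq_zero_of_mem_span hF _ _ _ _ hspan
    rintro s ⟨a, rfl⟩
    exact congrFun hw a
  have := LinearMap.finrank_le_finrank_of_injective hinj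
  rwa [Module.finrank_fin_fun] at this

/-- a dual frame of a pair of complementary totally isotropic subspaces -/
theorem exists_dual_frame_herm (hF : Fintype.card F = q ^ 2) (U W : Submodule F (Fin n → F))
    (hc : IsCompl U W) (hU : ∀ u ∈ U, ∀ v ∈ U, hform (Fin n) F q u v = 0)
    (hW : ∀ u ∈ W, ∀ v ∈ W, hform (Fin n) F q u v = 0) :
    ∃ (m : ℕ) (u w : Fin m → (Fin n → F)), n = m + m ∧ (∀ a, u a ∈ U) ∧ (∀ a, w a ∈ W) ∧
      (∀ a b, hform (Fin n) F q (u a) (w b) = if a = b then 1 else 0) ∧
      LinearIndependent F (Sum.elim u w) ∧
      U = Submodule.span F (Set.range u) ∧ W = Submodule.span F (Set.range w) := by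
  classical
  have h1 := finrank_le_of_ts_compl hF U W hc hW
  have h2 := finrank_le_of_ts_compl hF W U hc.symm hU
  have hUW : finrank F W = finrank F U := le_antisymm h1 h2
  have hsum : finrank F U + finrank F W = n := by
    rw [Submodule.finrank_add_eq_of_isCompl hc, Module.finrank_fin_fun]
  set m := finrank F U with hm
  let bU := Module.finBasis F U
  let Ψ : W →ₗ[F] (Fin m → F) :=
    { toFun := fun w a => hform (Fin n) F q (w : Fin n → F) (bU a : Fin n → F)
      map_add' := by
        intro w w'
        funext a
        simp only [Submodule.coe_add, Pi.add_apply]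
        exact hform_add_left _ _ _
      map_smul' := by
        intro c w
        funext a
        simp only [Submodule.coe_smul, Pi.smul_apply, smul_eq_mul, RingHom.id_apply]
        exact hform_smul_left _ _ _ }
  have hinj : Function.Injective Ψ := by
    rw [← LinearMap.ker_eq_bot, LinearMap.ker_eq_bot']
    intro w hw
    apply Subtype.ext
    apply hform_nondeg hF
    intro y
    have hy : y ∈ U ⊔ W := by rw [hc.sup_eq_top]; exact Submodule.mem_top
    obtain ⟨yu, hyu, yw, hyw, rfl⟩ := Submodule.mem_sup.mp hy
    rw [hform_add_right hF, hW _ w.2 _ hyw, add_zero]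
    have hspan : yu ∈ Submodule.span F (Set.range (fun a => (bU a : Fin n → F))) := by
      have h1 : (⟨yu, hyu⟩ : U) ∈ Submodule.span F (Set.range bU) := by
        rw [bU.span_eq]; exact Submodule.mem_top
      have h2 := Submodule.apply_mem_span_image_of_mem_span U.subtype h1
      rw [← Set.range_comp] at h2
      exact h2
    apply hform_eq_zero_of_mem_span hF _ _ _ _ hspan
    rintro s ⟨a, rfl⟩
    exact congrFun hw a
  have hsurj : Function.Surjective Ψ := by
    apply (LinearMap.injective_iff_surjective_of_finrank_eq_finrank ?_).mp hinj
    rw [Module.finrank_fin_fun, hUW]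
  choose w' hw' using fun b : Fin m => hsurj (Pi.single b 1)
  let u : Fin m → (Fin n → F) := fun a => (bU a : Fin n → F)
  let w : Fin m → (Fin n → F) := fun b => (w' b : Fin n → F)
  have hwu : ∀ a b, hform (Fin n) F q (w b) (u a) = if a = b then 1 else 0 := by
    intro a b
    have := congrFun (hw' b) a
    change hform (Fin n) F q (w b) (u a) = _ at this
    rw [this, Pi.single_apply]
  have huw : ∀ a b, hform (Fin n) F q (u a) (w b) = if a = b then 1 else 0 := by
    intro a b
    rw [← hform_conj hF, hwu]
    split_ifs <;> simp [(q_pos hF).ne']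
  have hUspan : U = Submodule.span F (Set.range u) := by
    have h3 : Submodule.map U.subtype (Submodule.span F (Set.range bU)) =
        Submodule.span F (Set.range u) := by
      rw [Submodule.map_span, ← Set.range_comp]
      rfl
    rw [← h3, bU.span_eq, Submodule.map_subtype_top]
  have hliu : LinearIndependent F u := by
    have := bU.linearIndependent.map' U.subtype (Submodule.ker_subtype U)
    exact this
  have hliw' : LinearIndependent F w' := by
    have h4 : LinearIndependent F (fun b => Ψ (w' b)) := by
      have : (fun b => Ψ (w' b)) = fun b => (Pi.single b 1 : Fin m → F) := funext hw'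
      rw [this]
      have h5 := (Pi.basisFun F (Fin m)).linearIndependent
      have h6 : ⇑(Pi.basisFun F (Fin m)) = fun b => (Pi.single b 1 : Fin m → F) := by
        funext b
        exact Pi.basisFun_apply F (Fin m) b
      rw [h6] at h5
      exact h5
    exact LinearIndependent.of_comp Ψ h4
  have hliw : LinearIndependent F w := by
    have := hliw'.map' W.subtype (Submodule.ker_subtype W)
    exact this
  have hWspan : W = Submodule.span F (Set.range w) := by
    have hle : Submodule.span F (Set.range w) ≤ W := by
      rw [Submodule.span_le]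
      rintro _ ⟨b, rfl⟩
      exact (w' b).2
    symm
    apply Submodule.eq_of_le_of_finrank_eq hle
    rw [finrank_span_eq_card hliw, Fintype.card_fin, hUW]
  refine ⟨m, u, w, by omega, fun a => (bU a).2, fun b => (w' b).2, huw, ?_, hUspan, hWspan⟩
  apply LinearIndependent.sum_type hliu hliw
  rw [← hUspan, ← hWspan]
  exact hc.disjoint

end Frame

end Cfsg.Agent.Lib.Helper49
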