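import Cfsg.Agent.Lib.Helper49.UPairDer2
import Cfsg.Agent.Lib.Helper49.UPairArith

set_option autoImplicit false
open scoped MatrixGroups

/-! # Involutions of `PSU_n(q)` in the stabiliser of a hyperbolic pair: tools -/

namespace Cfsg.Agent.Lib.Helper49

open Matrix Module Cfsg.Agent.Lib.Helper08 Cfsg.Agent.Lib.Helper51.URU Cfsg.Agent.Lib.Helper51.PGU
open Cfsg.Agent.Lib.Helper19 (pow_q_pow_q add_pow_q sum_pow_q q_pos one_lt_q frobQ frobQ_apply
  frobQ_frobQ normOne mem_normOne card_normOne det_pow_of_mem_GU)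

section Inv

variable {F : Type*} [Field F] [Fintype F] {q m n : ℕ} {u w u' w' : Fin m → (Fin n → F)}

/-- a unitary conjugate in the stabiliser can be replaced by a special unitary one -/
theorem HFrame.exists_su_conj (hF : Fintype.card F = q ^ 2) (hfr : HFrame q u w)
    (D : Fin 2 → Submodule F (Fin n → F)) (hD0 : D 0 = Submodule.span F (Set.range u))
    (hD1 : D 1 = Submodule.span F (Set.range w)) (x g₀ : GL (Fin n) F)
    (hg₀ : g₀ ∈ Cfsg.GU n F q)
    (hx : g₀⁻¹ * x * g₀ ∈ Cfsg.Geo.decompositionStabilizer D) :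
    ∃ g ∈ Cfsg.GU n F q ⊓ Cfsg.Geo.specialLinear (Fin n) F,
      g⁻¹ * x * g ∈ Cfsg.Geo.decompositionStabilizer D := by
  classical
  set δ : F := (g₀ : Matrix (Fin n) (Fin n) F).det with hδ
  have hδ1 : δ ^ (q + 1) = 1 := det_pow_of_mem_GU hF g₀ hg₀
  have hδ0 : δ ≠ 0 := by
    intro h
    rw [h, zero_pow (by omega)] at hδ1
    exact zero_ne_one hδ1
  obtain ⟨μ, hμ0, hμ⟩ := Cfsg.Agent.Lib.Helper51.UPar.exists_hilbert90 hF δ⁻¹
    (by rw [← pow_succ', inv_pow, hδ1, inv_one])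
  have hm : 0 < m := hfr.pos
  set dv : Fin m → F := Function.update (fun _ => (1 : F)) ⟨0, hm⟩ μ with hdv
  have hdet : (Matrix.diagonal dv).det = μ := by
    rw [Matrix.det_diagonal, Finset.prod_eq_single (⟨0, hm⟩ : Fin m)]
    · simp [dv]
    · intro b _ hb
      simp [dv, Function.update_of_ne hb]
    · intro h; exact absurd (Finset.mem_univ _) h
  set A : GL (Fin m) F := Matrix.GeneralLinearGroup.mkOfDetNeZero (Matrix.diagonal dv)
    (by rw [hdet]; exact hμ0) with hA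
  have hAdet : (A : Matrix (Fin m) (Fin m) F).det = μ := hdet
  have hAinvdet : ((A⁻¹ : GL (Fin m) F) : Matrix (Fin m) (Fin m) F).det = μ⁻¹ := by
    apply eq_inv_of_mul_eq_one_left
    rw [← hAdet, ← Matrix.det_mul, ← Units.val_mul, inv_mul_cancel, Units.val_one, Matrix.det_one]
  have hμ' : μ * (μ⁻¹) ^ q = δ⁻¹ := by
    rw [inv_pow]
    nth_rewrite 1 [hμ]
    rw [mul_assoc, mul_inv_cancel₀ (pow_ne_zero q hμ0), mul_one]
  have hdetA : ((hfr.hom hF A : GL (Fin n) F) : Matrix (Fin n) (Fin n) F).det = δ⁻¹ := by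
    rw [hfr.hom_det, hAdet, hAinvdet, hμ']
  have hstab := hfr.hom_mem_stab hF D hD0 hD1 A
  refine ⟨g₀ * hfr.hom hF A, Subgroup.mem_inf.mpr
    ⟨(Cfsg.GU n F q).mul_mem hg₀ (hfr.hom_mem_GU hF A), ?_⟩, ?_⟩
  · rw [mem_specialLinear_iff', Units.val_mul, Matrix.det_mul, hdetA, ← hδ, mul_inv_cancel₀ hδ0]
  · have : (g₀ * hfr.hom hF A)⁻¹ * x * (g₀ * hfr.hom hF A) =
        (hfr.hom hF A)⁻¹ * (g₀⁻¹ * x * g₀) * hfr.hom hF A := by group
    rw [this]
    exact (Cfsg.Geo.decompositionStabilizer D).mul_mem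
      ((Cfsg.Geo.decompositionStabilizer D).mul_mem
        ((Cfsg.Geo.decompositionStabilizer D).inv_mem hstab) hx) hstab

omit [Fintype F] in
/-- scalar multiples of elements of the stabiliser -/
theorem smul_mem_stab {t : ℕ} (D : Fin t → Submodule F (Fin n → F)) (y y' : GL (Fin n) F) (c : F)
    (hy : y ∈ Cfsg.Geo.decompositionStabilizer D)
    (h : (y' : Matrix (Fin n) (Fin n) F) = c • (y : Matrix (Fin n) (Fin n) F)) :
    y' ∈ Cfsg.Geo.decompositionStabilizer D := by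
  have h1 : y' = (y' * y⁻¹) * y := by group
  rw [h1]
  apply (Cfsg.Geo.decompositionStabilizer D).mul_mem _ hy
  apply scalar_mem_stab D _ c
  rw [Units.val_mul, h, Matrix.smul_mul, ← Units.val_mul, mul_inv_cancel, Units.val_one]

/-- the change of frame -/
noncomputable def HFrame.trans (hfr : HFrame q u w) (hfr' : HFrame q u' w') : GL (Fin n) F :=
  ⟨hfr'.mat * hfr.mat', hfr.mat * hfr'.mat',
    by rw [Matrix.mul_assoc, ← Matrix.mul_assoc hfr.mat', hfr.mat'_mul_mat, Matrix.one_mul,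
      hfr'.mat_mul_mat'],
    by rw [Matrix.mul_assoc, ← Matrix.mul_assoc hfr'.mat', hfr'.mat'_mul_mat, Matrix.one_mul,
      hfr.mat_mul_mat']⟩

theorem HFrame.trans_mulVec_equiv (hfr : HFrame q u w) (hfr' : HFrame q u' w')
    (ξ : Fin m ⊕ Fin m → F) :
    ((hfr.trans hfr' : GL (Fin n) F) : Matrix (Fin n) (Fin n) F) *ᵥ hfr.equiv ξ = hfr'.equiv ξ := by
  change (hfr'.mat * hfr.mat') *ᵥ hfr.equiv ξ = hfr'.equiv ξ
  rw [← Matrix.mulVec_mulVec, hfr.mat'_mulVec, LinearEquiv.symm_apply_apply, hfr'.mat_mulVec]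

theorem HFrame.trans_mem_GU (hF : Fintype.card F = q ^ 2) (hfr : HFrame q u w)
    (hfr' : HFrame q u' w') : hfr.trans hfr' ∈ Cfsg.GU n F q := by
  rw [GU_eq_GUi, mem_GUi_iff]
  intro x y
  obtain ⟨ξ, rfl⟩ := hfr.equiv.surjective x
  obtain ⟨η, rfl⟩ := hfr.equiv.surjective y
  rw [hfr.trans_mulVec_equiv, hfr.trans_mulVec_equiv, hfr.hform_equiv hF, hfr'.hform_equiv hF]

end Inv

end Cfsg.Agent.Lib.Helper49
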