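import Cfsg.Agent.Lib.Helper49.UPairInv
import Cfsg.Agent.Lib.Helper49.SubfieldInvol
import Cfsg.Agent.Lib.Helper49.SimDerange
import Cfsg.Agent.Lib.Helper51.PGU2

set_option autoImplicit false
open scoped MatrixGroups

/-! # Involutions of `PSU_n(q)`: square roots of norm `1` -/

namespace Cfsg.Agent.Lib.Helper49

open Matrix Module Polynomial Cfsg.Agent.Lib.Helper08 Cfsg.Agent.Lib.Helper51.URU
  Cfsg.Agent.Lib.Helper51.PGU
open Cfsg.Agent.Lib.Helper19 (pow_q_pow_q add_pow_q sum_pow_q q_pos one_lt_q frobQ frobQ_apply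
  frobQ_frobQ normOne mem_normOne card_normOne det_pow_of_mem_GU)

section InvA

variable {F : Type*} [Field F] [Fintype F] {q m n : ℕ} {u w : Fin m → (Fin n → F)}

/-- an element of `SU` whose square is `μ²` with `μ^(q+1) = 1` has a unitary conjugate in the
stabiliser of a hyperbolic pair, provided `(q+1)_2 ≤ n_2` -/
theorem HFrame.conj_of_sq_one (hF : Fintype.card F = q ^ 2) (hfr : HFrame q u w)
    (D : Fin 2 → Submodule F (Fin n → F)) (hD0 : D 0 = Submodule.span F (Set.range u))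
    (hD1 : D 1 = Submodule.span F (Set.range w)) (h2 : (2 : F) ≠ 0) (hqodd : Odd q)
    (hpad : padicValNat 2 (q + 1) ≤ padicValNat 2 n)
    (x : GL (Fin n) F) (hx : x ∈ Cfsg.GU n F q)
    (hxdet : (x : Matrix (Fin n) (Fin n) F).det = 1) (μ : F) (hμ : μ ^ (q + 1) = 1)
    (hx2 : (x : Matrix (Fin n) (Fin n) F) * (x : Matrix (Fin n) (Fin n) F) =
      (μ * μ) • (1 : Matrix (Fin n) (Fin n) F)) :
    ∃ g₀ ∈ Cfsg.GU n F q, g₀⁻¹ * x * g₀ ∈ Cfsg.Geo.decompositionStabilizer D := by
  classical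
  have hn0 : 0 < n := by have := hfr.hn; have := hfr.pos; omega
  have hnm : n = m + m := hfr.hn
  have hiso : IsIsoMat q (x : Matrix (Fin n) (Fin n) F) := by
    rwa [GU_eq_GUi, mem_GUi_iff] at hx
  have hμ0 : μ ≠ 0 := by
    rintro rfl
    rw [zero_pow (by omega)] at hμ
    exact zero_ne_one hμ
  have h1ne : (1 : F) ≠ -1 := by
    intro h
    apply h2
    have : (1 : F) + 1 = 0 := by nth_rewrite 1 [h]; simp
    rw [← this]; norm_num
  have hμinv : (μ⁻¹) ^ (q + 1) = 1 := by rw [inv_pow, hμ, inv_one]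
  set s : Matrix (Fin n) (Fin n) F := μ⁻¹ • (x : Matrix (Fin n) (Fin n) F) with hs_def
  have hxs : (x : Matrix (Fin n) (Fin n) F) = μ • s := by
    rw [hs_def, smul_smul, mul_inv_cancel₀ hμ0, one_smul]
  have hs : s * s = 1 := by
    rw [hs_def, Matrix.smul_mul, Matrix.mul_smul, smul_smul, hx2, smul_smul]
    have : μ⁻¹ * μ⁻¹ * (μ * μ) = 1 := by field_simp
    rw [this, one_smul]
  have hsiso : IsIsoMat q s := by
    intro v v'
    rw [hs_def, Matrix.smul_mulVec, Matrix.smul_mulVec, hform_smul_left, hform_smul_right, hiso,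
      ← mul_assoc, ← pow_succ', hμinv, one_mul]
  set sG : GL (Fin n) F := (hsiso.isUnit hF).unit with hsG
  have hsGv : (sG : Matrix (Fin n) (Fin n) F) = s := rfl
  have hsGU : sG ∈ Cfsg.GU n F q := by
    rw [GU_eq_GUi, mem_GUi_iff]
    exact hsiso
  have hsG2 : sG ^ 2 = 1 := by
    apply Units.ext
    rw [Units.val_pow_eq_pow_val, pow_two, hsGv, hs, Units.val_one]
  obtain ⟨P, ε, hPdet, hε, hsP⟩ := exists_sl_conj_diag h2 hn0 s hs
  set b := (Finset.univ.filter (fun i => ε i = -1)).card with hb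
  have hprod : ∏ i, ε i = (-1 : F) ^ b := by
    have h1 : ∀ i, ε i = if ε i = -1 then (-1 : F) else 1 := by
      intro i
      rcases hε i with h | h
      · rw [h, if_neg h1ne]
      · rw [h]; simp
    rw [Finset.prod_congr rfl (fun i _ => h1 i), Finset.prod_ite, Finset.prod_const,
      Finset.prod_const_one, mul_one]
  have hsdet : s.det = ∏ i, ε i := by
    have := congrArg Matrix.det hsP
    rw [Matrix.det_mul, Matrix.det_mul, hPdet, mul_one, one_mul, Matrix.det_diagonal] at this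
    exact this
  have hsdet' : s.det = (μ⁻¹) ^ n := by
    rw [hs_def, Matrix.det_smul, hxdet, mul_one, Fintype.card_fin]
  have hbeven : Even b := by
    by_contra hodd
    rw [Nat.not_even_iff_odd] at hodd
    rw [hodd.neg_one_pow] at hprod
    exact normOne_pow_ne_neg_one hF hqodd n (by omega) hpad μ⁻¹ hμinv
      (by rw [← hsdet', hsdet, hprod])
  have hbn : b ≤ n := by
    have := Finset.card_filter_le (Finset.univ : Finset (Fin n)) (fun i => ε i = -1)
    rw [Finset.card_univ, Fintype.card_fin] at this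
    exact this
  -- eigenspace dimension of `s` at `-1`
  have hdetε : (Matrix.diagonal ε).det ≠ 0 := by
    rw [Matrix.det_diagonal, hprod]
    exact pow_ne_zero _ (neg_ne_zero.mpr one_ne_zero)
  set dGL : GL (Fin n) F := Matrix.GeneralLinearGroup.mkOfDetNeZero (Matrix.diagonal ε) hdetε
    with hdGL
  set PGL : GL (Fin n) F := Matrix.GeneralLinearGroup.mkOfDetNeZero P
    (by rw [hPdet]; exact one_ne_zero) with hPGL
  have hconj : IsConj dGL sG := by
    rw [isConj_iff]
    refine ⟨PGL, ?_⟩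
    rw [mul_inv_eq_iff_eq_mul]
    apply Units.ext
    rw [Units.val_mul, Units.val_mul]
    exact hsP.symm
  have hed_s : ed (Matrix.toLin' s) (-1) = b := by
    unfold ed
    rw [← hsGv, ← kdim_eq_of_isConj dGL sG hconj]
    exact kdim_diagonal ε (-1)
  have hss : ∀ v, Matrix.toLin' s (Matrix.toLin' s v) = ((1 : F) * 1) • v := by
    intro v
    rw [Matrix.toLin'_apply, Matrix.toLin'_apply, Matrix.mulVec_mulVec, hs, Matrix.one_mulVec,
      mul_one, one_smul]
  have hed_s1 := ed_add_ed (Matrix.toLin' s) 1 hss one_ne_zero h2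
  rw [Module.finrank_fin_fun, hed_s] at hed_s1
  -- the model
  obtain ⟨S, -, hScard⟩ := Finset.exists_subset_card_eq (s := (Finset.univ : Finset (Fin m)))
    (n := b / 2) (by rw [Finset.card_univ, Fintype.card_fin]; omega)
  set s' : Fin m → F := fun a => if a ∈ S then -1 else 1 with hs'
  have hs'2 : Matrix.diagonal s' * Matrix.diagonal s' = 1 := by
    rw [Matrix.diagonal_mul_diagonal, ← Matrix.diagonal_one]
    congr 1
    funext a
    simp only [hs']
    split_ifs <;> simp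
  set A₀ : GL (Fin m) F := ⟨Matrix.diagonal s', Matrix.diagonal s', hs'2, hs'2⟩ with hA₀
  have hA₀v : (A₀ : Matrix (Fin m) (Fin m) F) = Matrix.diagonal s' := rfl
  have hA₀2 : A₀ ^ 2 = 1 := by
    apply Units.ext
    rw [Units.val_pow_eq_pow_val, pow_two, hA₀v, hs'2, Units.val_one]
  have hedA : ed (Matrix.toLin' (A₀ : Matrix (Fin m) (Fin m) F)) (-1) = b / 2 := by
    unfold ed
    rw [hA₀v, kdim_diagonal, ← hScard]
    congr 1
    ext a
    rw [Finset.mem_filter]
    simp only [hs']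
    constructor
    · rintro ⟨-, h⟩
      by_contra hne
      rw [if_neg hne] at h
      exact h1ne h
    · intro h
      exact ⟨Finset.mem_univ _, by rw [if_pos h]⟩
  set M₀ : GL (Fin n) F := hfr.hom hF A₀ with hM₀
  have hM₀GU : M₀ ∈ Cfsg.GU n F q := hfr.hom_mem_GU hF A₀
  have hM₀S : M₀ ∈ Cfsg.Geo.decompositionStabilizer D := hfr.hom_mem_stab hF D hD0 hD1 A₀
  have hM₀2 : M₀ ^ 2 = 1 := by rw [hM₀, ← map_pow, hA₀2, map_one]
  have hneg1 : (-1 : F) ^ (q + 1) = 1 := by
    rw [Even.neg_pow (by rw [Nat.even_add_one, Nat.not_even_iff_odd]; exact hqodd), one_pow]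
  have hed_M : ed (Matrix.toLin' (M₀ : Matrix (Fin n) (Fin n) F)) (-1) = b := by
    have h3 := ed_gstar hF A₀ (-1) hneg1
    unfold ed at h3 hedA ⊢
    rw [hM₀, hfr.hom_kdim hF, h3, hedA]
    obtain ⟨t, ht⟩ := hbeven
    omega
  have hMM : ∀ v, Matrix.toLin' (M₀ : Matrix (Fin n) (Fin n) F)
      (Matrix.toLin' (M₀ : Matrix (Fin n) (Fin n) F) v) = ((1 : F) * 1) • v := by
    intro v
    have h4 : (M₀ : Matrix (Fin n) (Fin n) F) * (M₀ : Matrix (Fin n) (Fin n) F) = 1 := by
      rw [← Units.val_mul, ← pow_two, hM₀2, Units.val_one]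
    rw [Matrix.toLin'_apply, Matrix.toLin'_apply, Matrix.mulVec_mulVec, h4, Matrix.one_mulVec,
      mul_one, one_smul]
  have hed_M1 := ed_add_ed (Matrix.toLin' (M₀ : Matrix (Fin n) (Fin n) F)) 1 hMM one_ne_zero h2
  rw [Module.finrank_fin_fun, hed_M] at hed_M1
  -- conjugacy in `GU`
  have h2dvd : 2 ∣ q + 1 := by
    obtain ⟨t, ht⟩ := hqodd
    exact ⟨t + 1, by omega⟩
  have hconjGU : IsConj (⟨sG, hsGU⟩ : ↥(Cfsg.GU n F q)) ⟨M₀, hM₀GU⟩ := by
    apply isConj_of_prof_eq hF Nat.prime_two h2dvd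
    · apply Subtype.ext
      rw [Subgroup.coe_pow, Subgroup.coe_one]
      exact hsG2
    · apply Subtype.ext
      rw [Subgroup.coe_pow, Subgroup.coe_one]
      exact hM₀2
    · intro ω
      unfold prof
      change ed (Matrix.toLin' (sG : Matrix (Fin n) (Fin n) F)) (ev F q 2 ω) =
        ed (Matrix.toLin' (M₀ : Matrix (Fin n) (Fin n) F)) (ev F q 2 ω)
      have h5 : ev F q 2 ω * ev F q 2 ω = 1 := by
        rw [← pow_two]
        exact ev_pow ω
      rcases mul_self_eq_one_iff.mp h5 with h6 | h6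
      · rw [h6, hsGv]
        omega
      · rw [h6, hsGv, hed_s, hed_M]
  obtain ⟨c, hc⟩ := isConj_iff.mp hconjGU
  have hc' : (c : GL (Fin n) F) * sG * (c : GL (Fin n) F)⁻¹ = M₀ := by
    have := congrArg (fun z : ↥(Cfsg.GU n F q) => (z : GL (Fin n) F)) hc
    simpa using this
  refine ⟨(c : GL (Fin n) F)⁻¹, (Cfsg.GU n F q).inv_mem c.2, ?_⟩
  apply smul_mem_stab D M₀ _ μ hM₀S
  rw [inv_inv, ← hc', Units.val_mul, Units.val_mul, Units.val_mul, Units.val_mul, hxs, hsGv,
    Matrix.mul_smul, Matrix.smul_mul]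

end InvA

end Cfsg.Agent.Lib.Helper49
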