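import Cfsg.Agent.Lib.Helper49.UPairInv

set_option autoImplicit false
open scoped MatrixGroups

/-! # Involutions of `PSU_n(q)`: square roots of norm `-1` -/

namespace Cfsg.Agent.Lib.Helper49

open Matrix Module Cfsg.Agent.Lib.Helper08 Cfsg.Agent.Lib.Helper51.URU Cfsg.Agent.Lib.Helper51.PGU
open Cfsg.Agent.Lib.Helper19 (pow_q_pow_q add_pow_q sum_pow_q q_pos one_lt_q frobQ frobQ_apply
  frobQ_frobQ normOne mem_normOne card_normOne det_pow_of_mem_GU)

section InvB

variable {F : Type*} [Field F] [Fintype F] {q m n : ℕ} {u w : Fin m → (Fin n → F)}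

omit [Fintype F] in
theorem mem_eigker (X : Matrix (Fin n) (Fin n) F) (c : F) (v : Fin n → F) :
    v ∈ LinearMap.ker (Matrix.toLin' X - c • LinearMap.id) ↔ X *ᵥ v = c • v := by
  rw [LinearMap.mem_ker, LinearMap.sub_apply, LinearMap.smul_apply, LinearMap.id_apply,
    Matrix.toLin'_apply, sub_eq_zero]

/-- an element of `GU` whose square is `μ²` with `μ^(q+1) = -1` has a unitary conjugate fixing both
members of a hyperbolic pair -/
theorem HFrame.conj_of_sq_neg (hF : Fintype.card F = q ^ 2) (hfr : HFrame q u w)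
    (D : Fin 2 → Submodule F (Fin n → F)) (hD0 : D 0 = Submodule.span F (Set.range u))
    (hD1 : D 1 = Submodule.span F (Set.range w)) (h2 : (2 : F) ≠ 0) (hqodd : Odd q)
    (x : GL (Fin n) F) (hx : x ∈ Cfsg.GU n F q) (μ : F) (hμ : μ ^ (q + 1) = -1)
    (hx2 : ∀ v, (x : Matrix (Fin n) (Fin n) F) *ᵥ ((x : Matrix (Fin n) (Fin n) F) *ᵥ v) =
      (μ * μ) • v) :
    ∃ g₀ ∈ Cfsg.GU n F q, g₀⁻¹ * x * g₀ ∈ Cfsg.Geo.decompositionStabilizer D := by
  classical
  have hiso : IsIsoMat q (x : Matrix (Fin n) (Fin n) F) := by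
    rwa [GU_eq_GUi, mem_GUi_iff] at hx
  have hμ0 : μ ≠ 0 := by
    rintro rfl
    rw [zero_pow (by omega)] at hμ
    have : (1 : F) = 0 := by
      have := congrArg (fun t : F => -t) hμ
      simpa using this.symm
    exact one_ne_zero this
  have h2μ : (2 : F) * μ ≠ 0 := mul_ne_zero h2 hμ0
  set X : Matrix (Fin n) (Fin n) F := (x : Matrix (Fin n) (Fin n) F) with hX
  set E : F → Submodule F (Fin n → F) :=
    fun c => LinearMap.ker (Matrix.toLin' X - c • LinearMap.id) with hE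
  have hmemE : ∀ c v, v ∈ E c ↔ X *ᵥ v = c • v := fun c v => mem_eigker X c v
  have hc : IsCompl (E μ) (E (-μ)) := by
    constructor
    · rw [Submodule.disjoint_def]
      intro v hv1 hv2
      rw [hmemE] at hv1 hv2
      rw [hv1] at hv2
      have h3 : ((2 : F) * μ) • v = 0 := by
        have : μ • v - (-μ) • v = 0 := sub_eq_zero.mpr hv2
        rw [← this]
        module
      exact (smul_eq_zero.mp h3).resolve_left h2μ
    · rw [Submodule.codisjoint_iff_exists_add_eq]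
      intro v
      refine ⟨((2 : F) * μ)⁻¹ • (μ • v + X *ᵥ v), ((2 : F) * μ)⁻¹ • (μ • v - X *ᵥ v), ?_, ?_, ?_⟩
      · rw [hmemE, Matrix.mulVec_smul, Matrix.mulVec_add, Matrix.mulVec_smul, hx2]
        module
      · rw [hmemE, Matrix.mulVec_smul, Matrix.mulVec_sub, Matrix.mulVec_smul, hx2]
        module
      · rw [← smul_add]
        have : μ • v + X *ᵥ v + (μ • v - X *ᵥ v) = ((2 : F) * μ) • v := by module
        rw [this, smul_smul, inv_mul_cancel₀ h2μ, one_smul]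
  have hts : ∀ c : F, c * c ^ q = -1 → ∀ a ∈ E c, ∀ b ∈ E c, hform (Fin n) F q a b = 0 := by
    intro c hcq a ha b hb
    rw [hmemE] at ha hb
    have h3 := hiso a b
    rw [ha, hb, hform_smul_left, hform_smul_right, ← mul_assoc, hcq] at h3
    have h4 : (2 : F) * hform (Fin n) F q a b = 0 := by linear_combination -h3
    exact (mul_eq_zero.mp h4).resolve_left h2
  have hμq : μ * μ ^ q = -1 := by rw [← pow_succ', hμ]
  have hμq' : (-μ) * (-μ) ^ q = -1 := by
    rw [← pow_succ', Even.neg_pow (by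
      rw [Nat.even_add_one, Nat.not_even_iff_odd]; exact hqodd), hμ]
  obtain ⟨m', u', w', hn', hu', hw', huw', hli', hEu, hEw⟩ :=
    exists_dual_frame_herm hF (E μ) (E (-μ)) hc (hts μ hμq) (hts (-μ) hμq')
  obtain rfl : m' = m := by
    have := hfr.hn
    omega
  have hfr' : HFrame q u' w' :=
    ⟨hn', hfr.pos, hli', fun a b => hts μ hμq _ (hu' a) _ (hu' b),
      fun a b => hts (-μ) hμq' _ (hw' a) _ (hw' b), huw'⟩
  set g₀ : GL (Fin n) F := hfr.trans hfr' with hg₀
  have hg₀GU : g₀ ∈ Cfsg.GU n F q := hfr.trans_mem_GU hF hfr'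
  have hcancel : ∀ z, ((g₀⁻¹ : GL (Fin n) F) : Matrix (Fin n) (Fin n) F) *ᵥ
      ((g₀ : Matrix (Fin n) (Fin n) F) *ᵥ z) = z := by
    intro z
    rw [Matrix.mulVec_mulVec, ← Units.val_mul, inv_mul_cancel, Units.val_one, Matrix.one_mulVec]
  have hyv : ∀ (c : F) (v : Fin n → F), (g₀ : Matrix (Fin n) (Fin n) F) *ᵥ v ∈ E c →
      ((g₀⁻¹ * x * g₀ : GL (Fin n) F) : Matrix (Fin n) (Fin n) F) *ᵥ v = c • v := by
    intro c v hv
    rw [hmemE] at hv
    rw [Units.val_mul, Units.val_mul, ← Matrix.mulVec_mulVec, ← Matrix.mulVec_mulVec, ← hX, hv,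
      Matrix.mulVec_smul, hcancel]
  refine ⟨g₀, hg₀GU, 1, fun i => ?_⟩
  fin_cases i
  · change (D 0).map _ = D 0
    apply map_eq_of_map_le
    rintro _ ⟨v, hv, rfl⟩
    rw [Matrix.toLin'_apply]
    have hv' := hv
    rw [SetLike.mem_coe, hD0] at hv'
    obtain ⟨ξ, rfl⟩ := hfr.equiv.surjective v
    rw [hfr.equiv_mem_span_u_iff] at hv'
    have h3 : (g₀ : Matrix (Fin n) (Fin n) F) *ᵥ hfr.equiv ξ ∈ E μ := by
      rw [hg₀, hfr.trans_mulVec_equiv, hEu, hfr'.equiv_mem_span_u_iff]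
      exact hv'
    rw [hyv μ _ h3]
    exact (D 0).smul_mem μ hv
  · change (D 1).map _ = D 1
    apply map_eq_of_map_le
    rintro _ ⟨v, hv, rfl⟩
    rw [Matrix.toLin'_apply]
    have hv' := hv
    rw [SetLike.mem_coe, hD1] at hv'
    obtain ⟨ξ, rfl⟩ := hfr.equiv.surjective v
    rw [hfr.equiv_mem_span_w_iff] at hv'
    have h3 : (g₀ : Matrix (Fin n) (Fin n) F) *ᵥ hfr.equiv ξ ∈ E (-μ) := by
      rw [hg₀, hfr.trans_mulVec_equiv, hEw, hfr'.equiv_mem_span_w_iff]
      exact hv'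
    rw [hyv (-μ) _ h3]
    exact (D 1).smul_mem (-μ) hv

end InvB

end Cfsg.Agent.Lib.Helper49
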