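import Cfsg.Agent.Lib.Helper49.UPairSurj
import Cfsg.Agent.Lib.Helper49.UPairDer2
import Cfsg.Agent.Lib.Helper49.SimDerange
import Cfsg.Agent.Lib.Helper51.UPrime6

set_option autoImplicit false
open scoped MatrixGroups

/-! # Derangements of odd prime order -/

namespace Cfsg.Agent.Lib.Helper49

open Matrix Module Polynomial Cfsg.Agent.Lib.Helper08 Cfsg.Agent.Lib.Helper51.URU
  Cfsg.Agent.Lib.Helper51.PGU Cfsg.Agent.Lib.Helper51.UPrime
open Cfsg.Agent.Lib.Helper19 (pow_q_pow_q add_pow_q sum_pow_q q_pos one_lt_q frobQ frobQ_apply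
  frobQ_frobQ normOne mem_normOne card_normOne diagGL diagGL_val det_diagGL diagGL_mem_GU)

section Odd

variable {F : Type*} [Field F] [Fintype F] {q m n : ℕ} {u w : Fin m → (Fin n → F)}

omit [Fintype F] in
/-- an element of odd order of the stabiliser of a pair of distinct subspaces fixes both -/
theorem fixes_of_odd_order (D : Fin 2 → Submodule F (Fin n → F)) (hne : D 0 ≠ D 1)
    (y : GL (Fin n) F) (r : ℕ) (hr : Odd r) (hyr : y ^ r = 1)
    (hy : y ∈ Cfsg.Geo.decompositionStabilizer D) :
    ∀ i, (D i).map (Matrix.toLin' (y : Matrix (Fin n) (Fin n) F)) = D i := by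
  obtain ⟨σ, hσ⟩ := hy
  have h2 : ∀ j : Fin 2, j ≠ 0 → j = 1 := by decide
  have h2' : ∀ j : Fin 2, j ≠ 1 → j = 0 := by decide
  have h10 : (1 : Fin 2) ≠ 0 := by decide
  by_cases h0 : σ 0 = 0
  · have h1 : σ 1 = 1 := by
      apply h2
      intro h
      exact h10 (σ.injective (h.trans h0.symm))
    intro i
    fin_cases i
    · have := hσ 0
      rw [h0] at this
      exact this
    · have := hσ 1
      rw [h1] at this
      exact this
  · exfalso
    have h0' : σ 0 = 1 := h2 _ h0
    have h1' : σ 1 = 0 := by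
      apply h2'
      intro h
      exact h10 (σ.injective (h.trans h0'.symm))
    have hpow : ∀ k : ℕ, (D 0).map (Matrix.toLin'
        ((y ^ k : GL (Fin n) F) : Matrix (Fin n) (Fin n) F)) = if Even k then D 0 else D 1 := by
      intro k
      induction k with
      | zero => simp
      | succ k ih =>
        rw [pow_succ', Units.val_mul, Matrix.toLin'_mul, Submodule.map_comp, ih]
        by_cases hk : Even k
        · rw [if_pos hk, if_neg (by rw [Nat.even_add_one]; exact fun h => h hk)]
          have := hσ 0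
          rw [h0'] at this
          exact this
        · rw [if_neg hk, if_pos (by rw [Nat.even_add_one]; exact hk)]
          have := hσ 1
          rw [h1'] at this
          exact this
    have := hpow r
    rw [hyr, if_neg (Nat.not_even_iff_odd.mpr hr)] at this
    apply hne
    rw [← this]
    simp

omit [Fintype F] in
/-- the two members of a complementary pair of nonzero subspaces are distinct -/
theorem ne_of_isCompl {V : Type*} [AddCommGroup V] [Module F V] (U W : Submodule F V)
    (hc : IsCompl U W) (hU : U ≠ ⊥) : U ≠ W := by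
  intro h
  apply hU
  have := hc.inf_eq_bot
  rwa [← h, inf_idem] at this

/-- eigenspace dimensions at norm one scalars of unitary matrices fixing both members of a
hyperbolic pair are even -/
theorem HFrame.even_ed_of_fixes (hF : Fintype.card F = q ^ 2) (hfr : HFrame q u w)
    (D : Fin 2 → Submodule F (Fin n → F)) (hD0 : D 0 = Submodule.span F (Set.range u))
    (hD1 : D 1 = Submodule.span F (Set.range w)) (y : GL (Fin n) F) (hy : y ∈ Cfsg.GU n F q)
    (hfix : ∀ i, (D i).map (Matrix.toLin' (y : Matrix (Fin n) (Fin n) F)) = D i)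
    (ω : F) (hω : ω ^ (q + 1) = 1) :
    Even (ed (Matrix.toLin' (y : Matrix (Fin n) (Fin n) F)) ω) := by
  obtain ⟨A, hA⟩ := hfr.exists_hom_eq hF y hy
    (by
      intro v hv
      rw [← hD0] at hv ⊢
      rw [← hfix 0]
      exact ⟨v, hv, by rw [Matrix.toLin'_apply]⟩)
    (by
      intro v hv
      rw [← hD1] at hv ⊢
      rw [← hfix 1]
      exact ⟨v, hv, by rw [Matrix.toLin'_apply]⟩)
  rw [← hA]
  unfold ed
  rw [hfr.hom_kdim hF]
  have := ed_gstar hF A ω hω
  unfold ed at this
  rw [this]
  exact ⟨_, rfl⟩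

/-- kernel dimensions of unitary matrices of odd prime order in the stabiliser of a hyperbolic pair
are even at self-dual factors -/
theorem HFrame.even_kdim_of_mem_stab (hF : Fintype.card F = q ^ 2) (hfr : HFrame q u w)
    (D : Fin 2 → Submodule F (Fin n → F)) (hD0 : D 0 = Submodule.span F (Set.range u))
    (hD1 : D 1 = Submodule.span F (Set.range w)) {r b : ℕ} {PP : Finset F[X]}
    (Dat : FactorData F r b PP) (hmon : ∀ P ∈ PP, P.Monic) (hr2 : 2 ≤ r)
    (hsig : ∀ P, sig (frobQ hF) (frobQ_frobQ hF) Dat hmon P = P)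
    (y : GL (Fin n) F) (hy : y ∈ Cfsg.GU n F q) (hyr : y ^ r = 1)
    (hfix : ∀ i, (D i).map (Matrix.toLin' (y : Matrix (Fin n) (Fin n) F)) = D i) (P : PP) :
    Even (kdim (Matrix.toLin' (y : Matrix (Fin n) (Fin n) F)) (P : F[X])) := by
  obtain ⟨A, hA⟩ := hfr.exists_hom_eq hF y hy
    (by
      intro v hv
      rw [← hD0] at hv ⊢
      rw [← hfix 0]
      exact ⟨v, hv, by rw [Matrix.toLin'_apply]⟩)
    (by
      intro v hv
      rw [← hD1] at hv ⊢
      rw [← hfix 1]
      exact ⟨v, hv, by rw [Matrix.toLin'_apply]⟩)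
  have hAr : A ^ r = 1 := by
    apply hfr.hom_injective hF
    rw [map_pow, hA, hyr, map_one]
  have hAr' : (A : Matrix (Fin m) (Fin m) F) ^ r = 1 := by
    rw [← Units.val_pow_eq_pow_val, hAr, Units.val_one]
  rw [← hA, hfr.hom_kdim hF, gstar_val, kdim_cstar_inv hF Dat hmon hr2 _ hAr' P, hsig]
  exact ⟨_, rfl⟩

end Odd

end Cfsg.Agent.Lib.Helper49
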