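import Cfsg.Agent.Lib.Helper49.UPairOdd

set_option autoImplicit false
open scoped MatrixGroups

/-! # Derangements of odd prime order: construction -/

namespace Cfsg.Agent.Lib.Helper49

open Matrix Module Polynomial Cfsg.Agent.Lib.Helper08 Cfsg.Agent.Lib.Helper51.URU
  Cfsg.Agent.Lib.Helper51.PGU Cfsg.Agent.Lib.Helper51.UPrime
open Cfsg.Agent.Lib.Helper19 (pow_q_pow_q add_pow_q sum_pow_q q_pos one_lt_q frobQ frobQ_apply
  frobQ_frobQ normOne mem_normOne card_normOne diagGL diagGL_val det_diagGL diagGL_mem_GU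
  det_mem_normOne)

section Odd2

variable {F : Type*} [Field F] [Fintype F] {q m n : ℕ} {u w : Fin m → (Fin n → F)}

omit [Fintype F] in
theorem conj_pow_eq_one (g x : GL (Fin n) F) (r : ℕ) (hx : x ^ r = 1) :
    (g⁻¹ * x * g) ^ r = 1 := by
  have hy : g⁻¹ * x * g = g⁻¹ * x * (g⁻¹)⁻¹ := by rw [inv_inv]
  rw [hy, conj_pow, hx]
  group

/-- derangement of odd prime order `r ∣ q + 1` -/
theorem HFrame.exists_derangement_dvd (hF : Fintype.card F = q ^ 2) (hfr : HFrame q u w)
    (D : Fin 2 → Submodule F (Fin n → F)) (hD0 : D 0 = Submodule.span F (Set.range u))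
    (hD1 : D 1 = Submodule.span F (Set.range w)) (hne : D 0 ≠ D 1) (hn2 : 2 ≤ n)
    (r : ℕ) [Fact r.Prime] (hodd : Odd r) (hrq : r ∣ q + 1) :
    ∃ x ∈ Cfsg.GU n F q ⊓ Cfsg.Geo.specialLinear (Fin n) F, x ^ r = 1 ∧
      ∀ g ∈ Cfsg.GU n F q, g⁻¹ * x * g ∉ Cfsg.Geo.decompositionStabilizer D := by
  classical
  have hr : r.Prime := Fact.out
  obtain ⟨ωu, hωu⟩ := exists_prime_orderOf_dvd_card' (G := normOne F q) r
    (by rw [card_normOne hF]; exact hrq)
  set ω : Fˣ := (ωu : Fˣ) with hω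
  have hωmem : ω ∈ normOne F q := ωu.2
  have hord : orderOf ω = r := by rw [hω, Subgroup.orderOf_coe, hωu]
  have hωr : ω ^ r = 1 := by rw [← hord]; exact pow_orderOf_eq_one ω
  have hω1 : ω ≠ 1 := by
    intro h
    rw [h, orderOf_one] at hord
    exact hr.one_lt.ne hord
  have hωinv : ω⁻¹ ≠ ω := by
    intro h
    have h2 : ω ^ 2 = 1 := by
      rw [pow_two]
      nth_rewrite 1 [← h]
      exact inv_mul_cancel ω
    have h3 := orderOf_dvd_of_pow_eq_one h2
    rw [hord] at h3
    have h4 := (Nat.prime_dvd_prime_iff_eq hr Nat.prime_two).mp h3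
    rw [h4] at hodd
    exact absurd hodd (by decide)
  set i₀ : Fin n := ⟨0, by omega⟩ with hi₀
  set i₁ : Fin n := ⟨1, by omega⟩ with hi₁
  have hi01 : i₀ ≠ i₁ := by
    intro h
    have := congrArg Fin.val h
    simp [hi₀, hi₁] at this
  set d : Fin n → Fˣ := fun i => if i = i₀ then ω else if i = i₁ then ω⁻¹ else 1 with hd
  have hdmem : ∀ i, d i ∈ normOne F q := by
    intro i
    simp only [hd]
    split_ifs
    · exact hωmem
    · exact (normOne F q).inv_mem hωmem
    · exact (normOne F q).one_mem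
  have hdr : ∀ i, d i ^ r = 1 := by
    intro i
    simp only [hd]
    split_ifs
    · exact hωr
    · rw [inv_pow, hωr, inv_one]
    · exact one_pow r
  set x : GL (Fin n) F := diagGL d with hx
  have hxGU : x ∈ Cfsg.GU n F q := diagGL_mem_GU d hdmem
  have hxr : x ^ r = 1 := by
    apply Units.ext
    rw [Units.val_pow_eq_pow_val, hx, diagGL_val, Matrix.diagonal_pow, Units.val_one,
      ← Matrix.diagonal_one]
    congr 1
    funext i
    simp only [Pi.pow_apply]
    rw [← Units.val_pow_eq_pow_val, hdr, Units.val_one]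
  have hxed : ed (Matrix.toLin' (x : Matrix (Fin n) (Fin n) F)) (ω : F) = 1 := by
    unfold ed
    rw [hx, diagGL_val, kdim_diagonal, Finset.card_eq_one]
    refine ⟨i₀, ?_⟩
    ext i
    rw [Finset.mem_filter, Finset.mem_singleton]
    constructor
    · rintro ⟨-, h⟩
      by_contra hne0
      simp only [hd, if_neg hne0] at h
      by_cases h1 : i = i₁
      · rw [if_pos h1] at h
        exact hωinv (Units.ext h)
      · rw [if_neg h1] at h
        exact hω1 (Units.ext h).symm
    · intro h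
      refine ⟨Finset.mem_univ _, ?_⟩
      simp only [hd, if_pos h]
  have hωq : (ω : F) ^ (q + 1) = 1 := by
    rw [← Units.val_pow_eq_pow_val, mem_normOne.mp hωmem, Units.val_one]
  refine ⟨x, Subgroup.mem_inf.mpr ⟨hxGU, ?_⟩, hxr, ?_⟩
  · unfold Cfsg.Geo.specialLinear
    rw [MonoidHom.mem_ker, hx, det_diagGL]
    have hdm : ∀ i, d i = (if i = i₀ then ω else 1) * (if i = i₁ then ω⁻¹ else 1) := by
      intro i
      simp only [hd]
      by_cases h0 : i = i₀
      · rw [if_pos h0, if_pos h0, if_neg (by rw [h0]; exact hi01), mul_one]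
      · rw [if_neg h0, if_neg h0, one_mul]
    rw [Finset.prod_congr rfl (fun i _ => hdm i), Finset.prod_mul_distrib,
      Finset.prod_ite_eq' Finset.univ i₀, Finset.prod_ite_eq' Finset.univ i₁,
      if_pos (Finset.mem_univ _), if_pos (Finset.mem_univ _), mul_inv_cancel]
  · intro g hg hmem
    set y : GL (Fin n) F := g⁻¹ * x * g with hy
    have hyr : y ^ r = 1 := conj_pow_eq_one g x r hxr
    have hyGU : y ∈ Cfsg.GU n F q :=
      (Cfsg.GU n F q).mul_mem ((Cfsg.GU n F q).mul_mem ((Cfsg.GU n F q).inv_mem hg) hxGU) hg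
    have hfix := fixes_of_odd_order D hne y r hodd hyr hmem
    have heven := hfr.even_ed_of_fixes hF D hD0 hD1 y hyGU hfix (ω : F) hωq
    have hconj : IsConj x y := isConj_iff.mpr ⟨g⁻¹, by rw [inv_inv]⟩
    have hk := kdim_eq_of_isConj x y hconj (X - C (ω : F))
    unfold ed at heven hxed
    rw [← hk, hxed] at heven
    exact absurd heven (by decide)

/-- derangement of odd prime order `r ∤ q + 1` -/
theorem HFrame.exists_derangement_ndvd (hF : Fintype.card F = q ^ 2) (p : ℕ) [Fact p.Prime]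
    [CharP F p] (hfr : HFrame q u w)
    (D : Fin 2 → Submodule F (Fin n → F)) (hD0 : D 0 = Submodule.span F (Set.range u))
    (hD1 : D 1 = Submodule.span F (Set.range w)) (hne : D 0 ≠ D 1)
    (r : ℕ) [Fact r.Prime] (hodd : Odd r) (hrp : r ≠ p) (hrq : ¬ r ∣ q + 1)
    (i : ℕ) (hi : i = orderOf (q : ZMod r)) (hi4 : i % 4 = 2) (hin : i / 2 ≤ n) :
    ∃ x ∈ Cfsg.GU n F q ⊓ Cfsg.Geo.specialLinear (Fin n) F, x ^ r = 1 ∧
      ∀ g ∈ Cfsg.GU n F q, g⁻¹ * x * g ∉ Cfsg.Geo.decompositionStabilizer D := by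
  classical
  have hr : r.Prime := Fact.out
  obtain ⟨f, _, hqf⟩ := FiniteField.card F p
  have hK' : Fintype.card F = p ^ (f : ℕ) := hqf
  set b := i / 2 with hb
  have hbodd : Odd b := by
    rw [Nat.odd_iff]
    omega
  have hb' : b = orderOf ((p ^ (f : ℕ) : ℕ) : ZMod r) := by
    rw [← hqf, hF, Nat.cast_pow, orderOf_pow' _ (by norm_num : (2 : ℕ) ≠ 0), ← hi]
    have : Nat.gcd i 2 = 2 := by
      obtain ⟨j, hj⟩ : ∃ j, i = 2 * j := ⟨i / 2, by omega⟩
      rw [hj]
      exact Nat.gcd_mul_right_left j 2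
    rw [this]
  have Dat := factorDataU hK' r b hrp hb'
  have hmon : ∀ P ∈ (UniqueFactorizationMonoid.normalizedFactors (cyclotomic r F)).toFinset,
      P.Monic := by
    intro P hP
    have hP1 := Multiset.mem_toFinset.mp hP
    rw [← UniqueFactorizationMonoid.normalize_normalized_factor P hP1]
    exact monic_normalize (UniqueFactorizationMonoid.irreducible_of_normalized_factor P hP1).ne_zero
  have hsig := sig_eq_self_of_mod_four hF p Dat hmon hr hi hi4
  obtain ⟨P₀, hP₀⟩ : ∃ P₀, P₀ ∈ (UniqueFactorizationMonoid.normalizedFactors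
      (cyclotomic r F)).toFinset := by
    by_contra hcon
    push Not at hcon
    have hempty : (UniqueFactorizationMonoid.normalizedFactors (cyclotomic r F)).toFinset = ∅ :=
      Finset.eq_empty_of_forall_notMem hcon
    have hprod := Dat.prod
    rw [hempty, Finset.prod_empty, mul_one] at hprod
    have h1 : (X - 1 : F[X]).natDegree = 1 := by rw [← C_1, natDegree_X_sub_C]
    have h2 : (X ^ r - 1 : F[X]).natDegree = r := by rw [← C_1, natDegree_X_pow_sub_C]
    rw [hprod, h2] at h1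
    exact hr.one_lt.ne' h1
  set PP := (UniqueFactorizationMonoid.normalizedFactors (cyclotomic r F)).toFinset with hPP
  let a : PP → ℕ := fun P => if P = ⟨P₀, hP₀⟩ then 1 else 0
  have hasum : ∑ P, a P = 1 := by
    simp only [a]
    rw [Finset.sum_ite_eq' Finset.univ (⟨P₀, hP₀⟩ : PP), if_pos (Finset.mem_univ _)]
  obtain ⟨xg, hxr, hxk⟩ := exists_GU_realize hF Dat hmon hr.two_le n a
    (by intro P; rw [hsig]) (by rw [hasum, mul_one]; exact hin)
  set x : GL (Fin n) F := (xg : GL (Fin n) F) with hx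
  have hxGU : x ∈ Cfsg.GU n F q := xg.2
  have hxr' : x ^ r = 1 := by rw [hx, ← Subgroup.coe_pow, hxr, Subgroup.coe_one]
  have hxk0 : kdim (Matrix.toLin' (x : Matrix (Fin n) (Fin n) F)) P₀ = b := by
    have := hxk ⟨P₀, hP₀⟩
    simp only [a, if_pos, mul_one] at this
    exact this
  refine ⟨x, Subgroup.mem_inf.mpr ⟨hxGU, ?_⟩, hxr', ?_⟩
  · unfold Cfsg.Geo.specialLinear
    rw [MonoidHom.mem_ker]
    have h1 : (Matrix.GeneralLinearGroup.det x) ^ (q + 1) = 1 :=
      mem_normOne.mp (det_mem_normOne hF x hxGU)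
    have h2 : (Matrix.GeneralLinearGroup.det x) ^ r = 1 := by
      rw [← map_pow, hxr', map_one]
    have h3 := pow_gcd_eq_one.mpr ⟨h2, h1⟩
    have h4 : Nat.gcd r (q + 1) = 1 := (Nat.Prime.coprime_iff_not_dvd hr).mpr hrq
    rwa [h4, pow_one] at h3
  · intro g hg hmem
    set y : GL (Fin n) F := g⁻¹ * x * g with hy
    have hyr : y ^ r = 1 := conj_pow_eq_one g x r hxr'
    have hyGU : y ∈ Cfsg.GU n F q :=
      (Cfsg.GU n F q).mul_mem ((Cfsg.GU n F q).mul_mem ((Cfsg.GU n F q).inv_mem hg) hxGU) hg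
    have hfix := fixes_of_odd_order D hne y r hodd hyr hmem
    have heven := hfr.even_kdim_of_mem_stab hF D hD0 hD1 Dat hmon hr.two_le hsig y hyGU hyr hfix
      ⟨P₀, hP₀⟩
    have hconj : IsConj x y := isConj_iff.mpr ⟨g⁻¹, by rw [inv_inv]⟩
    have hk := kdim_eq_of_isConj x y hconj P₀
    rw [← hk, hxk0] at heven
    exact (Nat.not_even_iff_odd.mpr hbodd) heven

end Odd2

end Cfsg.Agent.Lib.Helper49
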