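import Cfsg.Agent.Lib.Helper49.UPairIndex

set_option autoImplicit false
open scoped MatrixGroups

/-! # Unitary matrices fixing both members of a hyperbolic pair come from `GL_m` -/

namespace Cfsg.Agent.Lib.Helper49

open Matrix Module Cfsg.Agent.Lib.Helper08 Cfsg.Agent.Lib.Helper51.URU Cfsg.Agent.Lib.Helper51.PGU
open Cfsg.Agent.Lib.Helper19 (pow_q_pow_q add_pow_q sum_pow_q q_pos one_lt_q frobQ frobQ_apply
  frobQ_frobQ)

section Surj

variable {F : Type*} [Field F] [Fintype F] {q m n : ℕ} {u w : Fin m → (Fin n → F)}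

theorem hform_nondeg_right (hF : Fintype.card F = q ^ 2) (z : Fin m → F)
    (h : ∀ c, hform (Fin m) F q c z = 0) : z = 0 := by
  apply hform_nondeg hF
  intro c
  rw [← hform_conj hF, h, zero_pow (q_pos hF).ne']

/-- a unitary matrix mapping both members of a hyperbolic pair into themselves lies in the image of
the embedding of `GL_m` -/
theorem HFrame.exists_hom_eq (hF : Fintype.card F = q ^ 2) (hfr : HFrame q u w)
    (y : GL (Fin n) F) (hy : y ∈ Cfsg.GU n F q)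
    (h0 : ∀ v ∈ Submodule.span F (Set.range u),
      (y : Matrix (Fin n) (Fin n) F) *ᵥ v ∈ Submodule.span F (Set.range u))
    (h1 : ∀ v ∈ Submodule.span F (Set.range w),
      (y : Matrix (Fin n) (Fin n) F) *ᵥ v ∈ Submodule.span F (Set.range w)) :
    ∃ A : GL (Fin m) F, hfr.hom hF A = y := by
  classical
  have hiso : IsIsoMat q (y : Matrix (Fin n) (Fin n) F) := by
    rwa [GU_eq_GUi, mem_GUi_iff] at hy
  set Y : Matrix (Fin m ⊕ Fin m) (Fin m ⊕ Fin m) F :=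
    hfr.mat' * (y : Matrix (Fin n) (Fin n) F) * hfr.mat with hY
  have hYv : ∀ ξ, hfr.equiv (Y *ᵥ ξ) = (y : Matrix (Fin n) (Fin n) F) *ᵥ hfr.equiv ξ := by
    intro ξ
    rw [hY, ← Matrix.mulVec_mulVec, ← Matrix.mulVec_mulVec, hfr.mat_mulVec, hfr.mat'_mulVec,
      LinearEquiv.apply_symm_apply]
  set Y₁₁ := Y.toBlocks₁₁ with hY11
  set Y₁₂ := Y.toBlocks₁₂ with hY12
  set Y₂₁ := Y.toBlocks₂₁ with hY21
  set Y₂₂ := Y.toBlocks₂₂ with hY22
  have hblk : Y = Matrix.fromBlocks Y₁₁ Y₁₂ Y₂₁ Y₂₂ := (Matrix.fromBlocks_toBlocks Y).symm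
  have hYξ : ∀ ξ, Y *ᵥ ξ = Sum.elim (Y₁₁ *ᵥ (ξ ∘ Sum.inl) + Y₁₂ *ᵥ (ξ ∘ Sum.inr))
      (Y₂₁ *ᵥ (ξ ∘ Sum.inl) + Y₂₂ *ᵥ (ξ ∘ Sum.inr)) := by
    intro ξ
    conv_lhs => rw [hblk]
    exact Matrix.fromBlocks_mulVec _ _ _ _ _
  have e1 : ∀ f g : Fin m → F, (Sum.elim f g : Fin m ⊕ Fin m → F) ∘ Sum.inl = f := fun f g => rfl
  have e2 : ∀ f g : Fin m → F, (Sum.elim f g : Fin m ⊕ Fin m → F) ∘ Sum.inr = g := fun f g => rfl
  have h21 : Y₂₁ = 0 := by
    rw [Matrix.ext_iff_mulVec]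
    intro c
    rw [Matrix.zero_mulVec]
    have hmem : hfr.equiv (Sum.elim c 0) ∈ Submodule.span F (Set.range u) :=
      (hfr.equiv_mem_span_u_iff _).mpr rfl
    have h2 := h0 _ hmem
    rw [← hYv, hfr.equiv_mem_span_u_iff, hYξ, e2, e1, e2, Matrix.mulVec_zero, add_zero] at h2
    exact h2
  have h12 : Y₁₂ = 0 := by
    rw [Matrix.ext_iff_mulVec]
    intro c
    rw [Matrix.zero_mulVec]
    have hmem : hfr.equiv (Sum.elim 0 c) ∈ Submodule.span F (Set.range w) :=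
      (hfr.equiv_mem_span_w_iff _).mpr rfl
    have h2 := h1 _ hmem
    rw [← hYv, hfr.equiv_mem_span_w_iff, hYξ, e1, e1, e2, Matrix.mulVec_zero, zero_add] at h2
    exact h2
  have hYl : ∀ c : Fin m → F, Y *ᵥ (Sum.elim c 0) = Sum.elim (Y₁₁ *ᵥ c) 0 := by
    intro c
    rw [hYξ, e1, e2, h21]
    simp only [Matrix.mulVec_zero, Matrix.zero_mulVec, add_zero]
  have hYr : ∀ d : Fin m → F, Y *ᵥ (Sum.elim (0 : Fin m → F) d) =
      Sum.elim (0 : Fin m → F) (Y₂₂ *ᵥ d) := by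
    intro d
    rw [hYξ, e1, e2, h12]
    simp only [Matrix.mulVec_zero, Matrix.zero_mulVec, add_zero, zero_add]
  have hgram : ∀ c d : Fin m → F, hform (Fin m) F q (Y₁₁ *ᵥ c) (Y₂₂ *ᵥ d) = hform (Fin m) F q c d := by
    intro c d
    have h3 := hiso (hfr.equiv (Sum.elim c 0)) (hfr.equiv (Sum.elim 0 d))
    rw [← hYv, ← hYv, hYl, hYr, hfr.hform_equiv hF, hfr.hform_equiv hF] at h3
    simp only [e1, e2, hform_zero_left, add_zero] at h3
    exact h3
  have hprod : cstar (frobQ hF) Y₁₁ * Y₂₂ = 1 := by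
    rw [Matrix.ext_iff_mulVec]
    intro d
    rw [Matrix.one_mulVec, ← sub_eq_zero]
    apply hform_nondeg_right hF
    intro c
    rw [hform_sub_right hF, ← Matrix.mulVec_mulVec, ← hform_mulVec_cstar hF, hgram, sub_self]
  have hdet : Y₁₁.det ≠ 0 := by
    intro h0'
    have := congrArg Matrix.det hprod
    rw [Matrix.det_mul, cstar_det, h0', map_zero, zero_mul, Matrix.det_one] at this
    exact zero_ne_one this
  set A : GL (Fin m) F := Matrix.GeneralLinearGroup.mkOfDetNeZero Y₁₁ hdet with hA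
  have hAv : (A : Matrix (Fin m) (Fin m) F) = Y₁₁ := rfl
  refine ⟨A, ?_⟩
  apply Units.ext
  have hblk' : Matrix.fromBlocks Y₁₁ 0 0 Y₂₂ = Y := by
    rw [hblk, h12, h21]
  rw [hfr.hom_val, gstar_val, hAv, Matrix.inv_eq_right_inv hprod, hblk', hY]
  simp only [Matrix.mul_assoc]
  rw [hfr.mat_mul_mat', Matrix.mul_one, ← Matrix.mul_assoc, hfr.mat_mul_mat', Matrix.one_mul]

end Surj

end Cfsg.Agent.Lib.Helper49
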