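import Mathlib
import Cfsg.Prelude.Def_JordanBlocks
import Cfsg.Agent.Lib.Helper49.UnipSpBlocks
import Cfsg.Agent.Lib.Helper49.PresQuad

set_option autoImplicit false

namespace Cfsg.Agent.Lib.Helper49

open Matrix Module

section OBlocks

variable {F : Type*} [Field F]

/-- a skew-symmetric matrix of odd size is singular when `2 ≠ 0` -/
theorem det_eq_zero_of_skew_odd {n : ℕ} (hn : Odd n) (h2 : (2 : F) ≠ 0)
    (A : Matrix (Fin n) (Fin n) F) (hA : Aᵀ = -A) : A.det = 0 := by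
  have h1 : A.det = -A.det := by
    conv_lhs => rw [← Matrix.det_transpose, hA, Matrix.det_neg, Fintype.card_fin, hn.neg_one_pow]
    ring
  have h3 : (2 : F) * A.det = 0 := by
    linear_combination h1
  exact (mul_eq_zero.mp h3).resolve_left h2

/-- a single Jordan block of odd size preserves a nondegenerate quadratic form when `2 ≠ 0` -/
theorem presQuad_jordanBlock_odd (n : ℕ) (hn : Odd n) (h2 : (2 : F) ≠ 0) :
    PresQuad (Cfsg.jordanBlock n F) := by
  have hn1 : 1 ≤ n := hn.pos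
  obtain ⟨H, H', hH1, hH2, hH⟩ := exists_pairing_jordanBlock (F := F) n hn1
  rw [jordanBlock_eq] at hH ⊢
  set S := shiftMat F n with hS
  set J := 1 + S with hJ
  have hreg : IsRegUnip J := isRegUnip_one_add_shift hn1
  have hdet : IsUnit J.det := by
    rw [hreg.det_eq_one]
    exact isUnit_one
  have hiJ : J⁻¹ * J = 1 := Matrix.nonsing_inv_mul _ hdet
  have hJi : J * J⁻¹ = 1 := Matrix.mul_nonsing_inv _ hdet
  -- H' Jᵀ = J⁻¹ H'
  have hHJ : H' * Jᵀ = J⁻¹ * H' := by
    have e1 : H' * Jᵀ * H * J = 1 := by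
      calc H' * Jᵀ * H * J = H' * (Jᵀ * H * J) := by simp only [mul_assoc]
        _ = 1 := by rw [hH, hH2]
    have e2 : H' * Jᵀ * H = J⁻¹ := by
      calc H' * Jᵀ * H = H' * Jᵀ * H * (J * J⁻¹) := by rw [hJi, mul_one]
        _ = (H' * Jᵀ * H * J) * J⁻¹ := by simp only [mul_assoc]
        _ = J⁻¹ := by rw [e1, one_mul]
    calc H' * Jᵀ = H' * Jᵀ * (H * H') := by rw [hH1, mul_one]
      _ = (H' * Jᵀ * H) * H' := by simp only [mul_assoc]
      _ = J⁻¹ * H' := by rw [e2]
  have hcomm : ∀ X : Matrix (Fin n) (Fin n) F, Jᵀ * X * J = X → Commute (H' * X) S := by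
    intro X hX
    have e1 : J * (H' * X) = (H' * X) * J := by
      calc J * (H' * X) = J * (H' * (Jᵀ * X * J)) := by rw [hX]
        _ = J * (H' * Jᵀ) * X * J := by simp only [mul_assoc]
        _ = (J * J⁻¹) * H' * X * J := by rw [hHJ]; simp only [mul_assoc]
        _ = (H' * X) * J := by rw [hJi, one_mul]
    show (H' * X) * S = S * (H' * X)
    rw [hJ, add_mul, mul_add, one_mul, mul_one] at e1
    exact (add_left_cancel e1).symm
  have hHt : Jᵀ * Hᵀ * J = Hᵀ := by
    have := congrArg Matrix.transpose hH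
    rw [Matrix.transpose_mul, Matrix.transpose_mul, Matrix.transpose_transpose, ← mul_assoc] at this
    exact this
  have hsX : Jᵀ * (H + Hᵀ) * J = H + Hᵀ := by
    rw [Matrix.mul_add Jᵀ H Hᵀ, Matrix.add_mul (Jᵀ * H) (Jᵀ * Hᵀ) J, hH, hHt]
  have haX : Jᵀ * (H - Hᵀ) * J = H - Hᵀ := by
    rw [Matrix.mul_sub Jᵀ H Hᵀ, Matrix.sub_mul (Jᵀ * H) (Jᵀ * Hᵀ) J, hH, hHt]
  obtain ⟨e, b, he, hb⟩ := exists_cyclic_basis hn1 S shiftMat_pow_self (shiftMat_rank hn1)
  have hs := eq_polyMat_of_commute S e b hb _ (hcomm _ hsX)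
  have ha := eq_polyMat_of_commute S e b hb _ (hcomm _ haX)
  set cs := b.equivFun ((H' * (H + Hᵀ)) *ᵥ e) with hcs
  set ca := b.equivFun ((H' * (H - Hᵀ)) *ᵥ e) with hca
  have hsum : cs ⟨0, hn1⟩ + ca ⟨0, hn1⟩ = 2 := by
    have e1 : cs + ca = b.equivFun ((2 : F) • e) := by
      rw [hcs, hca, ← map_add, ← Matrix.add_mulVec, ← mul_add]
      have : H + Hᵀ + (H - Hᵀ) = (2 : F) • H := by
        rw [two_smul]; abel
      rw [this, Matrix.mul_smul, hH2, Matrix.smul_mulVec, Matrix.one_mulVec]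
    have e2 : e = b ⟨0, hn1⟩ := by
      rw [hb]
      simp
    have e3 := congrFun e1 ⟨0, hn1⟩
    rw [Pi.add_apply, map_smul, Pi.smul_apply, e2, Basis.equivFun_self, if_pos rfl, smul_eq_mul,
      mul_one] at e3
    exact e3
  have hca0 : ca ⟨0, hn1⟩ = 0 := by
    by_contra hne
    have hu : IsUnit (H' * (H - Hᵀ)) := by
      rw [ha]
      exact polyMat_isUnit hn1 S shiftMat_pow_self ca hne
    have hu2 : IsUnit (H - Hᵀ) := by
      have : H - Hᵀ = H * (H' * (H - Hᵀ)) := by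
        rw [← mul_assoc, hH1, one_mul]
      rw [this]
      exact (IsUnit.of_mul_eq_one _ hH1).mul hu
    have hd0 : (H - Hᵀ).det = 0 := by
      apply det_eq_zero_of_skew_odd hn h2
      rw [Matrix.transpose_sub, Matrix.transpose_transpose]
      abel
    have := (Matrix.isUnit_iff_isUnit_det _).mp hu2
    rw [hd0] at this
    exact not_isUnit_zero this
  have hcs0 : cs ⟨0, hn1⟩ ≠ 0 := by
    rw [hca0, add_zero] at hsum
    rw [hsum]
    exact h2
  have hu : IsUnit (H' * (H + Hᵀ)) := by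
    rw [hs]
    exact polyMat_isUnit hn1 S shiftMat_pow_self cs hcs0
  have hu2 : IsUnit (H + Hᵀ) := by
    have : H + Hᵀ = H * (H' * (H + Hᵀ)) := by
      rw [← mul_assoc, hH1, one_mul]
    rw [this]
    exact (IsUnit.of_mul_eq_one _ hH1).mul hu
  apply PresQuad.of_matrix' H _ hH
  exact ((Matrix.isUnit_iff_isUnit_det _).mp hu2).ne_zero

end OBlocks

end Cfsg.Agent.Lib.Helper49
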