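import Mathlib
import Cfsg.Prelude.Def_JordanBlocks
import Cfsg.Agent.Lib.Helper49.UnipSpSuff
import Cfsg.Agent.Lib.Helper49.UnipOrthBlocks
import Cfsg.Agent.Lib.Helper49.JordanDecomp

set_option autoImplicit false

namespace Cfsg.Agent.Lib.Helper49

open Matrix Module

section OSuff

variable {F : Type*} [Field F] {ι : Type*} [DecidableEq ι] (d : ι → ℕ)

theorem presQuad_jtmS_union (S₁ S₂ : Finset ι) (h : Disjoint S₁ S₂)
    (hP : PresQuad (Matrix.fromBlocks (jtmS F d S₁) 0 0 (jtmS F d S₂))) :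
    PresQuad (jtmS F d (S₁ ∪ S₂)) := by
  rw [jtmS_union d S₁ S₂ h]
  exact hP.reindex _

theorem presQuad_jtmS_singleton (h2 : (2 : F) ≠ 0) (k₀ : ι) (ho : Odd (d k₀)) :
    PresQuad (jtmS F d {k₀}) := by
  rw [jtmS_singleton]
  exact (presQuad_jordanBlock_odd (d k₀) ho h2).reindex _

theorem presQuad_jtmS_pair (k₀ k₁ : ι) (hne : k₀ ≠ k₁) (h1 : 1 ≤ d k₀) (he : d k₀ = d k₁) :
    PresQuad (jtmS F d ({k₀} ∪ {k₁})) := by
  apply presQuad_jtmS_union d {k₀} {k₁} (Finset.disjoint_singleton.mpr hne)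
  obtain ⟨H, H', hH1, hH2, hH⟩ := exists_pairing_jordanBlock' (F := F) (d k₀) (d k₁) he h1
  rw [jtmS_singleton, jtmS_singleton]
  apply PresQuad.hyp (Matrix.reindex (singEquiv d k₀).symm (singEquiv d k₁).symm H)
    (Matrix.reindex (singEquiv d k₁).symm (singEquiv d k₀).symm H')
  · simp only [Matrix.reindex_apply, Equiv.symm_symm]
    rw [Matrix.submatrix_mul_equiv, hH1, Matrix.submatrix_one_equiv]
  · simp only [Matrix.reindex_apply, Equiv.symm_symm]
    rw [Matrix.submatrix_mul_equiv, hH2, Matrix.submatrix_one_equiv]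
  · simp only [Matrix.reindex_apply, Equiv.symm_symm]
    rw [Matrix.transpose_submatrix, Matrix.submatrix_mul_equiv, Matrix.submatrix_mul_equiv, hH]

theorem presQuad_jtmS_of_jdecomp (h2 : (2 : F) ≠ 0) (hd : ∀ k, 1 ≤ d k) (S : Finset ι)
    (h : JDecomp d (fun j => Odd j) S) : PresQuad (jtmS F d S) := by
  induction h with
  | empty =>
    haveI := isEmpty_index_empty d
    exact presQuad_of_isEmpty _
  | single k₀ S hk hg _ ih =>
    apply presQuad_jtmS_union d _ _ (Finset.disjoint_singleton_left.mpr hk)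
    exact PresQuad.sum (presQuad_jtmS_singleton d h2 k₀ hg) ih
  | pair k₀ k₁ S hne h0 h1 he _ ih =>
    have hdisj : Disjoint (({k₀} : Finset ι) ∪ {k₁}) S := by
      rw [Finset.disjoint_union_left, Finset.disjoint_singleton_left,
        Finset.disjoint_singleton_left]
      exact ⟨h0, h1⟩
    apply presQuad_jtmS_union d _ _ hdisj
    exact PresQuad.sum (presQuad_jtmS_pair d k₀ k₁ hne (hd k₀) he) ih

theorem presQuad_jtmS (h2 : (2 : F) ≠ 0) (hd : ∀ k, 1 ≤ d k) (S : Finset ι)
    (hpar : ∀ j, Even j → 0 < j → Even (S.filter (fun k => d k = j)).card) :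
    PresQuad (jtmS F d S) := by
  apply presQuad_jtmS_of_jdecomp d h2 hd S
  apply jdecomp_of_parity d _ S.card S rfl
  intro j hj
  rw [Nat.not_odd_iff_even] at hj
  rcases Nat.eq_zero_or_pos j with h0 | h0
  · subst h0
    have : S.filter (fun k => d k = 0) = ∅ := by
      apply Finset.filter_eq_empty_iff.mpr
      intro k _ hk
      have := hd k
      omega
    rw [this]
    exact Even.zero
  · exact hpar j hj h0

end OSuff

end Cfsg.Agent.Lib.Helper49
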