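import Mathlib
import Cfsg.Prelude.Def_JordanBlocks
import Cfsg.Agent.Lib.Helper49.UnipOrthSuff
import Cfsg.Agent.Lib.Helper49.UnipSpMain
import Cfsg.Agent.Lib.Helper49.UnipOrthTrans

set_option autoImplicit false

namespace Cfsg.Agent.Lib.Helper49

open Matrix Module

section OMain

variable {F : Type*} [Field F] {t : ℕ} (d : Fin t → ℕ)

theorem presQuad_jordanTypeMatrix_of_parity (h2 : (2 : F) ≠ 0) (hd : ∀ k, 1 ≤ d k)
    (hpar : ∀ j : ℕ, Even j → 0 < j → Even (Finset.univ.filter (fun k : Fin t => d k = j)).card) :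
    PresQuad (Cfsg.jordanTypeMatrix d F) := by
  rw [jordanTypeMatrix_eq]
  exact (presQuad_jtmS d h2 hd Finset.univ hpar).reindex _

theorem parity_of_presQuad_jordanTypeMatrix (h2 : (2 : F) ≠ 0) (hd : ∀ k, 1 ≤ d k)
    (h : PresQuad (Cfsg.jordanTypeMatrix d F)) :
    ∀ j : ℕ, Even j → 0 < j → Even (Finset.univ.filter (fun k : Fin t => d k = j)).card := by
  obtain ⟨Q, hN, hinv⟩ := h
  have hS : LinearMap.BilinForm.IsSymm (QuadraticMap.polarBilin Q) := by
    constructor
    intro x y
    exact QuadraticMap.polar_comm Q x y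
  have hU : UInv (QuadraticMap.polarBilin Q) (jnil F d) := by
    intro x y
    have e : ∀ z : JI d → F, z + jnil F d z = Cfsg.jordanTypeMatrix d F *ᵥ z := by
      intro z
      unfold jnil jnilM
      rw [Matrix.toLin'_apply, Matrix.sub_mulVec, Matrix.one_mulVec]
      abel
    rw [e, e]
    exact PresQuad.polar_inv Q hinv x y
  intro j hj hj0
  have := even_card_of_even_sym d hd (QuadraticMap.polarBilin Q) hS h2 hN hU j hj hj0
  rw [Fintype.card_subtype] at this
  exact this

end OMain

end Cfsg.Agent.Lib.Helper49
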