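import Mathlib
import Cfsg.Agent.Lib.Helper28.ZNDefs
import Cfsg.Agent.Lib.Helper06.NFDefs
import Cfsg.Agent.Lib.Helper23.NF4a
import Cfsg.Agent.Lib.Helper63.NFG

set_option autoImplicit false

/-!
# K-ZN-8 (keystone 68909, architect helper28): `solvable_of_irreducible_cyclic`
-/

universe u

namespace Cfsg.Agent.Lib.Helper49.ZN

open Cfsg.Agent.Lib.Helper28.ZN Cfsg.Agent.Lib.Helper06.NF

variable {p : ℕ} [Fact p.Prime] {V : Type u} [AddCommGroup V] [Module (ZMod p) V]

/-- ZN-8. -/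
theorem solvable_of_irreducible_cyclic [Finite V] [Nontrivial V] (H : Subgroup (V ≃ₗ[ZMod p] V))
    (hreg : ∀ v w : V, v ≠ 0 → w ≠ 0 → ∃! h : H, (h : V ≃ₗ[ZMod p] V) v = w)
    (A₀ : Subgroup H) (hAn : A₀.Normal) (hAc : Ab A₀)
    (hcomm : ∀ x y : H, x * y * x⁻¹ * y⁻¹ ∈ Subgroup.centralizer (A₀ : Set H))
    (hirr : Irr H A₀) : Group.IsSolvable H := by
  classical
  have hp : p.Prime := Fact.out
  have hK := Cfsg.Agent.Lib.Helper63.NF.adj_injective_of_irr H A₀ hAc hirr
  obtain ⟨hd, e, he, hcardV, -, -, hab⟩ := Cfsg.Agent.Lib.Helper23.NF.dim_data H A₀ hAc hK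
  set K := adj H A₀ with hKdef
  obtain ⟨v₀, hv₀⟩ := exists_ne (0 : V)
  -- the evaluation map `K → V`
  let ev : K →ₗ[ZMod p] V :=
    (LinearMap.applyₗ v₀ : Module.End (ZMod p) V →ₗ[ZMod p] V).comp
      (Subalgebra.toSubmodule K).subtype
  have hev : ∀ k : K, ev k = (k : Module.End (ZMod p) V) v₀ := fun k => rfl
  have hinj : Function.Injective ev := by
    rw [← LinearMap.ker_eq_bot, LinearMap.ker_eq_bot']
    intro k hk
    rw [hev] at hk
    exact Subtype.ext (hK k.1 k.2 v₀ hv₀ hk)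
  have hrange : LinearMap.range ev = ⊤ := by
    have hinv : ∀ a ∈ A₀, ∀ v ∈ LinearMap.range ev,
        ((a : H) : V ≃ₗ[ZMod p] V) v ∈ LinearMap.range ev := by
      rintro a ha v ⟨k, rfl⟩
      have hmem : ((((a : H) : V ≃ₗ[ZMod p] V) : Module.End (ZMod p) V) * k.1) ∈ K :=
        K.mul_mem (Algebra.subset_adjoin ⟨a, ha, rfl⟩) k.2
      exact ⟨⟨_, hmem⟩, by rw [hev, hev]; rfl⟩
    rcases hirr _ hinv with h | h
    · exfalso
      have h1 : v₀ ∈ LinearMap.range ev := ⟨1, by rw [hev]; simp⟩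
      rw [h, Submodule.mem_bot] at h1
      exact hv₀ h1
    · exact h
  have hsurj : Function.Surjective ev := LinearMap.range_eq_top.1 hrange
  have heq : Module.finrank (ZMod p) K = Module.finrank (ZMod p) V :=
    LinearEquiv.finrank_eq (LinearEquiv.ofBijective ev ⟨hinj, hsurj⟩)
  have hcardV' : Nat.card V = p ^ Module.finrank (ZMod p) V := by
    have := Module.natCard_eq_pow_finrank (K := ZMod p) (V := V)
    rwa [Nat.card_zmod] at this
  have he1 : e = 1 := by
    rw [hcardV'] at hcardV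
    have h2 := Nat.pow_right_injective hp.two_le hcardV
    rw [← heq] at h2
    have h3 : Module.finrank (ZMod p) K * 1 = Module.finrank (ZMod p) K * e := by
      rw [mul_one]; exact h2
    exact (Nat.eq_of_mul_eq_mul_left hd h3).symm
  have habC := hab he1
  -- solvability
  have h1 : derivedSeries H 1 ≤ Subgroup.centralizer (A₀ : Set H) := by
    rw [derivedSeries_succ, derivedSeries_zero, Subgroup.commutator_le]
    intro x _ y _
    have := hcomm x y
    simpa [commutatorElement_def] using this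
  have h2 : derivedSeries H 2 = ⊥ := by
    rw [derivedSeries_succ, eq_bot_iff, Subgroup.commutator_le]
    intro x hx y hy
    rw [Subgroup.mem_bot, commutatorElement_eq_one_iff_mul_comm]
    exact habC x (h1 hx) y (h1 hy)
  exact ⟨⟨2, h2⟩⟩

end Cfsg.Agent.Lib.Helper49.ZN
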